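import Cfsg.Prelude.Def_Local

set_option autoImplicit false

namespace Cfsg.Agent.Helper29

theorem map_center_mulEquiv {X Y : Type*} [Group X] [Group Y] (e : X ≃* Y) :
    (Subgroup.center X).map e.toMonoidHom = Subgroup.center Y := by
  ext y
  simp only [Subgroup.mem_map, Subgroup.mem_center_iff]
  constructor
  · rintro ⟨x, hx, rfl⟩ g
    obtain ⟨g', rfl⟩ := e.surjective g
    show e g' * e x = e x * e g'
    rw [← map_mul, ← map_mul, hx g']
  · intro hy
    refine ⟨e.symm y, fun g => ?_, by simp⟩
    apply e.injective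
    simp [hy (e g)]

/-- Quasisimplicity is invariant under isomorphism. -/
theorem isQuasisimple_of_mulEquiv {X Y : Type*} [Group X] [Group Y] (e : X ≃* Y)
    (h : Cfsg.IsQuasisimple X) : Cfsg.IsQuasisimple Y := by
  obtain ⟨hp, hs⟩ := h
  refine ⟨?_, ?_⟩
  · exact Group.IsPerfect.ofSurjective (f := e.toMonoidHom) e.surjective
  · have e' : X ⧸ Subgroup.center X ≃* Y ⧸ Subgroup.center Y :=
      QuotientGroup.congr (Subgroup.center X) (Subgroup.center Y) e (map_center_mulEquiv e)
    exact e'.symm.isSimpleGroup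

end Cfsg.Agent.Helper29
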