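import Mathlib
import Cfsg.Prelude.Def_Local
import Cfsg.Agent.Helper29.Basic

set_option autoImplicit false

namespace Cfsg.Agent.Helper29

/-- The image of a component under an isomorphism is a component. -/
theorem isComponent_map_mulEquiv {G G' : Type*} [Group G] [Group G'] (φ : G ≃* G') {K : Subgroup G}
    (hK : Cfsg.IsComponent K) : Cfsg.IsComponent (K.map φ.toMonoidHom) :=
  ⟨hK.1.map φ.surjective, isQuasisimple_of_mulEquiv (φ.subgroupMap K) hK.2⟩

theorem layer_map_le {G : Type*} [Group G] (φ : G ≃* G) :
    (Cfsg.layer G).map φ.toMonoidHom ≤ Cfsg.layer G := by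
  unfold Cfsg.layer
  rw [Subgroup.map_le_iff_le_comap]
  refine sSup_le fun K hK => ?_
  rw [← Subgroup.map_le_iff_le_comap]
  exact le_sSup (isComponent_map_mulEquiv φ hK)

theorem fittingSubgroup_map_le {G : Type*} [Group G] (φ : G ≃* G) :
    (Cfsg.fittingSubgroup G).map φ.toMonoidHom ≤ Cfsg.fittingSubgroup G := by
  unfold Cfsg.fittingSubgroup
  rw [Subgroup.map_le_iff_le_comap]
  refine sSup_le fun K hK => ?_
  rw [← Subgroup.map_le_iff_le_comap]
  refine le_sSup ⟨hK.1.map φ.toMonoidHom φ.surjective, ?_⟩
  have := hK.2
  exact Group.nilpotent_of_mulEquiv (φ.subgroupMap K)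

instance layer_characteristic (G : Type*) [Group G] : (Cfsg.layer G).Characteristic :=
  Subgroup.characteristic_iff_map_le.mpr layer_map_le

instance fittingSubgroup_characteristic (G : Type*) [Group G] :
    (Cfsg.fittingSubgroup G).Characteristic :=
  Subgroup.characteristic_iff_map_le.mpr fittingSubgroup_map_le

instance generalizedFittingSubgroup_characteristic (G : Type*) [Group G] :
    (Cfsg.generalizedFittingSubgroup G).Characteristic := by
  refine Subgroup.characteristic_iff_map_le.mpr fun φ => ?_
  unfold Cfsg.generalizedFittingSubgroup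
  rw [Subgroup.map_sup]
  exact sup_le_sup (layer_map_le φ) (fittingSubgroup_map_le φ)

theorem generalizedFittingSubgroup_normal (G : Type*) [Group G] :
    (Cfsg.generalizedFittingSubgroup G).Normal := inferInstance

theorem isNilpotent_of_isMulCommutative (G : Type*) [Group G] [IsMulCommutative G] :
    Group.IsNilpotent G :=
  ⟨⟨1, Subgroup.upperCentralSeries_one_eq_top_iff.mpr inferInstance⟩⟩

theorem center_le_fittingSubgroup (G : Type*) [Group G] :
    Subgroup.center G ≤ Cfsg.fittingSubgroup G :=
  le_sSup ⟨inferInstance, isNilpotent_of_isMulCommutative _⟩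

theorem center_le_generalizedFittingSubgroup (G : Type*) [Group G] :
    Subgroup.center G ≤ Cfsg.generalizedFittingSubgroup G :=
  (center_le_fittingSubgroup G).trans le_sup_right

/-- A finite cyclic group has at most one involution. -/
theorem eq_of_orderOf_eq_two_of_isCyclic {H : Type*} [Group H] [Finite H] [IsCyclic H] {a b : H}
    (ha : orderOf a = 2) (hb : orderOf b = 2) : a = b := by
  classical
  have := Fintype.ofFinite H
  have hd : 2 ∣ Fintype.card H := by rw [← ha]; exact orderOf_dvd_card
  have h := IsCyclic.card_orderOf_eq_totient (α := H) hd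
  rw [Nat.totient_two] at h
  have h1 := Finset.card_le_one.mp h.le
  exact h1 a (by simp [ha]) b (by simp [hb])

end Cfsg.Agent.Helper29
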