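import Mathlib
import Cfsg.Prelude.Def_OddOrderLocal
import Cfsg.Agent.S1886
import Cfsg.Agent.Helper4.RankTwoSolv2
import Cfsg.Agent.Helper31.BenderMax
import Cfsg.Agent.Lib.Cores

set_option autoImplicit false
set_option linter.unusedSectionVars false
set_option linter.unusedVariables false
set_option linter.style.haveILetI false

/-!
# B-G §10, part E: the cores `O_α` and `O_σ` of a solvable group of odd order (abstract form of
Theorem 10.2) (helper29)
-/

namespace Cfsg.Agent.Helper29.BG10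

open Cfsg

section
variable {Γ : Type*} [Group Γ] [Finite Γ]

/-- a `q`-element of a normal subgroup of order prime to `q` is trivial -/
theorem eq_one_of_mem_of_pow {q : ℕ} [hq : Fact q.Prime] (A : Subgroup Γ) (hA : ¬ q ∣ Nat.card A)
    {x : Γ} (hxA : x ∈ A) {k : ℕ} (hxk : x ^ q ^ k = 1) : x = 1 := by
  have h1 : orderOf x ∣ q ^ k := orderOf_dvd_of_pow_eq_one hxk
  have h2 : orderOf x ∣ Nat.card A := by
    have := orderOf_dvd_natCard (⟨x, hxA⟩ : A)
    rwa [Subgroup.orderOf_mk] at this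
  have hcop : (q ^ k).Coprime (Nat.card A) :=
    Nat.Coprime.pow_left k ((Nat.Prime.coprime_iff_not_dvd hq.out).2 hA)
  exact orderOf_eq_one_iff.1 (Nat.eq_one_of_dvd_coprimes hcop h1 h2)

/-- `q`-rank does not increase modulo a normal `q'`-subgroup -/
theorem pRankLE_quotient_of_coprime {q k : ℕ} [hq : Fact q.Prime] (A : Subgroup Γ) [A.Normal]
    (hA : ¬ q ∣ Nat.card A) (h : Cfsg.PRankLE q k Γ) : Cfsg.PRankLE q k (Γ ⧸ A) := by
  classical
  intro E hEc hEe
  set f := QuotientGroup.mk' A with hf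
  have hfs : Function.Surjective f := QuotientGroup.mk'_surjective A
  have hEp : IsPGroup q E := by
    intro g
    refine ⟨1, ?_⟩
    apply Subtype.ext
    simpa using hEe g.1 g.2
  obtain ⟨Qb, hQb⟩ := hEp.exists_le_sylow
  obtain ⟨Q, hQ⟩ := Sylow.mapSurjective_surjective hfs q Qb
  have hQmap : (Q : Subgroup Γ).map f = (Qb : Subgroup (Γ ⧸ A)) := by
    rw [← hQ]; rfl
  -- injectivity of f on Q
  have hinj : ∀ x ∈ (Q : Subgroup Γ), f x = 1 → x = 1 := by
    intro x hx hfx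
    have hxA : x ∈ A := by
      rw [hf, QuotientGroup.mk'_apply, QuotientGroup.eq_one_iff] at hfx
      exact hfx
    obtain ⟨j, hj⟩ := Q.isPGroup' ⟨x, hx⟩
    have hj' : x ^ q ^ j = 1 := by simpa using congrArg Subtype.val hj
    exact eq_one_of_mem_of_pow A hA hxA hj'
  set E' : Subgroup Γ := (Q : Subgroup Γ) ⊓ E.comap f with hE'
  have hE'c : IsMulCommutative E' := by
    refine ⟨⟨fun a b => ?_⟩⟩
    apply Subtype.ext
    have haQ : (a : Γ) ∈ (Q : Subgroup Γ) := (Subgroup.mem_inf.1 a.2).1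
    have hbQ : (b : Γ) ∈ (Q : Subgroup Γ) := (Subgroup.mem_inf.1 b.2).1
    have haE : f (a : Γ) ∈ E := (Subgroup.mem_inf.1 a.2).2
    have hbE : f (b : Γ) ∈ E := (Subgroup.mem_inf.1 b.2).2
    have hcomm : f (a : Γ) * f (b : Γ) = f (b : Γ) * f (a : Γ) := by
      have := hEc.is_comm.comm ⟨_, haE⟩ ⟨_, hbE⟩
      exact congrArg Subtype.val this
    have h1 : f ((a : Γ) * b * ((b : Γ) * a)⁻¹) = 1 := by
      rw [map_mul, map_inv, map_mul, map_mul, hcomm, mul_inv_cancel]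
    have h2 := hinj _ ((Q : Subgroup Γ).mul_mem ((Q : Subgroup Γ).mul_mem haQ hbQ)
      ((Q : Subgroup Γ).inv_mem ((Q : Subgroup Γ).mul_mem hbQ haQ))) h1
    simpa [Subgroup.coe_mul] using mul_inv_eq_one.1 h2
  have hE'e : ∀ a ∈ E', a ^ q = 1 := by
    intro a ha
    have haQ : a ∈ (Q : Subgroup Γ) := (Subgroup.mem_inf.1 ha).1
    have haE : f a ∈ E := (Subgroup.mem_inf.1 ha).2
    apply hinj _ ((Q : Subgroup Γ).pow_mem haQ q)
    rw [map_pow]
    exact hEe _ haE
  have hle := h E' hE'c hE'e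
  refine le_trans ?_ hle
  -- surjection E' → E
  let φ : E' → E := fun a => ⟨f (a : Γ), (Subgroup.mem_inf.1 a.2).2⟩
  have hφ : Function.Surjective φ := by
    rintro ⟨e, he⟩
    have heQ : e ∈ (Q : Subgroup Γ).map f := by rw [hQmap]; exact hQb he
    obtain ⟨x, hx, rfl⟩ := heQ
    exact ⟨⟨x, Subgroup.mem_inf.2 ⟨hx, he⟩⟩, rfl⟩
  exact Nat.card_le_card_of_surjective φ hφ

/-- a group of exponent `q` whose order is prime to `q` is trivial -/
theorem card_le_of_not_dvd {q k : ℕ} [hq : Fact q.Prime] (hΓ : ¬ q ∣ Nat.card Γ) :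
    Cfsg.PRankLE q k Γ := by
  intro E hEc hEe
  have hEp : IsPGroup q E := by
    intro g
    refine ⟨1, ?_⟩
    apply Subtype.ext
    simpa using hEe g.1 g.2
  obtain ⟨j, hj⟩ := IsPGroup.iff_card.1 hEp
  have hj0 : j = 0 := by
    by_contra hne
    apply hΓ
    have h1 : q ∣ Nat.card E := by rw [hj]; exact dvd_pow_self q hne
    exact h1.trans (Subgroup.card_subgroup_dvd_card E)
  rw [hj, hj0, pow_zero]
  exact Nat.one_le_pow _ _ hq.out.pos

theorem isNilpotent_of_le {H K : Subgroup Γ} (h : H ≤ K) (hK : Group.IsNilpotent ↥K) :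
    Group.IsNilpotent ↥H := by
  haveI := hK
  exact nilpotent_of_mulEquiv (Subgroup.subgroupOfEquivOfLe h)

/-- the abstract form of B-G Theorem 10.2 -/
theorem core_main [Group.IsSolvable Γ] (hodd : Odd (Nat.card Γ)) (α σ : Set ℕ)
    (hα : ∀ p : ℕ, p.Prime → p ∉ α → Cfsg.PRankLE p 2 Γ) (hασ : α ⊆ σ)
    (hder : ∀ p : ℕ, p ∈ σ → ∀ [Fact p.Prime] (P : Sylow p Γ), (P : Subgroup Γ) ≤ commutator Γ) :
    (∀ p : ℕ, p.Prime → p ∈ α → ¬ p ∣ (Cfsg.piCore α Γ).index) ∧
      Cfsg.RankLE 2 (Γ ⧸ Cfsg.piCore α Γ) ∧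
      Group.IsNilpotent ↥((commutator Γ).map (QuotientGroup.mk' (Cfsg.piCore α Γ))) ∧
      (∀ p : ℕ, p.Prime → p ∈ σ → ¬ p ∣ (Cfsg.piCore σ Γ).index) := by
  classical
  set A := Cfsg.piCore α Γ with hAdef
  set f := QuotientGroup.mk' A with hf
  have hfs : Function.Surjective f := QuotientGroup.mk'_surjective A
  have hker : f.ker = A := QuotientGroup.ker_mk' A
  have h1 : Cfsg.piCore α (Γ ⧸ A) = ⊥ := (Cfsg.Agent.S1886.result (X := Γ) α).1
  have hApi : ∀ q : ℕ, q.Prime → q ∣ Nat.card A → q ∈ α := Cfsg.Agent.S1886.piCore_isPi α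
  have hoddQ : Odd (Nat.card (Γ ⧸ A)) := by
    rw [← Subgroup.index_eq_card]
    exact Odd.of_dvd_nat hodd (Subgroup.index_dvd_card A)
  -- O_p(Γ/A) = 1 for p ∈ α
  have hpc : ∀ p : ℕ, p.Prime → p ∈ α → Cfsg.pCore p (Γ ⧸ A) = ⊥ := by
    intro p hp hpα
    haveI : Fact p.Prime := ⟨hp⟩
    rw [eq_bot_iff, ← h1]
    haveI : (Cfsg.pCore p (Γ ⧸ A)).Characteristic := Cfsg.Agent.Lib.pCore_characteristic p
    refine Cfsg.Agent.S1886.le_piCore α inferInstance ?_
    intro q hqp hq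
    obtain ⟨j, hj⟩ := IsPGroup.iff_card.1 (Cfsg.Agent.Lib.isPGroup_pCore (G := Γ ⧸ A) p)
    rw [hj] at hq
    have := (Nat.prime_dvd_prime_iff_eq hqp hp).1 (hqp.dvd_of_dvd_pow hq)
    rw [this]; exact hpα
  -- rank of Γ/A for p ∉ α
  have hrkQ : ∀ p : ℕ, p.Prime → p ∉ α → Cfsg.PRankLE p 2 (Γ ⧸ A) := by
    intro p hp hpα
    haveI : Fact p.Prime := ⟨hp⟩
    exact pRankLE_quotient_of_coprime A (fun hd => hpα (hApi p hp hd)) (hα p hp hpα)
  have hrkF : ∀ p : ℕ, p.Prime → Cfsg.PRankLE p 2 ↥(Cfsg.pCore p (Γ ⧸ A)) := by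
    intro p hp
    haveI : Fact p.Prime := ⟨hp⟩
    by_cases hpα : p ∈ α
    · apply card_le_of_not_dvd
      rw [hpc p hp hpα, Subgroup.card_bot]
      exact hp.not_dvd_one
    · exact Cfsg.Agent.Lib.pRankLE_subgroup (hrkQ p hp hpα) _
  have hcomm : commutator (Γ ⧸ A) ≤ Cfsg.fittingSubgroup (Γ ⧸ A) :=
    Cfsg.Agent.Helper4.commutator_le_fittingSubgroup hoddQ hrkF
  have hmapc : (commutator Γ).map f = commutator (Γ ⧸ A) := by
    rw [commutator_def, commutator_def, Subgroup.map_commutator,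
      Subgroup.map_top_of_surjective f hfs]
  -- images of Sylow subgroups inside Γ' lie in O_p(Γ/A)
  have hsyl : ∀ p : ℕ, p ∈ σ → ∀ [Fact p.Prime] (P : Sylow p Γ),
      (P : Subgroup Γ).map f ≤ Cfsg.pCore p (Γ ⧸ A) := by
    intro p hpσ _ P
    rintro _ ⟨x, hx, rfl⟩
    apply Cfsg.Agent.Helper31.mem_pCore_of_mem_fittingSubgroup
    · apply hcomm
      rw [← hmapc]
      exact ⟨x, hder p hpσ P hx, rfl⟩
    · obtain ⟨j, hj⟩ := P.isPGroup' ⟨x, hx⟩
      refine ⟨j, ?_⟩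
      have hj' : x ^ p ^ j = 1 := by simpa using congrArg Subtype.val hj
      rw [← map_pow, hj', map_one]
  have hAidx : ∀ p : ℕ, p.Prime → p ∈ α → ¬ p ∣ A.index := by
    intro p hp hpα
    haveI : Fact p.Prime := ⟨hp⟩
    obtain ⟨P⟩ : Nonempty (Sylow p Γ) := inferInstance
    have hP := hsyl p (hασ hpα) P
    rw [hpc p hp hpα, le_bot_iff, Subgroup.map_eq_bot_iff, hker] at hP
    intro hd
    exact P.not_dvd_index (hd.trans (Subgroup.index_dvd_of_le hP))
  refine ⟨hAidx, ?_, ?_, ?_⟩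
  · -- rank of Γ/A
    intro q hq
    haveI : Fact q.Prime := ⟨hq⟩
    by_cases hqα : q ∈ α
    · apply card_le_of_not_dvd
      rw [← Subgroup.index_eq_card]
      exact hAidx q hq hqα
    · exact hrkQ q hq hqα
  · rw [hmapc]
    exact isNilpotent_of_le hcomm Cfsg.Agent.Lib.isNilpotent_fittingSubgroup
  · -- the σ-core
    intro p hp hpσ
    haveI : Fact p.Prime := ⟨hp⟩
    obtain ⟨P⟩ : Nonempty (Sylow p Γ) := inferInstance
    have hP := hsyl p hpσ P
    set O := Cfsg.pCore p (Γ ⧸ A) with hO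
    haveI : O.Characteristic := Cfsg.Agent.Lib.pCore_characteristic p
    set N : Subgroup Γ := O.comap f with hN
    have hNn : N.Normal := Subgroup.Normal.comap inferInstance _
    have hPN : (P : Subgroup Γ) ≤ N := Subgroup.map_le_iff_le_comap.1 hP
    have hNpi : ∀ q : ℕ, q.Prime → q ∣ Nat.card N → q ∈ σ := by
      intro q hq hdvd
      haveI : Fact q.Prime := ⟨hq⟩
      obtain ⟨x, hx⟩ := exists_prime_orderOf_dvd_card' (G := N) q hdvd
      have hxo : orderOf (x : Γ) = q := by rw [Subgroup.orderOf_coe]; exact hx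
      by_cases hxA : (x : Γ) ∈ A
      · apply hασ
        refine hApi q hq ?_
        have := orderOf_dvd_natCard (⟨(x : Γ), hxA⟩ : A)
        rwa [Subgroup.orderOf_mk, hxo] at this
      · have hfx : f (x : Γ) ∈ O := x.2
        have h2 : orderOf (f (x : Γ)) ∣ q := by
          rw [← hxo]; exact orderOf_map_dvd _ _
        rcases (Nat.dvd_prime hq).1 h2 with h3 | h3
        · exfalso
          apply hxA
          rw [orderOf_eq_one_iff, hf, QuotientGroup.mk'_apply, QuotientGroup.eq_one_iff] at h3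
          exact h3
        · obtain ⟨j, hj⟩ := (Cfsg.Agent.Lib.isPGroup_pCore (G := Γ ⧸ A) p) ⟨f (x : Γ), hfx⟩
          have hj' : f (x : Γ) ^ p ^ j = 1 := by simpa using congrArg Subtype.val hj
          have h4 : q ∣ p ^ j := by rw [← h3]; exact orderOf_dvd_of_pow_eq_one hj'
          have := (Nat.prime_dvd_prime_iff_eq hq hp).1 (hq.dvd_of_dvd_pow h4)
          rw [this]; exact hpσ
    have hNle : N ≤ Cfsg.piCore σ Γ := Cfsg.Agent.S1886.le_piCore σ hNn hNpi
    intro hd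
    exact P.not_dvd_index (hd.trans (Subgroup.index_dvd_of_le (hPN.trans hNle)))

end

end Cfsg.Agent.Helper29.BG10
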