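import Cfsg.Agent.Helper29.BG10D
import Cfsg.Agent.Helper29.BG10E

set_option autoImplicit false
set_option linter.unusedSectionVars false
set_option linter.unusedVariables false
set_option linter.style.haveILetI false

/-!
# B-G §10, part F: Theorem 10.2 (`M_α` and `M_σ` are Hall subgroups), given the Uniqueness Theorem
(helper29)
-/

namespace Cfsg.Agent.Helper29.BG10

open Cfsg Cfsg.Agent.Helper21
open scoped commutatorElement

variable {G : Type*} [Group G] [Finite G]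

/-- `α(M) ⊆ σ(M)` -/
theorem alpha_subset_sigma (hG : Cfsg.IsMinSimpleOddOrder G) (hU : UniquenessThm G)
    {M : Subgroup G} (hM : IsCoatom M) : Cfsg.alpha M ⊆ Cfsg.sigma M := by
  rintro p ⟨hp, hrk⟩
  haveI : Fact p.Prime := ⟨hp⟩
  haveI : IsSimpleGroup G := hG.2.1
  obtain ⟨P⟩ : Nonempty (Sylow p ↥M) := inferInstance
  have hP' := isSylowIn_map_sylow P
  set P' : Subgroup G := (P : Subgroup ↥M).map M.subtype with hP'def
  have hrkP : ¬ Cfsg.PRankLE p 2 ↥P' := fun h => hrk (pRankLE_of_isSylowIn hP' h)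
  obtain ⟨E, hEP, hEc, hEe, hEcard⟩ := (not_prankLE_iff P').1 hrkP
  have hcardP : 1 < Nat.card P' := by
    have h1 : 1 ≤ p ^ 2 := Nat.one_le_pow _ _ hp.pos
    exact lt_of_lt_of_le (lt_of_le_of_lt h1 hEcard) (Subgroup.card_le_of_le hEP)
  have hP'ne : P' ≠ ⊥ := by
    intro h
    rw [h, Subgroup.card_bot] at hcardP
    exact lt_irrefl _ hcardP
  have hpM : p ∣ Nat.card ↥M := by
    obtain ⟨k, hk⟩ := IsPGroup.iff_card.1 hP'.2.1
    have hk0 : k ≠ 0 := by
      intro h0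
      rw [hk, h0, pow_zero] at hcardP
      exact lt_irrefl _ hcardP
    have h1 : p ∣ Nat.card P' := by rw [hk]; exact dvd_pow_self p hk0
    exact h1.trans (Subgroup.card_dvd_of_le hP'.1)
  obtain ⟨M', ⟨hM'c, hPM'⟩, huniq⟩ := uniq_of_uniquenessThm hG hU P' hP'.2.1 hrkP
  have hNtop : Subgroup.normalizer (P' : Set G) ≠ ⊤ :=
    Cfsg.Agent.Helper31.bgt_normalizer_ne_top_of_simple hP'ne (isPGroup_ne_top hG hP'.2.1)
  obtain ⟨L, hLc, hNL⟩ := (eq_top_or_exists_le_coatom _).resolve_left hNtop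
  have e1 : L = M' := huniq L ⟨hLc, Subgroup.le_normalizer.trans hNL⟩
  have e2 : M = M' := huniq M ⟨hM, hP'.1⟩
  have hNM : Subgroup.normalizer (P' : Set G) ≤ M := by
    have : L = M := e1.trans e2.symm
    rw [← this]; exact hNL
  exact ⟨hp, hpM, P, hNM⟩

theorem commutator_eq_top (hG : Cfsg.IsMinSimpleOddOrder G) : commutator G = ⊤ := by
  haveI : IsSimpleGroup G := hG.2.1
  rcases (inferInstance : (commutator G).Normal).eq_bot_or_eq_top with h | h
  · exact absurd ((commutator_eq_bot_iff G).1 h) hG.2.2.1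
  · exact h

/-- for `p ∈ σ(M)`, the Sylow `p`-subgroups of `M` lie in `M'` -/
theorem sylow_le_commutator (hG : Cfsg.IsMinSimpleOddOrder G) (hU : UniquenessThm G)
    {M : Subgroup G} (hM : IsCoatom M) {p : ℕ} [Fact p.Prime] (hp : p ∈ Cfsg.sigma M)
    (P : Sylow p ↥M) : (P : Subgroup ↥M) ≤ commutator ↥M := by
  have hctx := sigmaCtx_of hG hU hM hp
  have hP'M := isSylowIn_map_sylow P
  set P' : Subgroup G := (P : Subgroup ↥M).map M.subtype with hP'def
  have hP'top : IsSylowIn p P' ⊤ :=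
    isSylowIn_top_of_normalizer_le hP'M (hctx.sylNorm P' hP'M)
  have hidx : ¬ p ∣ P'.index := by
    have := hP'top.2.2
    rwa [Subgroup.relIndex_top_right] at this
  let PG : Sylow p G := hP'top.2.1.toSylow hidx
  have hPGcoe : (PG : Subgroup G) = P' := IsPGroup.toSylow_coe _ _
  have hfocal := Subgroup.commutator_inf_eq_focalSubgroup PG
  rw [commutator_eq_top hG, top_inf_eq, hPGcoe] at hfocal
  have hle : P' ≤ (commutator ↥M).map M.subtype := by
    rw [hfocal, Subgroup.focalSubgroup_def, Subgroup.closure_le, Subgroup.map_subtype_commutator]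
    rintro g ⟨hgP, x, hxP, u, rfl⟩
    by_cases hx1 : x = 1
    · rw [hx1, commutatorElement_one_left]
      exact Subgroup.one_mem _
    · have hXP : Subgroup.zpowers x ≤ P' := by rw [Subgroup.zpowers_le]; exact hxP
      have hXp : IsPGroup p (Subgroup.zpowers x) := hP'M.2.1.to_le hXP
      have hX1 : Subgroup.zpowers x ≠ ⊥ := Subgroup.zpowers_ne_bot.2 hx1
      have hXM : Subgroup.zpowers x ≤ M := hXP.trans hP'M.1
      -- u x u⁻¹ ∈ P'
      have hconj : u * x * u⁻¹ ∈ P' := by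
        have h1 : x⁻¹ * ⁅x, u⁆ ∈ P' := P'.mul_mem (P'.inv_mem hxP) hgP
        have e : x⁻¹ * ⁅x, u⁆ = (u * x * u⁻¹)⁻¹ := by
          rw [commutatorElement_def]; group
        rw [e] at h1
        simpa using P'.inv_mem h1
      have hle : Subgroup.zpowers x ≤ cj u⁻¹ M := by
        rw [le_cj_iff]
        intro y hy
        obtain ⟨k, rfl⟩ := Subgroup.mem_zpowers_iff.1 hy
        have e : u⁻¹⁻¹ * x ^ k * u⁻¹ = (u * x * u⁻¹) ^ k := by
          rw [inv_inv]
          simp [conj_zpow]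
        rw [e]
        exact hP'M.1 (P'.zpow_mem hconj k)
      obtain ⟨c, hc, m, hm, hcm⟩ := trans_main hctx _ hXp hX1 hXM u⁻¹ hle
      have hcx : c * x = x * c :=
        ((Subgroup.mem_centralizer_iff.1 hc) x (Subgroup.mem_zpowers x)).symm
      have hu : u = m⁻¹ * c⁻¹ := by
        have : u = (u⁻¹)⁻¹ := by simp
        rw [this, hcm]; group
      have e : ⁅x, u⁆ = ⁅x, m⁻¹⁆ := by
        rw [commutatorElement_def, commutatorElement_def, hu]
        have h2 : c⁻¹ * x⁻¹ * c = x⁻¹ := by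
          have : c⁻¹ * x⁻¹ = x⁻¹ * c⁻¹ := by
            rw [← mul_inv_rev, ← mul_inv_rev, hcx]
          rw [this]; group
        calc x * (m⁻¹ * c⁻¹) * x⁻¹ * (m⁻¹ * c⁻¹)⁻¹
            = x * m⁻¹ * (c⁻¹ * x⁻¹ * c) * m⁻¹⁻¹ := by group
          _ = x * m⁻¹ * x⁻¹ * m⁻¹⁻¹ := by rw [h2]
      rw [e]
      exact Subgroup.commutator_mem_commutator (hP'M.1 hxP) (M.inv_mem hm)
  intro x hx
  obtain ⟨y, hy, hyx⟩ := hle ⟨x, hx, rfl⟩
  have : y = x := Subtype.ext hyx
  rwa [← this]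

theorem not_dvd_index_of_mem_sigma (hG : Cfsg.IsMinSimpleOddOrder G) (hU : UniquenessThm G)
    {M : Subgroup G} (hM : IsCoatom M) {p : ℕ} [Fact p.Prime] (hp : p ∈ Cfsg.sigma M) :
    ¬ p ∣ M.index := by
  obtain ⟨P₀, hP₀, hP₀M⟩ := (sigmaCtx_of hG hU hM hp).sylTop
  intro hd
  have h1 := hP₀.2.2
  rw [Subgroup.relIndex_top_right] at h1
  exact h1 (hd.trans (Subgroup.index_dvd_of_le hP₀M))

theorem relIndex_map_subtype {M : Subgroup G} (N : Subgroup ↥M) :
    (N.map M.subtype).relIndex M = N.index := by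
  rw [Subgroup.relIndex, Subgroup.subgroupOf,
    Subgroup.comap_map_eq_self_of_injective M.subtype_injective]

/-- the data of Theorem 10.2 -/
theorem thm_10_2_core (hG : Cfsg.IsMinSimpleOddOrder G) (hU : UniquenessThm G)
    {M : Subgroup G} (hM : IsCoatom M) :
    (∀ p : ℕ, p.Prime → p ∈ Cfsg.alpha M → ¬ p ∣ (Cfsg.piCore (Cfsg.alpha M) ↥M).index) ∧
      Cfsg.RankLE 2 (↥M ⧸ Cfsg.piCore (Cfsg.alpha M) ↥M) ∧
      Group.IsNilpotent ↥((commutator ↥M).map
        (QuotientGroup.mk' (Cfsg.piCore (Cfsg.alpha M) ↥M))) ∧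
      (∀ p : ℕ, p.Prime → p ∈ Cfsg.sigma M → ¬ p ∣ (Cfsg.piCore (Cfsg.sigma M) ↥M).index) := by
  haveI : Group.IsSolvable ↥M := hG.2.2.2 M hM.1
  have hodd : Odd (Nat.card ↥M) := Odd.of_dvd_nat hG.1 (Subgroup.card_subgroup_dvd_card M)
  refine core_main hodd (Cfsg.alpha M) (Cfsg.sigma M) ?_ (alpha_subset_sigma hG hU hM) ?_
  · intro p hp hpα
    by_contra hcon
    exact hpα ⟨hp, hcon⟩
  · intro p hpσ _ P
    exact sylow_le_commutator hG hU hM hpσ P

/-- **B-G Theorem 10.2**, the `α`-part (statement S1405). -/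
theorem thm_10_2_alpha (hG : Cfsg.IsMinSimpleOddOrder G) (hU : UniquenessThm G)
    (M : Subgroup G) (hM : IsCoatom M) :
    Cfsg.IsPiHallOf (Cfsg.alpha M) (Cfsg.alphaCore M) M ∧
      Cfsg.IsPiHall (Cfsg.alpha M) (Cfsg.alphaCore M) ∧
      Cfsg.alphaCore M ≤ Cfsg.sigmaCore M ∧
      Cfsg.RankLE 2 (↥M ⧸ Cfsg.piCore (Cfsg.alpha M) ↥M) ∧
      Group.IsNilpotent ↥((commutator ↥M).map
        (QuotientGroup.mk' (Cfsg.piCore (Cfsg.alpha M) ↥M))) := by
  obtain ⟨h1, h2, h3, h4⟩ := thm_10_2_core hG hU hM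
  have hprimes : ∀ p : ℕ, p.Prime → p ∣ Nat.card (Cfsg.alphaCore M) → p ∈ Cfsg.alpha M := by
    intro p hp hd
    unfold Cfsg.alphaCore at hd
    rw [Subgroup.card_map_of_injective M.subtype_injective] at hd
    exact Cfsg.Agent.S1886.piCore_isPi _ p hp hd
  refine ⟨⟨Subgroup.map_subtype_le _, hprimes, ?_⟩, ⟨hprimes, ?_⟩, ?_, h2, h3⟩
  · intro p hp hpα
    unfold Cfsg.alphaCore
    rw [relIndex_map_subtype]
    exact h1 p hp hpα
  · intro p hp hpα
    haveI : Fact p.Prime := ⟨hp⟩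
    unfold Cfsg.alphaCore
    rw [Subgroup.index_map_subtype]
    intro hd
    rcases (Nat.Prime.dvd_mul hp).1 hd with h | h
    · exact h1 p hp hpα h
    · exact not_dvd_index_of_mem_sigma hG hU hM (alpha_subset_sigma hG hU hM hpα) h
  · unfold Cfsg.alphaCore Cfsg.sigmaCore
    apply Subgroup.map_mono
    refine Cfsg.Agent.S1886.le_piCore _ inferInstance ?_
    intro q hq hd
    exact alpha_subset_sigma hG hU hM (Cfsg.Agent.S1886.piCore_isPi _ q hq hd)

/-- **B-G Theorem 10.2**, the `σ`-part (statement S1350). -/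
theorem thm_10_2_sigma (hG : Cfsg.IsMinSimpleOddOrder G) (hU : UniquenessThm G)
    (M : Subgroup G) (hM : IsCoatom M) :
    Cfsg.IsPiHallOf (Cfsg.sigma M) (Cfsg.sigmaCore M) M ∧
      Cfsg.IsPiHall (Cfsg.sigma M) (Cfsg.sigmaCore M) ∧
      ∀ N : Subgroup G, M ≤ Subgroup.normalizer (N : Set G) →
        Cfsg.IsPiHallOf (Cfsg.sigma M) N M → N = Cfsg.sigmaCore M := by
  obtain ⟨h1, h2, h3, h4⟩ := thm_10_2_core hG hU hM
  have hprimes : ∀ p : ℕ, p.Prime → p ∣ Nat.card (Cfsg.sigmaCore M) → p ∈ Cfsg.sigma M := by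
    intro p hp hd
    unfold Cfsg.sigmaCore at hd
    rw [Subgroup.card_map_of_injective M.subtype_injective] at hd
    exact Cfsg.Agent.S1886.piCore_isPi _ p hp hd
  have hrel : ∀ p : ℕ, p.Prime → p ∈ Cfsg.sigma M → ¬ p ∣ (Cfsg.sigmaCore M).relIndex M := by
    intro p hp hpσ
    unfold Cfsg.sigmaCore
    rw [relIndex_map_subtype]
    exact h4 p hp hpσ
  refine ⟨⟨Subgroup.map_subtype_le _, hprimes, hrel⟩, ⟨hprimes, ?_⟩, ?_⟩
  · intro p hp hpσ
    haveI : Fact p.Prime := ⟨hp⟩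
    unfold Cfsg.sigmaCore
    rw [Subgroup.index_map_subtype]
    intro hd
    rcases (Nat.Prime.dvd_mul hp).1 hd with h | h
    · exact h4 p hp hpσ h
    · exact not_dvd_index_of_mem_sigma hG hU hM hpσ h
  · rintro N hMN ⟨hNM, hNpi, hNidx⟩
    -- N ≤ M_σ
    have hNle : N ≤ Cfsg.sigmaCore M := by
      haveI : (N.subgroupOf M).Normal :=
        (Subgroup.normal_subgroupOf_iff_le_normalizer hNM).2 hMN
      have h5 : N.subgroupOf M ≤ Cfsg.piCore (Cfsg.sigma M) ↥M := by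
        refine Cfsg.Agent.S1886.le_piCore _ inferInstance ?_
        intro q hq hd
        rw [Nat.card_congr (Subgroup.subgroupOfEquivOfLe hNM).toEquiv] at hd
        exact hNpi q hq hd
      intro x hx
      exact ⟨⟨x, hNM hx⟩, h5 (Subgroup.mem_subgroupOf.2 hx), rfl⟩
    apply le_antisymm hNle
    rw [← Subgroup.relIndex_eq_one]
    by_contra hne
    obtain ⟨q, hq, hqd⟩ := Nat.exists_prime_and_dvd hne
    have hS : Cfsg.sigmaCore M ≤ M := Subgroup.map_subtype_le _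
    have h6 : q ∣ Nat.card (Cfsg.sigmaCore M) := by
      rw [← Cfsg.Agent.Helper31.relIndex_mul_card' hNle]
      exact Dvd.dvd.mul_right hqd _
    have h7 : q ∣ N.relIndex M := by
      rw [← Subgroup.relIndex_mul_relIndex N _ M hNle hS]
      exact Dvd.dvd.mul_right hqd _
    exact hNidx q hq (hprimes q hq h6) h7

end Cfsg.Agent.Helper29.BG10
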