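import Cfsg.Agent.Helper29.BG10F
import Cfsg.Agent.Helper23.RankTwo
import Cfsg.Agent.Helper50.CyclicSylow
import Cfsg.Agent.Helper67.CyclicSub

set_option autoImplicit false
set_option linter.unusedSectionVars false
set_option linter.unusedVariables false
set_option linter.style.haveILetI false

/-!
# B-G §10, part G: Lemmas 10.5 and 10.6 (primes outside `σ(M)` of rank two), given the Uniqueness
Theorem (helper29)
-/

namespace Cfsg.Agent.Helper29.BG10

open Cfsg Cfsg.Agent.Helper21 Cfsg.Agent.Helper23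

variable {G : Type*} [Group G] [Finite G]

theorem isPGroup_of_isElementaryAbelian {p : ℕ} {A : Subgroup G}
    (hA : Cfsg.IsElementaryAbelian p A) : IsPGroup p A := by
  intro g
  refine ⟨1, ?_⟩
  apply Subtype.ext
  simpa using hA.2 g.1 g.2

/-- in a `p`-group, an order between `p` (strictly) and `p ^ 2` is `p ^ 2` -/
theorem card_eq_sq_of_lt_of_le {p : ℕ} [hp : Fact p.Prime] {A : Subgroup G} (hA : IsPGroup p A)
    (h1 : p < Nat.card A) (h2 : Nat.card A ≤ p ^ 2) : Nat.card A = p ^ 2 := by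
  obtain ⟨k, hk⟩ := IsPGroup.iff_card.1 hA
  rw [hk] at h1 h2 ⊢
  have hp1 : 1 < p := hp.out.one_lt
  have hk2 : k ≤ 2 := (Nat.pow_le_pow_iff_right hp1).1 h2
  have hk1 : 1 < k := by
    have : p ^ 1 < p ^ k := by rwa [pow_one]
    exact (Nat.pow_lt_pow_iff_right hp1).1 this
  have : k = 2 := by omega
  rw [this]

theorem center_eq_bot_of_minSimple (hG : Cfsg.IsMinSimpleOddOrder G) :
    Subgroup.center G = ⊥ := by
  haveI : IsSimpleGroup G := hG.2.1
  rcases (inferInstance : (Subgroup.center G).Normal).eq_bot_or_eq_top with h | h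
  · exact h
  · exfalso
    apply hG.2.2.1
    refine ⟨⟨fun x y => ?_⟩⟩
    have hx : x ∈ Subgroup.center G := by rw [h]; trivial
    exact ((Subgroup.mem_center_iff.mp hx) y).symm

theorem centralizer_ne_top (hG : Cfsg.IsMinSimpleOddOrder G) {A : Subgroup G} (hA : A ≠ ⊥) :
    Subgroup.centralizer (A : Set G) ≠ ⊤ := by
  intro h
  apply hA
  rw [eq_bot_iff, ← center_eq_bot_of_minSimple hG]
  intro a ha
  rw [Subgroup.mem_center_iff]
  intro g
  have hg : g ∈ Subgroup.centralizer (A : Set G) := by rw [h]; trivial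
  exact (Subgroup.mem_centralizer_iff.1 hg a ha).symm

/-- **B-G Lemma 10.5**, second part: rank two elementary abelian subgroups of `M` are maximal in `G` -/
theorem maximal_of_rank_two (hG : Cfsg.IsMinSimpleOddOrder G) (hU : UniquenessThm G)
    {M : Subgroup G} (hM : IsCoatom M) {p : ℕ} [Fact p.Prime] (hr2 : Cfsg.PRankLE p 2 ↥M)
    (A : Subgroup G) (hAM : A ≤ M) (hAe : Cfsg.IsElementaryAbelian p A)
    (hA2 : Nat.card A = p ^ 2) (B : Subgroup G) (hBe : Cfsg.IsElementaryAbelian p B)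
    (hAB : A ≤ B) : B = A := by
  have hp : p.Prime := Fact.out
  by_contra hne
  have hlt : A < B := lt_of_le_of_ne hAB (Ne.symm hne)
  have hcard : p ^ 2 < Nat.card B := by
    rw [← hA2]
    rcases lt_or_eq_of_le (Subgroup.card_le_of_le hAB) with h | h
    · exact h
    · exact absurd (Subgroup.eq_of_le_of_card_ge hAB (le_of_eq h.symm)) hlt.ne
  have hBc := (isMulCommutative_subgroup_iff B).1 hBe.1
  have hAc := (isMulCommutative_subgroup_iff A).1 hAe.1
  have hBcent : B ≤ Subgroup.centralizer (A : Set G) := by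
    intro b hb
    rw [Subgroup.mem_centralizer_iff]
    intro a ha
    exact hBc a (hAB ha) b hb
  have hA1 : A ≠ ⊥ := by
    intro h
    rw [h, Subgroup.card_bot] at hA2
    have : 1 < p ^ 2 := Nat.one_lt_pow (by norm_num) hp.one_lt
    omega
  have hAp : IsPGroup p A := isPGroup_of_isElementaryAbelian hAe
  -- A ∈ 𝒰
  have hAU : Cfsg.InUniqueMaximal A := by
    refine hU A (isPGroup_ne_top hG hAp) ?_ (Or.inr ?_)
    · intro h
      have h1 := h p hp
      refine (not_prankLE_iff A).2 ⟨A, le_rfl, hAc, hAe.2, ?_⟩ h1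
      rw [hA2, pow_one]
      calc p = p ^ 1 := (pow_one p).symm
        _ < p ^ 2 := Nat.pow_lt_pow_right hp.one_lt (by norm_num)
    · intro h
      have h1 := h p hp
      exact (not_prankLE_iff _).2 ⟨B, hBcent, hBc, hBe.2, hcard⟩ h1
  obtain ⟨M', ⟨hM'c, hAM'⟩, huniq⟩ := hAU
  obtain ⟨L, hLc, hCL⟩ := (eq_top_or_exists_le_coatom _).resolve_left (centralizer_ne_top hG hA1)
  have hAcent : A ≤ Subgroup.centralizer (A : Set G) := by
    intro a ha
    rw [Subgroup.mem_centralizer_iff]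
    intro a' ha'
    exact hAc a' ha' a ha
  have e1 : L = M' := huniq L ⟨hLc, hAcent.trans hCL⟩
  have e2 : M = M' := huniq M ⟨hM, hAM⟩
  have hBM : B ≤ M := by
    have : L = M := e1.trans e2.symm
    rw [← this]; exact hBcent.trans hCL
  exact (not_prankLE_iff M).2 ⟨B, hBM, hBc, hBe.2, hcard⟩ hr2

/-- an elementary abelian subgroup of order `p ^ 2` in `M`, when `M` has `p`-rank exactly two -/
theorem exists_elementaryAbelian_sq {M : Subgroup G} {p : ℕ} [Fact p.Prime]
    (hr2 : Cfsg.PRankLE p 2 ↥M) (hr1 : ¬ Cfsg.PRankLE p 1 ↥M) :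
    ∃ A : Subgroup G, A ≤ M ∧ Cfsg.IsElementaryAbelian p A ∧ Nat.card A = p ^ 2 := by
  obtain ⟨A, hAM, hAe, hAcard⟩ := (not_pRankLE_subgroup_iff p 1 M).1 hr1
  refine ⟨A, hAM, hAe, ?_⟩
  rw [pow_one] at hAcard
  apply card_eq_sq_of_lt_of_le (isPGroup_of_isElementaryAbelian hAe) hAcard
  by_contra hcon
  push Not at hcon
  exact (not_pRankLE_subgroup_iff p 2 M).2 ⟨A, hAM, hAe, hcon⟩ hr2

/-- **B-G Lemma 10.5** (statement S1408) -/
theorem thm_10_5 (hG : Cfsg.IsMinSimpleOddOrder G) (hU : UniquenessThm G)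
    (M : Subgroup G) (hM : IsCoatom M) (p : ℕ) [Fact p.Prime]
    (hr2 : Cfsg.PRankLE p 2 ↥M) (hr1 : ¬ Cfsg.PRankLE p 1 ↥M) :
    ¬ Cfsg.IsIdealPrime p G ∧ ∀ A : Subgroup G, A ≤ M → Cfsg.IsElementaryAbelian p A →
      Nat.card A = p ^ 2 → ∀ B : Subgroup G, Cfsg.IsElementaryAbelian p B → A ≤ B → B = A := by
  have hmax := maximal_of_rank_two hG hU hM hr2
  refine ⟨?_, hmax⟩
  rintro ⟨-, -, hideal⟩
  obtain ⟨A, hAM, hAe, hA2⟩ := exists_elementaryAbelian_sq hr2 hr1
  obtain ⟨P, hAP⟩ := (isPGroup_of_isElementaryAbelian hAe).exists_le_sylow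
  obtain ⟨B, -, hBe, hAB⟩ := hideal P A hAP hAe hA2
  exact hAB.ne (hmax A hAM hAe hA2 B hBe hAB.le).symm

/-- **B-G Lemma 10.6** (statement S1409) -/
theorem thm_10_6 (hG : Cfsg.IsMinSimpleOddOrder G) (hU : UniquenessThm G)
    (M : Subgroup G) (hM : IsCoatom M) (p : ℕ) [Fact p.Prime] (hp : p ∉ Cfsg.sigma M)
    (X : Subgroup G) (hX : Nat.card X = p) (hNX : Subgroup.normalizer (X : Set G) ≤ M) :
    (Cfsg.PRankLE p 2 ↥M ∧ ¬ Cfsg.PRankLE p 1 ↥M) ∧ ¬ Cfsg.IsIdealPrime p G ∧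
      ∃ A : Subgroup G, Cfsg.IsElementaryAbelian p A ∧ Nat.card A = p ^ 2 ∧ X ≤ A := by
  classical
  have hpp : p.Prime := Fact.out
  have hXM : X ≤ M := Subgroup.le_normalizer.trans hNX
  have hXp : IsPGroup p X := IsPGroup.of_card (n := 1) (by rw [hX, pow_one])
  have hpM : p ∣ Nat.card ↥M := by
    rw [← hX]; exact Subgroup.card_dvd_of_le hXM
  have hp2 : p ≠ 2 := by
    intro h2
    have hodd : Odd (Nat.card ↥M) := Odd.of_dvd_nat hG.1 (Subgroup.card_subgroup_dvd_card M)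
    rw [h2] at hpM
    exact (Nat.not_even_iff_odd.2 hodd) (even_iff_two_dvd.2 hpM)
  -- rank at most two
  have hr2 : Cfsg.PRankLE p 2 ↥M := by
    by_contra hcon
    exact hp (alpha_subset_sigma hG hU hM ⟨hpp, hcon⟩)
  -- a Sylow p-subgroup of M containing X
  have hXp' : IsPGroup p (X.subgroupOf M) := hXp.comap_subtype
  obtain ⟨P, hXP⟩ := hXp'.exists_le_sylow
  have hP'M := isSylowIn_map_sylow P
  set P' : Subgroup G := (P : Subgroup ↥M).map M.subtype with hP'def
  have hXP' : X ≤ P' := by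
    intro x hx
    exact ⟨⟨x, hXM hx⟩, hXP (Subgroup.mem_subgroupOf.2 hx), rfl⟩
  -- rank at least two
  have hr1 : ¬ Cfsg.PRankLE p 1 ↥M := by
    intro hcon
    have hcyc : IsCyclic ↥(P : Subgroup ↥M) :=
      Cfsg.Agent.Helper50.sylow_isCyclic_of_pRankLE_one hp2 hcon P
    haveI hcyc' : IsCyclic ↥P' :=
      ((P : Subgroup ↥M).equivMapOfInjective M.subtype M.subtype_injective).isCyclic.1 hcyc
    apply hp
    refine ⟨hpp, hpM, P, ?_⟩
    intro g hg
    apply hNX
    apply mem_normalizer_of_cj_eq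
    have hle : cj g X ≤ P' := by
      have := cj_mono (g := g) hXP'
      rwa [cj_eq_of_mem_normalizer hg] at this
    exact Cfsg.Agent.Helper67.eq_of_card_eq_of_le_cyclic P' _ _ hle hXP' (card_cj g X)
  refine ⟨⟨hr2, hr1⟩, (thm_10_5 hG hU M hM p hr2 hr1).1, ?_⟩
  -- an elementary abelian subgroup of order p² containing X
  obtain ⟨E₀, hE₀M, hE₀e, hE₀2⟩ := exists_elementaryAbelian_sq hr2 hr1
  -- conjugate E₀ into P'
  obtain ⟨a, haM, ha⟩ := Cfsg.Agent.Helper84.exists_conj_le_of_relIndex M P' E₀ hP'M.1 hP'M.2.1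
    hP'M.2.2 hE₀M (isPGroup_of_isElementaryAbelian hE₀e)
  set E : Subgroup G := cj a E₀ with hEdef
  have hEP' : E ≤ P' := by
    intro x hx
    have := ha _ (mem_cj.1 hx)
    have e : a * (a⁻¹ * x * a) * a⁻¹ = x := by group
    rwa [e] at this
  have hEe : Cfsg.IsElementaryAbelian p E := by
    have hc := (isMulCommutative_subgroup_iff E₀).1 hE₀e.1
    refine ⟨(isMulCommutative_subgroup_iff E).2 ?_, ?_⟩
    · intro x hx y hy
      have h1 := hc _ (mem_cj.1 hx) _ (mem_cj.1 hy)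
      have e1 : x * y = a * ((a⁻¹ * x * a) * (a⁻¹ * y * a)) * a⁻¹ := by group
      have e2 : y * x = a * ((a⁻¹ * y * a) * (a⁻¹ * x * a)) * a⁻¹ := by group
      rw [e1, e2, h1]
    · intro x hx
      have h1 := hE₀e.2 _ (mem_cj.1 hx)
      have e1 : x ^ p = a * (a⁻¹ * x * a) ^ p * a⁻¹ := by
        rw [← conj_pow]; congr 1; group
      rw [e1, h1]; group
  have hE2 : Nat.card E = p ^ 2 := by rw [hEdef, card_cj, hE₀2]
  have hXe : Cfsg.IsElementaryAbelian p X := by
    haveI : Fact (Nat.card X).Prime := by rw [hX]; exact ⟨hpp⟩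
    have hcycX : IsCyclic ↥X := isCyclic_of_prime_card (α := ↥X) rfl
    refine ⟨(isMulCommutative_subgroup_iff X).2 ?_, ?_⟩
    · intro x hx y hy
      obtain ⟨g, hg⟩ := hcycX.exists_generator
      obtain ⟨i, hi⟩ := Subgroup.mem_zpowers_iff.1 (hg ⟨x, hx⟩)
      obtain ⟨j, hj⟩ := Subgroup.mem_zpowers_iff.1 (hg ⟨y, hy⟩)
      have hx' : x = (g : G) ^ i := by
        have := congrArg Subtype.val hi; simpa using this.symm
      have hy' : y = (g : G) ^ j := by
        have := congrArg Subtype.val hj; simpa using this.symm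
      rw [hx', hy', ← zpow_add, ← zpow_add, add_comm]
    · intro x hx
      have := pow_card_eq_one' (G := ↥X) (x := ⟨x, hx⟩)
      rw [hX] at this
      simpa using congrArg Subtype.val this
  -- a central subgroup of order p of P'
  have hP'ne : Nontrivial ↥P' := by
    have : Nontrivial ↥X := by
      rw [← Finite.one_lt_card_iff_nontrivial, hX]; exact hpp.one_lt
    obtain ⟨x, y, hxy⟩ := this
    exact ⟨⟨⟨x.1, hXP' x.2⟩, ⟨y.1, hXP' y.2⟩, fun h => hxy (Subtype.ext (by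
      have := congrArg Subtype.val h; simpa using this))⟩⟩
  have hcen : Nontrivial ↥(Subgroup.center ↥P') := hP'M.2.1.center_nontrivial
  have hcp : p ∣ Nat.card ↥(Subgroup.center ↥P') := by
    have hpz : IsPGroup p ↥(Subgroup.center ↥P') := hP'M.2.1.to_subgroup _
    obtain ⟨k, hk⟩ := IsPGroup.iff_card.1 hpz
    have hk0 : k ≠ 0 := by
      intro h0
      rw [h0, pow_zero] at hk
      have := Finite.one_lt_card_iff_nontrivial.2 hcen
      omega
    rw [hk]; exact dvd_pow_self p hk0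
  obtain ⟨z, hz⟩ := exists_prime_orderOf_dvd_card' (G := ↥(Subgroup.center ↥P')) p hcp
  set z' : G := ((z : ↥P') : G) with hz'def
  have hz'o : orderOf z' = p := by
    rw [hz'def, Subgroup.orderOf_coe, Subgroup.orderOf_coe]; exact hz
  have hz'P : z' ∈ P' := (z : ↥P').2
  have hz'c : ∀ y ∈ P', z' * y = y * z' := by
    intro y hy
    have := (Subgroup.mem_center_iff.1 z.2) ⟨y, hy⟩
    have h2 := congrArg Subtype.val this
    simpa using h2.symm
  set Z₁ : Subgroup G := Subgroup.zpowers z' with hZ₁def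
  have hZ₁P : Z₁ ≤ P' := by rw [hZ₁def, Subgroup.zpowers_le]; exact hz'P
  have hZ₁card : Nat.card Z₁ = p := by rw [hZ₁def, Nat.card_zpowers, hz'o]
  have hZ₁c : ∀ u ∈ Z₁, ∀ y ∈ P', u * y = y * u := by
    intro u hu y hy
    obtain ⟨k, rfl⟩ := Subgroup.mem_zpowers_iff.1 hu
    exact ((Commute.zpow_left (hz'c y hy) k)).eq
  have hZ₁e : Cfsg.IsElementaryAbelian p Z₁ := by
    refine ⟨(isMulCommutative_subgroup_iff Z₁).2 ?_, ?_⟩
    · intro x hx y hy
      exact hZ₁c x hx y (hZ₁P hy)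
    · intro x hx
      obtain ⟨k, rfl⟩ := Subgroup.mem_zpowers_iff.1 hx
      rw [← zpow_natCast, ← zpow_mul, mul_comm, zpow_mul, zpow_natCast, ← hz'o,
        pow_orderOf_eq_one, one_zpow]
  have hrkle : ∀ A : Subgroup G, A ≤ M → Cfsg.IsElementaryAbelian p A → Nat.card A ≤ p ^ 2 := by
    intro A hAM hAe
    by_contra hcon
    push Not at hcon
    exact (not_pRankLE_subgroup_iff p 2 M).2 ⟨A, hAM, hAe, hcon⟩ hr2
  by_cases hXZ : X = Z₁
  · -- X is central in P': X ≤ E
    have hcomm : ∀ u ∈ X, ∀ y ∈ E, u * y = y * u := by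
      intro u hu y hy
      rw [hXZ] at hu
      exact hZ₁c u hu y (hEP' hy)
    have hsup := isElementaryAbelian_sup_of_commute hXe hEe hcomm
    have hle : Nat.card ↥(X ⊔ E) ≤ p ^ 2 :=
      hrkle _ (sup_le hXM (hEP'.trans hP'M.1)) hsup
    have hEq : E = X ⊔ E :=
      Subgroup.eq_of_le_of_card_ge le_sup_right (by rw [hE2]; exact hle)
    exact ⟨E, hEe, hE2, by rw [hEq]; exact le_sup_left⟩
  · -- X ⊔ Z₁ has order p²
    have hcomm : ∀ u ∈ X, ∀ y ∈ Z₁, u * y = y * u := by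
      intro u hu y hy
      exact (hZ₁c y hy u (hXP' hu)).symm
    have hsup := isElementaryAbelian_sup_of_commute hXe hZ₁e hcomm
    have hle : Nat.card ↥(X ⊔ Z₁) ≤ p ^ 2 :=
      hrkle _ (sup_le hXM (hZ₁P.trans hP'M.1)) hsup
    have hlt : p < Nat.card ↥(X ⊔ Z₁) := by
      rw [← hX]
      rcases lt_or_eq_of_le (Subgroup.card_le_of_le (le_sup_left : X ≤ X ⊔ Z₁)) with h | h
      · exact h
      · exfalso
        have hEq : X = X ⊔ Z₁ := Subgroup.eq_of_le_of_card_ge le_sup_left (le_of_eq h.symm)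
        have hZX : Z₁ ≤ X := by rw [hEq]; exact le_sup_right
        exact hXZ (Subgroup.eq_of_le_of_card_ge hZX (by rw [hX, hZ₁card])).symm
    exact ⟨X ⊔ Z₁, hsup,
      card_eq_sq_of_lt_of_le (isPGroup_of_isElementaryAbelian hsup) hlt hle, le_sup_left⟩

end Cfsg.Agent.Helper29.BG10
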