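import Mathlib

set_option autoImplicit false

namespace Cfsg.Agent.Helper29

/-- Normalizers grow in finite `p`-groups (relative version inside an ambient group). -/
theorem exists_normalizing {G : Type*} [Group G] [Finite G] (p : ℕ) [Fact p.Prime] (P H : Subgroup G)
    (hP : IsPGroup p P) (hHP : H < P) :
    ∃ x ∈ P, x ∈ Subgroup.normalizer (H : Set G) ∧ x ∉ H := by
  have : Group.IsNilpotent P := hP.isNilpotent
  have hlt : H.subgroupOf P < ⊤ := by
    rw [lt_top_iff_ne_top, Ne, Subgroup.subgroupOf_eq_top]; exact not_le_of_gt hHP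
  have := Group.normalizerCondition_of_isNilpotent (G := P) (H.subgroupOf P) hlt
  obtain ⟨x, hxN, hxH⟩ := SetLike.exists_of_lt this
  refine ⟨x, x.2, ?_, fun h => hxH (Subgroup.mem_subgroupOf.mpr h)⟩
  rw [Subgroup.mem_normalizer_iff] at hxN ⊢
  intro h
  constructor
  · intro hh
    have := (hxN ⟨h, hHP.le hh⟩).mp (Subgroup.mem_subgroupOf.mpr hh)
    exact Subgroup.mem_subgroupOf.mp this
  · intro hh
    have hhP : h ∈ P := by
      have h1 : x.1 * h * x.1⁻¹ ∈ P := hHP.le hh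
      have : h = x.1⁻¹ * (x.1 * h * x.1⁻¹) * x.1 := by group
      rw [this]; exact P.mul_mem (P.mul_mem (P.inv_mem x.2) h1) x.2
    have := (hxN ⟨h, hhP⟩).mpr (Subgroup.mem_subgroupOf.mpr hh)
    exact Subgroup.mem_subgroupOf.mp this

/-- If `H ⊓ K = ⊥` and both lie in `N`, then `|H| * |K| ≤ |N|`. -/
theorem card_mul_card_le_of_disjoint {G : Type*} [Group G] [Finite G] (H K N : Subgroup G)
    (hHK : H ⊓ K = ⊥) (hH : H ≤ N) (hK : K ≤ N) : Nat.card H * Nat.card K ≤ Nat.card N := by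
  rw [← Nat.card_prod]
  refine Nat.card_le_card_of_injective
    (fun x : H × K => (⟨x.1.1 * x.2.1, N.mul_mem (hH x.1.2) (hK x.2.2)⟩ : N)) ?_
  rintro ⟨⟨x, hx⟩, ⟨y, hy⟩⟩ ⟨⟨x', hx'⟩, ⟨y', hy'⟩⟩ h
  simp only [Subtype.mk.injEq] at h
  have h1 : x'⁻¹ * x = y' * y⁻¹ := by
    have : x'⁻¹ * (x * y) * y⁻¹ = x'⁻¹ * (x' * y') * y⁻¹ := by rw [h]
    simpa [mul_assoc] using this
  have h2 : x'⁻¹ * x ∈ H ⊓ K :=
    ⟨H.mul_mem (H.inv_mem hx') hx, h1 ▸ K.mul_mem hy' (K.inv_mem hy)⟩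
  rw [hHK, Subgroup.mem_bot] at h2
  have hxx : x = x' := by
    have := congrArg (fun t => x' * t) h2
    simpa using this
  subst hxx
  have hyy : y = y' := by simpa using h
  subst hyy
  rfl

end Cfsg.Agent.Helper29
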