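/-
helper29: counting under the action of a p-group on a p'-group (internal form):
* `card_modEq_card_inf_centralizer`: `|Q| ≡ |C_Q(P)| (mod p)` for a `p`-group `P` normalizing `Q`;
* `exists_invariant_sylow_ge`: an invariant `q`-subgroup lies in an invariant Sylow `q`-subgroup;
* `pow_factorization_card_sylow_modEq_one`: if `G = PK`, `K ⊴ G` a `p'`-group, then every
  prime-power part of the number of Sylow `p`-subgroups is `≡ 1 (mod p)`.
-/
import Mathlib
import Cfsg.Agent.Helper1.CoprimeSylow
import Cfsg.Agent.Helper10.Card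
import Cfsg.Agent.Helper29.PGroup

set_option autoImplicit false

namespace Cfsg.Agent.Helper29

open Subgroup

universe u

variable {G : Type u} [Group G]

/-- `|Q| ≡ |C_Q(P)| (mod p)` for a `p`-group `P` normalizing the finite subgroup `Q`. -/
theorem card_modEq_card_inf_centralizer [Finite G] {p : ℕ} [Fact p.Prime] {P Q : Subgroup G}
    (hP : IsPGroup p P) (hPQ : P ≤ normalizer (Q : Set G)) :
    Nat.card Q ≡ Nat.card (Q ⊓ centralizer (P : Set G) : Subgroup G) [MOD p] := by
  classical
  let _ : MulAction P Q := MulAction.compHom Q (Subgroup.inclusion hPQ)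
  have hsmul : ∀ (r : P) (x : Q), ((r • x : Q) : G) = (r : G) * x * (r : G)⁻¹ := fun r x => rfl
  have h1 := hP.card_modEq_card_fixedPoints Q
  have h2 : Nat.card (MulAction.fixedPoints P Q) =
      Nat.card (Q ⊓ centralizer (P : Set G) : Subgroup G) := by
    refine Nat.card_congr
      { toFun := fun x => ⟨(x.1 : G), Subgroup.mem_inf.mpr ⟨x.1.2, ?_⟩⟩
        invFun := fun y => ⟨⟨y.1, (Subgroup.mem_inf.mp y.2).1⟩, ?_⟩
        left_inv := fun x => rfl
        right_inv := fun y => rfl }
    · rw [mem_centralizer_iff]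
      intro a ha
      have := x.2 ⟨a, ha⟩
      have h3 := congrArg Subtype.val this
      rw [hsmul] at h3
      calc a * (x.1 : G) = a * (x.1 : G) * a⁻¹ * a := by group
        _ = (x.1 : G) * a := by rw [h3]
    · intro r
      apply Subtype.ext
      rw [hsmul]
      have := mem_centralizer_iff.mp (Subgroup.mem_inf.mp y.2).2 r r.2
      change (r : G) * y.1 * (r : G)⁻¹ = y.1
      rw [this]; group
  rw [← h2]
  exact h1


theorem normalizer_inf_normalizer_le (A B : Subgroup G) :
    normalizer (A : Set G) ⊓ normalizer (B : Set G) ≤ normalizer ((A ⊓ B : Subgroup G) : Set G) := by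
  intro g hg
  rw [mem_normalizer_iff]
  intro x
  rw [Subgroup.mem_inf, Subgroup.mem_inf, mem_normalizer_iff.mp hg.1 x, mem_normalizer_iff.mp hg.2 x]

/-- Let the `p`-group `P` normalize the `p'`-group `K`. Every `P`-invariant `q`-subgroup `R` of `K`
lies in a `P`-invariant Sylow `q`-subgroup of `K`. -/
theorem exists_invariant_sylow_ge [Finite G] {p q : ℕ} [Fact p.Prime] [Fact q.Prime]
    {P K R : Subgroup G} (hP : IsPGroup p P) (hPK : P ≤ normalizer (K : Set G))
    (hcop : (Nat.card P).Coprime (Nat.card K)) (hRK : R ≤ K) (hR : IsPGroup q R)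
    (hPR : P ≤ normalizer (R : Set G)) :
    ∃ Q : Subgroup G, R ≤ Q ∧ Q ≤ K ∧ IsPGroup q Q ∧ P ≤ normalizer (Q : Set G) ∧
      Nat.card Q = q ^ (Nat.card K).factorization q := by
  classical
  obtain ⟨Q, hRQ, hmax⟩ := Finite.exists_le_maximal
    (p := fun Q : Subgroup G => R ≤ Q ∧ Q ≤ K ∧ IsPGroup q Q ∧ P ≤ normalizer (Q : Set G))
    (a := R) ⟨le_rfl, hRK, hR, hPR⟩
  obtain ⟨-, hQK, hQ, hPQ⟩ := hmax.prop
  refine ⟨Q, hRQ, hQK, hQ, hPQ, ?_⟩
  set M : Subgroup G := K ⊓ normalizer (Q : Set G) with hM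
  have hQM : Q ≤ M := le_inf hQK le_normalizer
  have hPM : P ≤ normalizer (M : Set G) :=
    le_trans (le_inf hPK (hPQ.trans le_normalizer)) (normalizer_inf_normalizer_le _ _)
  have hcopM : (Nat.card P).Coprime (Nat.card M) :=
    Nat.Coprime.coprime_dvd_right (Subgroup.card_dvd_of_le inf_le_left) hcop
  have hsolv : Group.IsSolvable P := by
    have : Group.IsNilpotent P := hP.isNilpotent
    infer_instance
  obtain ⟨S, hS⟩ := Cfsg.Agent.Helper1.exists_invariant_sylow P M hPM hcopM (Or.inl hsolv) q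
  set S' : Subgroup G := (S : Subgroup M).map M.subtype with hS'
  have hS'M : S' ≤ M := Subgroup.map_subtype_le _
  haveI : (Q.subgroupOf M).Normal :=
    (Subgroup.normal_subgroupOf_iff_le_normalizer hQM).mpr inf_le_right
  have hQS : Q.subgroupOf M ≤ S := IsPGroup.le_sylow_of_normal (N := Q.subgroupOf M) hQ.comap_subtype S
  have hQS' : Q ≤ S' := by
    intro x hx
    exact ⟨⟨x, hQM hx⟩, hQS (Subgroup.mem_subgroupOf.mpr hx), rfl⟩
  have hS'Q : S' ≤ Q :=
    hmax.le_of_ge ⟨hRQ.trans hQS', hS'M.trans inf_le_left, S.2.map _, hS⟩ hQS'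
  -- a Sylow subgroup of `K` containing `Q`
  obtain ⟨T, hT⟩ := (hQ.comap_subtype (H := Q) (K := K)).exists_le_sylow
  set Y : Subgroup G := (T : Subgroup K).map K.subtype with hY
  have hYK : Y ≤ K := Subgroup.map_subtype_le _
  have hYq : IsPGroup q Y := T.2.map _
  have hQY : Q ≤ Y := by
    intro x hx
    exact ⟨⟨x, hQK hx⟩, hT (Subgroup.mem_subgroupOf.mpr hx), rfl⟩
  have hcardY : Nat.card Y = q ^ (Nat.card K).factorization q := by
    rw [hY, Subgroup.card_map_of_injective (Subgroup.subtype_injective K)]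
    exact T.card_eq_multiplicity
  by_cases hQeq : Q = Y
  · rw [hQeq]; exact hcardY
  exfalso
  have hlt : Q < Y := lt_of_le_of_ne hQY hQeq
  obtain ⟨x, hxY, hxN, hxQ⟩ := exists_normalizing q Y Q hYq hlt
  have hxM : x ∈ M := ⟨hYK hxY, hxN⟩
  set Z : Subgroup G := Q ⊔ zpowers x with hZ
  have hZY : Z ≤ Y := sup_le hQY (by rw [zpowers_le]; exact hxY)
  have hZM : Z ≤ M := sup_le hQM (by rw [zpowers_le]; exact hxM)
  have hZq : IsPGroup q Z := hYq.to_le hZY
  have h1 : IsPGroup q (Z.subgroupOf M) := hZq.comap_subtype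
  have h2 : (S : Subgroup M) ≤ Z.subgroupOf M := by
    intro y hy
    rw [Subgroup.mem_subgroupOf]
    exact (le_sup_left : Q ≤ Z) (hS'Q ⟨y, hy, rfl⟩)
  have h3 := S.is_maximal' h1 h2
  have hxZ : (⟨x, hxM⟩ : M) ∈ Z.subgroupOf M := by
    rw [Subgroup.mem_subgroupOf]
    exact (le_sup_right : zpowers x ≤ Z) (mem_zpowers x)
  rw [h3] at hxZ
  exact hxQ (hS'Q ⟨⟨x, hxM⟩, hxZ, rfl⟩)


/-- If `G = PK` with `K ⊴ G` and `P ∩ K = 1` for a Sylow `p`-subgroup `P`, then
`n_p(G) * |C_K(P)| = |K|`. -/
theorem card_sylow_mul_card_centralizer [Finite G] {p : ℕ} [Fact p.Prime] (P : Sylow p G)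
    (K : Subgroup G) [K.Normal] (hinf : (P : Subgroup G) ⊓ K = ⊥)
    (hsup : (P : Subgroup G) ⊔ K = ⊤) :
    Nat.card (Sylow p G) * Nat.card (K ⊓ centralizer ((P : Subgroup G) : Set G) : Subgroup G) =
      Nat.card K := by
  set NP : Subgroup G := normalizer ((P : Subgroup G) : Set G) with hNP
  have hKtop : normalizer (K : Set G) = ⊤ := Subgroup.normalizer_eq_top K
  have h1 : Nat.card G = Nat.card (P : Subgroup G) * Nat.card K := by
    have := Cfsg.Agent.Helper10.card_sup_mul_card_inf (P : Subgroup G) K (by rw [hKtop]; exact le_top)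
    rw [hsup, hinf, Subgroup.card_top, Subgroup.card_bot, mul_one] at this
    exact this
  have h2 : NP ⊓ K = K ⊓ centralizer ((P : Subgroup G) : Set G) := by
    apply le_antisymm
    · intro x hx
      refine Subgroup.mem_inf.mpr ⟨hx.2, ?_⟩
      refine Cfsg.Agent.Helper1.mem_centralizer_of_mem_normalizer (K := K) (H := (P : Subgroup G))
        (by rw [hKtop]; exact le_top) (by rw [inf_comm]; exact hinf) hx.2 ?_
      intro h hh
      exact (mem_normalizer_iff.mp hx.1 h).mp hh
    · intro x hx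
      have hx2 : x ∈ centralizer ((P : Subgroup G) : Set G) := (Subgroup.mem_inf.mp hx).2
      exact Subgroup.mem_inf.mpr ⟨Subgroup.centralizer_le_normalizer _ hx2, (Subgroup.mem_inf.mp hx).1⟩
  have h3 : Nat.card G * Nat.card (NP ⊓ K : Subgroup G) = Nat.card NP * Nat.card K := by
    have := Cfsg.Agent.Helper10.card_sup_mul_card_inf NP K (by rw [hKtop]; exact le_top)
    have htop : NP ⊔ K = ⊤ := by
      apply top_le_iff.mp
      rw [← hsup]
      exact sup_le_sup_right le_normalizer K
    rw [htop, Subgroup.card_top] at this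
    exact this
  have h4 : Nat.card (Sylow p G) * Nat.card NP = Nat.card G := by
    rw [show Nat.card (Sylow p G) = NP.index from P.card_eq_index_normalizer]
    exact Subgroup.index_mul_card NP
  rw [← h2]
  apply Nat.eq_of_mul_eq_mul_left (Nat.card_pos (α := NP))
  calc Nat.card NP * (Nat.card (Sylow p G) * Nat.card (NP ⊓ K : Subgroup G))
      = (Nat.card (Sylow p G) * Nat.card NP) * Nat.card (NP ⊓ K : Subgroup G) := by ring
    _ = Nat.card NP * Nat.card K := by rw [h4, h3]

/-- If `G = PK` with `K ⊴ G` and `P ∩ K = 1` for a Sylow `p`-subgroup `P`, then every prime-power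
part of the number of Sylow `p`-subgroups of `G` is `≡ 1 (mod p)`. -/
theorem pow_factorization_card_sylow_modEq_one [Finite G] {p : ℕ} [Fact p.Prime] (P : Sylow p G)
    (K : Subgroup G) [K.Normal] (hinf : (P : Subgroup G) ⊓ K = ⊥)
    (hsup : (P : Subgroup G) ⊔ K = ⊤) (q : ℕ) (hq : q.Prime) :
    q ^ (Nat.card (Sylow p G)).factorization q ≡ 1 [MOD p] := by
  classical
  have hp : p.Prime := Fact.out
  haveI : Fact q.Prime := ⟨hq⟩
  have hn1 : Nat.card (Sylow p G) ≡ 1 [MOD p] := card_sylow_modEq_one p G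
  by_cases hqp : q = p
  · subst hqp
    have : ¬ q ∣ Nat.card (Sylow q G) := by
      intro hdvd
      have h0 : Nat.card (Sylow q G) ≡ 0 [MOD q] := (Nat.modEq_zero_iff_dvd).mpr hdvd
      have h10 : 1 ≡ 0 [MOD q] := hn1.symm.trans h0
      have := (Nat.modEq_zero_iff_dvd).mp h10
      exact hp.one_lt.ne' (Nat.dvd_one.mp this)
    rw [Nat.factorization_eq_zero_of_not_dvd this, pow_zero]
  set C : Subgroup G := K ⊓ centralizer ((P : Subgroup G) : Set G) with hC
  have hkey := card_sylow_mul_card_centralizer P K hinf hsup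
  have hKtop : normalizer (K : Set G) = ⊤ := Subgroup.normalizer_eq_top K
  -- coprimality
  have hGcard : Nat.card G = Nat.card (P : Subgroup G) * Nat.card K := by
    have := Cfsg.Agent.Helper10.card_sup_mul_card_inf (P : Subgroup G) K (by rw [hKtop]; exact le_top)
    rw [hsup, hinf, Subgroup.card_top, Subgroup.card_bot, mul_one] at this
    exact this
  have hKidx : Nat.card K = (P : Subgroup G).index := by
    have h1 := Subgroup.card_mul_index (P : Subgroup G)
    rw [hGcard] at h1
    exact (Nat.eq_of_mul_eq_mul_left (Nat.card_pos (α := (P : Subgroup G))) h1).symm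
  have hpK : ¬ p ∣ Nat.card K := by rw [hKidx]; exact P.not_dvd_index
  obtain ⟨c, hc⟩ := IsPGroup.iff_card.mp P.2
  have hcop : (Nat.card (P : Subgroup G)).Coprime (Nat.card K) := by
    rw [hc]
    exact Nat.Coprime.pow_left _ ((Nat.Prime.coprime_iff_not_dvd hp).mpr hpK)
  -- a Sylow `q`-subgroup of `C`
  obtain ⟨R₀⟩ : Nonempty (Sylow q C) := inferInstance
  set R : Subgroup G := (R₀ : Subgroup C).map C.subtype with hR
  have hRC : R ≤ C := Subgroup.map_subtype_le _
  have hRq : IsPGroup q R := R₀.2.map _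
  have hRcard : Nat.card R = q ^ (Nat.card C).factorization q := by
    rw [hR, Subgroup.card_map_of_injective (Subgroup.subtype_injective C)]
    exact R₀.card_eq_multiplicity
  have hPR : (P : Subgroup G) ≤ normalizer (R : Set G) := by
    intro a ha
    rw [mem_normalizer_iff]
    intro x
    have hcomm : ∀ y ∈ R, a * y * a⁻¹ = y := by
      intro y hy
      have := mem_centralizer_iff.mp (hRC hy).2 a ha
      rw [this]; group
    constructor
    · intro hx; rw [hcomm x hx]; exact hx
    · intro hx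
      have h1 := hcomm _ hx
      have : a * x * a⁻¹ = x := by
        have h2 : a * (a * x * a⁻¹) * a⁻¹ = a * x * a⁻¹ := h1
        have h3 : a⁻¹ * (a * (a * x * a⁻¹) * a⁻¹) * a = a⁻¹ * (a * x * a⁻¹) * a := by rw [h2]
        have e1 : a⁻¹ * (a * (a * x * a⁻¹) * a⁻¹) * a = a * x * a⁻¹ := by group
        have e2 : a⁻¹ * (a * x * a⁻¹) * a = x := by group
        rw [e1, e2] at h3
        exact h3
      rw [← this]; exact hx
  obtain ⟨Q, hRQ, hQK, hQq, hPQ, hQcard⟩ := exists_invariant_sylow_ge (P := (P : Subgroup G))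
    (K := K) (R := R) P.2 (by rw [hKtop]; exact le_top) hcop (hRC.trans inf_le_left) hRq hPR
  -- `C_Q(P) = R`
  have hQC : Q ⊓ centralizer ((P : Subgroup G) : Set G) = R := by
    set Z : Subgroup G := Q ⊓ centralizer ((P : Subgroup G) : Set G) with hZ
    have hZC : Z ≤ C := le_inf (inf_le_left.trans hQK) inf_le_right
    have hRZ : R ≤ Z := le_inf hRQ (hRC.trans inf_le_right)
    have h1 : IsPGroup q (Z.subgroupOf C) := (hQq.to_le inf_le_left).comap_subtype
    have h2 : (R₀ : Subgroup C) ≤ Z.subgroupOf C := by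
      intro y hy
      rw [Subgroup.mem_subgroupOf]
      exact hRZ ⟨y, hy, rfl⟩
    have h3 := R₀.is_maximal' h1 h2
    rw [hR, ← h3, Subgroup.subgroupOf_map_subtype, inf_of_le_left hZC]
  have hmod := card_modEq_card_inf_centralizer (p := p) (P := (P : Subgroup G)) (Q := Q) P.2 hPQ
  rw [hQC, hQcard, hRcard] at hmod
  -- factorization
  have hfac : (Nat.card (Sylow p G)).factorization q + (Nat.card C).factorization q =
      (Nat.card K).factorization q := by
    rw [← hkey, Nat.factorization_mul Nat.card_pos.ne' Nat.card_pos.ne', Finsupp.add_apply]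
  rw [← hfac, pow_add] at hmod
  have hgcd : Nat.gcd p (q ^ (Nat.card C).factorization q) = 1 := by
    apply Nat.Coprime.pow_right
    exact (Nat.coprime_primes hp hq).mpr (Ne.symm hqp)
  refine Nat.ModEq.cancel_right_of_coprime hgcd ?_
  rw [one_mul]
  exact hmod

end Cfsg.Agent.Helper29
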