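import Cfsg.Agent.Helper29.BG10H
import Cfsg.Agent.Helper29.CoprimeCount
import Cfsg.Agent.S1396

set_option autoImplicit false
set_option linter.unusedSectionVars false
set_option linter.unusedVariables false
set_option linter.style.haveILetI false

/-!
# B-G §11, part A: disjointness of `σ`-sets of non-conjugate maximal subgroups, Lemma 12.2, given
the Uniqueness Theorem (helper29)
-/

namespace Cfsg.Agent.Helper29.BG11

open Cfsg Cfsg.Agent.Helper29.BG10 Cfsg.Agent.Helper21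

variable {G : Type*} [Group G]

/-! ### conjugation of subgroups: complements to `BG10A` -/

theorem cj_top (g : G) : cj g (⊤ : Subgroup G) = ⊤ := by
  ext x
  simp [mem_cj]

theorem cj_bot (g : G) : cj g (⊥ : Subgroup G) = ⊥ := by
  ext x
  rw [mem_cj, Subgroup.mem_bot, Subgroup.mem_bot]
  constructor
  · intro h
    have : x = g * (g⁻¹ * x * g) * g⁻¹ := by group
    rw [this, h]; group
  · rintro rfl; group

theorem cj_inf (g : G) (H K : Subgroup G) : cj g (H ⊓ K) = cj g H ⊓ cj g K := by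
  ext x
  simp only [mem_cj, Subgroup.mem_inf]

theorem isCoatom_cj {M : Subgroup G} (hM : IsCoatom M) (g : G) : IsCoatom (cj g M) := by
  refine ⟨fun h => hM.1 ?_, fun K hK => ?_⟩
  · have := congrArg (cj g⁻¹) h
    rwa [cj_inv_cj, cj_top] at this
  · have h1 : M < cj g⁻¹ K := by
      refine lt_of_le_of_ne ?_ ?_
      · rw [← cj_le_iff]; exact hK.le
      · intro e
        apply hK.ne
        rw [e, cj_cj_inv]
    have h2 := hM.2 _ h1
    have := congrArg (cj g) h2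
    rwa [cj_cj_inv, cj_top] at this

theorem centralizer_cj (g : G) (H : Subgroup G) :
    Subgroup.centralizer ((cj g H : Subgroup G) : Set G) = cj g (Subgroup.centralizer (H : Set G)) := by
  ext x
  rw [mem_cj, Subgroup.mem_centralizer_iff, Subgroup.mem_centralizer_iff]
  constructor
  · intro h y hy
    have := h (g * y * g⁻¹) (conj_mem_cj hy)
    calc y * (g⁻¹ * x * g) = g⁻¹ * ((g * y * g⁻¹) * x) * g := by group
      _ = g⁻¹ * (x * (g * y * g⁻¹)) * g := by rw [this]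
      _ = g⁻¹ * x * g * y := by group
  · intro h y hy
    have := h (g⁻¹ * y * g) (mem_cj.1 hy)
    calc y * x = g * ((g⁻¹ * y * g) * (g⁻¹ * x * g)) * g⁻¹ := by group
      _ = g * ((g⁻¹ * x * g) * (g⁻¹ * y * g)) * g⁻¹ := by rw [this]
      _ = x * y := by group


/-! ### Sylow subgroups for primes in `σ(M)` -/

section S
variable [Finite G]

/-- a relative Sylow subgroup of a nilpotent subgroup `N` is normalized by `N` -/
theorem IsSylowIn.le_normalizer_of_isNilpotent {q : ℕ} [Fact q.Prime] {Q N : Subgroup G}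
    (h : IsSylowIn q Q N) (hnil : Group.IsNilpotent ↥N) :
    N ≤ Subgroup.normalizer (Q : Set G) := by
  have hidx : ¬ q ∣ (Q.subgroupOf N).index := h.2.2
  have hQp : IsPGroup q ↥(Q.subgroupOf N) := h.2.1.comap_subtype
  let P : Sylow q ↥N := hQp.toSylow hidx
  have hPcoe : (P : Subgroup ↥N) = Q.subgroupOf N := IsPGroup.toSylow_coe _ _
  have hnormal : (P : Subgroup ↥N).Normal :=
    ((Group.isNilpotent_of_finite_tfae (G := ↥N)).out 0 3 rfl rfl).1 hnil q ‹_› P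
  rw [hPcoe] at hnormal
  exact (Subgroup.normal_subgroupOf_iff_le_normalizer h.1).1 hnormal

/-- a relative Sylow subgroup of a nilpotent subgroup `N` is normalized by the normalizer of `N` -/
theorem IsSylowIn.normalizer_le_of_isNilpotent {q : ℕ} [Fact q.Prime] {Q N : Subgroup G}
    (h : IsSylowIn q Q N) (hnil : Group.IsNilpotent ↥N) :
    Subgroup.normalizer (N : Set G) ≤ Subgroup.normalizer (Q : Set G) := by
  intro m hm
  apply mem_normalizer_of_cj_eq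
  have h1 : IsSylowIn q (cj m Q) N := by
    have := h.cj m
    rwa [cj_eq_of_mem_normalizer hm] at this
  obtain ⟨s, hsN, hs⟩ := h.exists_cj_eq h1
  have hs' : s ∈ Subgroup.normalizer ((cj m Q : Subgroup G) : Set G) :=
    IsSylowIn.le_normalizer_of_isNilpotent h1 hnil hsN
  rw [cj_eq_of_mem_normalizer hs'] at hs
  exact hs

theorem sigmaCore_le (M : Subgroup G) : Cfsg.sigmaCore M ≤ M := Subgroup.map_subtype_le _

theorem le_normalizer_sigmaCore (M : Subgroup G) :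
    M ≤ Subgroup.normalizer ((Cfsg.sigmaCore M : Subgroup G) : Set G) := by
  intro m hm
  rw [Subgroup.mem_normalizer_iff]
  intro s
  constructor
  · rintro ⟨x, hx, rfl⟩
    exact ⟨⟨m, hm⟩ * x * ⟨m, hm⟩⁻¹,
      (Cfsg.piCore_normal (Cfsg.sigma M) ↥M).conj_mem x hx _, rfl⟩
  · rintro ⟨x, hx, hxs⟩
    refine ⟨⟨m, hm⟩⁻¹ * x * ⟨m, hm⟩, ?_, ?_⟩
    · have := (Cfsg.piCore_normal (Cfsg.sigma M) ↥M).conj_mem x hx (⟨m, hm⟩⁻¹)
      simpa using this
    · have h1 : (x : G) = m * s * m⁻¹ := hxs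
      simp only [Subgroup.subtype_apply, Subgroup.coe_mul, Subgroup.coe_inv, h1]
      group

theorem cj_sigmaCore_of_mem {M : Subgroup G} {m : G} (hm : m ∈ M) :
    cj m (Cfsg.sigmaCore M) = Cfsg.sigmaCore M :=
  cj_eq_of_mem_normalizer (le_normalizer_sigmaCore M hm)

/-- for `q ∈ σ(M)`: a Sylow `q`-subgroup of `M` with normalizer in `M`; it is a Sylow subgroup of
`G`. -/
theorem exists_sylow_of_mem_sigma {M : Subgroup G} {q : ℕ} [Fact q.Prime]
    (hq : q ∈ Cfsg.sigma M) :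
    ∃ Q : Subgroup G, IsSylowIn q Q M ∧ Subgroup.normalizer (Q : Set G) ≤ M ∧
      IsSylowIn q Q ⊤ ∧ Q ≠ ⊥ := by
  obtain ⟨-, hqM, P, hNP⟩ := hq
  have hP' := isSylowIn_map_sylow P
  refine ⟨_, hP', hNP, isSylowIn_top_of_normalizer_le hP' hNP, ?_⟩
  intro hb
  have := hP'.2.2
  rw [hb, Subgroup.relIndex_bot_left] at this
  exact this hqM

/-- for `q ∈ σ(M)`, every Sylow `q`-subgroup of `M` has its normalizer in `M` and is a Sylow
subgroup of `G` -/
theorem sylow_of_mem_sigma {M : Subgroup G} {q : ℕ} [Fact q.Prime]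
    (hq : q ∈ Cfsg.sigma M) {Q : Subgroup G} (hQ : IsSylowIn q Q M) :
    Subgroup.normalizer (Q : Set G) ≤ M ∧ IsSylowIn q Q ⊤ := by
  obtain ⟨Q₀, hQ₀, hN₀, -, -⟩ := exists_sylow_of_mem_sigma hq
  obtain ⟨n, hnM, hn⟩ := hQ.exists_cj_eq hQ₀
  have hN : Subgroup.normalizer (Q : Set G) ≤ M := by
    rw [← hn, normalizer_cj]
    have := cj_mono (g := n) hN₀
    rwa [cj_eq_self_of_mem hnM] at this
  exact ⟨hN, isSylowIn_top_of_normalizer_le hQ hN⟩

/-- **(S), first part**: if `M` and `H` are non-conjugate maximal subgroups then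
`α(M) ∩ σ(H) = ∅`. -/
theorem not_mem_sigma_of_mem_alpha (hG : Cfsg.IsMinSimpleOddOrder G) (hU : UniquenessThm G)
    {M H : Subgroup G} (hM : IsCoatom M) (hH : IsCoatom H) (hnc : ∀ g : G, cj g M ≠ H)
    {q : ℕ} (hqα : q ∈ Cfsg.alpha M) : q ∉ Cfsg.sigma H := by
  intro hqσ
  haveI : Fact q.Prime := ⟨hqα.1⟩
  obtain ⟨Q, hQM, hNQ, hQtop, hQ1⟩ :=
    exists_sylow_of_mem_sigma (alpha_subset_sigma hG hU hM hqα)
  obtain ⟨Q', hQ'H, hNQ', hQ'top, hQ'1⟩ := exists_sylow_of_mem_sigma hqσ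
  have hrk : ¬ Cfsg.PRankLE q 2 ↥Q := fun h => hqα.2 (pRankLE_of_isSylowIn hQM h)
  obtain ⟨M', ⟨hM'c, hQM'⟩, huniq⟩ := uniq_of_uniquenessThm hG hU Q hQM.2.1 hrk
  obtain ⟨n, -, hn⟩ := hQtop.exists_cj_eq hQ'top
  have h1 : Q ≤ cj n H := by
    rw [← hn]; exact cj_mono hQ'H.1
  have e1 : cj n H = M' := huniq _ ⟨isCoatom_cj hH n, h1⟩
  have e2 : M = M' := huniq M ⟨hM, hQM.1⟩
  apply hnc n⁻¹
  rw [e2, ← e1, cj_inv_cj]

/-- **(S), second part**: if `M` and `H` are non-conjugate maximal subgroups and `M_σ` is nilpotent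
then `σ(M) ∩ σ(H) = ∅`. -/
theorem not_mem_sigma_of_mem_sigma (hG : Cfsg.IsMinSimpleOddOrder G) (hU : UniquenessThm G)
    {M H : Subgroup G} (hM : IsCoatom M) (hH : IsCoatom H) (hnc : ∀ g : G, cj g M ≠ H)
    (hnil : Group.IsNilpotent ↥(Cfsg.sigmaCore M))
    {q : ℕ} (hqM : q ∈ Cfsg.sigma M) : q ∉ Cfsg.sigma H := by
  intro hqσ
  haveI : Fact q.Prime := ⟨hqM.1⟩
  haveI : IsSimpleGroup G := hG.2.1
  obtain ⟨Q, hQM, hNQ, hQtop, hQ1⟩ := exists_sylow_of_mem_sigma hqM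
  obtain ⟨Q', hQ'H, hNQ', hQ'top, hQ'1⟩ := exists_sylow_of_mem_sigma hqσ
  obtain ⟨⟨hSM, hSpi, hSidx⟩, -, -⟩ := thm_10_2_sigma hG hU M hM
  -- `Q ≤ M_σ`
  have hQS : Q ≤ Cfsg.sigmaCore M := by
    have h1 : Q.subgroupOf M ≤ Cfsg.piCore (Cfsg.sigma M) ↥M := by
      apply le_of_index_coprime _ _ _ hQM.2.1.comap_subtype
      have h4 := (thm_10_2_core hG hU hM).2.2.2 q hqM.1 hqM
      exact (Nat.Coprime.symm ((Nat.Prime.coprime_iff_not_dvd hqM.1).2 h4))
    intro x hx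
    exact ⟨⟨x, hQM.1 hx⟩, h1 (Subgroup.mem_subgroupOf.2 hx), rfl⟩
  have hQSyl : IsSylowIn q Q (Cfsg.sigmaCore M) := by
    refine ⟨hQS, hQM.2.1, ?_⟩
    intro hd
    apply hQM.2.2
    rw [← Subgroup.relIndex_mul_relIndex Q _ M hQS hSM]
    exact Dvd.dvd.mul_right hd _
  have hMN : M ≤ Subgroup.normalizer (Q : Set G) :=
    (le_normalizer_sigmaCore M).trans (IsSylowIn.normalizer_le_of_isNilpotent hQSyl hnil)
  have hNM : Subgroup.normalizer (Q : Set G) = M := le_antisymm hNQ hMN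
  obtain ⟨n, -, hn⟩ := hQtop.exists_cj_eq hQ'top
  have h1 : M ≤ cj n H := by
    rw [← hNM, ← hn, normalizer_cj]
    exact cj_mono hNQ'
  have h2 : M = cj n H := by
    by_contra hne
    exact (isCoatom_cj hH n).1 (hM.2 _ (lt_of_le_of_ne h1 hne))
  apply hnc n⁻¹
  rw [h2, cj_inv_cj]

theorem inf_eq_bot_of_primes_disjoint {A B : Subgroup G} {π₁ π₂ : Set ℕ}
    (hA : ∀ q : ℕ, q.Prime → q ∣ Nat.card A → q ∈ π₁)
    (hB : ∀ q : ℕ, q.Prime → q ∣ Nat.card B → q ∈ π₂)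
    (hd : ∀ q ∈ π₁, q ∉ π₂) : A ⊓ B = ⊥ := by
  apply Subgroup.inf_eq_bot_of_coprime
  by_contra h
  obtain ⟨q, hq, h1, h2⟩ := Nat.Prime.not_coprime_iff_dvd.mp h
  exact hd q (hA q hq h1) (hB q hq h2)

theorem primes_sigmaCore (M : Subgroup G) :
    ∀ q : ℕ, q.Prime → q ∣ Nat.card (Cfsg.sigmaCore M) → q ∈ Cfsg.sigma M := by
  intro q hq hd
  unfold Cfsg.sigmaCore at hd
  rw [Subgroup.card_map_of_injective M.subtype_injective] at hd
  exact Cfsg.Agent.S1886.piCore_isPi _ q hq hd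

theorem primes_alphaCore (M : Subgroup G) :
    ∀ q : ℕ, q.Prime → q ∣ Nat.card (Cfsg.alphaCore M) → q ∈ Cfsg.alpha M := by
  intro q hq hd
  unfold Cfsg.alphaCore at hd
  rw [Subgroup.card_map_of_injective M.subtype_injective] at hd
  exact Cfsg.Agent.S1886.piCore_isPi _ q hq hd

/-- **(S)**: non-conjugate maximal subgroups `M`, `H` have `α(M) ∩ σ(H) = ∅`,
`M_α ∩ H_σ = 1`, and, if `M_σ` is nilpotent, `σ(M) ∩ σ(H) = ∅` and `M_σ ∩ H_σ = 1`. -/
theorem sigma_disjoint (hG : Cfsg.IsMinSimpleOddOrder G) (hU : UniquenessThm G)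
    {M H : Subgroup G} (hM : IsCoatom M) (hH : IsCoatom H) (hnc : ∀ g : G, cj g M ≠ H) :
    (∀ q ∈ Cfsg.alpha M, q ∉ Cfsg.sigma H) ∧ Cfsg.alphaCore M ⊓ Cfsg.sigmaCore H = ⊥ ∧
      (Group.IsNilpotent ↥(Cfsg.sigmaCore M) →
        (∀ q ∈ Cfsg.sigma M, q ∉ Cfsg.sigma H) ∧ Cfsg.sigmaCore M ⊓ Cfsg.sigmaCore H = ⊥) := by
  have h1 : ∀ q ∈ Cfsg.alpha M, q ∉ Cfsg.sigma H :=
    fun q hq => not_mem_sigma_of_mem_alpha hG hU hM hH hnc hq
  refine ⟨h1, inf_eq_bot_of_primes_disjoint (primes_alphaCore M) (primes_sigmaCore H) h1, ?_⟩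
  intro hnil
  have h2 : ∀ q ∈ Cfsg.sigma M, q ∉ Cfsg.sigma H :=
    fun q hq => not_mem_sigma_of_mem_sigma hG hU hM hH hnc hnil hq
  exact ⟨h2, inf_eq_bot_of_primes_disjoint (primes_sigmaCore M) (primes_sigmaCore H) h2⟩


/-! ### Lemma 12.2 -/

/-- **B-G Lemma 12.2(a)**: if `N_G(X) ≤ M` for a nontrivial `p`-subgroup `X` then `p ∈ σ(M)` or
`M` has `p`-rank exactly two. -/
theorem mem_sigma_or_rank_two (hG : Cfsg.IsMinSimpleOddOrder G) (hU : UniquenessThm G)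
    {M : Subgroup G} (hM : IsCoatom M) {p : ℕ} [Fact p.Prime] (X : Subgroup G)
    (hXp : IsPGroup p X) (hX1 : X ≠ ⊥) (hNX : Subgroup.normalizer (X : Set G) ≤ M) :
    p ∈ Cfsg.sigma M ∨ (Cfsg.PRankLE p 2 ↥M ∧ ¬ Cfsg.PRankLE p 1 ↥M) := by
  classical
  by_cases hp : p ∈ Cfsg.sigma M
  · exact Or.inl hp
  right
  have hpp : p.Prime := Fact.out
  have hXM : X ≤ M := Subgroup.le_normalizer.trans hNX
  have hpM : p ∣ Nat.card ↥M := by
    obtain ⟨k, hk⟩ := IsPGroup.iff_card.1 hXp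
    have hk0 : k ≠ 0 := by
      intro h0
      rw [h0, pow_zero] at hk
      exact hX1 (Subgroup.card_eq_one.1 hk)
    have h1 : p ∣ Nat.card X := by rw [hk]; exact dvd_pow_self p hk0
    exact h1.trans (Subgroup.card_dvd_of_le hXM)
  have hp2 : p ≠ 2 := by
    intro h2
    have hodd : Odd (Nat.card ↥M) := Odd.of_dvd_nat hG.1 (Subgroup.card_subgroup_dvd_card M)
    rw [h2] at hpM
    exact (Nat.not_even_iff_odd.2 hodd) (even_iff_two_dvd.2 hpM)
  have hr2 : Cfsg.PRankLE p 2 ↥M := by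
    by_contra hcon
    exact hp (alpha_subset_sigma hG hU hM ⟨hpp, hcon⟩)
  refine ⟨hr2, ?_⟩
  have hXp' : IsPGroup p (X.subgroupOf M) := hXp.comap_subtype
  obtain ⟨P, hXP⟩ := hXp'.exists_le_sylow
  have hP'M := isSylowIn_map_sylow P
  set P' : Subgroup G := (P : Subgroup ↥M).map M.subtype with hP'def
  have hXP' : X ≤ P' := by
    intro x hx
    exact ⟨⟨x, hXM hx⟩, hXP (Subgroup.mem_subgroupOf.2 hx), rfl⟩
  intro hcon
  have hcyc : IsCyclic ↥(P : Subgroup ↥M) :=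
    Cfsg.Agent.Helper50.sylow_isCyclic_of_pRankLE_one hp2 hcon P
  haveI hcyc' : IsCyclic ↥P' :=
    ((P : Subgroup ↥M).equivMapOfInjective M.subtype M.subtype_injective).isCyclic.1 hcyc
  apply hp
  refine ⟨hpp, hpM, P, ?_⟩
  intro g hg
  apply hNX
  apply mem_normalizer_of_cj_eq
  have hle : cj g X ≤ P' := by
    have := cj_mono (g := g) hXP'
    rwa [cj_eq_of_mem_normalizer hg] at this
  exact Cfsg.Agent.Helper67.eq_of_card_eq_of_le_cyclic P' _ _ hle hXP' (card_cj g X)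

/-- **B-G Lemma 12.2(b)**: if `p ∈ σ(M)`, `X ≤ M` is a nontrivial `p`-subgroup and
`N_G(X) ≤ M* ≠ M`, then `M*` is not conjugate to `M`. -/
theorem not_conj_of_normalizer_le (hG : Cfsg.IsMinSimpleOddOrder G) (hU : UniquenessThm G)
    {M Ms : Subgroup G} (hM : IsCoatom M) {p : ℕ} [Fact p.Prime] (hp : p ∈ Cfsg.sigma M)
    {X : Subgroup G} (hXp : IsPGroup p X) (hX1 : X ≠ ⊥) (hXM : X ≤ M)
    (hN : Subgroup.normalizer (X : Set G) ≤ Ms) (hne : Ms ≠ M) : ∀ g : G, cj g M ≠ Ms := by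
  intro g hg
  have hXMs : X ≤ Ms := Subgroup.le_normalizer.trans hN
  have h1 : cj g⁻¹ X ≤ M := by
    rw [cj_le_iff, inv_inv, hg]; exact hXMs
  obtain ⟨m, hm, c, hc, hgmc⟩ := (thm_10_1 hG hU M hM hp X hXp hX1 hXM).1 g⁻¹ h1
  have hcMs : c ∈ Ms := hN (Subgroup.centralizer_le_normalizer _ hc)
  have hg' : g = c⁻¹ * m⁻¹ := by
    have : g = (g⁻¹)⁻¹ := by simp
    rw [this, hgmc]; group
  have h2 : Ms = cj c⁻¹ M := by
    rw [← hg, hg', cj_mul, cj_eq_self_of_mem (M.inv_mem hm)]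
  apply hne
  have h3 : cj c Ms = M := by rw [h2, cj_cj_inv]
  rw [← h3, cj_eq_self_of_mem hcMs]

/-! ### Hypothesis 11.1: exceptional maximal subgroups -/

/-- **B-G Hypothesis 11.1**: `M` is a maximal subgroup, `p ∉ σ(M)`, `A ≤ M` is elementary abelian
of order `p ^ 2`, and `A₀ ≤ A` has order `p` and `N_G(A₀) ≤ M`. -/
structure Exc (p : ℕ) (M A A₀ : Subgroup G) : Prop where
  hM : IsCoatom M
  hp : p ∉ Cfsg.sigma M
  hAM : A ≤ M
  hA : Cfsg.IsElementaryAbelian p A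
  hA2 : Nat.card A = p ^ 2
  hA0 : A₀ ≤ A
  hA0c : Nat.card A₀ = p
  hN : Subgroup.normalizer (A₀ : Set G) ≤ M

namespace Exc

variable {p : ℕ} [Fact p.Prime] {M A A₀ : Subgroup G} (h : Exc p M A A₀)
include h

theorem isPGroup : IsPGroup p A := isPGroup_of_isElementaryAbelian h.hA

theorem isPGroup₀ : IsPGroup p A₀ := h.isPGroup.to_le h.hA0

theorem ne_bot : A ≠ ⊥ := by
  intro hb
  have hp : p.Prime := Fact.out
  have h2 := h.hA2
  rw [hb, Subgroup.card_bot] at h2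
  have : 1 < p ^ 2 := Nat.one_lt_pow (by norm_num) hp.one_lt
  omega

theorem ne_bot₀ : A₀ ≠ ⊥ := by
  intro hb
  have hp : p.Prime := Fact.out
  have h2 := h.hA0c
  rw [hb, Subgroup.card_bot] at h2
  exact hp.one_lt.ne h2

theorem comm : ∀ a ∈ A, ∀ b ∈ A, a * b = b * a :=
  (Cfsg.Agent.Helper23.isMulCommutative_subgroup_iff A).1 h.hA.1

theorem le_centralizer : A ≤ Subgroup.centralizer (A : Set G) := by
  intro a ha
  rw [Subgroup.mem_centralizer_iff]
  intro b hb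
  exact h.comm b hb a ha

/-- `C_G(A) ≤ N_G(A₀) ≤ M` -/
theorem centralizer_le : Subgroup.centralizer (A : Set G) ≤ M :=
  ((Subgroup.centralizer_le h.hA0).trans (Subgroup.centralizer_le_normalizer _)).trans h.hN

theorem centralizer₀_le : Subgroup.centralizer (A₀ : Set G) ≤ M :=
  (Subgroup.centralizer_le_normalizer _).trans h.hN

/-- `M` has `p`-rank exactly two (B-G Lemma 10.6) -/
theorem rank (hG : Cfsg.IsMinSimpleOddOrder G) (hU : UniquenessThm G) :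
    Cfsg.PRankLE p 2 ↥M ∧ ¬ Cfsg.PRankLE p 1 ↥M :=
  (thm_10_6 hG hU M h.hM p h.hp A₀ h.hA0c h.hN).1

/-- `A` is a maximal elementary abelian subgroup of `G` (B-G Lemma 10.5) -/
theorem maximal (hG : Cfsg.IsMinSimpleOddOrder G) (hU : UniquenessThm G)
    (B : Subgroup G) (hB : Cfsg.IsElementaryAbelian p B) (hAB : A ≤ B) : B = A :=
  maximal_of_rank_two hG hU h.hM (h.rank hG hU).1 A h.hAM h.hA h.hA2 B hB hAB

theorem p_dvd_card : p ∣ Nat.card G := by
  have h1 : p ∣ Nat.card A := by rw [h.hA2]; exact dvd_pow_self p (by norm_num)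
  exact h1.trans (Subgroup.card_subgroup_dvd_card A)

/-- the elements of order dividing `p` in `C_G(A)` are those of `A` -/
theorem mem_iff_of_mem_centralizer (hG : Cfsg.IsMinSimpleOddOrder G) (hU : UniquenessThm G)
    (x : G) (hx : x ∈ Subgroup.centralizer (A : Set G)) : x ^ p = 1 ↔ x ∈ A := by
  constructor
  · intro hxp
    have hcomm : ∀ a ∈ A, x * a = a * x := fun a ha =>
      (Subgroup.mem_centralizer_iff.mp hx a ha).symm
    have hE : Cfsg.IsElementaryAbelian p (A ⊔ Subgroup.zpowers x) := by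
      apply Cfsg.Agent.Helper23.isElementaryAbelian_sup_of_commute h.hA
      · refine ⟨(Cfsg.Agent.Helper23.isMulCommutative_subgroup_iff _).mpr ?_, ?_⟩
        · rintro _ ⟨i, rfl⟩ _ ⟨j, rfl⟩
          exact (Commute.zpow_zpow (Commute.refl x) i j).eq
        · rintro _ ⟨i, rfl⟩
          change (x ^ i) ^ p = 1
          rw [← zpow_natCast, ← zpow_mul, mul_comm, zpow_mul, zpow_natCast, hxp, one_zpow]
      · rintro a ha _ ⟨i, rfl⟩
        change a * x ^ i = x ^ i * a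
        exact ((Commute.zpow_right (show Commute a x from (hcomm a ha).symm) i)).eq
    have := h.maximal hG hU _ hE le_sup_left
    rw [← this]
    exact (le_sup_right : Subgroup.zpowers x ≤ _) (Subgroup.mem_zpowers x)
  · intro hxA
    exact h.hA.2 x hxA

/-- `A` satisfies the transitivity hypothesis (B-G Proposition 7.x, first alternative) -/
theorem transitivity (hG : Cfsg.IsMinSimpleOddOrder G) (hU : UniquenessThm G)
    (hPL : ∀ (r : ℕ) [Fact r.Prime] (H : Subgroup G), H ≠ ⊤ → Cfsg.PLengthLE r 1 ↥H) :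
    Cfsg.TransitivityHypothesis A :=
  Cfsg.Agent.S1396.result hG p h.p_dvd_card A h.isPGroup h.hA.1
    (Or.inl ⟨h.mem_iff_of_mem_centralizer hG hU, fun H hH => hPL p H hH⟩)

theorem not_dvd_of_mem_sigma {q : ℕ} (hq : q ∈ Cfsg.sigma M) : ¬ q ∣ Nat.card A := by
  intro hd
  have hp : p.Prime := Fact.out
  rw [h.hA2] at hd
  have : q = p := (Nat.prime_dvd_prime_iff_eq hq.1 hp).1 (hq.1.dvd_of_dvd_pow hd)
  rw [this] at hq
  exact h.hp hq

theorem coprime_sigmaCore : (Nat.card A).Coprime (Nat.card (Cfsg.sigmaCore M)) := by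
  by_contra hc
  obtain ⟨q, hq, h1, h2⟩ := Nat.Prime.not_coprime_iff_dvd.mp hc
  exact h.not_dvd_of_mem_sigma (primes_sigmaCore M q hq h2) h1

theorem le_normalizer_sigmaCore : A ≤ Subgroup.normalizer ((Cfsg.sigmaCore M : Subgroup G) : Set G) :=
  h.hAM.trans (BG11.le_normalizer_sigmaCore M)

end Exc


/-! ### `σ(M)` and `M_σ` in terms of relative Sylow subgroups, and under conjugation -/

theorem isSylowIn_of_card {q : ℕ} [Fact q.Prime] {Q K : Subgroup G} (hQK : Q ≤ K)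
    (hQ : IsPGroup q Q) (hc : Nat.card Q = q ^ (Nat.card K).factorization q) :
    IsSylowIn q Q K := by
  have hq : q.Prime := Fact.out
  refine ⟨hQK, hQ, ?_⟩
  have h1 := Cfsg.Agent.Helper31.relIndex_mul_card' hQK
  have h2 : Q.relIndex K = Nat.card K / q ^ (Nat.card K).factorization q := by
    rw [hc] at h1
    exact (Nat.div_eq_of_eq_mul_left (pow_pos hq.pos _) h1.symm).symm
  rw [h2]
  exact Nat.not_dvd_ordCompl hq Nat.card_pos.ne'

theorem IsSylowIn.exists_sylow {q : ℕ} [Fact q.Prime] {Q M : Subgroup G} (hQ : IsSylowIn q Q M) :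
    ∃ P : Sylow q ↥M, (P : Subgroup ↥M).map M.subtype = Q := by
  have hidx : ¬ q ∣ (Q.subgroupOf M).index := hQ.2.2
  have hQp : IsPGroup q ↥(Q.subgroupOf M) := hQ.2.1.comap_subtype
  refine ⟨hQp.toSylow hidx, ?_⟩
  rw [IsPGroup.toSylow_coe, Subgroup.subgroupOf_map_subtype, inf_eq_left.mpr hQ.1]

theorem mem_sigma_iff {M : Subgroup G} {q : ℕ} [Fact q.Prime] :
    q ∈ Cfsg.sigma M ↔ q ∣ Nat.card ↥M ∧
      ∃ Q : Subgroup G, IsSylowIn q Q M ∧ Subgroup.normalizer (Q : Set G) ≤ M := by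
  constructor
  · rintro ⟨-, hqM, P, hNP⟩
    exact ⟨hqM, _, isSylowIn_map_sylow P, hNP⟩
  · rintro ⟨hqM, Q, hQ, hNQ⟩
    obtain ⟨P, hP⟩ := IsSylowIn.exists_sylow hQ
    refine ⟨Fact.out, hqM, P, ?_⟩
    rw [hP]; exact hNQ

/-- for `p ∉ σ(M)` dividing `|M|`, no Sylow `p`-subgroup of `M` has its normalizer in `M` -/
theorem not_normalizer_le_of_not_mem_sigma {M : Subgroup G} {q : ℕ} [Fact q.Prime]
    (hq : q ∉ Cfsg.sigma M) (hqM : q ∣ Nat.card ↥M) {Q : Subgroup G} (hQ : IsSylowIn q Q M) :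
    ¬ Subgroup.normalizer (Q : Set G) ≤ M :=
  fun hN => hq (mem_sigma_iff.2 ⟨hqM, Q, hQ, hN⟩)

theorem sigma_cj (g : G) (M : Subgroup G) : Cfsg.sigma (cj g M) = Cfsg.sigma M := by
  have key : ∀ (g : G) (M : Subgroup G), Cfsg.sigma M ⊆ Cfsg.sigma (cj g M) := by
    intro g M q hq
    haveI : Fact q.Prime := ⟨hq.1⟩
    obtain ⟨hqM, Q, hQ, hNQ⟩ := mem_sigma_iff.1 hq
    refine mem_sigma_iff.2 ⟨by rw [card_cj]; exact hqM, cj g Q, hQ.cj g, ?_⟩
    rw [normalizer_cj]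
    exact cj_mono hNQ
  apply Set.Subset.antisymm
  · have := key g⁻¹ (cj g M)
    rwa [cj_inv_cj] at this
  · exact key g M

/-- a `q`-subgroup of `M`, `q ∈ σ(M)`, lies in `M_σ` -/
theorem le_sigmaCore_of_isPGroup (hG : Cfsg.IsMinSimpleOddOrder G) (hU : UniquenessThm G)
    {M : Subgroup G} (hM : IsCoatom M) {q : ℕ} [Fact q.Prime] (hq : q ∈ Cfsg.sigma M)
    {X : Subgroup G} (hX : IsPGroup q X) (hXM : X ≤ M) : X ≤ Cfsg.sigmaCore M := by
  have h1 : X.subgroupOf M ≤ Cfsg.piCore (Cfsg.sigma M) ↥M := by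
    apply le_of_index_coprime _ _ _ hX.comap_subtype
    have h4 := (thm_10_2_core hG hU hM).2.2.2 q hq.1 hq
    exact (Nat.Coprime.symm ((Nat.Prime.coprime_iff_not_dvd hq.1).2 h4))
  intro x hx
  exact ⟨⟨x, hXM hx⟩, h1 (Subgroup.mem_subgroupOf.2 hx), rfl⟩

theorem isSylowIn_sigmaCore_iff (hG : Cfsg.IsMinSimpleOddOrder G) (hU : UniquenessThm G)
    {M : Subgroup G} (hM : IsCoatom M) {q : ℕ} [Fact q.Prime] (hq : q ∈ Cfsg.sigma M)
    {Q : Subgroup G} : IsSylowIn q Q (Cfsg.sigmaCore M) ↔ IsSylowIn q Q M := by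
  obtain ⟨⟨hSM, hSpi, hSidx⟩, -, -⟩ := thm_10_2_sigma hG hU M hM
  constructor
  · intro hQ
    refine ⟨hQ.1.trans hSM, hQ.2.1, ?_⟩
    rw [← Subgroup.relIndex_mul_relIndex Q _ M hQ.1 hSM]
    intro hd
    rcases (Nat.Prime.dvd_mul hq.1).1 hd with h | h
    · exact hQ.2.2 h
    · exact hSidx q hq.1 hq h
  · intro hQ
    have hQS := le_sigmaCore_of_isPGroup hG hU hM hq hQ.2.1 hQ.1
    refine ⟨hQS, hQ.2.1, ?_⟩
    intro hd
    apply hQ.2.2
    rw [← Subgroup.relIndex_mul_relIndex Q _ M hQS hSM]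
    exact Dvd.dvd.mul_right hd _

theorem sigmaCore_cj (hG : Cfsg.IsMinSimpleOddOrder G) (hU : UniquenessThm G)
    {M : Subgroup G} (hM : IsCoatom M) (g : G) :
    Cfsg.sigmaCore (cj g M) = cj g (Cfsg.sigmaCore M) := by
  obtain ⟨⟨hSM, hSpi, hSidx⟩, -, -⟩ := thm_10_2_sigma hG hU M hM
  obtain ⟨-, -, huniq⟩ := thm_10_2_sigma hG hU (cj g M) (isCoatom_cj hM g)
  symm
  apply huniq
  · rw [normalizer_cj]
    exact cj_mono (le_normalizer_sigmaCore M)
  · refine ⟨cj_mono hSM, ?_, ?_⟩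
    · intro q hq hd
      rw [sigma_cj]
      rw [card_cj] at hd
      exact hSpi q hq hd
    · intro q hq hqσ
      rw [sigma_cj] at hqσ
      rw [relIndex_cj]
      exact hSidx q hq hqσ

theorem Exc.cj {p : ℕ} {M A A₀ : Subgroup G} (h : Exc p M A A₀) (g : G) :
    Exc p (cj g M) (cj g A) (cj g A₀) := by
  refine ⟨isCoatom_cj h.hM g, by rw [sigma_cj]; exact h.hp, cj_mono h.hAM, ?_, by
    rw [card_cj]; exact h.hA2, cj_mono h.hA0, by rw [card_cj]; exact h.hA0c, by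
    rw [normalizer_cj]; exact cj_mono h.hN⟩
  refine ⟨(Cfsg.Agent.Helper23.isMulCommutative_subgroup_iff _).2 ?_, ?_⟩
  · intro a ha b hb
    have hc := (Cfsg.Agent.Helper23.isMulCommutative_subgroup_iff A).1 h.hA.1 _ (mem_cj.1 ha) _
      (mem_cj.1 hb)
    calc a * b = g * ((g⁻¹ * a * g) * (g⁻¹ * b * g)) * g⁻¹ := by group
      _ = g * ((g⁻¹ * b * g) * (g⁻¹ * a * g)) * g⁻¹ := by rw [hc]
      _ = b * a := by group
  · intro a ha
    have := h.hA.2 _ (mem_cj.1 ha)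
    have e : a = g * (g⁻¹ * a * g) * g⁻¹ := by group
    rw [e, conj_pow, this]; group

end S

end Cfsg.Agent.Helper29.BG11
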