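import Mathlib
import Cfsg.Prelude.Def_OddOrderLocal
import Cfsg.Agent.S1452
import Cfsg.Agent.Helper23.NormalRank
import Cfsg.Agent.Helper21.PRank

set_option autoImplicit false
set_option linter.unusedSectionVars false
set_option linter.unusedVariables false

/-!
B-G Theorem 9.6 (the Uniqueness Theorem) as a consumer of 9.2, 9.3, 9.5 (helper29).
-/

namespace Cfsg.Agent.Helper29.BGUniq96

open Cfsg Cfsg.Agent.Helper21

variable {G : Type*} [Group G]

theorem inUniqueMaximal_of_le [Finite G] {E K : Subgroup G} (hE : Cfsg.InUniqueMaximal E)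
    (hEK : E ≤ K) (hK : K ≠ ⊤) : Cfsg.InUniqueMaximal K := by
  obtain ⟨M, ⟨hM, hEM⟩, huniq⟩ := hE
  obtain ⟨M', hM', hKM'⟩ := (eq_top_or_exists_le_coatom K).resolve_left hK
  have h1 : M' = M := huniq M' ⟨hM', hEK.trans hKM'⟩
  refine ⟨M', ⟨hM', hKM'⟩, ?_⟩
  rintro M'' ⟨hM'', hKM''⟩
  rw [h1]
  exact huniq M'' ⟨hM'', hEK.trans hKM''⟩

theorem exists_hasEA_of_not_rankLE {n : ℕ} (X : Subgroup G) (h : ¬ Cfsg.RankLE n X) :
    ∃ q : ℕ, q.Prime ∧ HasEA q n X := by
  unfold Cfsg.RankLE at h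
  push Not at h
  obtain ⟨q, hq, hqn⟩ := h
  exact ⟨q, hq, (not_prankLE_iff X).1 hqn⟩

theorem hasEA_map_subtype {q n : ℕ} {Q : Subgroup G} {A : Subgroup Q} (h : HasEA q n A) :
    HasEA q n (A.map Q.subtype) := by
  obtain ⟨E, hEA, hEc, hEe, hE⟩ := h
  refine ⟨E.map Q.subtype, Subgroup.map_mono hEA, ?_, ?_, ?_⟩
  · rintro _ ⟨a, ha, rfl⟩ _ ⟨b, hb, rfl⟩
    rw [← map_mul, ← map_mul, hEc a ha b hb]
  · rintro _ ⟨a, ha, rfl⟩
    rw [← map_pow, hEe a ha, map_one]
  · rw [Subgroup.card_map_of_injective Q.subtype_injective]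
    exact hE

/-- B-G Theorem 9.6 from 9.2, 9.3, 9.5. -/
theorem main [Finite G] (hodd : Odd (Nat.card G))
    (h92 : ∀ L K : Subgroup G, Cfsg.InUniqueMaximal L → K ≤ Subgroup.centralizer (L : Set G) →
      ¬ Cfsg.RankLE 1 K → Cfsg.InUniqueMaximal K)
    (h93 : ∀ (p : ℕ) [Fact p.Prime] (A B : Subgroup G), IsPGroup p A → IsMulCommutative A →
      ¬ Cfsg.PRankLE p 2 ↥A → Cfsg.InUniqueMaximal A → IsPGroup p B → ¬ IsCyclic B →
      ¬ Cfsg.PRankLE p 2 ↥(Subgroup.centralizer (B : Set G)) → Cfsg.InUniqueMaximal B)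
    (h95 : ∀ (p : ℕ) [Fact p.Prime] (P : Sylow p G) (A : Subgroup G),
      Cfsg.IsSCN (P : Subgroup G) A → ¬ Cfsg.PRankLE p 2 ↥A → Cfsg.InUniqueMaximal A)
    (K : Subgroup G) (hK : K ≠ ⊤) (hK2 : ¬ Cfsg.RankLE 1 K)
    (hK3 : ¬ Cfsg.RankLE 2 K ∨ ¬ Cfsg.RankLE 2 (Subgroup.centralizer (K : Set G))) :
    Cfsg.InUniqueMaximal K := by
  classical
  -- a rank 3 elementary abelian q-subgroup E inside K or C_G(K)
  obtain ⟨q, hq, E, hEX, hEc, hEe, hEcard⟩ :
      ∃ q : ℕ, q.Prime ∧ ∃ E : Subgroup G, (E ≤ K ∨ E ≤ Subgroup.centralizer (K : Set G)) ∧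
        (∀ a ∈ E, ∀ b ∈ E, a * b = b * a) ∧ (∀ a ∈ E, a ^ q = 1) ∧ q ^ 2 < Nat.card E := by
    rcases hK3 with h | h
    · obtain ⟨q, hq, E, hEX, h1, h2, h3⟩ := exists_hasEA_of_not_rankLE _ h
      exact ⟨q, hq, E, Or.inl hEX, h1, h2, h3⟩
    · obtain ⟨q, hq, E, hEX, h1, h2, h3⟩ := exists_hasEA_of_not_rankLE _ h
      exact ⟨q, hq, E, Or.inr hEX, h1, h2, h3⟩
  haveI : Fact q.Prime := ⟨hq⟩
  have hEp : IsPGroup q E := by
    intro g
    refine ⟨1, ?_⟩
    apply Subtype.ext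
    simpa using hEe g.1 g.2
  -- q is odd
  have hq2 : q ≠ 2 := by
    intro h2
    have hcard1 : 1 < Nat.card E := lt_of_le_of_lt (Nat.one_le_pow _ _ hq.pos) hEcard
    have hEne : Nontrivial E := Finite.one_lt_card_iff_nontrivial.1 hcard1
    obtain ⟨k, hk⟩ := hEp.exists_card_eq
    have hk0 : k ≠ 0 := by
      intro h0
      rw [h0, pow_zero] at hk
      omega
    have hdvd : q ∣ Nat.card E := by
      rw [hk]
      exact dvd_pow_self q hk0
    have hdvdG : q ∣ Nat.card G := hdvd.trans (Subgroup.card_subgroup_dvd_card E)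
    rw [h2] at hdvdG
    exact (Nat.not_even_iff_odd.2 hodd) (even_iff_two_dvd.2 hdvdG)
  -- Sylow q-subgroup containing E
  obtain ⟨Q, hEQ⟩ := hEp.exists_le_sylow
  have hQ3 : ¬ Cfsg.PRankLE q 2 ↥(Q : Subgroup G) :=
    (not_prankLE_iff (Q : Subgroup G)).2 ⟨E, hEQ, hEc, hEe, hEcard⟩
  obtain ⟨U, hUn, hUe, hU2⟩ :=
    Cfsg.Agent.Helper23.exists_normal_elementaryAbelian_sq_of_rank q Q.isPGroup' hQ3
  haveI := hUn
  obtain ⟨A, hUA, hAn, hAC, hA3⟩ := Cfsg.Agent.S1452.result q hq2 Q.isPGroup' hQ3 U hUe hU2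
  -- A' in SCN_3(Q)
  set A' : Subgroup G := A.map (Q : Subgroup G).subtype with hA'
  have hA'Q : A' ≤ (Q : Subgroup G) := by
    rintro _ ⟨a, -, rfl⟩
    exact a.2
  have hscn : Cfsg.IsSCN (Q : Subgroup G) A' := by
    refine ⟨hA'Q, ?_, ?_⟩
    · intro x hx
      rw [Subgroup.mem_normalizer_iff]
      intro y
      constructor
      · rintro ⟨a, ha, rfl⟩
        refine ⟨(⟨x, hx⟩ : (Q : Subgroup G)) * a * (⟨x, hx⟩ : (Q : Subgroup G))⁻¹, ?_, rfl⟩
        exact hAn.conj_mem a ha _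
      · rintro ⟨a, ha, hay⟩
        have hyQ : y ∈ (Q : Subgroup G) := by
          have h1 : x * y * x⁻¹ ∈ (Q : Subgroup G) := by
            rw [← hay]; exact a.2
          have h2 : y = x⁻¹ * (x * y * x⁻¹) * x := by group
          rw [h2]
          exact (Q : Subgroup G).mul_mem ((Q : Subgroup G).mul_mem ((Q : Subgroup G).inv_mem hx) h1) hx
        refine ⟨⟨y, hyQ⟩, ?_, rfl⟩
        have h3 : (⟨x, hx⟩ : (Q : Subgroup G))⁻¹ * a * (⟨x, hx⟩ : (Q : Subgroup G))⁻¹⁻¹ ∈ A :=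
          hAn.conj_mem a ha _
        have h4 : (⟨x, hx⟩ : (Q : Subgroup G))⁻¹ * a * (⟨x, hx⟩ : (Q : Subgroup G))⁻¹⁻¹
            = ⟨y, hyQ⟩ := by
          apply Subtype.ext
          simp only [Subgroup.coe_mul, Subgroup.coe_inv, inv_inv]
          have : (a : G) = x * y * x⁻¹ := hay
          rw [this]
          group
        rw [← h4]
        exact h3
    · apply le_antisymm
      · rintro x ⟨hxQ, hxC⟩
        have hmem : (⟨x, hxQ⟩ : (Q : Subgroup G)) ∈ Subgroup.centralizer (A : Set (Q : Subgroup G)) := by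
          rw [Subgroup.mem_centralizer_iff]
          intro a ha
          apply Subtype.ext
          simp only [Subgroup.coe_mul]
          exact hxC (a : G) ⟨a, ha, rfl⟩
        rw [hAC] at hmem
        exact ⟨⟨x, hxQ⟩, hmem, rfl⟩
      · rintro _ ⟨a, ha, rfl⟩
        refine Subgroup.mem_inf.mpr ⟨a.2, ?_⟩
        rw [Subgroup.mem_centralizer_iff]
        rintro _ ⟨b, hb, rfl⟩
        have hac : a ∈ Subgroup.centralizer (A : Set (Q : Subgroup G)) := by rw [hAC]; exact ha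
        have := (Subgroup.mem_centralizer_iff.1 hac) b hb
        exact congrArg Subtype.val this
  have hA'3 : ¬ Cfsg.PRankLE q 2 ↥A' :=
    (not_prankLE_iff A').2 (hasEA_map_subtype ((not_prankLE_iff A).1 hA3))
  have hA'U : Cfsg.InUniqueMaximal A' := h95 q Q A' hscn hA'3
  have hA'p : IsPGroup q A' := Q.isPGroup'.to_le hA'Q
  have hA'c : IsMulCommutative A' := by
    refine ⟨⟨?_⟩⟩
    rintro ⟨_, a, ha, rfl⟩ ⟨_, b, hb, rfl⟩
    apply Subtype.ext
    have hac : a ∈ Subgroup.centralizer (A : Set (Q : Subgroup G)) := by rw [hAC]; exact ha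
    have := (Subgroup.mem_centralizer_iff.1 hac) b hb
    exact (congrArg Subtype.val this).symm
  -- E is not cyclic
  have hEnc : ¬ IsCyclic E := by
    intro hcyc
    have hle : Nat.card E ≤ q := by
      have := Fintype.ofFinite E
      have h1 := IsCyclic.card_pow_eq_one_le (α := E) hq.pos
      have h2 : (Finset.univ.filter fun a : E => a ^ q = 1) = Finset.univ := by
        apply Finset.filter_true_of_mem
        intro a _
        apply Subtype.ext
        simpa using hEe a.1 a.2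
      rw [h2, Finset.card_univ, ← Nat.card_eq_fintype_card] at h1
      exact h1
    have : q ≤ q ^ 2 := by nlinarith [hq.pos]
    omega
  have hEcent : ¬ Cfsg.PRankLE q 2 ↥(Subgroup.centralizer (E : Set G)) := by
    refine (not_prankLE_iff _).2 ⟨E, ?_, hEc, hEe, hEcard⟩
    intro x hx
    rw [Subgroup.mem_centralizer_iff]
    intro y hy
    exact hEc y hy x hx
  have hEU : Cfsg.InUniqueMaximal E := h93 q A' E hA'p hA'c hA'3 hA'U hEp hEnc hEcent
  rcases hEX with hEK | hEK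
  · exact inUniqueMaximal_of_le hEU hEK hK
  · refine h92 E K hEU ?_ hK2
    intro x hx
    rw [Subgroup.mem_centralizer_iff]
    intro y hy
    exact ((Subgroup.mem_centralizer_iff.1 (hEK hy)) x hx).symm

end Cfsg.Agent.Helper29.BGUniq96
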