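import Cfsg.Agent.Helper54.BGUnique2
import Cfsg.Agent.Helper4.RankTwoSolv2
import Cfsg.Agent.Helper31.BenderMax
import Cfsg.Agent.Helper31.LocalCore
import Cfsg.Agent.Helper23.Basic
import Cfsg.Agent.S1457

set_option autoImplicit false
set_option linter.style.haveILetI false
set_option linter.unusedVariables false
set_option linter.unusedSectionVars false

/-!
# Bender–Glauberman, Theorem 9.5: the small Fitting rank case of the comparison step (helper29)

`case_b`: `G` minimal simple of odd order, `A` a normal self-centralizing subgroup of the Sylow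
`p`-subgroup `P`, `L` a maximal subgroup containing `P` and `N_G(A)` with `F(L)` of rank at most 2.
If `H` contains `C_G([A, N_G(A)])` and the normalizer of every `p`-subgroup `R` with `A ⊴ R`,
then `L ≤ H`.
-/

namespace Cfsg.Agent.Helper29.BG95

open Cfsg Cfsg.Agent.Helper54 Cfsg.Agent.Helper54.BGU
open scoped commutatorElement

variable {G : Type*} [Group G] [Finite G] {p : ℕ}

/-- The rank condition on `F(L)` seen inside the group `↥L`. -/
theorem rankLE_fittingSubgroup_of_fittingOf {L : Subgroup G} {k : ℕ}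
    (h : Cfsg.RankLE k ↥(Cfsg.fittingOf L)) : Cfsg.RankLE k ↥(Cfsg.fittingSubgroup ↥L) := by
  intro q hq
  have e : ↥(Cfsg.fittingSubgroup ↥L) ≃* ↥(Cfsg.fittingOf L) :=
    Subgroup.equivMapOfInjective _ L.subtype L.subtype_injective
  exact (Cfsg.Agent.Helper23.pRankLE_of_mulEquiv q k e).mpr (h q hq)

theorem case_b [hp : Fact p.Prime] (hG : Cfsg.IsMinSimpleOddOrder G) (P : Sylow p G)
    (A : Subgroup G) (hA : Cfsg.IsSCN (P : Subgroup G) A) (L H : Subgroup G) (hL : IsCoatom L)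
    (hPL : (P : Subgroup G) ≤ L) (hNL : Subgroup.normalizer (A : Set G) ≤ L)
    (hrk : Cfsg.RankLE 2 ↥(Cfsg.fittingOf L))
    (hZH : Subgroup.centralizer ((⁅A, Subgroup.normalizer (A : Set G)⁆ : Subgroup G) : Set G) ≤ H)
    (h1H : ∀ R : Subgroup G, IsPGroup p R → A ≤ R → R ≤ Subgroup.normalizer (A : Set G) →
      Subgroup.normalizer (R : Set G) ≤ H) : L ≤ H := by
  classical
  have hpp : p.Prime := hp.out
  obtain ⟨hAP, hPA, hPC⟩ := hA
  haveI hLs : Group.IsSolvable ↥L := hG.2.2.2 L hL.1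
  have hoddL : Odd (Nat.card ↥L) := Odd.of_dvd_nat hG.1 (Subgroup.card_subgroup_dvd_card L)
  have hAL : A ≤ L := hAP.trans hPL
  -- `L' ≤ F(L)`
  have hrk' := rankLE_fittingSubgroup_of_fittingOf hrk
  have hr' : ∀ q : ℕ, q.Prime → Cfsg.PRankLE q 2 ↥(Cfsg.pCore q ↥L) := by
    intro q hq
    haveI := Fact.mk hq
    exact Cfsg.Agent.Helper4.pRankLE_of_le (Cfsg.Agent.Lib.pCore_le_fittingSubgroup q) (hrk' q hq)
  have hLF : commutator ↥L ≤ Cfsg.fittingSubgroup ↥L :=
    Cfsg.Agent.Helper4.commutator_le_fittingSubgroup hoddL hr'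
  -- elements of `Z = [A, N_G(A)]` lie in `O_p(L)`
  set Z : Subgroup G := ⁅A, Subgroup.normalizer (A : Set G)⁆ with hZ
  have hZA : Z ≤ A := by
    rw [hZ, Subgroup.commutator_le]
    intro a ha n hn
    have h1 : n * a⁻¹ * n⁻¹ ∈ A := (Subgroup.mem_normalizer_iff.mp hn a⁻¹).mp (A.inv_mem ha)
    have h2 : ⁅a, n⁆ = a * (n * a⁻¹ * n⁻¹) := by
      rw [commutatorElement_def]; group
    rw [h2]
    exact A.mul_mem ha h1
  have hZL : Z ≤ L := hZA.trans hAL
  have hZcomm : ∀ z (hz : z ∈ Z), (⟨z, hZL hz⟩ : ↥L) ∈ commutator ↥L := by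
    intro z hz
    have h1 : Z ≤ (commutator ↥L).map L.subtype := by
      rw [hZ, Subgroup.commutator_le]
      intro a ha n hn
      refine ⟨⁅(⟨a, hAL ha⟩ : ↥L), (⟨n, hNL hn⟩ : ↥L)⁆, ?_, rfl⟩
      rw [commutator_def]
      exact Subgroup.commutator_mem_commutator (Subgroup.mem_top _) (Subgroup.mem_top _)
    obtain ⟨y, hy, hyz⟩ := h1 hz
    have : y = ⟨z, hZL hz⟩ := Subtype.ext hyz
    rwa [← this]
  have hPp : IsPGroup p (P : Subgroup G) := P.2
  have hZcore : ∀ z (hz : z ∈ Z), (⟨z, hZL hz⟩ : ↥L) ∈ Cfsg.pCore p ↥L := by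
    intro z hz
    apply Cfsg.Agent.Helper31.mem_pCore_of_mem_fittingSubgroup (hLF (hZcomm z hz))
    obtain ⟨k, hk⟩ := hPp ⟨z, hAP (hZA hz)⟩
    refine ⟨k, ?_⟩
    apply Subtype.ext
    have := congrArg Subtype.val hk
    simpa using this
  -- `O_{p'}(L) ≤ C_G(Z) ≤ H`
  haveI hcn : (Cfsg.pCore p ↥L).Normal := Cfsg.Agent.Helper71.pCore_normal p
  have hcent := Cfsg.Agent.Helper31.pPrimeCore_le_centralizer (p := p) (Cfsg.pCore p ↥L)
    (Cfsg.Agent.Lib.isPGroup_pCore p)
  have hXH : ∀ k : ↥L, k ∈ Cfsg.pPrimeCore p ↥L → (k : G) ∈ H := by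
    intro k hk
    apply hZH
    rw [Subgroup.mem_centralizer_iff]
    intro z hz
    have h1 := (Subgroup.mem_centralizer_iff.mp (hcent hk)) ⟨z, hZL hz⟩ (hZcore z hz)
    have := congrArg Subtype.val h1
    simpa using this
  -- Frattini
  have hPLs : IsSylIn p (P : Subgroup G) L := (isSylIn_top_of_sylow P).mono hPL le_top
  obtain ⟨S, hS⟩ := hPLs.exists_sylow
  haveI hUn : (pPrimePCore p ↥L).Normal := by unfold pPrimePCore; infer_instance
  set U := pPrimePCore p ↥L with hU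
  have hF := normalizer_inf_pPrimePCore_sup_eq_top S
  have hmemS : ∀ x : ↥L, x ∈ (S : Subgroup ↥L) ↔ (x : G) ∈ (P : Subgroup G) := by
    intro x
    rw [← hS]
    constructor
    · intro hx
      exact ⟨x, hx, rfl⟩
    · rintro ⟨y, hy, hyx⟩
      have : y = x := Subtype.ext hyx
      rwa [← this]
  have hAcomm : ∀ a ∈ A, ∀ b ∈ A, a * b = b * a := by
    intro a ha b hb
    have h1 : b ∈ (P : Subgroup G) ⊓ Subgroup.centralizer (A : Set G) := by rw [hPC]; exact hb
    exact ((Subgroup.mem_centralizer_iff.mp h1.2) a ha)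
  have hA'S : A.subgroupOf L ≤ (S : Subgroup ↥L) := by
    intro x hx
    rw [hmemS]
    exact hAP hx
  have hA'c : IsMulCommutative (A.subgroupOf L) := by
    refine ⟨⟨fun a b => ?_⟩⟩
    apply Subtype.ext
    apply Subtype.ext
    exact hAcomm _ a.2 _ b.2
  have hSA' : (S : Subgroup ↥L) ≤ Subgroup.normalizer ((A.subgroupOf L : Subgroup ↥L) : Set ↥L) := by
    intro s hs
    have h1 := hPA ((hmemS s).mp hs)
    rw [Subgroup.mem_normalizer_iff] at h1 ⊢
    intro y
    rw [Subgroup.mem_subgroupOf, Subgroup.mem_subgroupOf]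
    have := h1 (y : G)
    simpa using this
  have hA'U : A.subgroupOf L ≤ U :=
    Cfsg.Agent.S1457.result hoddL p S (A.subgroupOf L) hA'S hA'c hSA'
  set R : Subgroup G := ((S : Subgroup ↥L) ⊓ U).map L.subtype with hR
  have hRP : R ≤ (P : Subgroup G) := by
    rw [hR, ← hS]
    exact Subgroup.map_mono inf_le_left
  have hRp : IsPGroup p R := hPp.to_le hRP
  have hAR : A ≤ R := by
    intro a ha
    exact ⟨⟨a, hAL ha⟩, ⟨hA'S (show (⟨a, hAL ha⟩ : ↥L) ∈ A.subgroupOf L from ha),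
      hA'U (show (⟨a, hAL ha⟩ : ↥L) ∈ A.subgroupOf L from ha)⟩, rfl⟩
  have hNR := h1H R hRp hAR (hRP.trans hPA)
  intro x hx
  have h2 : (⟨x, hx⟩ : ↥L) ∈ Subgroup.normalizer ((((S : Subgroup ↥L) ⊓ U : Subgroup ↥L)) : Set ↥L) ⊔
      pPrimeCore p ↥L := by
    rw [hF]; exact Subgroup.mem_top _
  obtain ⟨n, hn, k, hk, hnk⟩ := Subgroup.mem_sup_of_normal_right.mp h2
  have hx' : x = (n : G) * (k : G) := by
    have := congrArg Subtype.val hnk
    simpa using this.symm
  rw [hx']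
  exact H.mul_mem (hNR (coe_mem_normalizer_map hn)) (hXH k hk)

end Cfsg.Agent.Helper29.BG95
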