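import Mathlib
import Cfsg.Prelude.Def_OddOrderLocal
import Cfsg.Prelude.Def_CaseTheorems
import Cfsg.Agent.Lib.Cores
import Cfsg.Agent.Lib.Nilpotent
import Cfsg.Agent.Helper24.Coprime
import Cfsg.Agent.Helper53.Conj
import Cfsg.Agent.S0044

/-!
# Generic lemmas for Bender's lemma on maximal local subgroups (helper29)

* `fittingOf` basics (`F(H)` as a subgroup of the ambient group);
* a nilpotent version of Thompson's `A × B` lemma;
* a three subgroups lemma relative to a normalized subgroup.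
-/

set_option autoImplicit false

namespace Cfsg.Agent.Helper29.Bender

open Cfsg

variable {G : Type*} [Group G]

/-! ### `fittingOf` -/

theorem fittingOf_le (H : Subgroup G) : fittingOf H ≤ H :=
  Subgroup.map_subtype_le _

theorem normalizer_le_normalizer_fittingOf (H : Subgroup G) :
    Subgroup.normalizer (H : Set G) ≤ Subgroup.normalizer ((fittingOf H : Subgroup G) : Set G) :=
  Cfsg.Agent.Helper53.char_map_normalizer_le H _ Cfsg.Agent.Lib.fittingSubgroup_characteristic

theorem le_normalizer_fittingOf (H : Subgroup G) :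
    H ≤ Subgroup.normalizer ((fittingOf H : Subgroup G) : Set G) :=
  Subgroup.le_normalizer.trans (normalizer_le_normalizer_fittingOf H)

theorem isNilpotent_fittingOf [Finite G] (H : Subgroup G) : Group.IsNilpotent ↥(fittingOf H) := by
  haveI : Group.IsNilpotent ↥(fittingSubgroup ↥H) := Cfsg.Agent.Lib.isNilpotent_fittingSubgroup
  exact Group.nilpotent_of_mulEquiv
    ((fittingSubgroup ↥H).equivMapOfInjective H.subtype H.subtype_injective)

theorem card_fittingOf (H : Subgroup G) :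
    Nat.card ↥(fittingOf H) = Nat.card ↥(fittingSubgroup ↥H) :=
  Subgroup.card_map_of_injective H.subtype_injective

/-- A nilpotent subgroup of `H` normalized by `H` lies in `F(H)`. -/
theorem le_fittingOf {N H : Subgroup G} (hNH : N ≤ H)
    (hn : H ≤ Subgroup.normalizer (N : Set G)) (hnil : Group.IsNilpotent ↥N) :
    N ≤ fittingOf H := by
  haveI : (N.subgroupOf H).Normal := Subgroup.normal_subgroupOf_of_le_normalizer hn
  haveI : Group.IsNilpotent ↥(N.subgroupOf H) :=
    Group.nilpotent_of_mulEquiv (Subgroup.subgroupOfEquivOfLe hNH).symm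
  have h1 : N.subgroupOf H ≤ fittingSubgroup ↥H :=
    Cfsg.Agent.Lib.le_fittingSubgroup inferInstance inferInstance
  have h2 : (N.subgroupOf H).map H.subtype ≤ fittingOf H := Subgroup.map_mono h1
  rwa [Subgroup.subgroupOf_map_subtype, inf_eq_left.mpr hNH] at h2

/-- `F(A) ≤ F(B)` for `A ⊴ B`. -/
theorem fittingOf_le_fittingOf [Finite G] {A B : Subgroup G} (hAB : A ≤ B)
    (hB : B ≤ Subgroup.normalizer (A : Set G)) : fittingOf A ≤ fittingOf B :=
  le_fittingOf ((fittingOf_le A).trans hAB) (hB.trans (normalizer_le_normalizer_fittingOf A))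
    (isNilpotent_fittingOf A)

/-- A solvable subgroup centralizing its own Fitting subgroup is contained in it. -/
theorem le_fittingOf_of_isSolvable [Finite G] {W : Subgroup G} (hW : Group.IsSolvable ↥W)
    (hc : W ≤ Subgroup.centralizer ((fittingOf W : Subgroup G) : Set G)) : W ≤ fittingOf W := by
  intro w hw
  have h1 : (⟨w, hw⟩ : ↥W) ∈ Subgroup.centralizer ((fittingSubgroup ↥W : Subgroup ↥W) : Set ↥W) := by
    rw [Subgroup.mem_centralizer_iff]
    intro y hy
    apply Subtype.ext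
    have hy' : (y : G) ∈ fittingOf W := ⟨y, hy, rfl⟩
    exact (Subgroup.mem_centralizer_iff.mp (hc hw)) (y : G) hy'
  have h2 := Cfsg.Agent.S0044.result (G := ↥W) h1
  exact ⟨⟨w, hw⟩, h2, rfl⟩

/-! ### A nilpotent `A × B` lemma -/

/-- Let `N` be a nilpotent subgroup, `M ≤ N` with `C_N(M) ≤ M`, and `a` an element normalizing `N`,
centralizing `M`, of order coprime to `|N|`.  Then `a` centralizes `N`. -/
theorem commute_of_nilpotent_axb [Finite G] {N M : Subgroup G} (hN : Group.IsNilpotent ↥N)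
    (hMN : M ≤ N) (hC : N ⊓ Subgroup.centralizer (M : Set G) ≤ M) {a : G}
    (haN : a ∈ Subgroup.normalizer (N : Set G)) (haM : ∀ m ∈ M, a * m = m * a)
    (hcop : (orderOf a).Coprime (Nat.card ↥N)) : ∀ x ∈ N, a * x = x * a := by
  classical
  set C : Subgroup G := N ⊓ Subgroup.centralizer ({a} : Set G) with hCdef
  have hCmem : ∀ x, x ∈ C ↔ x ∈ N ∧ a * x = x * a := by
    intro x
    rw [hCdef, Subgroup.mem_inf, Subgroup.mem_centralizer_iff]
    constructor
    · rintro ⟨h1, h2⟩; exact ⟨h1, h2 a rfl⟩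
    · rintro ⟨h1, h2⟩; exact ⟨h1, fun y hy => by rw [Set.mem_singleton_iff.mp hy]; exact h2⟩
  have hMC : M ≤ C := fun m hm => (hCmem m).mpr ⟨hMN hm, haM m hm⟩
  by_contra hcon
  push Not at hcon
  obtain ⟨x₀, hx₀N, hx₀⟩ := hcon
  have hlt : C.subgroupOf N < ⊤ := by
    rw [lt_top_iff_ne_top]
    intro htop
    have : (⟨x₀, hx₀N⟩ : ↥N) ∈ C.subgroupOf N := by rw [htop]; trivial
    rw [Subgroup.mem_subgroupOf] at this
    exact hx₀ ((hCmem x₀).mp this).2
  have hnc := Group.normalizerCondition_of_isNilpotent (G := ↥N) (C.subgroupOf N) hlt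
  obtain ⟨x, hxn, hxC⟩ := SetLike.exists_of_lt hnc
  have hxC' : (x : G) ∉ C := fun h => hxC (Subgroup.mem_subgroupOf.mpr h)
  apply hxC'
  rw [hCmem]
  refine ⟨x.2, ?_⟩
  -- conjugates of `C` by `x⁻¹` stay in `C`
  have hconj : ∀ m ∈ C, (x : G)⁻¹ * m * x ∈ C := by
    intro m hm
    have hmN : m ∈ N := ((hCmem m).mp hm).1
    have h1 : (⟨m, hmN⟩ : ↥N) ∈ C.subgroupOf N := Subgroup.mem_subgroupOf.mpr hm
    have h2 := (Subgroup.mem_normalizer_iff''.mp hxn ⟨m, hmN⟩).mp h1
    have h3 := Subgroup.mem_subgroupOf.mp h2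
    simpa using h3
  set c : G := a * x * a⁻¹ * (x : G)⁻¹ with hc
  have hcN : c ∈ N := by
    have h1 : a * x * a⁻¹ ∈ N := (Subgroup.mem_normalizer_iff.mp haN x).mp x.2
    exact N.mul_mem h1 (N.inv_mem x.2)
  have hcM : c ∈ Subgroup.centralizer (M : Set G) := by
    rw [Subgroup.mem_centralizer_iff]
    intro m hm
    have h1 := ((hCmem _).mp (hconj m (hMC hm))).2
    have h2 := haM m hm
    have h1' : a⁻¹ * ((x : G)⁻¹ * m * x) = ((x : G)⁻¹ * m * x) * a⁻¹ := by
      calc a⁻¹ * ((x : G)⁻¹ * m * x) = a⁻¹ * (((x : G)⁻¹ * m * x) * a) * a⁻¹ := by group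
        _ = a⁻¹ * (a * ((x : G)⁻¹ * m * x)) * a⁻¹ := by rw [h1]
        _ = ((x : G)⁻¹ * m * x) * a⁻¹ := by group
    calc m * c = m * a * x * a⁻¹ * (x : G)⁻¹ := by rw [hc]; group
      _ = a * m * x * a⁻¹ * (x : G)⁻¹ := by rw [h2]
      _ = a * x * (((x : G)⁻¹ * m * x) * a⁻¹) * (x : G)⁻¹ := by group
      _ = a * x * (a⁻¹ * ((x : G)⁻¹ * m * x)) * (x : G)⁻¹ := by rw [h1']
      _ = c * m := by rw [hc]; group
  have hcM' : c ∈ M := hC ⟨hcN, hcM⟩
  have hac : a * c = c * a := haM c hcM'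
  have hoc : orderOf c ∣ Nat.card ↥N := by
    have := orderOf_dvd_natCard (⟨c, hcN⟩ : ↥N)
    rwa [Subgroup.orderOf_mk] at this
  exact Cfsg.Agent.Helper24.commute_of_commute_commutator a x hac
    (Nat.Coprime.coprime_dvd_right hoc hcop)

/-! ### A relative three subgroups lemma -/

/-- Three subgroups lemma modulo a subgroup `N` normalized by all three subgroups. -/
theorem commutator_commutator_le_of_rotate {N A B C : Subgroup G}
    (hA : A ≤ Subgroup.normalizer (N : Set G)) (hB : B ≤ Subgroup.normalizer (N : Set G))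
    (hC : C ≤ Subgroup.normalizer (N : Set G))
    (h1 : ⁅⁅B, C⁆, A⁆ ≤ N) (h2 : ⁅⁅C, A⁆, B⁆ ≤ N) : ⁅⁅A, B⁆, C⁆ ≤ N := by
  set T : Subgroup G := Subgroup.normalizer (N : Set G) with hT
  haveI hNn : (N.subgroupOf T).Normal := Subgroup.normal_in_normalizer
  set f : ↥T →* ↥T ⧸ N.subgroupOf T := QuotientGroup.mk' (N.subgroupOf T) with hf
  have hker : f.ker = N.subgroupOf T := QuotientGroup.ker_mk' _
  have key : ∀ X Y Z : Subgroup G, X ≤ T → Y ≤ T → Z ≤ T →
      (⁅⁅(X.subgroupOf T).map f, (Y.subgroupOf T).map f⁆, (Z.subgroupOf T).map f⁆ = ⊥ ↔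
        ⁅⁅X, Y⁆, Z⁆ ≤ N) := by
    intro X Y Z hX hY hZ
    rw [← Subgroup.map_commutator, ← Subgroup.map_commutator, Subgroup.map_eq_bot_iff, hker]
    have e : (⁅⁅X.subgroupOf T, Y.subgroupOf T⁆, Z.subgroupOf T⁆).map T.subtype = ⁅⁅X, Y⁆, Z⁆ := by
      rw [Subgroup.map_commutator, Subgroup.map_commutator, Subgroup.subgroupOf_map_subtype,
        Subgroup.subgroupOf_map_subtype, Subgroup.subgroupOf_map_subtype,
        inf_eq_left.mpr hX, inf_eq_left.mpr hY, inf_eq_left.mpr hZ]
    rw [← e]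
    constructor
    · intro h
      rintro _ ⟨y, hy, rfl⟩
      exact Subgroup.mem_subgroupOf.mp (h hy)
    · intro h y hy
      exact Subgroup.mem_subgroupOf.mpr (h ⟨y, hy, rfl⟩)
  rw [← key A B C hA hB hC]
  apply Subgroup.commutator_commutator_eq_bot_of_rotate
  · rw [key B C A hB hC hA]; exact h1
  · rw [key C A B hC hA hB]; exact h2

end Cfsg.Agent.Helper29.Bender
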