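import Cfsg.Agent.Helper29.BG10C

set_option autoImplicit false
set_option linter.unusedSectionVars false
set_option linter.unusedVariables false
set_option linter.style.haveILetI false

/-!
# B-G §10, part D: Theorem 10.1 in a minimal simple group of odd order, given the Uniqueness
Theorem (helper29)
-/

namespace Cfsg.Agent.Helper29.BG10

open Cfsg

variable {G : Type*} [Group G] [Finite G] {p : ℕ} [Fact p.Prime]

/-- the Uniqueness Theorem (B-G 9.6), as a hypothesis -/
def UniquenessThm (G : Type*) [Group G] : Prop :=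
  ∀ K : Subgroup G, K ≠ ⊤ → ¬ Cfsg.RankLE 1 ↥K →
    (¬ Cfsg.RankLE 2 ↥K ∨ ¬ Cfsg.RankLE 2 ↥(Subgroup.centralizer (K : Set G))) →
    Cfsg.InUniqueMaximal K

theorem isPGroup_ne_top (hG : Cfsg.IsMinSimpleOddOrder G) {X : Subgroup G} (hX : IsPGroup p X) :
    X ≠ ⊤ := by
  intro htop
  haveI : IsSimpleGroup G := hG.2.1
  have hGp : IsPGroup p G := by
    intro g
    obtain ⟨k, hk⟩ := hX ⟨g, by rw [htop]; trivial⟩
    exact ⟨k, by simpa using congrArg Subtype.val hk⟩
  have hc : Subgroup.center G ≠ ⊥ := by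
    haveI : Nontrivial G := inferInstance
    have := hGp.center_nontrivial
    intro hb
    rw [hb] at this
    exact not_nontrivial _ this
  rcases (inferInstance : (Subgroup.center G).Normal).eq_bot_or_eq_top with h | h
  · exact hc h
  · apply hG.2.2.1
    refine ⟨⟨fun x y => ?_⟩⟩
    have hx : x ∈ Subgroup.center G := by rw [h]; trivial
    exact ((Subgroup.mem_center_iff.mp hx) y).symm

theorem pRankLE_one_le_two {X : Type*} [Group X] (h : Cfsg.PRankLE p 1 X) : Cfsg.PRankLE p 2 X := by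
  intro A hAc hAe
  have hp : p.Prime := Fact.out
  calc Nat.card A ≤ p ^ 1 := h A hAc hAe
    _ ≤ p ^ 2 := Nat.pow_le_pow_right hp.pos (by norm_num)

theorem uniq_of_uniquenessThm (hG : Cfsg.IsMinSimpleOddOrder G) (hU : UniquenessThm G)
    (R : Subgroup G) (hR : IsPGroup p R) (hrk : ¬ Cfsg.PRankLE p 2 ↥R) :
    Cfsg.InUniqueMaximal R := by
  have hp : p.Prime := Fact.out
  refine hU R (isPGroup_ne_top hG hR) ?_ (Or.inl ?_)
  · intro h
    exact hrk (pRankLE_one_le_two (h p hp))
  · intro h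
    exact hrk (h p hp)

theorem isSylowIn_map_sylow {M : Subgroup G} (P : Sylow p ↥M) :
    IsSylowIn p ((P : Subgroup ↥M).map M.subtype) M := by
  refine ⟨Subgroup.map_subtype_le _, P.isPGroup'.map _, ?_⟩
  rw [Subgroup.relIndex, Subgroup.subgroupOf,
    Subgroup.comap_map_eq_self_of_injective M.subtype_injective]
  exact P.not_dvd_index

/-- a `p`-subgroup `P'`, Sylow in `M`, whose normalizer lies in `M`, is Sylow in `G` -/
theorem isSylowIn_top_of_normalizer_le {M P' : Subgroup G} (hP' : IsSylowIn p P' M)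
    (hN : Subgroup.normalizer (P' : Set G) ≤ M) : IsSylowIn p P' ⊤ := by
  refine ⟨le_top, hP'.2.1, ?_⟩
  rw [Subgroup.relIndex_top_right]
  intro hdvd
  obtain ⟨n, hn'⟩ := IsPGroup.iff_card.mp hP'.2.1
  have hmod := Sylow.card_quotient_normalizer_modEq_card_quotient (p := p) (H := P') hn'
  have h3 : p ∣ P'.relIndex (Subgroup.normalizer (P' : Set G)) := by
    rw [Subgroup.index_eq_card] at hdvd
    have := hmod.trans (Nat.modEq_zero_iff_dvd.mpr hdvd)
    exact Nat.modEq_zero_iff_dvd.mp this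
  have h4 := Subgroup.relIndex_mul_relIndex P' _ M Subgroup.le_normalizer hN
  apply hP'.2.2
  rw [← h4]
  exact Dvd.dvd.mul_right h3 _

theorem sigmaCtx_of (hG : Cfsg.IsMinSimpleOddOrder G) (hU : UniquenessThm G) {M : Subgroup G}
    (hM : IsCoatom M) (hp : p ∈ Cfsg.sigma M) : SigmaCtx p M := by
  haveI : IsSimpleGroup G := hG.2.1
  obtain ⟨-, -, P, hNP⟩ := hp
  have hP' := isSylowIn_map_sylow P
  refine ⟨hG.1, hG.2.2.2, ?_, uniq_of_uniquenessThm hG hU, hM, ?_, ?_⟩
  · intro X hXp hX1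
    exact Cfsg.Agent.Helper31.bgt_normalizer_ne_top_of_simple hX1 (isPGroup_ne_top hG hXp)
  · intro S hS
    obtain ⟨n, hnM, hn⟩ := hS.exists_cj_eq hP'
    rw [← hn, normalizer_cj]
    have := cj_mono (g := n) hNP
    rwa [cj_eq_self_of_mem hnM] at this
  · exact ⟨_, isSylowIn_top_of_normalizer_le hP' hNP, hP'.1⟩

/-- **B-G Theorem 10.1**, given the Uniqueness Theorem. -/
theorem thm_10_1 (hG : Cfsg.IsMinSimpleOddOrder G) (hU : UniquenessThm G)
    (M : Subgroup G) (hM : IsCoatom M) (hp : p ∈ Cfsg.sigma M)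
    (X : Subgroup G) (hXp : IsPGroup p X) (hX1 : X ≠ ⊥) (hXM : X ≤ M) :
    (∀ g : G, X.map (MulAut.conj g).toMonoidHom ≤ M →
        ∃ m ∈ M, ∃ c ∈ Subgroup.centralizer (X : Set G), g = m * c) ∧
      Subgroup.normalizer (X : Set G) =
        (M ⊓ Subgroup.normalizer (X : Set G)) ⊔ Subgroup.centralizer (X : Set G) := by
  have hctx := sigmaCtx_of hG hU hM hp
  have hT := trans_main hctx X hXp hX1 hXM
  constructor
  · intro g hg
    have hg' : cj g X ≤ M := hg
    rw [cj_le_iff] at hg'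
    obtain ⟨c, hc, m, hm, hcm⟩ := hT g⁻¹ hg'
    refine ⟨m⁻¹, M.inv_mem hm, c⁻¹, Subgroup.inv_mem _ hc, ?_⟩
    have : g = (g⁻¹)⁻¹ := by simp
    rw [this, hcm]
    group
  · apply le_antisymm
    · intro n hn
      have hle : X ≤ cj n M := by
        rw [le_cj_iff]
        intro x hx
        have := (Subgroup.mem_normalizer_iff.1 (Subgroup.inv_mem _ hn) x).1 hx
        rw [inv_inv] at this
        exact hXM this
      obtain ⟨c, hc, m, hm, hcm⟩ := hT n hle
      have hmN : m ∈ Subgroup.normalizer (X : Set G) := by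
        have e : m = c⁻¹ * n := by rw [hcm]; group
        rw [e]
        exact Subgroup.mul_mem _
          (Subgroup.inv_mem _ (Subgroup.centralizer_le_normalizer _ hc)) hn
      rw [hcm, sup_comm]
      exact Subgroup.mul_mem_sup hc (Subgroup.mem_inf.mpr ⟨hm, hmN⟩)
    · exact sup_le inf_le_right (Subgroup.centralizer_le_normalizer _)

end Cfsg.Agent.Helper29.BG10
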