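import Cfsg.Agent.Helper29.BG10G
import Cfsg.Agent.Helper63.PSeriesTools
import Cfsg.Agent.Helper54.PLength
import Cfsg.Agent.Helper71.ShultHall
import Cfsg.Agent.S1407
import Cfsg.Agent.S1450
import Cfsg.Agent.S1459

set_option autoImplicit false
set_option linter.unusedSectionVars false
set_option linter.unusedVariables false
set_option linter.style.haveILetI false

/-!
# B-G §10, part H: Theorem 10.6 (every proper subgroup has `p`-length one), given the Uniqueness
Theorem and B-G Theorem 3.6 (helper29)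
-/

universe u

namespace Cfsg.Agent.Helper29.BG10

open Cfsg Cfsg.Agent.Helper21
open scoped commutatorElement

/-- `p`-length at most one from `p ∤ |G : O_{p',p}(G)|`. -/
theorem pLengthLE_one_of_index_coprime {Γ : Type*} [Group Γ] [Finite Γ] {p : ℕ} [hp : Fact p.Prime]
    (h : (Cfsg.pPrimePCore p Γ).index.Coprime p) : Cfsg.PLengthLE p 1 Γ := by
  unfold Cfsg.PLengthLE
  rw [eq_top_iff]
  show (⊤ : Subgroup Γ) ≤ (upperPSeries p Γ (2 + 1)).1
  apply Cfsg.Agent.Helper63.le_upperPSeries_succ_of_pow_mem 2 ⊤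
  intro t _
  haveI hUn : (pPrimePCore p Γ).Normal := by unfold pPrimePCore; infer_instance
  refine ⟨(pPrimePCore p Γ).index, ⟨fun _ => h, fun h2 => absurd (by decide) h2⟩, ?_⟩
  rw [Cfsg.Agent.Helper54.upperPSeries_two]
  exact Subgroup.pow_index_mem _ t

/-- a `p'`-group has `p`-length zero. -/
theorem pLengthLE_zero_of_card_coprime {Γ : Type*} [Group Γ] [Finite Γ] {p : ℕ} [hp : Fact p.Prime]
    (h : (Nat.card Γ).Coprime p) : Cfsg.PLengthLE p 0 Γ := by
  unfold Cfsg.PLengthLE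
  rw [eq_top_iff]
  show (⊤ : Subgroup Γ) ≤ (upperPSeries p Γ (0 + 1)).1
  apply Cfsg.Agent.Helper63.le_upperPSeries_succ_of_pow_mem 0 ⊤
  intro t _
  refine ⟨Nat.card Γ, ⟨fun _ => h, fun h2 => absurd (by decide) h2⟩, ?_⟩
  rw [pow_card_eq_one']
  exact Subgroup.one_mem _

/-- The statement of B-G Theorem 3.6 (S1444) for groups in the universe `u`. -/
def Thm36 : Prop :=
  ∀ (Γ : Type u) [Group Γ] [Finite Γ] [Group.IsSolvable Γ], Odd (Nat.card Γ) →
    ∀ (H R R₀ : Subgroup Γ) [H.Normal], (Nat.card H).Coprime H.index →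
      Subgroup.IsComplement' H R → R₀ ≤ R → (Nat.card R₀).Prime →
      IsZGroup ↥(H ⊓ Subgroup.centralizer (R₀ : Set Γ)) →
      ∀ (p : ℕ) [Fact p.Prime], Cfsg.PLengthLE p 1 ↥⁅H, R⁆

variable {G : Type u} [Group G] [Finite G]

/-- **B-G Theorem 10.6** for a maximal subgroup. -/
theorem pLength_coatom (hG : Cfsg.IsMinSimpleOddOrder G) (hU : UniquenessThm G) (h36 : Thm36.{u})
    {M : Subgroup G} (hM : IsCoatom M) (p : ℕ) [hp : Fact p.Prime] : Cfsg.PLengthLE p 1 ↥M := by
  classical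
  haveI : Group.IsSolvable ↥M := hG.2.2.2 M hM.1
  have hodd : Odd (Nat.card ↥M) := Odd.of_dvd_nat hG.1 (Subgroup.card_subgroup_dvd_card M)
  by_cases hpM : p ∣ Nat.card ↥M
  swap
  · apply pLengthLE_one_of_index_coprime
    exact Nat.Coprime.coprime_dvd_left (Subgroup.index_dvd_card _)
      (Nat.coprime_comm.1 ((Nat.Prime.coprime_iff_not_dvd hp.out).2 hpM))
  by_cases hrk : Cfsg.PRankLE p 2 ↥M
  · exact pLengthLE_one_of_index_coprime (Cfsg.Agent.S1450.result hodd p hpM hrk).2.2.2.2.2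
  -- `p ∈ α(M)`
  have hpα : p ∈ Cfsg.alpha M := ⟨hp.out, hrk⟩
  obtain ⟨h1, h2, h3, h4⟩ := thm_10_2_core hG hU hM
  set A : Subgroup ↥M := Cfsg.piCore (Cfsg.alpha M) ↥M with hA
  have hAprimes : ∀ q : ℕ, q.Prime → q ∣ Nat.card A → q ∈ Cfsg.alpha M :=
    fun q hq hd => Cfsg.Agent.S1886.piCore_isPi _ q hq hd
  have hHall : (Nat.card A).Coprime A.index := by
    by_contra hc
    obtain ⟨q, hq, hq1, hq2⟩ := Nat.Prime.not_coprime_iff_dvd.1 hc
    exact h1 q hq (hAprimes q hq hq1) hq2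
  -- `M_α ≤ M'`
  have hAcomm : A ≤ commutator ↥M := by
    have h5 := Cfsg.Agent.Helper71.Shult.eq_of_contains_sylows (X := ↥M)
      (D := A ⊓ commutator ↥M) (K := A) inf_le_left ?_
    · rw [← h5]; exact inf_le_right
    intro q hq
    haveI := Fact.mk hq
    obtain ⟨Q⟩ : Nonempty (Sylow q ↥A) := inferInstance
    refine ⟨Q, ?_⟩
    rcases Q.2.card_eq_or_dvd with h | h
    · have : (Q : Subgroup ↥A) = ⊥ := Subgroup.card_eq_one.1 h
      rw [this, Subgroup.map_bot]; exact bot_le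
    · have hqA : q ∣ Nat.card A := h.trans (Subgroup.card_subgroup_dvd_card _)
      have hqα := hAprimes q hq hqA
      obtain ⟨S, hS⟩ := (Q.2.map A.subtype).exists_le_sylow
      exact le_inf (Subgroup.map_subtype_le _)
        (hS.trans (sylow_le_commutator hG hU hM (alpha_subset_sigma hG hU hM hqα) S))
  -- a prime `r ∉ σ(M)` dividing `|M|`
  haveI : Nontrivial ↥M := by
    rw [← Finite.one_lt_card_iff_nontrivial]
    exact lt_of_lt_of_le hp.out.one_lt (Nat.le_of_dvd Nat.card_pos hpM)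
  have hcomm_ne : commutator ↥M ≠ ⊤ := (IsSolvable.commutator_lt_top_of_nontrivial ↥M).ne
  have hidx1 : (commutator ↥M).index ≠ 1 := fun h => hcomm_ne (Subgroup.index_eq_one.1 h)
  obtain ⟨r, hr, hrd⟩ := Nat.exists_prime_and_dvd hidx1
  haveI := Fact.mk hr
  have hrσ : r ∉ Cfsg.sigma M := by
    intro hrσ
    obtain ⟨S⟩ : Nonempty (Sylow r ↥M) := inferInstance
    have hS := sylow_le_commutator hG hU hM hrσ S
    exact S.not_dvd_index (hrd.trans (Subgroup.index_dvd_of_le hS))
  have hrM : r ∣ Nat.card ↥M := hrd.trans (Subgroup.index_dvd_card _)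
  have hrA : ¬ r ∣ Nat.card A := fun hd => hrσ (alpha_subset_sigma hG hU hM (hAprimes r hr hd))
  -- `M_α ≠ 1`
  have hpA : p ∣ Nat.card A := by
    have h6 : Nat.card A * A.index = Nat.card ↥M := Subgroup.card_mul_index A
    rw [← h6] at hpM
    rcases (Nat.Prime.dvd_mul hp.out).1 hpM with h | h
    · exact h
    · exact absurd h (h1 p hp.out hpα)
  have hMα : Cfsg.alphaCore M ≠ ⊥ := by
    intro h0
    unfold Cfsg.alphaCore at h0
    rw [(Subgroup.map_eq_bot_iff_of_injective _ M.subtype_injective)] at h0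
    rw [hA, h0, Subgroup.card_bot] at hpA
    exact hp.out.one_lt.ne' (Nat.dvd_one.1 hpA)
  obtain ⟨S⟩ : Nonempty (Sylow r ↥M) := inferInstance
  obtain ⟨x, hxmem, hxord, hxZ, -⟩ := Cfsg.Agent.S1407.result hG M hM hMα r hrM hrσ S
  have hxM : x ∈ M := by
    obtain ⟨y, -, rfl⟩ := hxmem
    exact y.2
  set x' : ↥M := ⟨x, hxM⟩ with hx'
  have hx'ord : orderOf x' = r := by
    rw [← hxord, ← Subgroup.orderOf_coe]
  -- a complement `K` of `M_α`
  obtain ⟨K, hK⟩ := Subgroup.exists_right_complement'_of_coprime hHall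
  have hcardK : Nat.card A * Nat.card K = Nat.card ↥M := hK.card_mul
  -- a Sylow `r`-subgroup of `K` is a Sylow `r`-subgroup of `M`
  obtain ⟨T⟩ : Nonempty (Sylow r ↥K) := inferInstance
  set T' : Subgroup ↥M := (T : Subgroup ↥K).map K.subtype with hT'
  have hT'p : IsPGroup r T' := T.2.map _
  have hT'idx : ¬ r ∣ T'.index := by
    have e1 : T'.index = (T : Subgroup ↥K).index * K.index := by
      rw [hT', Subgroup.index_map_subtype]
    have e2 : K.index = Nat.card A := by
      have h7 : Nat.card K * K.index = Nat.card ↥M := Subgroup.card_mul_index K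
      have hKpos : 0 < Nat.card K := Nat.card_pos
      have : Nat.card K * K.index = Nat.card K * Nat.card A := by rw [h7, ← hcardK, mul_comm]
      exact Nat.eq_of_mul_eq_mul_left hKpos this
    rw [e1, e2]
    intro hd
    rcases (Nat.Prime.dvd_mul hr).1 hd with h | h
    · exact T.not_dvd_index h
    · exact hrA h
  let ST : Sylow r ↥M := hT'p.toSylow hT'idx
  have hSTcoe : (ST : Subgroup ↥M) = T' := IsPGroup.toSylow_coe _ _
  have hXp : IsPGroup r (Subgroup.zpowers x') := by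
    rw [IsPGroup.iff_card]
    exact ⟨1, by rw [Nat.card_zpowers, hx'ord, pow_one]⟩
  obtain ⟨S₁, hS₁⟩ := hXp.exists_le_sylow
  obtain ⟨g, hg⟩ := MulAction.exists_smul_eq ↥M S₁ ST
  have hgx : g * x' * g⁻¹ ∈ K := by
    have h8 : g * x' * g⁻¹ ∈ (ST : Subgroup ↥M) := by
      rw [← hg, Sylow.coe_subgroup_smul]
      have := Subgroup.smul_mem_pointwise_smul x' (MulAut.conj g) (S₁ : Subgroup ↥M)
        (hS₁ (Subgroup.mem_zpowers x'))
      simpa [MulAut.smul_def] using this
    rw [hSTcoe] at h8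
    obtain ⟨k, -, hk⟩ := h8
    rw [← hk]
    exact k.2
  set y : ↥M := g * x' * g⁻¹ with hy
  have hyord : orderOf y = r := by
    rw [← hx'ord, hy, ← MulAut.conj_apply]
    exact (MulAut.conj g).orderOf_eq x'
  set R₀ : Subgroup ↥M := Subgroup.zpowers y with hR₀
  have hR₀K : R₀ ≤ K := by
    rw [hR₀, Subgroup.zpowers_le]; exact hgx
  have hR₀card : (Nat.card R₀).Prime := by
    rw [hR₀, Nat.card_zpowers, hyord]; exact hr
  -- the Z-group hypothesis
  have hZ : IsZGroup ↥(A ⊓ Subgroup.centralizer ((R₀ : Subgroup ↥M) : Set ↥M)) := by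
    haveI := hxZ
    let f₀ : ↥M →* G := M.subtype.comp (MulAut.conj g⁻¹).toMonoidHom
    have hf₀val : ∀ z : ↥M, f₀ z = ((g⁻¹ * z * g : ↥M) : G) := by
      intro z
      simp [f₀]
    have hf₀ : ∀ z ∈ A ⊓ Subgroup.centralizer ((R₀ : Subgroup ↥M) : Set ↥M),
        f₀ z ∈ Cfsg.alphaCore M ⊓ Subgroup.centralizer ({x} : Set G) := by
      intro z hz
      refine ⟨?_, ?_⟩
      · refine ⟨g⁻¹ * z * g, ?_, (hf₀val z).symm⟩
        have := (inferInstance : A.Normal).conj_mem z hz.1 g⁻¹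
        simpa using this
      · show f₀ z ∈ Subgroup.centralizer ({x} : Set G)
        rw [Subgroup.mem_centralizer_iff]
        intro w hw
        rw [Set.mem_singleton_iff] at hw
        subst hw
        have hzy : y * z = z * y :=
          (Subgroup.mem_centralizer_iff.1 hz.2) y (Subgroup.mem_zpowers y)
        have h9 : x' * (g⁻¹ * z * g) = (g⁻¹ * z * g) * x' := by
          calc x' * (g⁻¹ * z * g) = g⁻¹ * (g * x' * g⁻¹ * z) * g := by group
            _ = g⁻¹ * (z * (g * x' * g⁻¹)) * g := by rw [← hy, hzy]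
            _ = g⁻¹ * z * g * x' := by group
        have h10 := congrArg Subtype.val h9
        rw [hf₀val]
        simpa using h10
    let f : ↥(A ⊓ Subgroup.centralizer ((R₀ : Subgroup ↥M) : Set ↥M)) →*
        ↥(Cfsg.alphaCore M ⊓ Subgroup.centralizer ({x} : Set G)) :=
      (f₀.comp (Subgroup.subtype _)).codRestrict _ (fun z => hf₀ z z.2)
    refine IsZGroup.of_injective (f := f) ?_
    intro a b hab
    have h11 : ((f a : ↥(Cfsg.alphaCore M ⊓ Subgroup.centralizer ({x} : Set G))) : G) = (f b : G) :=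
      congrArg Subtype.val hab
    change f₀ a = f₀ b at h11
    apply Subtype.ext
    apply (MulAut.conj g⁻¹).injective
    apply M.subtype_injective
    exact h11
  have hpl := h36 ↥M hodd A K R₀ hHall hK hR₀K hR₀card hZ p
  have hAK := ((Cfsg.Agent.S1459.result (G := ↥M)).1 A K inferInstance hHall hK hAcomm).1
  rw [← hAK] at hpl
  have hq : Cfsg.PLengthLE p 0 (↥M ⧸ A) := by
    apply pLengthLE_zero_of_card_coprime
    rw [← Subgroup.index_eq_card]
    exact Nat.coprime_comm.1 ((Nat.Prime.coprime_iff_not_dvd hp.out).2 (h1 p hp.out hpα))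
  exact Cfsg.Agent.Helper63.pLengthLE_add_of_normal A hpl hq

/-- **B-G Theorem 10.6**: every proper subgroup has `p`-length one (given the Uniqueness Theorem and
B-G Theorem 3.6). -/
theorem thm_pLength_one (hG : Cfsg.IsMinSimpleOddOrder G) (hU : UniquenessThm G)
    (h36 : Thm36.{u}) (p : ℕ) [hp : Fact p.Prime] (H : Subgroup G) (hH : H ≠ ⊤) :
    Cfsg.PLengthLE p 1 ↥H := by
  obtain ⟨M, hM, hHM⟩ := (eq_top_or_exists_le_coatom H).resolve_left hH
  have h1 := pLength_coatom hG hU h36 hM p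
  have h2 := Cfsg.Agent.Helper63.pLengthLE_subgroup (H.subgroupOf M) h1
  exact Cfsg.Agent.Helper63.pLengthLE_of_surjective (Subgroup.subgroupOfEquivOfLe hHM).toMonoidHom
    (Subgroup.subgroupOfEquivOfLe hHM).surjective h2

end Cfsg.Agent.Helper29.BG10
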