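import Cfsg.Agent.Helper29.BG11C
import Cfsg.Agent.Helper57.BG1010
import Cfsg.Agent.S1394
import Cfsg.Agent.S0126

set_option autoImplicit false
set_option linter.unusedSectionVars false
set_option linter.unusedVariables false
set_option linter.style.haveILetI false

/-!
# B-G §11, part D: Lemma (L1) (`C_{M_σ}(W) = 1` for `W ≅ E_{r²}`, `r ∉ σ(M)`, `C_G(W) ≤ M`), Lemma 11.6
without the abelian hypothesis, and cyclicity of the normal `r`-subgroups of `M` for `r ∉ σ(M)`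
(helper29)
-/

namespace Cfsg.Agent.Helper29.BG11

open Cfsg Cfsg.Agent.Helper29.BG10 Cfsg.Agent.Helper21

variable {G : Type*} [Group G] [Finite G]

/-- two Sylow `q`-subgroups, `q ∈ σ(M)`, of `M` and of `M^g`, `g ∉ M`, are not conjugate under `M` -/
theorem sylow_conj_false (hG : Cfsg.IsMinSimpleOddOrder G) (hU : UniquenessThm G)
    {M : Subgroup G} (hM : IsCoatom M) {g : G} (hg : g ∉ M) {q : ℕ} [Fact q.Prime]
    (hq : q ∈ Cfsg.sigma M) {Q₁ Q₂ : Subgroup G} (h₁ : IsSylowIn q Q₁ M)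
    (h₂ : IsSylowIn q Q₂ (cj g M)) {k : G} (hkM : k ∈ M) (hkQ : Q₂ = cj k Q₁) : False := by
  obtain ⟨hN₁, hT₁⟩ := sylow_of_mem_sigma hq h₁
  have h₂' : IsSylowIn q (cj g⁻¹ Q₂) M := by
    have := h₂.cj g⁻¹
    rwa [cj_inv_cj] at this
  have hQ₁1 : Q₁ ≠ ⊥ := by
    intro hb
    have := h₁.2.2
    rw [hb, Subgroup.relIndex_bot_left] at this
    exact this hq.2.1
  have hQ₂M : Q₂ ≤ M := by
    rw [hkQ, ← cj_eq_self_of_mem hkM]
    exact cj_mono h₁.1
  have hQ₂1 : Q₂ ≠ ⊥ := by rw [hkQ]; exact cj_ne_bot hQ₁1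
  have hN₂ : Subgroup.normalizer (Q₂ : Set G) ≤ M := by
    rw [hkQ, normalizer_cj, ← cj_eq_self_of_mem hkM]
    exact cj_mono hN₁
  have h3 : cj g⁻¹ Q₂ ≤ M := h₂'.1
  obtain ⟨m, hm, c, hc, hgmc⟩ := (thm_10_1 hG hU M hM hq Q₂ h₂.2.1 hQ₂1 hQ₂M).1 g⁻¹ h3
  have hcM : c ∈ M := hN₂ (Subgroup.centralizer_le_normalizer _ hc)
  apply hg
  have : g = (g⁻¹)⁻¹ := by simp
  rw [this, hgmc]
  exact M.inv_mem (M.mul_mem hm hcM)

/-- a Sylow `q`-subgroup of `M^g`, `q ∈ σ(M)`, is a Sylow subgroup of `G` -/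
theorem isSylowIn_top_of_cj {M : Subgroup G} {g : G} {q : ℕ} [Fact q.Prime]
    (hq : q ∈ Cfsg.sigma M) {Q₂ : Subgroup G} (h₂ : IsSylowIn q Q₂ (cj g M)) :
    IsSylowIn q Q₂ ⊤ := by
  have h₂' : IsSylowIn q (cj g⁻¹ Q₂) M := by
    have := h₂.cj g⁻¹
    rwa [cj_inv_cj] at this
  have := (sylow_of_mem_sigma hq h₂').2.cj g
  rwa [cj_cj_inv, cj_top] at this

/-- **(L1)**: if `r ∉ σ(M)`, `W ≤ M` is elementary abelian of order `r ^ 2` and `C_G(W) ≤ M`, then
`C_{M_σ}(W) = 1`. -/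
theorem lemma_L1 (hG : Cfsg.IsMinSimpleOddOrder G) (hU : UniquenessThm G)
    (hPL : ∀ (r : ℕ) [Fact r.Prime] (H : Subgroup G), H ≠ ⊤ → Cfsg.PLengthLE r 1 ↥H)
    {M W : Subgroup G} (hM : IsCoatom M) {r : ℕ} [Fact r.Prime] (hr : r ∉ Cfsg.sigma M)
    (hWM : W ≤ M) (hW : Cfsg.IsElementaryAbelian r W) (hW2 : Nat.card W = r ^ 2)
    (hCW : Subgroup.centralizer (W : Set G) ≤ M) :
    Cfsg.sigmaCore M ⊓ Subgroup.centralizer (W : Set G) = ⊥ := by
  classical
  have hrp : r.Prime := Fact.out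
  by_contra hne
  -- rank two and maximality of `W`
  have hr2 : Cfsg.PRankLE r 2 ↥M := by
    by_contra hcon
    exact hr (alpha_subset_sigma hG hU hM ⟨hrp, hcon⟩)
  have hmax := maximal_of_rank_two hG hU hM hr2 W hWM hW hW2
  have hWp : IsPGroup r ↥W := isPGroup_of_isElementaryAbelian hW
  have hWcomm := (Cfsg.Agent.Helper23.isMulCommutative_subgroup_iff W).1 hW.1
  have hWC : W ≤ Subgroup.centralizer (W : Set G) := by
    intro a ha
    rw [Subgroup.mem_centralizer_iff]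
    intro b hb
    exact hWcomm b hb a ha
  have hrG : r ∣ Nat.card G := by
    have h1 : r ∣ Nat.card W := by rw [hW2]; exact dvd_pow_self r (by norm_num)
    exact h1.trans (Subgroup.card_subgroup_dvd_card W)
  have hrM : r ∣ Nat.card ↥M := by
    have h1 : r ∣ Nat.card W := by rw [hW2]; exact dvd_pow_self r (by norm_num)
    exact h1.trans (Subgroup.card_dvd_of_le hWM)
  -- the transitivity hypothesis for `W`
  have hTH : Cfsg.TransitivityHypothesis W := by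
    refine Cfsg.Agent.S1396.result hG r hrG W hWp hW.1 (Or.inl ⟨?_, fun H hH => hPL r H hH⟩)
    intro x hx
    constructor
    · intro hxr
      refine Cfsg.Agent.Helper57.BG1010.mem_of_pow_eq_one_of_commute W hW hmax x hxr ?_
      intro a ha
      exact Subgroup.mem_centralizer_iff.1 hx a ha
    · intro hxW
      exact hW.2 x hxW
  have hlt : r ^ 1 < r ^ 2 := Nat.pow_lt_pow_right hrp.one_lt (by norm_num)
  have hZ : ¬ Cfsg.RankLE 1 ↥(W ⊓ Subgroup.centralizer (W : Set G)) := by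
    intro hcon
    refine (Cfsg.Agent.Helper23.not_pRankLE_subgroup_iff r 1 _).2 ⟨W, le_inf le_rfl hWC, hW, ?_⟩
      (hcon r hrp)
    rw [hW2]; exact hlt
  -- a prime `q` dividing `|C_{M_σ}(W)|`
  have hcardC : Nat.card ↥(Cfsg.sigmaCore M ⊓ Subgroup.centralizer (W : Set G)) ≠ 1 :=
    fun h1 => hne (Subgroup.card_eq_one.1 h1)
  obtain ⟨q, hqp, hqC⟩ := Nat.exists_prime_and_dvd hcardC
  haveI : Fact q.Prime := ⟨hqp⟩
  have hq : q ∈ Cfsg.sigma M :=
    primes_sigmaCore M q hqp (hqC.trans (Subgroup.card_dvd_of_le inf_le_left))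
  have hqCW : q ∣ Nat.card ↥(Subgroup.centralizer (W : Set G)) :=
    hqC.trans (Subgroup.card_dvd_of_le inf_le_right)
  have hqr : q ≠ r := fun he => hr (he ▸ hq)
  have hqW : ¬ q ∣ Nat.card W := by
    intro hd
    rw [hW2] at hd
    exact hqr ((Nat.prime_dvd_prime_iff_eq hqp hrp).1 (hqp.dvd_of_dvd_pow hd))
  have htrans := Cfsg.Agent.S1394.result hG W hTH hZ q hqp hqW hqCW
  -- coprimality
  have hcop : (Nat.card W).Coprime (Nat.card (Cfsg.sigmaCore M)) := by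
    by_contra hc
    obtain ⟨s, hs, h1, h2⟩ := Nat.Prime.not_coprime_iff_dvd.mp hc
    rw [hW2] at h1
    have : s = r := (Nat.prime_dvd_prime_iff_eq hs hrp).1 (hs.dvd_of_dvd_pow h1)
    exact hr (this ▸ primes_sigmaCore M s hs h2)
  have hbotN : W ≤ Subgroup.normalizer (((⊥ : Subgroup G) : Subgroup G) : Set G) := by
    rw [Subgroup.normalizer_eq_top_iff.2 inferInstance]; exact le_top
  have hWK : W ≤ Subgroup.normalizer ((Cfsg.sigmaCore M : Subgroup G) : Set G) :=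
    hWM.trans (le_normalizer_sigmaCore M)
  -- a `W`-invariant Sylow `q`-subgroup of `M_σ`
  obtain ⟨Q₁, -, hQ₁S, hQ₁p, hWQ₁, hQ₁c⟩ := Cfsg.Agent.Helper29.exists_invariant_sylow_ge
    (q := q) hWp hWK hcop (bot_le : (⊥ : Subgroup G) ≤ Cfsg.sigmaCore M) IsPGroup.of_bot hbotN
  have h₁ : IsSylowIn q Q₁ M :=
    (isSylowIn_sigmaCore_iff hG hU hM hq).1 (isSylowIn_of_card hQ₁S hQ₁p hQ₁c)
  have m₁ := mem_maxInv_of_isSylowIn_top (sylow_of_mem_sigma hq h₁).2 hWQ₁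
  -- an element of `N_G(S) - M`, `S` a Sylow `r`-subgroup of `M` containing `W`
  obtain ⟨S, hWS, hS⟩ := exists_isSylowIn_ge hWM hWp
  obtain ⟨g, hgN, hgM⟩ := SetLike.not_le_iff_exists.1 (not_normalizer_le_of_not_mem_sigma hr hrM hS)
  have hWg : W ≤ cj g M := by
    refine hWS.trans ?_
    rw [← cj_eq_of_mem_normalizer hgN]
    exact cj_mono hS.1
  -- a `W`-invariant Sylow `q`-subgroup of `M_σ^g`
  have hWK' : W ≤ Subgroup.normalizer ((cj g (Cfsg.sigmaCore M) : Subgroup G) : Set G) := by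
    rw [normalizer_cj]
    exact hWg.trans (cj_mono (le_normalizer_sigmaCore M))
  have hcop' : (Nat.card W).Coprime (Nat.card (cj g (Cfsg.sigmaCore M))) := by
    rw [card_cj]; exact hcop
  obtain ⟨Q₂, -, hQ₂S, hQ₂p, hWQ₂, hQ₂c⟩ := Cfsg.Agent.Helper29.exists_invariant_sylow_ge
    (q := q) hWp hWK' hcop' (bot_le : (⊥ : Subgroup G) ≤ cj g (Cfsg.sigmaCore M)) IsPGroup.of_bot
    hbotN
  have h₂ : IsSylowIn q Q₂ (cj g M) := by
    have hq' : q ∈ Cfsg.sigma (cj g M) := by rw [sigma_cj]; exact hq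
    have := (isSylowIn_sigmaCore_iff hG hU (isCoatom_cj hM g) hq' (Q := Q₂)).1
    rw [sigmaCore_cj hG hU hM] at this
    exact this (isSylowIn_of_card hQ₂S hQ₂p hQ₂c)
  have m₂ := mem_maxInv_of_isSylowIn_top (isSylowIn_top_of_cj hq h₂) hWQ₂
  obtain ⟨k, hk, hkQ⟩ := htrans Q₁ m₁ Q₂ m₂
  have hkM : k ∈ M := hCW (Cfsg.Agent.Helper31.piCoreOf_le _ _ hk)
  exact sylow_conj_false hG hU hM hgM hq h₁ h₂ hkM hkQ


/-- **B-G Lemma 11.6**, without assuming that `P` is abelian (only Lemma 11.5, first half, is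
used). -/
theorem lemma_11_6' (hG : Cfsg.IsMinSimpleOddOrder G) (hU : UniquenessThm G)
    (hPL : ∀ (r : ℕ) [Fact r.Prime] (H : Subgroup G), H ≠ ⊤ → Cfsg.PLengthLE r 1 ↥H)
    {p : ℕ} [Fact p.Prime] {M A A₀ P : Subgroup G}
    (h : Exc p M A A₀) (hP : IsSylowIn p P M) (hAP : A ≤ P) :
    (∀ x ∈ P, x ^ p = 1 → x ∈ A) ∧
      Subgroup.normalizer (P : Set G) ≤ Subgroup.normalizer (A : Set G) ∧
      (∀ g ∈ Subgroup.normalizer (P : Set G), g ∉ M →
        cj g A₀ ≤ A ∧ cj g⁻¹ A₀ ≤ A ∧ cj g A₀ ≠ cj g⁻¹ A₀ ∧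
        Cfsg.sigmaCore M ⊓ Subgroup.centralizer ((cj g A₀ : Subgroup G) : Set G) = ⊥ ∧
        Cfsg.sigmaCore M ⊓ Subgroup.centralizer ((cj g⁻¹ A₀ : Subgroup G) : Set G) = ⊥ ∧
        cj g A₀ ⊔ cj g⁻¹ A₀ = A) ∧
      Cfsg.sigmaCore M ⊓ Subgroup.centralizer (A : Set G) = ⊥ := by
  have hp : p.Prime := Fact.out
  have hcent := lemma_11_5_aux hG hU hPL h hP hAP
  have hΩ : ∀ x ∈ P, x ^ p = 1 → x ∈ A := fun x hx hxp =>
    (h.mem_iff_of_mem_centralizer hG hU x (hcent hx)).1 hxp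
  have hconj : ∀ n ∈ Subgroup.normalizer (P : Set G), ∀ a ∈ A, n * a * n⁻¹ ∈ A := by
    intro n hn a ha
    apply hΩ _ ((Subgroup.mem_normalizer_iff.1 hn a).1 (hAP ha))
    rw [conj_pow, h.hA.2 a ha]; group
  have hNN : Subgroup.normalizer (P : Set G) ≤ Subgroup.normalizer (A : Set G) := by
    intro n hn
    rw [Subgroup.mem_normalizer_iff]
    intro x
    constructor
    · exact hconj n hn x
    · intro hx
      have := hconj n⁻¹ (Subgroup.inv_mem _ hn) _ hx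
      have e : n⁻¹ * (n * x * n⁻¹) * n⁻¹⁻¹ = x := by group
      rwa [e] at this
  have hle : ∀ n ∈ Subgroup.normalizer (P : Set G), cj n A₀ ≤ A := by
    intro n hn
    have := cj_mono (g := n) h.hA0
    rwa [cj_eq_of_mem_normalizer (hNN hn)] at this
  have hmain : ∀ g ∈ Subgroup.normalizer (P : Set G), g ∉ M →
      cj g A₀ ≤ A ∧ cj g⁻¹ A₀ ≤ A ∧ cj g A₀ ≠ cj g⁻¹ A₀ ∧
      Cfsg.sigmaCore M ⊓ Subgroup.centralizer ((cj g A₀ : Subgroup G) : Set G) = ⊥ ∧
      Cfsg.sigmaCore M ⊓ Subgroup.centralizer ((cj g⁻¹ A₀ : Subgroup G) : Set G) = ⊥ ∧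
      cj g A₀ ⊔ cj g⁻¹ A₀ = A := by
    intro g hgN hgM
    have hgN' : g⁻¹ ∈ Subgroup.normalizer (P : Set G) := Subgroup.inv_mem _ hgN
    have hgM' : g⁻¹ ∉ M := fun hh => hgM (by simpa using M.inv_mem hh)
    have h1 := (lemma_11_2 hG hU hPL h hgM (h.le_cj_of_mem_normalizer hP hAP hgN)).2
    have h2 := (lemma_11_2 hG hU hPL h hgM' (h.le_cj_of_mem_normalizer hP hAP hgN')).2
    have hne : cj g A₀ ≠ cj g⁻¹ A₀ := by
      intro he
      apply hgM
      apply mem_of_sq_mem_of_odd hG.1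
      apply h.hN
      apply mem_normalizer_of_cj_eq
      rw [cj_mul, he, cj_cj_inv]
    have hsup : cj g A₀ ⊔ cj g⁻¹ A₀ = A := by
      have hle' : cj g A₀ ⊔ cj g⁻¹ A₀ ≤ A := sup_le (hle g hgN) (hle g⁻¹ hgN')
      apply Subgroup.eq_of_le_of_card_ge hle'
      have hdvd : Nat.card ↥(cj g A₀ ⊔ cj g⁻¹ A₀) ∣ p ^ 2 := by
        rw [← h.hA2]; exact Subgroup.card_dvd_of_le hle'
      obtain ⟨k, hk2, hk⟩ := (Nat.dvd_prime_pow hp).1 hdvd
      have hc1 : Nat.card (cj g A₀) = p := by rw [card_cj]; exact h.hA0c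
      have hc2 : Nat.card (cj g⁻¹ A₀) = p := by rw [card_cj]; exact h.hA0c
      have hge : p ≤ Nat.card ↥(cj g A₀ ⊔ cj g⁻¹ A₀) := by
        rw [← hc1]; exact Subgroup.card_le_of_le le_sup_left
      interval_cases k
      · exfalso
        rw [hk, pow_zero] at hge
        exact absurd hge (not_le.2 hp.one_lt)
      · exfalso
        rw [pow_one] at hk
        have e1 : cj g A₀ = cj g A₀ ⊔ cj g⁻¹ A₀ :=
          Subgroup.eq_of_le_of_card_ge le_sup_left (by rw [hk, hc1])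
        have e2 : cj g⁻¹ A₀ = cj g A₀ ⊔ cj g⁻¹ A₀ :=
          Subgroup.eq_of_le_of_card_ge le_sup_right (by rw [hk, hc2])
        exact hne (e1.trans e2.symm)
      · rw [hk, h.hA2]
    exact ⟨hle g hgN, hle g⁻¹ hgN', hne, h1, h2, hsup⟩
  refine ⟨hΩ, hNN, hmain, ?_⟩
  obtain ⟨g, hgN, hgM⟩ := h.exists_normalizer_not_mem hP
  obtain ⟨h1, -, -, h4, -, -⟩ := hmain g hgN hgM
  rw [eq_bot_iff, ← h4]
  exact inf_le_inf_left _ (Subgroup.centralizer_le h1)

/-! ### normal `r`-subgroups of `M`, `r ∉ σ(M)`, are cyclic -/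

/-- `Ω₁(Z(R))`: the elements of order dividing `r` in the centre of `R` -/
def omegaZ (r : ℕ) (R : Subgroup G) : Subgroup G where
  carrier := {x | x ∈ R ∧ x ∈ Subgroup.centralizer (R : Set G) ∧ x ^ r = 1}
  mul_mem' := by
    rintro a b ⟨ha, hac, har⟩ ⟨hb, hbc, hbr⟩
    refine ⟨R.mul_mem ha hb, Subgroup.mul_mem _ hac hbc, ?_⟩
    have hc : Commute a b := (Subgroup.mem_centralizer_iff.1 hbc a ha)
    rw [hc.mul_pow, har, hbr, one_mul]
  one_mem' := ⟨R.one_mem, Subgroup.one_mem _, one_pow _⟩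
  inv_mem' := by
    rintro a ⟨ha, hac, har⟩
    exact ⟨R.inv_mem ha, Subgroup.inv_mem _ hac, by rw [inv_pow, har, inv_one]⟩

theorem mem_omegaZ {r : ℕ} {R : Subgroup G} {x : G} :
    x ∈ omegaZ r R ↔ x ∈ R ∧ x ∈ Subgroup.centralizer (R : Set G) ∧ x ^ r = 1 := Iff.rfl

theorem omegaZ_le (r : ℕ) (R : Subgroup G) : omegaZ r R ≤ R := fun _ hx => hx.1

theorem omegaZ_le_centralizer (r : ℕ) (R : Subgroup G) :
    omegaZ r R ≤ Subgroup.centralizer (R : Set G) := fun _ hx => hx.2.1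

theorem isElementaryAbelian_omegaZ (r : ℕ) (R : Subgroup G) :
    Cfsg.IsElementaryAbelian r (omegaZ r R) := by
  refine ⟨(Cfsg.Agent.Helper23.isMulCommutative_subgroup_iff _).2 ?_, fun a ha => ha.2.2⟩
  intro a ha b hb
  exact (Subgroup.mem_centralizer_iff.1 hb.2.1 a ha.1)

theorem normalizer_le_normalizer_omegaZ (r : ℕ) (R : Subgroup G) :
    Subgroup.normalizer (R : Set G) ≤ Subgroup.normalizer ((omegaZ r R : Subgroup G) : Set G) := by
  have key : ∀ n ∈ Subgroup.normalizer (R : Set G), ∀ x ∈ omegaZ r R, n * x * n⁻¹ ∈ omegaZ r R := by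
    rintro n hn x ⟨hxR, hxC, hxr⟩
    refine ⟨(Subgroup.mem_normalizer_iff.1 hn x).1 hxR, ?_, by rw [conj_pow, hxr]; group⟩
    rw [Subgroup.mem_centralizer_iff]
    intro y hy
    have hn' : n⁻¹ ∈ Subgroup.normalizer (R : Set G) := Subgroup.inv_mem _ hn
    have hy' : n⁻¹ * y * n ∈ R := by
      have := (Subgroup.mem_normalizer_iff.1 hn' y).1 hy
      rwa [inv_inv] at this
    have hc := Subgroup.mem_centralizer_iff.1 hxC _ hy'
    calc y * (n * x * n⁻¹) = n * ((n⁻¹ * y * n) * x) * n⁻¹ := by group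
      _ = n * (x * (n⁻¹ * y * n)) * n⁻¹ := by rw [hc]
      _ = n * x * n⁻¹ * y := by group
  intro n hn
  rw [Subgroup.mem_normalizer_iff]
  intro x
  constructor
  · exact key n hn x
  · intro hx
    have := key n⁻¹ (Subgroup.inv_mem _ hn) _ hx
    have e : n⁻¹ * (n * x * n⁻¹) * n⁻¹⁻¹ = x := by group
    rwa [e] at this

theorem omegaZ_ne_bot {r : ℕ} [Fact r.Prime] {R : Subgroup G} (hR : IsPGroup r ↥R) (hR1 : R ≠ ⊥) :
    omegaZ r R ≠ ⊥ := by
  have hrp : r.Prime := Fact.out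
  haveI : Nontrivial ↥R := by
    obtain ⟨a, ha1⟩ := (Subgroup.ne_bot_iff_exists_ne_one).1 hR1
    exact ⟨⟨a, 1, ha1⟩⟩
  obtain ⟨z, hz, hzo⟩ := Cfsg.Agent.Helper23.exists_center_orderOf_eq hR
  intro hb
  have hzmem : (z : G) ∈ omegaZ r R := by
    refine ⟨z.2, ?_, ?_⟩
    · rw [Subgroup.mem_centralizer_iff]
      intro y hy
      have := (Subgroup.mem_center_iff.1 hz) ⟨y, hy⟩
      exact congrArg Subtype.val this
    · have : z ^ r = 1 := by rw [← hzo]; exact pow_orderOf_eq_one z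
      have := congrArg Subtype.val this
      simpa using this
  rw [hb, Subgroup.mem_bot] at hzmem
  have hz1 : z = 1 := Subtype.ext hzmem
  rw [hz1, orderOf_one] at hzo
  exact hrp.one_lt.ne hzo

/-- **(L1c)**: for `r ∉ σ(M)`, every normal `r`-subgroup of the maximal subgroup `M` is cyclic (in
particular `O_r(M)` is cyclic). -/
theorem isCyclic_of_normal_pGroup (hG : Cfsg.IsMinSimpleOddOrder G) (hU : UniquenessThm G)
    (hPL : ∀ (r : ℕ) [Fact r.Prime] (H : Subgroup G), H ≠ ⊤ → Cfsg.PLengthLE r 1 ↥H)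
    {M R : Subgroup G} (hM : IsCoatom M) {r : ℕ} [Fact r.Prime] (hr : r ∉ Cfsg.sigma M)
    (hR : IsPGroup r ↥R) (hRM : R ≤ M) (hMR : M ≤ Subgroup.normalizer (R : Set G)) :
    IsCyclic ↥R := by
  classical
  haveI : IsSimpleGroup G := hG.2.1
  have hrp : r.Prime := Fact.out
  by_contra hnc
  have hR1 : R ≠ ⊥ := by
    intro hb
    apply hnc
    rw [hb]
    exact inferInstance
  -- `r` is odd
  have hrM : r ∣ Nat.card ↥M := by
    obtain ⟨k, hk⟩ := IsPGroup.iff_card.1 hR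
    have hk0 : k ≠ 0 := by
      intro h0
      rw [h0, pow_zero] at hk
      exact hR1 (Subgroup.card_eq_one.1 hk)
    have h1 : r ∣ Nat.card R := by rw [hk]; exact dvd_pow_self r hk0
    exact h1.trans (Subgroup.card_dvd_of_le hRM)
  have hr2 : r ≠ 2 := by
    intro h2
    have hodd : Odd (Nat.card ↥M) := Odd.of_dvd_nat hG.1 (Subgroup.card_subgroup_dvd_card M)
    rw [h2] at hrM
    exact (Nat.not_even_iff_odd.2 hodd) (even_iff_two_dvd.2 hrM)
  have hrk2 : Cfsg.PRankLE r 2 ↥M := by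
    by_contra hcon
    exact hr (alpha_subset_sigma hG hU hM ⟨hrp, hcon⟩)
  -- `M_σ` centralizes `R`
  have hK1 := sigmaCore_ne_bot hG hU hM
  have hKR : Cfsg.sigmaCore M ≤ Subgroup.centralizer (R : Set G) := by
    have hdisj : Cfsg.sigmaCore M ⊓ R = ⊥ := by
      apply Subgroup.inf_eq_bot_of_coprime
      by_contra hc
      obtain ⟨s, hs, h1, h2⟩ := Nat.Prime.not_coprime_iff_dvd.mp hc
      obtain ⟨k, hk⟩ := IsPGroup.iff_card.1 hR
      rw [hk] at h2
      have : s = r := (Nat.prime_dvd_prime_iff_eq hs hrp).1 (hs.dvd_of_dvd_pow h2)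
      exact hr (this ▸ primes_sigmaCore M s hs h1)
    intro x hx
    rw [Subgroup.mem_centralizer_iff]
    intro y hy
    have h1 : x * y * x⁻¹ * y⁻¹ ∈ Cfsg.sigmaCore M ⊓ R := by
      refine Subgroup.mem_inf.2 ⟨?_, ?_⟩
      · have hyK := (Subgroup.mem_normalizer_iff.1 (le_normalizer_sigmaCore M (hRM hy)) x⁻¹).1
          (Subgroup.inv_mem _ hx)
        have := Subgroup.mul_mem _ hx hyK
        have e : x * (y * x⁻¹ * y⁻¹) = x * y * x⁻¹ * y⁻¹ := by group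
        rwa [e] at this
      · have hxR := (Subgroup.mem_normalizer_iff.1 (hMR (sigmaCore_le M hx)) y).1 hy
        exact R.mul_mem hxR (R.inv_mem hy)
    rw [hdisj, Subgroup.mem_bot] at h1
    have : y * x = x * y * x⁻¹ * y⁻¹ * (y * x) := by rw [h1, one_mul]
    rw [this]; group
  -- `Z = Ω₁(Z(R))`
  set Z : Subgroup G := omegaZ r R with hZdef
  have hZ1 : Z ≠ ⊥ := omegaZ_ne_bot hR hR1
  have hZe : Cfsg.IsElementaryAbelian r Z := isElementaryAbelian_omegaZ r R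
  have hZR : Z ≤ R := omegaZ_le r R
  have hMZ : M ≤ Subgroup.normalizer (Z : Set G) := hMR.trans (normalizer_le_normalizer_omegaZ r R)
  have hZp : IsPGroup r ↥Z := hR.to_le hZR
  have hNZ : Subgroup.normalizer (Z : Set G) = M := by
    have hNtop : Subgroup.normalizer (Z : Set G) ≠ ⊤ :=
      Cfsg.Agent.Helper31.bgt_normalizer_ne_top_of_simple hZ1 (isPGroup_ne_top hG hZp)
    by_contra hne'
    exact hNtop (hM.2 _ (lt_of_le_of_ne hMZ (Ne.symm hne')))
  have hZcard : Nat.card Z ≤ r ^ 2 := by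
    by_contra hcon
    push Not at hcon
    exact (Cfsg.Agent.Helper23.not_pRankLE_subgroup_iff r 2 M).2 ⟨Z, hZR.trans hRM, hZe, hcon⟩ hrk2
  obtain ⟨k, hk⟩ := IsPGroup.iff_card.1 hZp
  have hk0 : k ≠ 0 := by
    intro h0
    rw [h0, pow_zero] at hk
    exact hZ1 (Subgroup.card_eq_one.1 hk)
  have hk2 : k ≤ 2 := by
    rw [hk] at hZcard
    exact (Nat.pow_le_pow_iff_right hrp.one_lt).1 hZcard
  have hKZ : Cfsg.sigmaCore M ≤ Subgroup.centralizer (Z : Set G) :=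
    hKR.trans (Subgroup.centralizer_le hZR)
  rcases (by omega : k = 2 ∨ k = 1) with h2 | h1
  · -- `|Z| = r²`: Lemma (L1)
    rw [h2] at hk
    have hCZ : Subgroup.centralizer (Z : Set G) ≤ M := by
      rw [← hNZ]; exact Subgroup.centralizer_le_normalizer _
    have := lemma_L1 hG hU hPL hM hr (hZR.trans hRM) hZe hk hCZ
    apply hK1
    rw [eq_bot_iff, ← this]
    exact le_inf le_rfl hKZ
  · -- `|Z| = r`: `M` is exceptional for `r`
    rw [h1, pow_one] at hk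
    obtain ⟨W', -, hW'e, hW'2⟩ := Cfsg.Agent.S0126.result hr2 hR hnc
    set W : Subgroup G := W'.map R.subtype with hWdef
    have hWR : W ≤ R := Subgroup.map_subtype_le _
    have hWe : Cfsg.IsElementaryAbelian r W := Cfsg.Agent.Helper23.isElementaryAbelian_map _ hW'e
    have hW2 : Nat.card W = r ^ 2 := by
      rw [hWdef, Subgroup.card_map_of_injective R.subtype_injective, hW'2]
    -- `Z ≤ W`
    have hZW : Z ≤ W := by
      have hcomm : ∀ a ∈ W, ∀ b ∈ Z, a * b = b * a := by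
        intro a ha b hb
        exact Subgroup.mem_centralizer_iff.1 (omegaZ_le_centralizer r R hb) a (hWR ha)
      have hsup := Cfsg.Agent.Helper23.isElementaryAbelian_sup_of_commute hWe hZe hcomm
      have hmaxW := maximal_of_rank_two hG hU hM hrk2 W (hWR.trans hRM) hWe hW2 _ hsup le_sup_left
      rw [← hmaxW]
      exact le_sup_right
    have hExc : Exc r M W Z :=
      ⟨hM, hr, hWR.trans hRM, hWe, hW2, hZW, hk, by rw [hNZ]⟩
    obtain ⟨S, hWS, hS⟩ := exists_isSylowIn_ge (hWR.trans hRM)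
      (isPGroup_of_isElementaryAbelian hWe)
    have := (lemma_11_6' hG hU hPL hExc hS hWS).2.2.2
    apply hK1
    rw [eq_bot_iff, ← this]
    exact le_inf le_rfl (hKR.trans (Subgroup.centralizer_le hWR))

end Cfsg.Agent.Helper29.BG11
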