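import Mathlib
import Cfsg.Agent.Helper31.CoprimeHyp

set_option autoImplicit false
set_option linter.unusedSectionVars false
set_option linter.unusedVariables false

/-!
# A `p`-element acting nontrivially on an elementary abelian group of order `p ^ 2` (helper29)

If the `p`-element `u` normalizes but does not centralize `A ≅ C_p × C_p` and centralizes `Z₀ ≤ A` of
order `p`, then `u` acts as a transvection with centre and axis `Z₀`, and the cyclic subgroups of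
`A` other than `Z₀` are permuted transitively by the powers of `u`.
-/

namespace Cfsg.Agent.Helper29.Transvection

variable {G : Type*} [Group G] [Finite G] {p : ℕ} [Fact p.Prime]

theorem exists_nat_pow_eq_zpow (x : G) (i : ℤ) : ∃ n : ℕ, x ^ n = x ^ i := by
  have h1 : x ^ i ∈ Subgroup.zpowers x := ⟨i, rfl⟩
  rw [← (isOfFinOrder_of_finite x).mem_powers_iff_mem_zpowers] at h1
  exact h1

theorem pow_eq_self_of_mod {x : G} (hx : x ^ p = 1) {n : ℕ} (hn : n % p = 1) : x ^ n = x := by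
  have h := Nat.div_add_mod n p
  rw [hn] at h
  rw [← h, pow_add, pow_mul, hx, one_pow, one_mul, pow_one]

/-- the transvection lemma -/
theorem exists_pow_conj {A Z₀ : Subgroup G} (hAc : ∀ x ∈ A, ∀ y ∈ A, x * y = y * x)
    (hAe : ∀ x ∈ A, x ^ p = 1) (hA2 : Nat.card A = p ^ 2) (hZA : Z₀ ≤ A) (hZ : Nat.card Z₀ = p)
    {u : G} (hup : ∃ e : ℕ, u ^ p ^ e = 1) (huA : u ∈ Subgroup.normalizer (A : Set G))
    (huZ : ∀ z ∈ Z₀, u * z = z * u) (hu : ∃ b ∈ A, u * b ≠ b * u)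
    {a a' : G} (ha : a ∈ A) (haZ : a ∉ Z₀) (ha' : a' ∈ A) (ha'Z : a' ∉ Z₀) :
    ∃ m j i : ℕ, a' ^ j = u ^ m * a * (u ^ m)⁻¹ ∧ (a' ^ j) ^ i = a' := by
  have hp : p.Prime := Fact.out
  -- Step 1: `C_A(u) = Z₀`
  have hC : ∀ b ∈ A, u * b = b * u → b ∈ Z₀ := by
    set C : Subgroup G := A ⊓ Subgroup.centralizer {u} with hCdef
    have hZC : Z₀ ≤ C := by
      intro z hz
      refine Subgroup.mem_inf.2 ⟨hZA hz, ?_⟩
      rw [Subgroup.mem_centralizer_singleton_iff]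
      exact (huZ z hz).symm
    have hCA : C ≤ A := inf_le_left
    have hdvd : Nat.card C ∣ p ^ 2 := by rw [← hA2]; exact Subgroup.card_dvd_of_le hCA
    obtain ⟨k, hk2, hk⟩ := (Nat.dvd_prime_pow hp).1 hdvd
    have hCZ : C = Z₀ := by
      interval_cases k
      · exfalso
        rw [pow_zero] at hk
        have := Subgroup.card_le_of_le hZC
        rw [hk, hZ] at this
        exact absurd this (not_le.2 hp.one_lt)
      · symm
        apply Subgroup.eq_of_le_of_card_ge hZC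
        rw [hk, hZ, pow_one]
      · exfalso
        have hCA' : C = A := Subgroup.eq_of_le_of_card_ge hCA (by rw [hk, hA2])
        obtain ⟨b, hb, hub⟩ := hu
        have hbC : b ∈ C := by rw [hCA']; exact hb
        exact hub (Subgroup.mem_centralizer_singleton_iff.1 (Subgroup.mem_inf.1 hbC).2).symm
    intro b hb hub
    rw [← hCZ]
    exact Subgroup.mem_inf.2 ⟨hb, Subgroup.mem_centralizer_singleton_iff.2 hub.symm⟩
  -- the commutator map
  have hconj : ∀ b ∈ A, u * b * u⁻¹ ∈ A := fun b hb => (Subgroup.mem_normalizer_iff.1 huA b).1 hb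
  have hφA : ∀ b ∈ A, u * b * u⁻¹ * b⁻¹ ∈ A := fun b hb => A.mul_mem (hconj b hb) (A.inv_mem hb)
  have hφmul : ∀ b ∈ A, ∀ b' ∈ A,
      u * (b * b') * u⁻¹ * (b * b')⁻¹ = (u * b * u⁻¹ * b⁻¹) * (u * b' * u⁻¹ * b'⁻¹) := by
    intro b hb b' hb'
    have e3 : b⁻¹ * ((u * b' * u⁻¹) * b'⁻¹) = ((u * b' * u⁻¹) * b'⁻¹) * b⁻¹ :=
      hAc _ (A.inv_mem hb) _ (A.mul_mem (hconj b' hb') (A.inv_mem hb'))
    calc u * (b * b') * u⁻¹ * (b * b')⁻¹
        = (u * b * u⁻¹) * (((u * b' * u⁻¹) * b'⁻¹) * b⁻¹) := by group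
      _ = (u * b * u⁻¹) * (b⁻¹ * ((u * b' * u⁻¹) * b'⁻¹)) := by rw [e3]
      _ = (u * b * u⁻¹ * b⁻¹) * (u * b' * u⁻¹ * b'⁻¹) := by group
  set c : G := u * a * u⁻¹ * a⁻¹ with hcdef
  have hcA : c ∈ A := hφA a ha
  have hc1 : c ≠ 1 := by
    intro h1
    apply haZ
    apply hC a ha
    have : u * a * u⁻¹ = a := by
      have := congrArg (· * a) h1
      simpa [hcdef] using this
    calc u * a = (u * a * u⁻¹) * u := by group
      _ = a * u := by rw [this]
  have hφpow : ∀ n : ℕ, u * a ^ n * u⁻¹ * (a ^ n)⁻¹ = c ^ n := by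
    intro n
    induction n with
    | zero => simp
    | succ n ih =>
      rw [pow_succ, hφmul _ (A.pow_mem ha n) _ ha, ih, pow_succ]
  -- Step 4: `A = Z₀ ⊔ ⟨a⟩`
  have hcommZ : ∀ h ∈ Z₀, a * h = h * a := fun h hh => hAc a ha h (hZA hh)
  have hsup : Z₀ ⊔ Subgroup.zpowers a = A := by
    apply Subgroup.eq_of_le_of_card_ge (sup_le hZA (Subgroup.zpowers_le.2 ha))
    rw [Cfsg.Agent.Helper31.card_sup_zpowers Z₀ a (hAe a ha) haZ hcommZ, hZ, hA2, pow_two]
  have hdecomp : ∀ b ∈ A, ∃ z ∈ Z₀, ∃ n : ℕ, b = z * a ^ n := by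
    intro b hb
    rw [← hsup] at hb
    obtain ⟨z, hz, i, hi⟩ := Cfsg.Agent.Helper31.mem_sup_zpowers hcommZ hb
    obtain ⟨n, hn⟩ := exists_nat_pow_eq_zpow a i
    exact ⟨z, hz, n, by rw [hi, hn]⟩
  -- Step 5: the image of the commutator map lies in `⟨c⟩`
  have hφim : ∀ b ∈ A, ∃ n : ℕ, u * b * u⁻¹ * b⁻¹ = c ^ n := by
    intro b hb
    obtain ⟨z, hz, n, rfl⟩ := hdecomp b hb
    refine ⟨n, ?_⟩
    rw [hφmul z (hZA hz) _ (A.pow_mem ha n), hφpow]
    have : u * z * u⁻¹ * z⁻¹ = 1 := by rw [huZ z hz]; group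
    rw [this, one_mul]
  obtain ⟨t, ht⟩ := hφim c hcA
  have hs : u * c * u⁻¹ = c ^ (t + 1) := by
    have : u * c * u⁻¹ = (u * c * u⁻¹ * c⁻¹) * c := by group
    rw [this, ht, pow_succ]
  have hspow : ∀ k : ℕ, u ^ k * c * (u ^ k)⁻¹ = c ^ ((t + 1) ^ k) := by
    intro k
    induction k with
    | zero => simp
    | succ k ih =>
      have e : u ^ (k + 1) * c * (u ^ (k + 1))⁻¹ = u * (u ^ k * c * (u ^ k)⁻¹) * u⁻¹ := by
        rw [pow_succ']; group
      rw [e, ih]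
      have e2 : u * c ^ ((t + 1) ^ k) * u⁻¹ = (u * c * u⁻¹) ^ ((t + 1) ^ k) := by
        rw [conj_pow]
      rw [e2, hs, ← pow_mul, pow_succ, mul_comm]
  have hcp : c ^ p = 1 := hAe c hcA
  have hordc : orderOf c = p := by
    have := orderOf_dvd_of_pow_eq_one hcp
    rcases (Nat.dvd_prime hp).mp this with h | h
    · exact absurd (orderOf_eq_one_iff.mp h) hc1
    · exact h
  have huc : u * c = c * u := by
    obtain ⟨e, he⟩ := hup
    have h1 := hspow (p ^ e)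
    rw [he, one_mul, inv_one, mul_one] at h1
    have h2 : c ^ 1 = c ^ ((t + 1) ^ p ^ e) := by rw [pow_one]; exact h1
    rw [pow_eq_pow_iff_modEq, hordc] at h2
    have h3 : ((1 : ℕ) : ZMod p) = (((t + 1) ^ p ^ e : ℕ) : ZMod p) :=
      (ZMod.natCast_eq_natCast_iff _ _ _).2 h2
    rw [Nat.cast_pow, ZMod.pow_card_pow] at h3
    have h4 : 1 ≡ t + 1 [MOD p] := (ZMod.natCast_eq_natCast_iff _ _ _).1 h3
    have h5 : c ^ 1 = c ^ (t + 1) := by
      rw [pow_eq_pow_iff_modEq, hordc]; exact h4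
    rw [pow_one] at h5
    rw [← h5] at hs
    calc u * c = (u * c * u⁻¹) * u := by group
      _ = c * u := by rw [hs]
  have hcZ : c ∈ Z₀ := hC c hcA huc
  -- Step 6: `u ^ m` conjugates `a` to `c ^ m * a`
  have hum : ∀ m : ℕ, u ^ m * a * (u ^ m)⁻¹ = c ^ m * a := by
    intro m
    induction m with
    | zero => simp
    | succ m ih =>
      have e : u ^ (m + 1) * a * (u ^ (m + 1))⁻¹ = u * (u ^ m * a * (u ^ m)⁻¹) * u⁻¹ := by
        rw [pow_succ']; group
      have hcm : u * c ^ m = c ^ m * u := (Commute.pow_right (show Commute u c from huc) m).eq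
      have e3 : u * a * u⁻¹ = c * a := by rw [hcdef]; group
      rw [e, ih]
      calc u * (c ^ m * a) * u⁻¹ = (u * c ^ m) * a * u⁻¹ := by group
        _ = c ^ m * (u * a * u⁻¹) := by rw [hcm]; group
        _ = c ^ (m + 1) * a := by rw [e3, pow_succ]; group
  -- Step 7
  obtain ⟨z, hz, n, hn⟩ := hdecomp a' ha'
  -- `z` is a power of `c`
  have hzc : ∃ k : ℕ, z = c ^ k := by
    have hc1' : (⟨c, hcZ⟩ : ↥Z₀) ≠ 1 := fun hh => hc1 (congrArg Subtype.val hh)
    have hz' : (⟨z, hz⟩ : ↥Z₀) ∈ Subgroup.zpowers (⟨c, hcZ⟩ : ↥Z₀) :=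
      mem_zpowers_of_prime_card hZ hc1'
    obtain ⟨k, hk⟩ := hz'
    have hzk : z = c ^ k := by
      have := congrArg Subtype.val hk
      simpa using this.symm
    obtain ⟨k', hk'⟩ := exists_nat_pow_eq_zpow c k
    exact ⟨k', by rw [hzk, hk']⟩
  obtain ⟨k, rfl⟩ := hzc
  have hnp : ¬ p ∣ n := by
    intro hd
    apply ha'Z
    obtain ⟨q, rfl⟩ := hd
    rw [hn, pow_mul, hAe a ha, one_pow, mul_one]
    exact Z₀.pow_mem hcZ k
  have hcop : Nat.Coprime n p := ((Nat.Prime.coprime_iff_not_dvd hp).2 hnp).symm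
  obtain ⟨j, -, hj⟩ := Nat.exists_mul_mod_eq_one_of_coprime hcop hp.one_lt
  have hca : Commute (c ^ k) (a ^ n) :=
    (Commute.pow_pow (show Commute c a from hAc c hcA a ha) k n)
  have h1 : a' ^ j = c ^ (k * j) * a := by
    rw [hn, hca.mul_pow, ← pow_mul, ← pow_mul, pow_eq_self_of_mod (hAe a ha) hj]
  refine ⟨k * j, j, n, ?_, ?_⟩
  · rw [h1, hum]
  · rw [← pow_mul]
    apply pow_eq_self_of_mod (hAe a' ha')
    rw [mul_comm]; exact hj

end Cfsg.Agent.Helper29.Transvection
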