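import Cfsg.Agent.Helper29.BG11B
import Cfsg.Agent.Helper29.Transvection
import Cfsg.Agent.Helper48.CoprimeGen
import Cfsg.Agent.S1451
import Cfsg.Agent.Helper71.ShultBasic
import Cfsg.Agent.Helper23.NormalRank

set_option autoImplicit false
set_option linter.unusedSectionVars false
set_option linter.unusedVariables false
set_option linter.style.haveILetI false

/-!
# B-G §11, part C: `M_σ ≠ 1`; Lemmas 11.5 and 11.6 for an exceptional maximal subgroup (helper29)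
-/

namespace Cfsg.Agent.Helper29.BG11

open Cfsg Cfsg.Agent.Helper29.BG10 Cfsg.Agent.Helper21

variable {G : Type*} [Group G] [Finite G]

/-! ### `σ(M) ≠ ∅` and `M_σ ≠ 1` -/

theorem coatom_ne_bot (hG : Cfsg.IsMinSimpleOddOrder G) {M : Subgroup G} (hM : IsCoatom M) :
    M ≠ ⊥ := by
  intro hb
  apply hG.2.2.1
  haveI : IsSimpleGroup G := hG.2.1
  haveI : Nontrivial G := inferInstance
  obtain ⟨g, hg⟩ := exists_ne (1 : G)
  have hlt : M < Subgroup.zpowers g := by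
    rw [hb, bot_lt_iff_ne_bot]
    intro h
    exact hg (Subgroup.zpowers_eq_bot.1 h)
  have htop := hM.2 _ hlt
  refine ⟨⟨fun x y => ?_⟩⟩
  have hx : x ∈ Subgroup.zpowers g := by rw [htop]; trivial
  have hy : y ∈ Subgroup.zpowers g := by rw [htop]; trivial
  obtain ⟨i, rfl⟩ := hx
  obtain ⟨j, rfl⟩ := hy
  exact (Commute.zpow_zpow (Commute.refl g) i j).eq

/-- `σ(M)` is nonempty for every maximal subgroup `M`. -/
theorem sigma_nonempty (hG : Cfsg.IsMinSimpleOddOrder G) (hU : UniquenessThm G)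
    {M : Subgroup G} (hM : IsCoatom M) : ∃ r : ℕ, r ∈ Cfsg.sigma M := by
  classical
  haveI : IsSimpleGroup G := hG.2.1
  by_cases hα : ∃ q, q ∈ Cfsg.alpha M
  · obtain ⟨q, hq⟩ := hα
    exact ⟨q, alpha_subset_sigma hG hU hM hq⟩
  push Not at hα
  have hrank : Cfsg.RankLE 2 ↥M := by
    intro q hq
    by_contra hcon
    exact hα q ⟨hq, hcon⟩
  haveI : Group.IsSolvable ↥M := hG.2.2.2 M hM.1
  have hodd : Odd (Nat.card ↥M) := Odd.of_dvd_nat hG.1 (Subgroup.card_subgroup_dvd_card M)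
  have hcard : 1 < Nat.card ↥M := by
    rcases Nat.lt_or_ge 1 (Nat.card ↥M) with h | h
    · exact h
    · exfalso
      have h1 : Nat.card ↥M = 1 := le_antisymm h Nat.card_pos
      exact coatom_ne_bot hG hM (Subgroup.card_eq_one.1 h1)
  have hne : (Nat.card ↥M).primeFactors.Nonempty := Nat.nonempty_primeFactors.2 hcard
  set r : ℕ := (Nat.card ↥M).primeFactors.max' hne with hrdef
  have hrmem : r ∈ (Nat.card ↥M).primeFactors := Finset.max'_mem _ hne
  have hrp : r.Prime := Nat.prime_of_mem_primeFactors hrmem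
  have hrM : r ∣ Nat.card ↥M := Nat.dvd_of_mem_primeFactors hrmem
  have hrmax : ∀ q : ℕ, q.Prime → q ∣ Nat.card ↥M → q ≤ r := by
    intro q hq hqd
    exact Finset.le_max' _ q (Nat.mem_primeFactors.2 ⟨hq, hqd, Nat.card_pos.ne'⟩)
  haveI : Fact r.Prime := ⟨hrp⟩
  obtain ⟨N, hNchar, hNpi, hNidx⟩ := (Cfsg.Agent.S1451.result hodd (Or.inl hrank)).2.2 (r - 1)
  have hNr : IsPGroup r ↥N := by
    rw [IsPGroup.iff_card]
    refine ⟨_, Nat.eq_prime_pow_of_unique_prime_dvd Nat.card_pos.ne' ?_⟩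
    intro d hd hdN
    have h1 := (hNpi d hd hdN).2
    have h2 := hrmax d hd (hdN.trans (Subgroup.card_subgroup_dvd_card N))
    have := hrp.one_lt
    omega
  have hidx : ¬ r ∣ N.index := hNidx r hrp ⟨hrp, by have := hrp.one_lt; omega⟩
  let P : Sylow r ↥M := hNr.toSylow hidx
  have hPcoe : (P : Subgroup ↥M) = N := IsPGroup.toSylow_coe _ _
  haveI : N.Normal := inferInstance
  set N' : Subgroup G := N.map M.subtype with hN'def
  have hMN : M ≤ Subgroup.normalizer (N' : Set G) := by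
    intro m hm
    rw [Subgroup.mem_normalizer_iff]
    intro s
    constructor
    · rintro ⟨x, hx, rfl⟩
      exact ⟨⟨m, hm⟩ * x * ⟨m, hm⟩⁻¹, (inferInstance : N.Normal).conj_mem x hx _, rfl⟩
    · rintro ⟨x, hx, hxs⟩
      refine ⟨⟨m, hm⟩⁻¹ * x * ⟨m, hm⟩, ?_, ?_⟩
      · have := (inferInstance : N.Normal).conj_mem x hx (⟨m, hm⟩⁻¹)
        simpa using this
      · have h1 : (x : G) = m * s * m⁻¹ := hxs
        simp only [Subgroup.subtype_apply, Subgroup.coe_mul, Subgroup.coe_inv, h1]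
        group
  have hN'p : IsPGroup r ↥N' := hNr.map _
  have hN'1 : N' ≠ ⊥ := by
    intro hb
    have h1 : Nat.card N = 1 := by
      rw [← Subgroup.card_map_of_injective M.subtype_injective, ← hN'def, hb, Subgroup.card_bot]
    have h2 := Subgroup.card_mul_index N
    rw [h1, one_mul] at h2
    rw [h2] at hidx
    exact hidx hrM
  have hNtop : Subgroup.normalizer (N' : Set G) ≠ ⊤ :=
    Cfsg.Agent.Helper31.bgt_normalizer_ne_top_of_simple hN'1 (isPGroup_ne_top hG hN'p)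
  have hNM : Subgroup.normalizer (N' : Set G) = M := by
    by_contra hne'
    exact hNtop (hM.2 _ (lt_of_le_of_ne hMN (Ne.symm hne')))
  refine ⟨r, hrp, hrM, P, ?_⟩
  rw [hPcoe, hNM]

/-- `M_σ ≠ 1` for every maximal subgroup `M`. -/
theorem sigmaCore_ne_bot (hG : Cfsg.IsMinSimpleOddOrder G) (hU : UniquenessThm G)
    {M : Subgroup G} (hM : IsCoatom M) : Cfsg.sigmaCore M ≠ ⊥ := by
  obtain ⟨r, hr⟩ := sigma_nonempty hG hU hM
  obtain ⟨⟨hSM, hSpi, hSidx⟩, -, -⟩ := thm_10_2_sigma hG hU M hM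
  intro hb
  have h1 := Cfsg.Agent.Helper31.relIndex_mul_card' hSM
  rw [hb, Subgroup.card_bot, mul_one] at h1
  apply hSidx r hr.1 hr
  rw [hb, h1]
  exact hr.2.1


/-! ### Lemma 11.5 -/

theorem centralizer_zpowers (a : G) :
    Subgroup.centralizer ((Subgroup.zpowers a : Subgroup G) : Set G) = Subgroup.centralizer {a} := by
  ext x
  rw [Subgroup.mem_centralizer_iff, Subgroup.mem_centralizer_singleton_iff]
  constructor
  · intro hx
    exact (hx a (Subgroup.mem_zpowers a)).symm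
  · rintro hx _ ⟨i, rfl⟩
    exact ((Commute.zpow_right (show Commute x a from hx) i)).eq.symm

/-- coprime generation, in the form: some non-identity element of `B` has nontrivial fixed points -/
theorem exists_ne_bot_of_isEA2 {p : ℕ} [Fact p.Prime] {B Q : Subgroup G}
    (hB : Cfsg.Agent.Helper48.IsEA2 p B) (hBQ : B ≤ Subgroup.normalizer (Q : Set G))
    (hpQ : ¬ p ∣ Nat.card Q) (hQ1 : Q ≠ ⊥) :
    ∃ b ∈ B, b ≠ 1 ∧ Q ⊓ Subgroup.centralizer {b} ≠ ⊥ := by
  by_contra hcon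
  push Not at hcon
  apply hQ1
  rw [eq_bot_iff]
  refine (Cfsg.Agent.Helper48.le_cgen Q B hpQ hBQ hB).trans ?_
  unfold Cfsg.Agent.Helper48.cgen
  apply iSup_le
  rintro ⟨b, hb, hb1⟩
  rw [hcon b hb hb1]

variable {p : ℕ} [Fact p.Prime] {M A A₀ P : Subgroup G}

theorem Exc.p_dvd_card_M (h : Exc p M A A₀) : p ∣ Nat.card ↥M := by
  have h1 : p ∣ Nat.card A := by rw [h.hA2]; exact dvd_pow_self p (by norm_num)
  exact h1.trans (Subgroup.card_dvd_of_le h.hAM)

/-- an element of `N_G(P)` outside `M`, `P` a Sylow `p`-subgroup of `M` -/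
theorem Exc.exists_normalizer_not_mem (h : Exc p M A A₀) (hP : IsSylowIn p P M) :
    ∃ g ∈ Subgroup.normalizer (P : Set G), g ∉ M :=
  SetLike.not_le_iff_exists.1 (not_normalizer_le_of_not_mem_sigma h.hp h.p_dvd_card_M hP)

theorem Exc.le_cj_of_mem_normalizer (h : Exc p M A A₀) (hP : IsSylowIn p P M) (hAP : A ≤ P)
    {g : G} (hg : g ∈ Subgroup.normalizer (P : Set G)) : A ≤ BG10.cj g M := by
  refine hAP.trans ?_
  rw [← cj_eq_of_mem_normalizer hg]
  exact cj_mono hP.1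

theorem Exc.isEA2 (h : Exc p M A A₀) : Cfsg.Agent.Helper48.IsEA2 p A :=
  ⟨h.comm, h.hA.2, h.hA2⟩

/-- the key consequence of Lemma 11.1(b) for `g ∈ N_G(P) - M` and the Sylow `q`-subgroup `Q` of the
nilpotent group `M_σ`: a non-identity element `a` of `A` and its conjugate `g⁻¹ a g` cannot both have
nontrivial fixed points on `Q` -/
theorem Exc.star (hG : Cfsg.IsMinSimpleOddOrder G) (hU : UniquenessThm G)
    (hPL : ∀ (r : ℕ) [Fact r.Prime] (H : Subgroup G), H ≠ ⊤ → Cfsg.PLengthLE r 1 ↥H)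
    (h : Exc p M A A₀) (hP : IsSylowIn p P M) (hAP : A ≤ P) {g : G}
    (hgN : g ∈ Subgroup.normalizer (P : Set G)) (hgM : g ∉ M) {q : ℕ} [Fact q.Prime]
    (hq : q ∈ Cfsg.sigma M) {Q : Subgroup G} (hQ : IsSylowIn q Q (Cfsg.sigmaCore M))
    {a : G} (ha : a ∈ A) (ha1 : a ≠ 1) :
    Q ⊓ Subgroup.centralizer {a} = ⊥ ∨ Q ⊓ Subgroup.centralizer {g⁻¹ * a * g} = ⊥ := by
  have hnil := lemma_11_3 hG hU hPL h
  have hMQ : M ≤ Subgroup.normalizer (Q : Set G) :=
    (BG11.le_normalizer_sigmaCore M).trans (IsSylowIn.normalizer_le_of_isNilpotent hQ hnil)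
  have hAg := h.le_cj_of_mem_normalizer hP hAP hgN
  have hA₂ : A ≤ Subgroup.normalizer ((BG10.cj g Q : Subgroup G) : Set G) := by
    rw [normalizer_cj]
    exact hAg.trans (cj_mono hMQ)
  have hX1 : Subgroup.zpowers a ≠ ⊥ := fun hb => ha1 (Subgroup.zpowers_eq_bot.1 hb)
  rcases (lemma_11_1 hG hU hPL h hgM hq hQ (h.hAM.trans hMQ) (hQ.cj g) hA₂).2
    (Subgroup.zpowers a) (Subgroup.zpowers_le.2 ha) hX1 with h1 | h2
  · left
    rwa [centralizer_zpowers] at h1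
  · right
    rw [centralizer_zpowers] at h2
    rw [eq_bot_iff]
    intro x hx
    obtain ⟨hxQ, hxC⟩ := Subgroup.mem_inf.1 hx
    rw [Subgroup.mem_centralizer_singleton_iff] at hxC
    have hmem : g * x * g⁻¹ ∈ BG10.cj g Q ⊓ Subgroup.centralizer {a} := by
      refine Subgroup.mem_inf.2 ⟨conj_mem_cj hxQ, ?_⟩
      rw [Subgroup.mem_centralizer_singleton_iff]
      calc g * x * g⁻¹ * a = g * (x * (g⁻¹ * a * g)) * g⁻¹ := by group
        _ = g * ((g⁻¹ * a * g) * x) * g⁻¹ := by rw [hxC]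
        _ = a * (g * x * g⁻¹) := by group
    rw [h2, Subgroup.mem_bot] at hmem
    rw [Subgroup.mem_bot]
    have : x = g⁻¹ * (g * x * g⁻¹) * g := by group
    rw [this, hmem]; group

/-- **B-G Lemma 11.5**, first half: `A` is central in the Sylow `p`-subgroup `P ≥ A` of `M`. -/
theorem lemma_11_5_aux (hG : Cfsg.IsMinSimpleOddOrder G) (hU : UniquenessThm G)
    (hPL : ∀ (r : ℕ) [Fact r.Prime] (H : Subgroup G), H ≠ ⊤ → Cfsg.PLengthLE r 1 ↥H)
    (h : Exc p M A A₀) (hP : IsSylowIn p P M) (hAP : A ≤ P) :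
    P ≤ Subgroup.centralizer (A : Set G) := by
  classical
  by_contra hnc
  have hp : p.Prime := Fact.out
  have hPp : IsPGroup p ↥P := hP.2.1
  have hnil := lemma_11_3 hG hU hPL h
  obtain ⟨g, hgN, hgM⟩ := h.exists_normalizer_not_mem hP
  -- the subgroup `Z₀ = Ω₁(Z(P))`
  set Z₀ : Subgroup G := A ⊓ Subgroup.centralizer (P : Set G) with hZ₀def
  have hZchar : ∀ z : G, z ∈ Z₀ ↔ z ∈ P ∧ z ∈ Subgroup.centralizer (P : Set G) ∧ z ^ p = 1 := by
    intro z
    constructor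
    · intro hz
      obtain ⟨hzA, hzC⟩ := Subgroup.mem_inf.1 hz
      exact ⟨hAP hzA, hzC, h.hA.2 z hzA⟩
    · rintro ⟨hzP, hzC, hzp⟩
      refine Subgroup.mem_inf.2 ⟨?_, hzC⟩
      exact (h.mem_iff_of_mem_centralizer hG hU z (Subgroup.centralizer_le hAP hzC)).1 hzp
  have hZ1 : Z₀ ≠ ⊥ := by
    haveI : Nontrivial ↥P := by
      obtain ⟨a, ha1⟩ := (Subgroup.ne_bot_iff_exists_ne_one).1 h.ne_bot
      refine ⟨⟨⟨a, hAP a.2⟩, 1, fun hh => ha1 (Subtype.ext ?_)⟩⟩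
      have := congrArg Subtype.val hh
      simpa using this
    obtain ⟨z, hz, hzo⟩ := Cfsg.Agent.Helper23.exists_center_orderOf_eq hPp
    intro hb
    have hzmem : (z : G) ∈ Z₀ := by
      rw [hZchar]
      refine ⟨z.2, ?_, ?_⟩
      · rw [Subgroup.mem_centralizer_iff]
        intro y hy
        have := (Subgroup.mem_center_iff.1 hz) ⟨y, hy⟩
        exact congrArg Subtype.val this
      · have : z ^ p = 1 := by rw [← hzo]; exact pow_orderOf_eq_one z
        have := congrArg Subtype.val this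
        simpa using this
    rw [hb, Subgroup.mem_bot] at hzmem
    have hz1 : z = 1 := Subtype.ext hzmem
    rw [hz1, orderOf_one] at hzo
    exact hp.one_lt.ne hzo
  have hZA : Z₀ ≠ A := by
    intro he
    apply hnc
    rw [Subgroup.le_centralizer_iff]
    rw [← he]
    exact inf_le_right
  have hZc : Nat.card Z₀ = p := by
    have hdvd : Nat.card Z₀ ∣ p ^ 2 := by
      rw [← h.hA2]; exact Subgroup.card_dvd_of_le inf_le_left
    obtain ⟨k, hk2, hk⟩ := (Nat.dvd_prime_pow hp).1 hdvd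
    interval_cases k
    · exfalso
      rw [pow_zero] at hk
      exact hZ1 (Subgroup.card_eq_one.1 hk)
    · rw [hk, pow_one]
    · exfalso
      exact hZA (Subgroup.eq_of_le_of_card_ge inf_le_left (by rw [hk, h.hA2]))
  have hZinv : ∀ n ∈ Subgroup.normalizer (P : Set G), ∀ z ∈ Z₀, n⁻¹ * z * n ∈ Z₀ := by
    intro n hn z hz
    obtain ⟨hzP, hzC, hzp⟩ := (hZchar z).1 hz
    have hn' : n⁻¹ ∈ Subgroup.normalizer (P : Set G) := Subgroup.inv_mem _ hn
    rw [hZchar]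
    refine ⟨?_, ?_, ?_⟩
    · have := (Subgroup.mem_normalizer_iff.1 hn' z).1 hzP
      rwa [inv_inv] at this
    · rw [Subgroup.mem_centralizer_iff]
      intro y hy
      have hy' : n * y * n⁻¹ ∈ P := (Subgroup.mem_normalizer_iff.1 hn y).1 hy
      have hc := Subgroup.mem_centralizer_iff.1 hzC _ hy'
      calc y * (n⁻¹ * z * n) = n⁻¹ * ((n * y * n⁻¹) * z) * n := by group
        _ = n⁻¹ * (z * (n * y * n⁻¹)) * n := by rw [hc]
        _ = n⁻¹ * z * n * y := by group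
    · have e : n⁻¹ * z * n = n⁻¹ * z * n⁻¹⁻¹ := by rw [inv_inv]
      rw [e, conj_pow, hzp]; group
  -- the element `u ∈ N_P(A) - C_P(A)`
  set D : Subgroup G := P ⊓ Subgroup.centralizer (A : Set G) with hDdef
  have hDlt : D < P := lt_of_le_of_ne inf_le_left (fun he => hnc (by rw [← he]; exact inf_le_right))
  have hlt2 := Cfsg.Agent.Helper31.bgt_lt_inf_normalizer_of_lt hPp hDlt
  obtain ⟨u, huPN, huD⟩ := SetLike.exists_of_lt hlt2
  obtain ⟨huP, huN⟩ := Subgroup.mem_inf.1 huPN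
  have hconjA : ∀ v ∈ P ⊓ Subgroup.normalizer (D : Set G), ∀ b ∈ A, v * b * v⁻¹ ∈ A := by
    intro v hv b hb
    obtain ⟨hvP, hvN⟩ := Subgroup.mem_inf.1 hv
    have hbD : b ∈ D := Subgroup.mem_inf.2 ⟨hAP hb, h.le_centralizer hb⟩
    have h1 : v * b * v⁻¹ ∈ D := (Subgroup.mem_normalizer_iff.1 hvN b).1 hbD
    have h2 : (v * b * v⁻¹) ^ p = 1 := by rw [conj_pow, h.hA.2 b hb]; group
    exact (h.mem_iff_of_mem_centralizer hG hU _ (Subgroup.mem_inf.1 h1).2).1 h2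
  have huA : u ∈ Subgroup.normalizer (A : Set G) := by
    rw [Subgroup.mem_normalizer_iff]
    intro x
    constructor
    · exact hconjA u huPN x
    · intro hx
      have := hconjA u⁻¹ (Subgroup.inv_mem _ huPN) _ hx
      have e : u⁻¹ * (u * x * u⁻¹) * u⁻¹⁻¹ = x := by group
      rwa [e] at this
  have huC : ∃ b ∈ A, u * b ≠ b * u := by
    by_contra hcon
    push Not at hcon
    apply huD
    refine Subgroup.mem_inf.2 ⟨huP, ?_⟩
    rw [Subgroup.mem_centralizer_iff]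
    intro b hb
    exact (hcon b hb).symm
  have hup : ∃ e : ℕ, u ^ p ^ e = 1 := by
    obtain ⟨k, hk⟩ := hPp ⟨u, huP⟩
    exact ⟨k, by simpa using congrArg Subtype.val hk⟩
  have huZ : ∀ z ∈ Z₀, u * z = z * u := by
    intro z hz
    exact Subgroup.mem_centralizer_iff.1 (Subgroup.mem_inf.1 hz).2 u huP
  -- a nontrivial Sylow subgroup `Q` of `M_σ`
  have hK1 := sigmaCore_ne_bot hG hU h.hM
  have hcardK : Nat.card (Cfsg.sigmaCore M) ≠ 1 := fun h1 => hK1 (Subgroup.card_eq_one.1 h1)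
  obtain ⟨q, hqp, hqK⟩ := Nat.exists_prime_and_dvd hcardK
  haveI : Fact q.Prime := ⟨hqp⟩
  have hq : q ∈ Cfsg.sigma M := primes_sigmaCore M q hqp hqK
  obtain ⟨Q, -, hQ⟩ := exists_isSylowIn_ge (p := q) (bot_le : (⊥ : Subgroup G) ≤ Cfsg.sigmaCore M)
    IsPGroup.of_bot
  have hQ1 : Q ≠ ⊥ := by
    intro hb
    have := hQ.2.2
    rw [hb, Subgroup.relIndex_bot_left] at this
    exact this hqK
  have hMQ : M ≤ Subgroup.normalizer (Q : Set G) :=
    (le_normalizer_sigmaCore M).trans (IsSylowIn.normalizer_le_of_isNilpotent hQ hnil)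
  have hpQ : ¬ p ∣ Nat.card Q := by
    intro hd
    obtain ⟨n, hn⟩ := IsPGroup.iff_card.1 hQ.2.1
    rw [hn] at hd
    have : p = q := (Nat.prime_dvd_prime_iff_eq hp hqp).1 (hp.dvd_of_dvd_pow hd)
    rw [← this] at hq
    exact h.hp hq
  -- `Z₀` acts without fixed points on `Q`
  have hFz : ∀ z ∈ Z₀, z ≠ 1 → Q ⊓ Subgroup.centralizer {z} = ⊥ := by
    intro z hz hz1
    rcases h.star hG hU hPL hP hAP hgN hgM hq hQ (Subgroup.mem_inf.1 hz).1 hz1 with h1 | h2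
    · exact h1
    · rw [eq_bot_iff]
      intro x hx
      obtain ⟨hxQ, hxC⟩ := Subgroup.mem_inf.1 hx
      rw [Subgroup.mem_centralizer_singleton_iff] at hxC
      have hxZ : x ∈ Subgroup.centralizer (Z₀ : Set G) :=
        Cfsg.Agent.Helper71.Shult.mem_centralizer_of_prime_card hp hZc hz hz1 hxC.symm
      have hz' := hZinv g hgN z hz
      have : x ∈ Q ⊓ Subgroup.centralizer {g⁻¹ * z * g} := by
        refine Subgroup.mem_inf.2 ⟨hxQ, ?_⟩
        rw [Subgroup.mem_centralizer_singleton_iff]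
        exact (Subgroup.mem_centralizer_iff.1 hxZ _ hz').symm
      rwa [h2] at this
  -- generation in `A` and in `B = A^(g⁻¹)`
  obtain ⟨a, haA, ha1, hFa⟩ := exists_ne_bot_of_isEA2 h.isEA2 (h.hAM.trans hMQ) hpQ hQ1
  have haZ : a ∉ Z₀ := fun hz => hFa (hFz a hz ha1)
  have hgN' : g⁻¹ ∈ Subgroup.normalizer (P : Set G) := Subgroup.inv_mem _ hgN
  have hBP : cj g⁻¹ A ≤ P := by
    have := cj_mono (g := g⁻¹) hAP
    rwa [cj_eq_of_mem_normalizer hgN'] at this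
  obtain ⟨b, hbB, hb1, hFb⟩ := exists_ne_bot_of_isEA2 (h.cj g⁻¹).isEA2
    ((hBP.trans hP.1).trans hMQ) hpQ hQ1
  have ha'A : g * b * g⁻¹ ∈ A := by
    have := mem_cj.1 hbB
    rwa [inv_inv] at this
  have ha'1 : g * b * g⁻¹ ≠ 1 := by
    intro h1
    apply hb1
    have : b = g⁻¹ * (g * b * g⁻¹) * g := by group
    rw [this, h1]; group
  have hb_eq : g⁻¹ * (g * b * g⁻¹) * g = b := by group
  have hFa' : Q ⊓ Subgroup.centralizer {g * b * g⁻¹} = ⊥ := by
    rcases h.star hG hU hPL hP hAP hgN hgM hq hQ ha'A ha'1 with h1 | h2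
    · exact h1
    · rw [hb_eq] at h2
      exact absurd h2 hFb
  have ha'Z : g * b * g⁻¹ ∉ Z₀ := by
    intro hz
    have := hZinv g hgN _ hz
    rw [hb_eq] at this
    exact hFb (hFz b this hb1)
  -- the transvection `u` moves `⟨a⟩` to `⟨a'⟩`
  obtain ⟨m, j, i, hj, hi⟩ := Cfsg.Agent.Helper29.Transvection.exists_pow_conj h.comm h.hA.2 h.hA2
    (inf_le_left : Z₀ ≤ A) hZc hup huA huZ huC haA haZ ha'A ha'Z
  obtain ⟨x, hx1⟩ := (Subgroup.ne_bot_iff_exists_ne_one).1 hFa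
  obtain ⟨hxQ, hxC⟩ := Subgroup.mem_inf.1 x.2
  rw [Subgroup.mem_centralizer_singleton_iff] at hxC
  have humQ : u ^ m ∈ Subgroup.normalizer (Q : Set G) := hMQ (hP.1 (P.pow_mem huP m))
  have hyQ : u ^ m * x * (u ^ m)⁻¹ ∈ Q := (Subgroup.mem_normalizer_iff.1 humQ x).1 hxQ
  have hyC : Commute (u ^ m * (x : G) * (u ^ m)⁻¹) ((g * b * g⁻¹) ^ j) := by
    rw [hj]
    show u ^ m * (x : G) * (u ^ m)⁻¹ * (u ^ m * a * (u ^ m)⁻¹) =
      u ^ m * a * (u ^ m)⁻¹ * (u ^ m * (x : G) * (u ^ m)⁻¹)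
    calc u ^ m * (x : G) * (u ^ m)⁻¹ * (u ^ m * a * (u ^ m)⁻¹)
        = u ^ m * ((x : G) * a) * (u ^ m)⁻¹ := by group
      _ = u ^ m * (a * (x : G)) * (u ^ m)⁻¹ := by rw [hxC]
      _ = u ^ m * a * (u ^ m)⁻¹ * (u ^ m * (x : G) * (u ^ m)⁻¹) := by group
  have hyC' : Commute (u ^ m * (x : G) * (u ^ m)⁻¹) (g * b * g⁻¹) := by
    have := hyC.pow_right i
    rwa [hi] at this
  have hymem : u ^ m * (x : G) * (u ^ m)⁻¹ ∈ Q ⊓ Subgroup.centralizer {g * b * g⁻¹} :=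
    Subgroup.mem_inf.2 ⟨hyQ, Subgroup.mem_centralizer_singleton_iff.2 hyC'.eq⟩
  rw [hFa', Subgroup.mem_bot] at hymem
  apply hx1
  apply Subtype.ext
  have : (x : G) = (u ^ m)⁻¹ * (u ^ m * (x : G) * (u ^ m)⁻¹) * u ^ m := by group
  rw [this, hymem]
  simp


/-- **B-G Lemma 11.5**: the Sylow `p`-subgroups of `M` are abelian. The hypothesis `hE1` (the
centralizer of `A` in a Sylow `p`-subgroup of `G` is abelian) is `Helper57.BG1010.centralizer_sylow`. -/
theorem lemma_11_5 (hG : Cfsg.IsMinSimpleOddOrder G) (hU : UniquenessThm G)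
    (hPL : ∀ (r : ℕ) [Fact r.Prime] (H : Subgroup G), H ≠ ⊤ → Cfsg.PLengthLE r 1 ↥H)
    (hE1 : ∀ Ps : Sylow p G, A ≤ (Ps : Subgroup G) →
      IsMulCommutative ↥((Ps : Subgroup G) ⊓ Subgroup.centralizer (A : Set G)))
    (h : Exc p M A A₀) (hP : IsSylowIn p P M) (hAP : A ≤ P) :
    ∀ x ∈ P, ∀ y ∈ P, x * y = y * x := by
  obtain ⟨Ps, hPs⟩ := hP.2.1.exists_le_sylow
  have hcent := lemma_11_5_aux hG hU hPL h hP hAP
  have hc := (Cfsg.Agent.Helper23.isMulCommutative_subgroup_iff _).1 (hE1 Ps (hAP.trans hPs))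
  intro x hx y hy
  exact hc x (Subgroup.mem_inf.2 ⟨hPs hx, hcent hx⟩) y (Subgroup.mem_inf.2 ⟨hPs hy, hcent hy⟩)

/-! ### Lemma 11.6 -/

theorem mem_of_sq_mem_of_odd (hodd : Odd (Nat.card G)) {H : Subgroup G} {g : G}
    (hg : g * g ∈ H) : g ∈ H := by
  have ho : Odd (orderOf g) := Odd.of_dvd_nat hodd (orderOf_dvd_natCard g)
  obtain ⟨k, hk⟩ := ho
  have : g = (g * g) ^ (k + 1) := by
    rw [← pow_two, ← pow_mul]
    have e : 2 * (k + 1) = orderOf g + 1 := by omega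
    rw [e, pow_succ, pow_orderOf_eq_one, one_mul]
  rw [this]
  exact H.pow_mem hg _

/-- **B-G Lemma 11.6** (given Lemma 11.5): `A = Ω₁(P)`, `N_G(P) ≤ N_G(A)`, and for
`g ∈ N_G(P) - M` the two distinct points `A₀^g`, `A₀^(g⁻¹)` of `A` act without fixed points on
`M_σ` and generate `A`; in particular `C_{M_σ}(A) = 1`. -/
theorem lemma_11_6 (hG : Cfsg.IsMinSimpleOddOrder G) (hU : UniquenessThm G)
    (hPL : ∀ (r : ℕ) [Fact r.Prime] (H : Subgroup G), H ≠ ⊤ → Cfsg.PLengthLE r 1 ↥H)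
    (h : Exc p M A A₀) (hP : IsSylowIn p P M) (hAP : A ≤ P)
    (hPab : ∀ x ∈ P, ∀ y ∈ P, x * y = y * x) :
    (∀ x ∈ P, x ^ p = 1 → x ∈ A) ∧
      Subgroup.normalizer (P : Set G) ≤ Subgroup.normalizer (A : Set G) ∧
      ∀ g ∈ Subgroup.normalizer (P : Set G), g ∉ M →
        cj g A₀ ≤ A ∧ cj g⁻¹ A₀ ≤ A ∧ cj g A₀ ≠ cj g⁻¹ A₀ ∧
        Cfsg.sigmaCore M ⊓ Subgroup.centralizer ((cj g A₀ : Subgroup G) : Set G) = ⊥ ∧
        Cfsg.sigmaCore M ⊓ Subgroup.centralizer ((cj g⁻¹ A₀ : Subgroup G) : Set G) = ⊥ ∧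
        Cfsg.sigmaCore M ⊓ Subgroup.centralizer (A : Set G) = ⊥ ∧
        cj g A₀ ⊔ cj g⁻¹ A₀ = A := by
  have hp : p.Prime := Fact.out
  have hΩ : ∀ x ∈ P, x ^ p = 1 → x ∈ A := by
    intro x hx hxp
    refine (h.mem_iff_of_mem_centralizer hG hU x ?_).1 hxp
    rw [Subgroup.mem_centralizer_iff]
    intro a ha
    exact hPab a (hAP ha) x hx
  have hconj : ∀ n ∈ Subgroup.normalizer (P : Set G), ∀ a ∈ A, n * a * n⁻¹ ∈ A := by
    intro n hn a ha
    apply hΩ _ ((Subgroup.mem_normalizer_iff.1 hn a).1 (hAP ha))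
    rw [conj_pow, h.hA.2 a ha]; group
  have hNN : Subgroup.normalizer (P : Set G) ≤ Subgroup.normalizer (A : Set G) := by
    intro n hn
    rw [Subgroup.mem_normalizer_iff]
    intro x
    constructor
    · exact hconj n hn x
    · intro hx
      have := hconj n⁻¹ (Subgroup.inv_mem _ hn) _ hx
      have e : n⁻¹ * (n * x * n⁻¹) * n⁻¹⁻¹ = x := by group
      rwa [e] at this
  refine ⟨hΩ, hNN, ?_⟩
  intro g hgN hgM
  have hgN' : g⁻¹ ∈ Subgroup.normalizer (P : Set G) := Subgroup.inv_mem _ hgN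
  have hgM' : g⁻¹ ∉ M := fun hh => hgM (by simpa using M.inv_mem hh)
  have hle : ∀ n ∈ Subgroup.normalizer (P : Set G), cj n A₀ ≤ A := by
    intro n hn
    have := cj_mono (g := n) h.hA0
    rwa [cj_eq_of_mem_normalizer (hNN hn)] at this
  have h1 := (lemma_11_2 hG hU hPL h hgM (h.le_cj_of_mem_normalizer hP hAP hgN)).2
  have h2 := (lemma_11_2 hG hU hPL h hgM' (h.le_cj_of_mem_normalizer hP hAP hgN')).2
  have hne : cj g A₀ ≠ cj g⁻¹ A₀ := by
    intro he
    apply hgM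
    apply mem_of_sq_mem_of_odd hG.1
    apply h.hN
    apply mem_normalizer_of_cj_eq
    rw [cj_mul, he, cj_cj_inv]
  have hsup : cj g A₀ ⊔ cj g⁻¹ A₀ = A := by
    have hle' : cj g A₀ ⊔ cj g⁻¹ A₀ ≤ A := sup_le (hle g hgN) (hle g⁻¹ hgN')
    apply Subgroup.eq_of_le_of_card_ge hle'
    have hdvd : Nat.card ↥(cj g A₀ ⊔ cj g⁻¹ A₀) ∣ p ^ 2 := by
      rw [← h.hA2]; exact Subgroup.card_dvd_of_le hle'
    obtain ⟨k, hk2, hk⟩ := (Nat.dvd_prime_pow hp).1 hdvd
    have hc1 : Nat.card (cj g A₀) = p := by rw [card_cj]; exact h.hA0c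
    have hc2 : Nat.card (cj g⁻¹ A₀) = p := by rw [card_cj]; exact h.hA0c
    have hge : p ≤ Nat.card ↥(cj g A₀ ⊔ cj g⁻¹ A₀) := by
      rw [← hc1]; exact Subgroup.card_le_of_le le_sup_left
    interval_cases k
    · exfalso
      rw [hk, pow_zero] at hge
      exact absurd hge (not_le.2 hp.one_lt)
    · exfalso
      rw [pow_one] at hk
      have e1 : cj g A₀ = cj g A₀ ⊔ cj g⁻¹ A₀ :=
        Subgroup.eq_of_le_of_card_ge le_sup_left (by rw [hk, hc1])
      have e2 : cj g⁻¹ A₀ = cj g A₀ ⊔ cj g⁻¹ A₀ :=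
        Subgroup.eq_of_le_of_card_ge le_sup_right (by rw [hk, hc2])
      exact hne (e1.trans e2.symm)
    · rw [hk, h.hA2]
  refine ⟨hle g hgN, hle g⁻¹ hgN', hne, h1, h2, ?_, hsup⟩
  rw [eq_bot_iff, ← h1]
  exact inf_le_inf_left _ (Subgroup.centralizer_le (hle g hgN))

end Cfsg.Agent.Helper29.BG11
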