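import Mathlib

set_option autoImplicit false

namespace Cfsg.Agent.Helper29

open scoped IsMulCommutative

section Pairing

variable {Q : Type*} [Group Q]

theorem comm_mem_center (h : commutator Q ≤ Subgroup.center Q) (a b : Q) :
    a * b * a⁻¹ * b⁻¹ ∈ Subgroup.center Q := by
  apply h
  rw [commutator_def]
  exact Subgroup.commutator_mem_commutator (Subgroup.mem_top a) (Subgroup.mem_top b)

/-- `y ↦ [q, y]` as a homomorphism into the centre, when commutators are central. -/
def commHom (h : commutator Q ≤ Subgroup.center Q) (q : Q) : Q →* Subgroup.center Q where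
  toFun y := ⟨q * y * q⁻¹ * y⁻¹, comm_mem_center h q y⟩
  map_one' := by ext; simp
  map_mul' a b := by
    ext
    have hb := Subgroup.mem_center_iff.mp (comm_mem_center h q b)
    show q * (a * b) * q⁻¹ * (a * b)⁻¹ = (q * a * q⁻¹ * a⁻¹) * (q * b * q⁻¹ * b⁻¹)
    calc q * (a * b) * q⁻¹ * (a * b)⁻¹
        = q * a * q⁻¹ * ((q * b * q⁻¹ * b⁻¹) * a⁻¹) := by group
      _ = q * a * q⁻¹ * (a⁻¹ * (q * b * q⁻¹ * b⁻¹)) := by rw [hb a⁻¹]
      _ = (q * a * q⁻¹ * a⁻¹) * (q * b * q⁻¹ * b⁻¹) := by group

@[simp] theorem commHom_apply_coe (h : commutator Q ≤ Subgroup.center Q) (q y : Q) :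
    ((commHom h q y : Subgroup.center Q) : Q) = q * y * q⁻¹ * y⁻¹ := rfl

/-- `q ↦ (y ↦ [q, y])` as a homomorphism. -/
def commHom₂ (h : commutator Q ≤ Subgroup.center Q) : Q →* (Q →* Subgroup.center Q) where
  toFun q := commHom h q
  map_one' := by ext; simp
  map_mul' a b := by
    ext y
    have hb := Subgroup.mem_center_iff.mp (comm_mem_center h b y)
    show a * b * y * (a * b)⁻¹ * y⁻¹ = (a * y * a⁻¹ * y⁻¹) * (b * y * b⁻¹ * y⁻¹)
    calc a * b * y * (a * b)⁻¹ * y⁻¹
        = a * (b * y * b⁻¹ * y⁻¹) * (y * a⁻¹ * y⁻¹) := by group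
      _ = (b * y * b⁻¹ * y⁻¹) * a * (y * a⁻¹ * y⁻¹) := by rw [hb a]
      _ = (b * y * b⁻¹ * y⁻¹) * (a * y * a⁻¹ * y⁻¹) := by group
      _ = (a * y * a⁻¹ * y⁻¹) * (b * y * b⁻¹ * y⁻¹) := by
          rw [Subgroup.mem_center_iff.mp (comm_mem_center h b y) (a * y * a⁻¹ * y⁻¹)]

end Pairing

section Count

variable {Q : Type*} [Group Q] [Finite Q]

theorem card_monoidHom_complexUnits :
    Nat.card (Q →* ℂˣ) * Nat.card (commutator Q) = Nat.card Q := by
  have h1 : Nat.card (Q →* ℂˣ) = Nat.card (Abelianization Q →* ℂˣ) :=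
    Nat.card_congr Abelianization.lift
  have h2 : Nat.card (Abelianization Q →* ℂˣ) = Nat.card (Abelianization Q) :=
    CommGroup.card_monoidHom_of_hasEnoughRootsOfUnity (Abelianization Q) ℂ
  have h3 : Nat.card (Abelianization Q) = (commutator Q).index := rfl
  rw [h1, h2, h3]
  exact Subgroup.index_mul_card _

/-- In a group of order two, any two non-identity elements are equal. -/
theorem eq_of_ne_one_of_card_two {Z : Type*} (one : Z) (h : Nat.card Z = 2) {a b : Z}
    (ha : a ≠ one) (hb : b ≠ one) : a = b := by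
  obtain ⟨y, -, hy⟩ := (Nat.card_eq_two_iff' one).mp h
  rw [hy a ha, hy b hb]

/-- If `Q' = Z(Q)` has order two, every linear character of `Q` into `ℂˣ` is of the form
`y ↦ ε [q, y]`, for a fixed injective `ε : Z(Q) →* ℂˣ`. -/
theorem exists_commHom_eq (hc : commutator Q = Subgroup.center Q)
    (h2 : Nat.card (Subgroup.center Q) = 2) :
    ∃ ε : Subgroup.center Q →* ℂˣ, Function.Injective ε ∧
      ∀ φ : Q →* ℂˣ, ∃ q : Q, ∀ y : Q, φ y = ε (commHom hc.le q y) := by
  classical
  -- the non-identity central element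
  obtain ⟨c0, hc0, hc0u⟩ := (Nat.card_eq_two_iff' (1 : Subgroup.center Q)).mp h2
  obtain ⟨ε, hε⟩ := CommGroup.exists_apply_ne_one_of_hasEnoughRootsOfUnity
    (Subgroup.center Q) ℂ hc0
  have hεinj : Function.Injective ε := by
    rw [injective_iff_map_eq_one]
    intro a ha
    by_contra hne
    rw [hc0u a hne] at ha
    exact hε ha
  refine ⟨ε, hεinj, ?_⟩
  -- the homomorphism Q → Hom(Q, ℂˣ)
  let Φ : Q →* (Q →* ℂˣ) := (MonoidHom.compHom ε).comp (commHom₂ hc.le)
  have hΦ : ∀ q y, Φ q y = ε (commHom hc.le q y) := fun q y => rfl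
  have hker : Φ.ker ≤ Subgroup.center Q := by
    intro q hq
    rw [MonoidHom.mem_ker] at hq
    rw [Subgroup.mem_center_iff]
    intro y
    have h1 : Φ q y = 1 := by rw [hq]; rfl
    rw [hΦ] at h1
    have h2 : commHom hc.le q y = 1 := hεinj (by rw [h1, map_one])
    have h3 : q * y * q⁻¹ * y⁻¹ = 1 := by
      have := congrArg Subtype.val h2
      simpa using this
    calc y * q = (q * y * q⁻¹ * y⁻¹) * (y * q) := by rw [h3, one_mul]
      _ = q * y := by group
  have hcardM : Nat.card (Q →* ℂˣ) * 2 = Nat.card Q := by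
    have := card_monoidHom_complexUnits (Q := Q)
    rwa [hc, h2] at this
  have hfin : Finite (Q →* ℂˣ) := by
    apply Nat.finite_of_card_ne_zero
    intro h0
    rw [h0, zero_mul] at hcardM
    exact (Nat.card_pos (α := Q)).ne hcardM
  have hsurj : Function.Surjective Φ := by
    apply MonoidHom.surjective_of_card_ker_le_div
    have hk : Nat.card Φ.ker ≤ 2 := by
      rw [← h2]
      exact Subgroup.card_le_of_le hker
    have : Nat.card Q / Nat.card (Q →* ℂˣ) = 2 := by
      rw [← hcardM]
      exact Nat.mul_div_cancel_left 2 (Nat.card_pos)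
    omega
  intro φ
  obtain ⟨q, hq⟩ := hsurj φ
  exact ⟨q, fun y => by rw [← hq, hΦ]⟩

/-- The character of order two attached to a subgroup of index two. -/
noncomputable def indexTwoChar (M : Subgroup Q) (h : M.index = 2) : Q →* ℂˣ where
  toFun y := by classical exact if y ∈ M then 1 else -1
  map_one' := by simp [M.one_mem]
  map_mul' a b := by
    classical
    by_cases ha : a ∈ M <;> by_cases hb : b ∈ M <;>
      simp [Subgroup.mul_mem_iff_of_index_two h, ha, hb]

theorem indexTwoChar_eq_one_iff (M : Subgroup Q) (h : M.index = 2) (y : Q) :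
    indexTwoChar M h y = 1 ↔ y ∈ M := by
  classical
  unfold indexTwoChar
  by_cases hy : y ∈ M
  · simp [hy]
  · simp only [MonoidHom.coe_mk, OneHom.coe_mk, hy, if_false, iff_false]
    intro h1
    have : ((-1 : ℂˣ) : ℂ) = 1 := by rw [h1]; rfl
    norm_num at this

/-- If `Q' = Z(Q)` has order two and `M` has index two in `Q`, some `q` centralises `M` and commutes
with no element outside `M`. -/
theorem exists_centralizing_index_two (hc : commutator Q = Subgroup.center Q)
    (h2 : Nat.card (Subgroup.center Q) = 2) (M : Subgroup Q) (hM : M.index = 2) :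
    ∃ q : Q, (∀ m ∈ M, q * m = m * q) ∧ ∀ x, x ∉ M → q * x ≠ x * q := by
  obtain ⟨ε, hεinj, hε⟩ := exists_commHom_eq hc h2
  obtain ⟨q, hq⟩ := hε (indexTwoChar M hM)
  refine ⟨q, fun m hm => ?_, fun x hx hcomm => ?_⟩
  · have h1 : indexTwoChar M hM m = 1 := (indexTwoChar_eq_one_iff M hM m).mpr hm
    rw [hq] at h1
    have h3 : commHom hc.le q m = 1 := hεinj (by rw [h1, map_one])
    have h4 : q * m * q⁻¹ * m⁻¹ = 1 := by
      have := congrArg Subtype.val h3
      simpa using this
    calc q * m = (q * m * q⁻¹ * m⁻¹) * (m * q) := by group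
      _ = m * q := by rw [h4, one_mul]
  · apply hx
    rw [← indexTwoChar_eq_one_iff M hM x, hq]
    have : commHom hc.le q x = 1 := by
      ext
      show q * x * q⁻¹ * x⁻¹ = 1
      rw [hcomm]; group
    rw [this, map_one]

end Count

end Cfsg.Agent.Helper29

namespace Cfsg.Agent.Helper29

/-- Let `Q` be a finite group with `Q' = Z(Q)` of order two (e.g. an extraspecial 2-group) and `σ` an
involutory automorphism of `Q` whose fixed-point subgroup `M` has index at most two. Then `σ` is inner. -/
theorem involution_inner_of_fixed_index_le_two {Q : Type*} [Group Q] [Finite Q]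
    (hc : commutator Q = Subgroup.center Q) (h2 : Nat.card (Subgroup.center Q) = 2)
    (σ : Q ≃* Q) (hσ : ∀ y, σ (σ y) = y) (M : Subgroup Q) (hM : ∀ y, y ∈ M ↔ σ y = y)
    (hidx : M.index ≤ 2) : ∃ q : Q, ∀ y, σ y = q * y * q⁻¹ := by
  have hidx0 : M.index ≠ 0 := Subgroup.index_ne_zero_of_finite
  have hcases : M.index = 1 ∨ M.index = 2 := by omega
  rcases hcases with h1 | hM2
  · refine ⟨1, fun y => ?_⟩
    rw [Subgroup.index_eq_one] at h1
    have : y ∈ M := h1 ▸ Subgroup.mem_top y
    rw [(hM y).mp this]; simp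
  · -- pick x outside M
    have hne : M ≠ ⊤ := by
      intro h
      rw [h, Subgroup.index_top] at hM2
      omega
    obtain ⟨x, hx⟩ : ∃ x, x ∉ M := by
      by_contra hall
      push Not at hall
      exact hne (Subgroup.eq_top_iff' M |>.mpr hall)
    have hnormal : M.Normal := Subgroup.normal_of_index_eq_two hM2
    -- c = x⁻¹ σ x
    have hσx : σ x ∉ M := by
      intro h
      have := (hM (σ x)).mp h
      rw [hσ x] at this
      exact hx ((hM x).mpr this.symm)
    have hcM : x⁻¹ * σ x ∈ M := by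
      by_contra hcn
      have : x * (x⁻¹ * σ x) ∈ M :=
        (Subgroup.mul_mem_iff_of_index_two hM2).mpr ⟨fun h => absurd h hx, fun h => absurd h hcn⟩
      rw [mul_inv_cancel_left] at this
      exact hσx this
    set c := x⁻¹ * σ x with hcdef
    have hxc : σ x = x * c := by rw [hcdef, mul_inv_cancel_left]
    have hσc : σ c = c := (hM c).mp hcM
    have hcc : c * c = 1 := by
      have h := hσ x
      rw [hxc, map_mul, hxc, hσc] at h
      have : x * (c * c) = x * 1 := by rw [mul_one, ← mul_assoc]; exact h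
      exact mul_left_cancel this
    have hcinv : c⁻¹ = c := inv_eq_of_mul_eq_one_right hcc
    have hcx : c * x = x * c := by
      have hxx : x * x ∈ M :=
        (Subgroup.mul_mem_iff_of_index_two hM2).mpr ⟨fun h => h, fun h => h⟩
      have h := (hM _).mp hxx
      rw [map_mul, hxc] at h
      -- x c x c = x x
      have h' : c * x * c = x := by
        have : x * (c * x * c) = x * x := by
          calc x * (c * x * c) = x * c * (x * c) := by group
            _ = x * x := h
        exact mul_left_cancel this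
      calc c * x = (c * x * c) * c⁻¹ := by group
        _ = x * c := by rw [h', hcinv]
    have hcm : ∀ m ∈ M, c * m = m * c := by
      intro m hm
      have hconj : x * m * x⁻¹ ∈ M := hnormal.conj_mem m hm x
      have h := (hM _).mp hconj
      rw [map_mul, map_mul, map_inv, hxc, (hM m).mp hm] at h
      -- x c m (x c)⁻¹ = x m x⁻¹
      have h' : c * m * c⁻¹ = m := by
        have : x * (c * m * c⁻¹) * x⁻¹ = x * m * x⁻¹ := by
          calc x * (c * m * c⁻¹) * x⁻¹ = x * c * m * (x * c)⁻¹ := by group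
            _ = x * m * x⁻¹ := h
        exact mul_left_cancel (mul_right_cancel this)
      calc c * m = (c * m * c⁻¹) * c := by group
        _ = m * c := by rw [h']
    -- decomposition of Q
    have hdecomp : ∀ y, y ∉ M → x⁻¹ * y ∈ M := by
      intro y hy
      refine (Subgroup.mul_mem_iff_of_index_two hM2).mpr ⟨fun h => ?_, fun h => absurd h hy⟩
      exact absurd (M.inv_mem_iff.mp h) hx
    have hccen : c ∈ Subgroup.center Q := by
      rw [Subgroup.mem_center_iff]
      intro y
      by_cases hy : y ∈ M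
      · exact (hcm y hy).symm
      · have hm := hdecomp y hy
        have hy' : y = x * (x⁻¹ * y) := by group
        rw [hy']
        calc x * (x⁻¹ * y) * c = x * (c * (x⁻¹ * y)) := by rw [mul_assoc, hcm _ hm]
          _ = (x * c) * (x⁻¹ * y) := by group
          _ = c * x * (x⁻¹ * y) := by rw [hcx]
          _ = c * (x * (x⁻¹ * y)) := by group
    have hc1 : c ≠ 1 := by
      intro h
      rw [h, mul_one] at hxc
      exact hx ((hM x).mpr hxc)
    -- the element q
    obtain ⟨q, hqM, hqx⟩ := exists_centralizing_index_two hc h2 M hM2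
    have hd : q * x * q⁻¹ * x⁻¹ ∈ Subgroup.center Q := comm_mem_center hc.le q x
    have hd1 : q * x * q⁻¹ * x⁻¹ ≠ 1 := by
      intro h
      apply hqx x hx
      calc q * x = (q * x * q⁻¹ * x⁻¹) * (x * q) := by group
        _ = x * q := by rw [h, one_mul]
    have hdc : q * x * q⁻¹ * x⁻¹ = c := by
      have h1 : (⟨_, hd⟩ : Subgroup.center Q) ≠ 1 := fun h => hd1 (congrArg Subtype.val h)
      have h2' : (⟨c, hccen⟩ : Subgroup.center Q) ≠ 1 := fun h => hc1 (congrArg Subtype.val h)
      exact congrArg Subtype.val (eq_of_ne_one_of_card_two 1 h2 h1 h2')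
    have hqxq : q * x * q⁻¹ = x * c := by
      calc q * x * q⁻¹ = (q * x * q⁻¹ * x⁻¹) * x := by group
        _ = c * x := by rw [hdc]
        _ = x * c := hcx
    refine ⟨q, fun y => ?_⟩
    by_cases hy : y ∈ M
    · rw [(hM y).mp hy]
      calc y = y * q * q⁻¹ := by group
        _ = q * y * q⁻¹ := by rw [hqM y hy]
    · have hm := hdecomp y hy
      have hy' : y = x * (x⁻¹ * y) := by group
      rw [hy', map_mul, (hM _).mp hm, hxc]
      calc x * c * (x⁻¹ * y) = (q * x * q⁻¹) * ((x⁻¹ * y) * q * q⁻¹) := by rw [hqxq]; group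
        _ = (q * x * q⁻¹) * (q * (x⁻¹ * y) * q⁻¹) := by rw [hqM _ hm]
        _ = q * (x * (x⁻¹ * y)) * q⁻¹ := by group

end Cfsg.Agent.Helper29
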