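import Mathlib
import Cfsg.Agent.Helper29.Extraspecial

set_option autoImplicit false

namespace Cfsg.Agent.Helper29

open scoped IsMulCommutative

/-- If `Q' = Z(Q)` has prime order `p`, every linear character of `Q` into `ℂˣ` is of the form
`y ↦ ε [q, y]`, for a fixed injective `ε : Z(Q) →* ℂˣ`. -/
theorem exists_commHom_eq_prime {Q : Type*} [Group Q] [Finite Q] (p : ℕ) [hp : Fact p.Prime]
    (hc : commutator Q = Subgroup.center Q) (h2 : Nat.card (Subgroup.center Q) = p) :
    ∃ ε : Subgroup.center Q →* ℂˣ, Function.Injective ε ∧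
      ∀ φ : Q →* ℂˣ, ∃ q : Q, ∀ y : Q, φ y = ε (commHom hc.le q y) := by
  classical
  have hnt : Nontrivial (Subgroup.center Q) := by
    rw [← Finite.one_lt_card_iff_nontrivial, h2]
    exact hp.1.one_lt
  obtain ⟨c0, hc0⟩ := exists_ne (1 : Subgroup.center Q)
  obtain ⟨ε, hε⟩ := CommGroup.exists_apply_ne_one_of_hasEnoughRootsOfUnity
    (Subgroup.center Q) ℂ hc0
  have hεinj : Function.Injective ε := by
    rw [← MonoidHom.ker_eq_bot_iff]
    have hdvd : Nat.card ε.ker ∣ p := h2 ▸ Subgroup.card_subgroup_dvd_card ε.ker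
    rcases (Nat.dvd_prime hp.1).mp hdvd with h1 | h1
    · exact Subgroup.card_eq_one.mp h1
    · exfalso
      have htop : ε.ker = ⊤ := Subgroup.card_eq_iff_eq_top _ |>.mp (h1.trans h2.symm)
      apply hε
      have : c0 ∈ ε.ker := htop ▸ Subgroup.mem_top c0
      exact this
  refine ⟨ε, hεinj, ?_⟩
  let Φ : Q →* (Q →* ℂˣ) := (MonoidHom.compHom ε).comp (commHom₂ hc.le)
  have hΦ : ∀ q y, Φ q y = ε (commHom hc.le q y) := fun q y => rfl
  have hker : Φ.ker ≤ Subgroup.center Q := by
    intro q hq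
    rw [MonoidHom.mem_ker] at hq
    rw [Subgroup.mem_center_iff]
    intro y
    have h1 : Φ q y = 1 := by rw [hq]; rfl
    rw [hΦ] at h1
    have h2 : commHom hc.le q y = 1 := hεinj (by rw [h1, map_one])
    have h3 : q * y * q⁻¹ * y⁻¹ = 1 := by
      have := congrArg Subtype.val h2
      simpa using this
    calc y * q = (q * y * q⁻¹ * y⁻¹) * (y * q) := by rw [h3, one_mul]
      _ = q * y := by group
  have hcardM : Nat.card (Q →* ℂˣ) * p = Nat.card Q := by
    have := card_monoidHom_complexUnits (Q := Q)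
    rwa [hc, h2] at this
  have hfin : Finite (Q →* ℂˣ) := by
    apply Nat.finite_of_card_ne_zero
    intro h0
    rw [h0, zero_mul] at hcardM
    exact (Nat.card_pos (α := Q)).ne hcardM
  have hsurj : Function.Surjective Φ := by
    apply MonoidHom.surjective_of_card_ker_le_div
    have hk : Nat.card Φ.ker ≤ p := by
      rw [← h2]
      exact Subgroup.card_le_of_le hker
    have : Nat.card Q / Nat.card (Q →* ℂˣ) = p := by
      rw [← hcardM]
      exact Nat.mul_div_cancel_left p (Nat.card_pos)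
    omega
  intro φ
  obtain ⟨q, hq⟩ := hsurj φ
  exact ⟨q, fun y => by rw [← hq, hΦ]⟩

/-- An automorphism-like map `y ↦ λ(y) y` with `λ` a homomorphism into the centre is inner, when
`Q' = Z(Q)` has prime order. -/
theorem exists_inner_of_central_hom {Q : Type*} [Group Q] [Finite Q] (p : ℕ) [hp : Fact p.Prime]
    (hc : commutator Q = Subgroup.center Q) (h2 : Nat.card (Subgroup.center Q) = p)
    (l : Q →* Subgroup.center Q) : ∃ q : Q, ∀ y : Q, (l y : Q) = q * y * q⁻¹ * y⁻¹ := by
  obtain ⟨ε, hεinj, hε⟩ := exists_commHom_eq_prime p hc h2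
  obtain ⟨q, hq⟩ := hε (ε.comp l)
  refine ⟨q, fun y => ?_⟩
  have := hεinj (hq y)
  rw [this]
  rfl

end Cfsg.Agent.Helper29
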