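import Mathlib

set_option autoImplicit false

/-!
# Maschke-type complements for coprime actions on abelian groups

* `exists_compl_of_exponent_prime`: in an abelian group of prime exponent every subgroup has a
  complement.
* `exists_invariant_compl`: coprime action on a finite abelian group `V`; an invariant subgroup
  which has a complement has an invariant complement.
* `quotientAction`: the induced action on the quotient by an invariant normal subgroup.
-/

namespace Cfsg.Agent.Helper29

open Subgroup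

/-- In a finite abelian group of prime exponent, every subgroup has a complement. -/
theorem exists_compl_of_exponent_prime {V : Type*} [Group V] [Finite V] {p : ℕ} (hp : p.Prime)
    (hcomm : ∀ x y : V, x * y = y * x) (hexp : ∀ x : V, x ^ p = 1) (W : Subgroup V) :
    ∃ U : Subgroup V, W ⊓ U = ⊥ ∧ W ⊔ U = ⊤ := by
  classical
  haveI : Fact p.Prime := ⟨hp⟩
  letI : CommGroup V := { ‹Group V› with mul_comm := hcomm }
  obtain ⟨U, -, hU⟩ := Finite.exists_le_maximal (p := fun U : Subgroup V => W ⊓ U = ⊥)
    (a := (⊥ : Subgroup V)) (by simp)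
  refine ⟨U, hU.prop, ?_⟩
  by_contra htop
  obtain ⟨v, hv⟩ : ∃ v : V, v ∉ W ⊔ U := by
    by_contra h
    push Not at h
    exact htop (eq_top_iff.mpr fun x _ => h x)
  have hv1 : v ≠ 1 := fun h => hv (h ▸ one_mem _)
  have hord : orderOf v = p := orderOf_eq_prime (hexp v) hv1
  have hcard : Nat.card (zpowers v) = p := by rw [Nat.card_zpowers, hord]
  haveI : Fact (Nat.card (zpowers v)).Prime := ⟨hcard ▸ hp⟩
  have hdisj : Disjoint (W ⊔ U) (zpowers v) := by
    rcases Subgroup.eq_bot_or_eq_top_of_prime_card ((W ⊔ U).subgroupOf (zpowers v)) with h | h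
    · exact Subgroup.subgroupOf_eq_bot.mp h
    · exfalso
      rw [Subgroup.subgroupOf_eq_top] at h
      exact hv (h (mem_zpowers v))
  have hnew : W ⊓ (U ⊔ zpowers v) = ⊥ := by
    rw [eq_bot_iff]
    intro x hx
    obtain ⟨hxW, hxUZ⟩ := Subgroup.mem_inf.mp hx
    obtain ⟨u, hu, z, hz, rfl⟩ := Subgroup.mem_sup.mp hxUZ
    have hzWU : z ∈ W ⊔ U := by
      have : z = (u * z) * u⁻¹ := by rw [mul_comm u z, mul_inv_cancel_right]
      rw [this]
      exact Subgroup.mul_mem _ (Subgroup.mem_sup_left hxW)
        (Subgroup.mem_sup_right (Subgroup.inv_mem _ hu))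
    have hz1 : z = 1 := by
      have := hdisj.le_bot (Subgroup.mem_inf.mpr ⟨hzWU, hz⟩)
      simpa using this
    subst hz1
    rw [mul_one] at hxW ⊢
    have : u ∈ W ⊓ U := Subgroup.mem_inf.mpr ⟨hxW, hu⟩
    rw [hU.prop] at this
    exact this
  have hle : U ≤ U ⊔ zpowers v := le_sup_left
  have := hU.le_of_ge hnew hle
  exact hv (Subgroup.mem_sup_right (this (Subgroup.mem_sup_right (mem_zpowers v))))

/-- **Maschke's theorem** for coprime actions on finite abelian groups: an invariant subgroup with a
complement has an invariant complement. -/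
theorem exists_invariant_compl {A V : Type*} [Group A] [Finite A] [Group V] [Finite V]
    [MulDistribMulAction A V] (hcomm : ∀ x y : V, x * y = y * x)
    (hcop : (Nat.card A).Coprime (Nat.card V))
    (W U : Subgroup V) (hW : ∀ a : A, ∀ x ∈ W, a • x ∈ W) (hWU : W ⊓ U = ⊥) (hWU' : W ⊔ U = ⊤) :
    ∃ K : Subgroup V, (∀ a : A, ∀ x ∈ K, a • x ∈ K) ∧ W ⊓ K = ⊥ ∧ W ⊔ K = ⊤ := by
  classical
  letI : CommGroup V := { ‹Group V› with mul_comm := hcomm }
  letI : Fintype A := Fintype.ofFinite A
  -- the projection onto `W` along `U`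
  let f : W × U →* V := MonoidHom.coprod W.subtype U.subtype
  have hf : ∀ w : W, ∀ u : U, f (w, u) = (w : V) * (u : V) := fun w u => by
    simp [f, MonoidHom.coprod_apply]
  have hfinj : Function.Injective f := by
    rw [injective_iff_map_eq_one]
    rintro ⟨w, u⟩ h
    rw [hf] at h
    have hw : (w : V) ∈ W ⊓ U := by
      refine Subgroup.mem_inf.mpr ⟨w.2, ?_⟩
      have : (w : V) = (u : V)⁻¹ := eq_inv_of_mul_eq_one_left h
      rw [this]
      exact U.inv_mem u.2
    rw [hWU, Subgroup.mem_bot] at hw
    have hu : (u : V) = 1 := by rw [hw, one_mul] at h; exact h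
    ext
    · exact hw
    · exact hu
  have hfsurj : Function.Surjective f := by
    intro v
    have hv : v ∈ W ⊔ U := by rw [hWU']; trivial
    obtain ⟨w, hw, u, hu, rfl⟩ := Subgroup.mem_sup.mp hv
    exact ⟨(⟨w, hw⟩, ⟨u, hu⟩), hf _ _⟩
  let e : W × U ≃* V := MulEquiv.ofBijective f ⟨hfinj, hfsurj⟩
  let π : V →* V := W.subtype.comp ((MonoidHom.fst W U).comp e.symm.toMonoidHom)
  have hπW : ∀ v : V, π v ∈ W := fun v => by
    simp only [π, MonoidHom.comp_apply, Subgroup.coe_subtype]
    exact SetLike.coe_mem _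
  have hπfix : ∀ w ∈ W, π w = w := by
    intro w hw
    have : e.symm w = (⟨w, hw⟩, 1) := by
      rw [MulEquiv.symm_apply_eq]
      show w = f (⟨w, hw⟩, 1)
      rw [hf]; simp
    simp only [π, MonoidHom.comp_apply, Subgroup.coe_subtype, MulEquiv.coe_toMonoidHom, this,
      MonoidHom.coe_fst]
  -- the averaged map
  let θ : V →* V :=
    { toFun := fun v => ∏ a : A, a • π (a⁻¹ • v)
      map_one' := by simp
      map_mul' := fun x y => by
        simp only [smul_mul', map_mul]
        exact Finset.prod_mul_distrib }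
  have hθ : ∀ v : V, θ v = ∏ a : A, a • π (a⁻¹ • v) := fun _ => rfl
  have hθW : ∀ v : V, θ v ∈ W := fun v => by
    rw [hθ]
    exact Subgroup.prod_mem _ fun a _ => hW a _ (hπW _)
  have hθfix : ∀ w ∈ W, θ w = w ^ Nat.card A := by
    intro w hw
    rw [hθ]
    have : ∀ a : A, a • π (a⁻¹ • w) = w := fun a => by
      rw [hπfix _ (hW a⁻¹ w hw), smul_inv_smul]
    simp only [this, Finset.prod_const, Finset.card_univ, Nat.card_eq_fintype_card]
  have hθequiv : ∀ (b : A) (v : V), θ (b • v) = b • θ v := by
    intro b v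
    rw [hθ, hθ]
    have h1 : b • ∏ a : A, a • π (a⁻¹ • v) = ∏ a : A, b • a • π (a⁻¹ • v) :=
      map_prod (MulDistribMulAction.toMonoidHom V b) _ _
    rw [h1]
    refine (Fintype.prod_equiv (Equiv.mulLeft b) _ _ fun a => ?_).symm
    simp only [Equiv.coe_mulLeft, mul_smul, mul_inv_rev, inv_smul_smul]
  refine ⟨θ.ker, ?_, ?_, ?_⟩
  · intro a x hx
    rw [MonoidHom.mem_ker] at hx ⊢
    rw [hθequiv, hx, smul_one]
  · rw [eq_bot_iff]
    intro w hw
    obtain ⟨hwW, hwK⟩ := Subgroup.mem_inf.mp hw
    rw [MonoidHom.mem_ker, hθfix w hwW] at hwK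
    have h1 : orderOf w ∣ Nat.card A := orderOf_dvd_of_pow_eq_one hwK
    have h2 : orderOf w ∣ Nat.card V := orderOf_dvd_natCard w
    have h3 : orderOf w = 1 := Nat.eq_one_of_dvd_coprimes hcop h1 h2
    rw [Subgroup.mem_bot]
    exact orderOf_eq_one_iff.mp h3
  · rw [eq_top_iff]
    intro v _
    have hcopW : (Nat.card W).Coprime (Nat.card A) :=
      (hcop.coprime_dvd_right (Subgroup.card_subgroup_dvd_card W)).symm
    obtain ⟨w, hw⟩ := (powCoprime hcopW).surjective ⟨θ v, hθW v⟩
    have hw' : (w : V) ^ Nat.card A = θ v := by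
      have := congrArg Subtype.val hw
      simpa [powCoprime] using this
    have hk : (w : V)⁻¹ * v ∈ θ.ker := by
      rw [MonoidHom.mem_ker, map_mul, map_inv, hθfix _ w.2, hw', inv_mul_cancel]
    have : v = (w : V) * ((w : V)⁻¹ * v) := by rw [mul_inv_cancel_left]
    rw [this]
    exact Subgroup.mul_mem_sup w.2 hk

section quotient

variable {A G : Type*} [Group A] [Group G] [MulDistribMulAction A G]

/-- The endomorphism of the quotient induced by an element acting. -/
def quotMap (N : Subgroup G) [N.Normal] (hN : ∀ a : A, ∀ x ∈ N, a • x ∈ N) (a : A) :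
    G ⧸ N →* G ⧸ N :=
  QuotientGroup.map N N (MulDistribMulAction.toMonoidHom G a)
    (show N ≤ N.comap (MulDistribMulAction.toMonoidHom G a) from fun x hx => hN a x hx)

theorem quotMap_mk (N : Subgroup G) [N.Normal] (hN : ∀ a : A, ∀ x ∈ N, a • x ∈ N) (a : A)
    (x : G) : quotMap N hN a (x : G ⧸ N) = ((a • x : G) : G ⧸ N) := rfl

/-- The induced action on the quotient by an invariant normal subgroup. -/
@[reducible] def quotientAction (N : Subgroup G) [N.Normal] (hN : ∀ a : A, ∀ x ∈ N, a • x ∈ N) :
    MulDistribMulAction A (G ⧸ N) where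
  smul a := quotMap N hN a
  one_smul := by
    intro q
    induction q using QuotientGroup.induction_on with
    | H x =>
      show quotMap N hN 1 (x : G ⧸ N) = _
      rw [quotMap_mk, one_smul]
  mul_smul := by
    intro a b q
    induction q using QuotientGroup.induction_on with
    | H x =>
      show quotMap N hN (a * b) (x : G ⧸ N) = quotMap N hN a (quotMap N hN b (x : G ⧸ N))
      rw [quotMap_mk, quotMap_mk, quotMap_mk, mul_smul]
  smul_mul := by
    intro a q r
    exact map_mul (quotMap N hN a) q r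
  smul_one := by
    intro a
    exact map_one (quotMap N hN a)

theorem quotientAction_smul_mk (N : Subgroup G) [N.Normal] (hN : ∀ a : A, ∀ x ∈ N, a • x ∈ N)
    (a : A) (x : G) :
    letI := quotientAction N hN
    a • (x : G ⧸ N) = ((a • x : G) : G ⧸ N) := rfl

end quotient

end Cfsg.Agent.Helper29
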