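import Mathlib
import Cfsg.Prelude.Def_OddOrderLocal
import Cfsg.Agent.Helper21.PRank
import Cfsg.Agent.Helper31.BGTrans
import Cfsg.Agent.Helper84.SylowRel

set_option autoImplicit false
set_option linter.unusedSectionVars false
set_option linter.unusedVariables false

/-!
# B-G §10, part A: conjugates, relative Sylow subgroups (helper29)
-/

namespace Cfsg.Agent.Helper29.BG10

open Cfsg

variable {G : Type*} [Group G]

/-- the conjugate `g H g⁻¹` -/
def cj (g : G) (H : Subgroup G) : Subgroup G := H.map (MulAut.conj g).toMonoidHom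

theorem mem_cj {g x : G} {H : Subgroup G} : x ∈ cj g H ↔ g⁻¹ * x * g ∈ H := by
  unfold cj
  rw [Subgroup.mem_map]
  constructor
  · rintro ⟨y, hy, rfl⟩
    have : g⁻¹ * ((MulAut.conj g).toMonoidHom y) * g = y := by
      simp [MulAut.conj_apply, mul_assoc]
    rw [this]; exact hy
  · intro h
    refine ⟨g⁻¹ * x * g, h, ?_⟩
    simp [MulAut.conj_apply, mul_assoc]

theorem conj_mem_cj {g x : G} {H : Subgroup G} (hx : x ∈ H) : g * x * g⁻¹ ∈ cj g H := by
  rw [mem_cj]
  have : g⁻¹ * (g * x * g⁻¹) * g = x := by group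
  rw [this]; exact hx

theorem cj_one (H : Subgroup G) : cj 1 H = H := by
  ext x; rw [mem_cj]; simp

theorem cj_mul (a b : G) (H : Subgroup G) : cj (a * b) H = cj a (cj b H) := by
  ext x
  rw [mem_cj, mem_cj, mem_cj]
  have : (a * b)⁻¹ * x * (a * b) = b⁻¹ * (a⁻¹ * x * a) * b := by group
  rw [this]

theorem cj_inv_cj (g : G) (H : Subgroup G) : cj g⁻¹ (cj g H) = H := by
  rw [← cj_mul, inv_mul_cancel, cj_one]

theorem cj_cj_inv (g : G) (H : Subgroup G) : cj g (cj g⁻¹ H) = H := by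
  rw [← cj_mul, mul_inv_cancel, cj_one]

theorem cj_mono {g : G} {H K : Subgroup G} (h : H ≤ K) : cj g H ≤ cj g K :=
  Subgroup.map_mono h

theorem cj_le_cj_iff {g : G} {H K : Subgroup G} : cj g H ≤ cj g K ↔ H ≤ K := by
  constructor
  · intro h
    have := cj_mono (g := g⁻¹) h
    rwa [cj_inv_cj, cj_inv_cj] at this
  · exact cj_mono

theorem cj_le_iff {g : G} {H K : Subgroup G} : cj g H ≤ K ↔ H ≤ cj g⁻¹ K := by
  constructor
  · intro h
    have := cj_mono (g := g⁻¹) h
    rwa [cj_inv_cj] at this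
  · intro h
    have := cj_mono (g := g) h
    rwa [cj_cj_inv] at this

theorem le_cj_iff {g : G} {H K : Subgroup G} : H ≤ cj g K ↔ ∀ x ∈ H, g⁻¹ * x * g ∈ K := by
  constructor
  · intro h x hx
    exact mem_cj.1 (h hx)
  · intro h x hx
    exact mem_cj.2 (h x hx)

theorem cj_eq_self_of_mem {g : G} {H : Subgroup G} (hg : g ∈ H) : cj g H = H := by
  ext x
  rw [mem_cj]
  constructor
  · intro h
    have : x = g * (g⁻¹ * x * g) * g⁻¹ := by group
    rw [this]
    exact H.mul_mem (H.mul_mem hg h) (H.inv_mem hg)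
  · intro h
    exact H.mul_mem (H.mul_mem (H.inv_mem hg) h) hg

theorem card_cj [Finite G] (g : G) (H : Subgroup G) : Nat.card (cj g H) = Nat.card H :=
  Subgroup.card_map_of_injective (MulAut.conj g).injective

theorem isPGroup_cj {p : ℕ} {g : G} {H : Subgroup G} (h : IsPGroup p H) : IsPGroup p (cj g H) :=
  h.map _

theorem cj_ne_bot {g : G} {H : Subgroup G} (h : H ≠ ⊥) : cj g H ≠ ⊥ := by
  intro h'
  apply h
  have := congrArg (cj g⁻¹) h'
  rw [cj_inv_cj] at this
  rw [this]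
  unfold cj
  exact Subgroup.map_bot _

theorem normalizer_cj (g : G) (H : Subgroup G) :
    Subgroup.normalizer ((cj g H : Subgroup G) : Set G) = cj g (Subgroup.normalizer (H : Set G)) := by
  unfold cj
  exact (Subgroup.map_equiv_normalizer_eq H (MulAut.conj g)).symm

theorem relIndex_cj (g : G) (H K : Subgroup G) : (cj g H).relIndex (cj g K) = H.relIndex K :=
  Subgroup.relIndex_map_map_of_injective _ _ (MulAut.conj g).injective

theorem centralizer_le_of_le {X R : Subgroup G} (h : X ≤ R) :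
    Subgroup.centralizer (R : Set G) ≤ Subgroup.centralizer (X : Set G) :=
  Subgroup.centralizer_le (by exact_mod_cast h)

theorem cj_eq_self_of_mem_centralizer {c : G} {X : Subgroup G}
    (hc : c ∈ Subgroup.centralizer (X : Set G)) : cj c X = X := by
  ext x
  rw [mem_cj]
  have hc' := Subgroup.mem_centralizer_iff.1 hc
  constructor
  · intro h
    have h1 := hc' _ h
    have : x = c * (c⁻¹ * x * c) * c⁻¹ := by group
    rw [this, ← h1]
    simpa using h
  · intro h
    have h1 := hc' _ h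
    have : c⁻¹ * x * c = x := by
      rw [mul_assoc, h1]; group
    rw [this]; exact h

/-- `C_G(X)` is normalized by `N_G(X)`. -/
theorem conj_mem_centralizer {n c : G} {X : Subgroup G}
    (hn : n ∈ Subgroup.normalizer (X : Set G)) (hc : c ∈ Subgroup.centralizer (X : Set G)) :
    n * c * n⁻¹ ∈ Subgroup.centralizer (X : Set G) := by
  rw [Subgroup.mem_centralizer_iff]
  intro x hx
  have hx' : n⁻¹ * x * n ∈ X := by
    have := (Subgroup.mem_normalizer_iff.1 (Subgroup.inv_mem _ hn) x).1 hx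
    simpa using this
  have h1 := Subgroup.mem_centralizer_iff.1 hc _ hx'
  calc x * (n * c * n⁻¹) = n * ((n⁻¹ * x * n) * c) * n⁻¹ := by group
    _ = n * (c * (n⁻¹ * x * n)) * n⁻¹ := by rw [h1]
    _ = n * c * n⁻¹ * x := by group

/-! ### relative Sylow subgroups -/

/-- `R` is a Sylow `p`-subgroup of `N` (both subgroups of `G`). -/
def IsSylowIn (p : ℕ) (R N : Subgroup G) : Prop :=
  R ≤ N ∧ IsPGroup p R ∧ ¬ p ∣ R.relIndex N

theorem exists_isSylowIn_ge [Finite G] {p : ℕ} [Fact p.Prime] {N Y : Subgroup G} (hYN : Y ≤ N)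
    (hY : IsPGroup p Y) : ∃ R : Subgroup G, Y ≤ R ∧ IsSylowIn p R N := by
  have hY' : IsPGroup p (Y.subgroupOf N) := hY.comap_subtype
  obtain ⟨S, hS⟩ := hY'.exists_le_sylow
  refine ⟨(S : Subgroup N).map N.subtype, ?_, Subgroup.map_subtype_le _, S.isPGroup'.map _, ?_⟩
  · intro y hy
    exact ⟨⟨y, hYN hy⟩, hS (Subgroup.mem_subgroupOf.2 hy), rfl⟩
  · rw [Subgroup.relIndex, Subgroup.subgroupOf,
      Subgroup.comap_map_eq_self_of_injective N.subtype_injective]
    exact S.not_dvd_index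

theorem IsSylowIn.cj {p : ℕ} {R N : Subgroup G} (h : IsSylowIn p R N) (g : G) :
    IsSylowIn p (cj g R) (cj g N) :=
  ⟨cj_mono h.1, isPGroup_cj h.2.1, by rw [relIndex_cj]; exact h.2.2⟩

theorem IsSylowIn.cj_mem {p : ℕ} {R N : Subgroup G} (h : IsSylowIn p R N) {g : G} (hg : g ∈ N) :
    IsSylowIn p (BG10.cj g R) N := by
  have := h.cj g
  rwa [cj_eq_self_of_mem hg] at this

/-- conjugacy of relative Sylow subgroups -/
theorem IsSylowIn.exists_cj_eq [Finite G] {p : ℕ} [Fact p.Prime] {R R' N : Subgroup G}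
    (h : IsSylowIn p R N) (h' : IsSylowIn p R' N) : ∃ n ∈ N, BG10.cj n R' = R := by
  obtain ⟨a, haN, ha⟩ :=
    Cfsg.Agent.Helper84.exists_conj_le_of_relIndex N R R' h.1 h.2.1 h.2.2 h'.1 h'.2.1
  obtain ⟨b, hbN, hb⟩ :=
    Cfsg.Agent.Helper84.exists_conj_le_of_relIndex N R' R h'.1 h'.2.1 h'.2.2 h.1 h.2.1
  have h1 : BG10.cj a R' ≤ R := by
    intro x hx
    have := ha _ (mem_cj.1 hx)
    have e : a * (a⁻¹ * x * a) * a⁻¹ = x := by group
    rwa [e] at this
  have h2 : BG10.cj b R ≤ R' := by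
    intro x hx
    have := hb _ (mem_cj.1 hx)
    have e : b * (b⁻¹ * x * b) * b⁻¹ = x := by group
    rwa [e] at this
  refine ⟨a, haN, Subgroup.eq_of_le_of_card_ge h1 ?_⟩
  rw [card_cj]
  have := Subgroup.card_le_of_le h2
  rwa [card_cj] at this

/-- a normal `p`-subgroup lies in every Sylow `p`-subgroup -/
theorem IsSylowIn.normal_le [Finite G] {p : ℕ} [Fact p.Prime] {R N X : Subgroup G}
    (h : IsSylowIn p R N) (hX : IsPGroup p X) (hXN : N ≤ Subgroup.normalizer (X : Set G))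
    (hXle : X ≤ N) : X ≤ R := by
  obtain ⟨a, haN, ha⟩ :=
    Cfsg.Agent.Helper84.exists_conj_le_of_relIndex N R X h.1 h.2.1 h.2.2 hXle hX
  intro x hx
  have hn := hXN (N.inv_mem haN)
  have hx' : a⁻¹ * x * a⁻¹⁻¹ ∈ X := (Subgroup.mem_normalizer_iff.1 hn x).1 hx
  have := ha _ hx'
  have e : a * (a⁻¹ * x * a⁻¹⁻¹) * a⁻¹ = x := by group
  rwa [e] at this

end Cfsg.Agent.Helper29.BG10
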