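import Mathlib
import Cfsg.Agent.Helper48.CoprimeGen

/-!
# Ward's theorem, piece (W9), part A: ambient Sylow toolkit (helper29)

`IsSyl s Q K` : `Q` is a Sylow `s`-subgroup of `K`, everything being a subgroup of one ambient group.
-/

set_option autoImplicit false

namespace Cfsg.Agent.Helper29.WardT1

open Subgroup

variable {H : Type*} [Group H]

/-- `Q` is a Sylow `s`-subgroup of `K` (ambient form). -/
def IsSyl (s : ℕ) (Q K : Subgroup H) : Prop :=
  Q ≤ K ∧ IsPGroup s Q ∧ ¬ s ∣ Q.relIndex K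

/-- relative index can only drop along a homomorphism. -/
theorem relIndex_map_dvd {H' : Type*} [Group H'] (f : H →* H') {P K : Subgroup H} (hPK : P ≤ K) :
    (P.map f).relIndex (K.map f) ∣ P.relIndex K := by
  have hsurj := f.subgroupMap_surjective K
  have h1 := Subgroup.index_map_dvd (P.subgroupOf K) hsurj
  have h2 : (P.subgroupOf K).map (f.subgroupMap K) = (P.map f).subgroupOf (K.map f) := by
    ext ⟨y, hy⟩
    simp only [mem_map, mem_subgroupOf]
    constructor
    · rintro ⟨⟨x, hxK⟩, hxP, hxy⟩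
      refine ⟨x, hxP, ?_⟩
      have := congrArg Subtype.val hxy
      simpa using this
    · rintro ⟨x, hxP, hxy⟩
      refine ⟨⟨x, hPK hxP⟩, hxP, ?_⟩
      apply Subtype.ext
      simpa using hxy
  rw [h2] at h1
  exact h1

theorem IsSyl.map {H' : Type*} [Group H'] (f : H →* H') {s : ℕ} {Q K : Subgroup H}
    (h : IsSyl s Q K) : IsSyl s (Q.map f) (K.map f) :=
  ⟨Subgroup.map_mono h.1, h.2.1.map f, fun hd => h.2.2 (hd.trans (relIndex_map_dvd f h.1))⟩

/-- a Sylow subgroup of an `s`-group is everything. -/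
theorem IsSyl.eq_of_isPGroup {s : ℕ} [Fact s.Prime] {Q K : Subgroup H} [Finite K] (h : IsSyl s Q K)
    (hK : IsPGroup s K) : Q = K := by
  apply le_antisymm h.1
  rw [← Subgroup.relIndex_eq_one]
  obtain ⟨n, hn⟩ := IsPGroup.iff_card.mp hK
  have hd : Q.relIndex K ∣ s ^ n := hn ▸ Subgroup.relIndex_dvd_card Q K
  obtain ⟨j, -, hj⟩ := (Nat.dvd_prime_pow (Fact.out : s.Prime)).mp hd
  rcases Nat.eq_zero_or_pos j with h0 | h0
  · rw [hj, h0, pow_zero]
  · exact absurd (hj ▸ dvd_pow_self s h0.ne') h.2.2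

/-- the Sylow subgroup of the type `K` attached to an ambient Sylow subgroup. -/
noncomputable def IsSyl.toSylow {s : ℕ} [Fact s.Prime] {Q K : Subgroup H} (h : IsSyl s Q K) :
    Sylow s K :=
  IsPGroup.toSylow (P := Q.subgroupOf K) (h.2.1.comap_subtype (K := K)) h.2.2

theorem IsSyl.map_toSylow {s : ℕ} [Fact s.Prime] {Q K : Subgroup H} (h : IsSyl s Q K) :
    ((h.toSylow : Sylow s K) : Subgroup K).map K.subtype = Q := by
  show (Q.subgroupOf K).map K.subtype = Q
  exact Subgroup.map_subgroupOf_eq_of_le h.1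

/-- ambient form of a Sylow subgroup of the type `K`. -/
theorem isSyl_of_sylow {s : ℕ} [Fact s.Prime] {K : Subgroup H} [Finite K] (P : Sylow s K) :
    IsSyl s ((P : Subgroup K).map K.subtype) K := by
  refine ⟨?_, P.isPGroup'.map _, ?_⟩
  · rintro _ ⟨x, -, rfl⟩; exact x.2
  · have h1 : ((P : Subgroup K).map K.subtype).relIndex K = (P : Subgroup K).index := by
      unfold Subgroup.relIndex
      congr 1
      ext x
      simp [mem_subgroupOf]
    rw [h1]
    exact P.not_dvd_index

/-- an `A`-invariant Sylow subgroup, ambient form. -/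
theorem exists_invariant_isSyl {p : ℕ} [Fact p.Prime] (K A : Subgroup H) [Finite K]
    (hAK : A ≤ normalizer (K : Set H)) (hA : IsPGroup p A) (hpK : ¬ p ∣ Nat.card K)
    (s : ℕ) [Fact s.Prime] :
    ∃ Q : Subgroup H, IsSyl s Q K ∧ A ≤ normalizer (Q : Set H) := by
  obtain ⟨S, hS⟩ := Helper48.exists_invariant_sylow K A hAK hA hpK s
  refine ⟨(S : Subgroup K).map K.subtype, isSyl_of_sylow S, ?_⟩
  have hconj : ∀ a ∈ A, ∀ y ∈ (S : Subgroup K).map K.subtype,
      a * y * a⁻¹ ∈ (S : Subgroup K).map K.subtype := by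
    rintro a ha _ ⟨x, hx, rfl⟩
    have hxK : a * (x : H) * a⁻¹ ∈ K := (Subgroup.mem_normalizer_iff.mp (hAK ha) _).mp x.2
    exact ⟨⟨a * x * a⁻¹, hxK⟩, hS a ha x hx hxK, rfl⟩
  intro a ha
  rw [Subgroup.mem_normalizer_iff]
  intro y
  constructor
  · exact hconj a ha y
  · intro hy
    have := hconj a⁻¹ (A.inv_mem ha) _ hy
    simpa [mul_assoc] using this

/-- Frattini argument, ambient elementwise form. -/
theorem IsSyl.frattini [Finite H] {s : ℕ} [Fact s.Prime] {Q K : Subgroup H} [K.Normal]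
    (h : IsSyl s Q K) (g : H) : ∃ n ∈ normalizer (Q : Set H), ∃ c ∈ K, g = n * c := by
  have h1 := Sylow.normalizer_sup_eq_top h.toSylow
  rw [h.map_toSylow] at h1
  have hg : g ∈ normalizer (Q : Set H) ⊔ K := h1 ▸ Subgroup.mem_top g
  rw [Subgroup.mem_sup_of_normal_right] at hg
  obtain ⟨n, hn, c, hc, rfl⟩ := hg
  exact ⟨n, hn, c, hc, rfl⟩

/-- A Sylow subgroup of a nilpotent normal subgroup is normal in the whole group. -/
theorem IsSyl.normal_of_nilpotent [Finite H] {s : ℕ} [Fact s.Prime] {Q K : Subgroup H} [K.Normal]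
    (h : IsSyl s Q K) (hK : Group.IsNilpotent K) : Q.Normal := by
  have : (h.toSylow : Subgroup K).Normal := inferInstance
  have hchar : (h.toSylow : Subgroup K).Characteristic := Sylow.characteristic_of_normal _ this
  have := ConjAct.normal_of_characteristic_of_normal (H := K) (K := (h.toSylow : Subgroup K))
  rwa [h.map_toSylow] at this

end Cfsg.Agent.Helper29.WardT1
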