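import Mathlib
import Cfsg.Agent.Helper48.CoprimeGen
import Cfsg.Agent.Helper1.FpfThompson
import Cfsg.Agent.Helper65.Nilpotent

/-!
# Ward's theorem, piece (W9), part B: rank two facts, Thompson for centralizers, coprime commuting,
fixed points of a `q`-group on a `q`-group (helper29)
-/

set_option autoImplicit false

namespace Cfsg.Agent.Helper29.WardT1

open Subgroup

variable {H : Type*} [Group H]

theorem orderOf_eq_of_isEA2 {p : ℕ} [Fact p.Prime] {A : Subgroup H} (hA : Helper48.IsEA2 p A)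
    {x : H} (hx : x ∈ A) (hx1 : x ≠ 1) : orderOf x = p := by
  have := orderOf_dvd_of_pow_eq_one (hA.2.1 x hx)
  rcases (Nat.dvd_prime (Fact.out : p.Prime)).mp this with h | h
  · exact absurd (orderOf_eq_one_iff.mp h) hx1
  · exact h

/-- an element of `A` outside a given cyclic subgroup. -/
theorem exists_not_mem_zpowers [Finite H] {p : ℕ} [Fact p.Prime] {A : Subgroup H}
    (hA : Helper48.IsEA2 p A) (x : H) (hx : x ∈ A) : ∃ b ∈ A, b ∉ zpowers x := by
  have hp : p.Prime := Fact.out
  by_contra hcon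
  have hle : A ≤ zpowers x := fun b hb => by_contra (fun h => hcon ⟨b, hb, h⟩)
  have h1 : Nat.card A ≤ Nat.card (zpowers x) := Subgroup.card_le_of_le hle
  rw [Nat.card_zpowers, hA.2.2] at h1
  have h2 : orderOf x ≤ p :=
    Nat.le_of_dvd hp.pos (orderOf_dvd_of_pow_eq_one (hA.2.1 x hx))
  have h3 : p * p ≤ p * 1 := by rw [mul_one, ← sq]; exact h1.trans h2
  have := Nat.le_of_mul_le_mul_left h3 hp.pos
  exact absurd hp.one_lt (by omega)

/-- two independent elements of `A` control the centralizer of `A`. -/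
theorem mem_centralizer_of_two [Finite H] {p : ℕ} [Fact p.Prime] {A : Subgroup H}
    (hA : Helper48.IsEA2 p A) {x b : H} (hx : x ∈ A) (hx1 : x ≠ 1) (hb : b ∈ A)
    (hbx : b ∉ zpowers x) {g : H} (hgx : g * x = x * g) (hgb : g * b = b * g) :
    g ∈ centralizer (A : Set H) := by
  have hp : p.Prime := Fact.out
  set K : Subgroup H := A ⊓ centralizer {g} with hK
  have hxK : x ∈ K := mem_inf.mpr ⟨hx, mem_centralizer_singleton_iff.mpr hgx.symm⟩
  have hbK : b ∈ K := mem_inf.mpr ⟨hb, mem_centralizer_singleton_iff.mpr hgb.symm⟩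
  have hzK : zpowers x ≤ K := (zpowers_le).mpr hxK
  have hKA : K ≤ A := inf_le_left
  have hd : Nat.card K ∣ p ^ 2 := hA.2.2 ▸ Subgroup.card_dvd_of_le hKA
  obtain ⟨j, hj2, hj⟩ := (Nat.dvd_prime_pow hp).mp hd
  have hzc : Nat.card (zpowers x) = p := by rw [Nat.card_zpowers, orderOf_eq_of_isEA2 hA hx hx1]
  have hj2' : j = 2 := by
    by_contra hne
    have hj1 : j ≤ 1 := by omega
    have : Nat.card K ≤ Nat.card (zpowers x) := by
      rw [hzc, hj]
      calc p ^ j ≤ p ^ 1 := Nat.pow_le_pow_right hp.pos hj1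
        _ = p := pow_one p
    have heq := Subgroup.eq_of_le_of_card_ge hzK this
    exact hbx (heq ▸ hbK)
  have hKeq : K = A := by
    apply Subgroup.eq_of_le_of_card_ge hKA
    rw [hj, hj2', hA.2.2]
  rw [mem_centralizer_iff]
  intro a ha
  have : a ∈ K := hKeq ▸ ha
  have h2 := (mem_inf.mp this).2
  rw [mem_centralizer_singleton_iff] at h2
  exact h2

/-- **Thompson** applied to `C_G(x)`: it admits the fixed-point-free automorphism `b` of order `p`. -/
theorem nilpotent_centralizer [Finite H] {p : ℕ} [Fact p.Prime] {G A : Subgroup H}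
    (hA : Helper48.IsEA2 p A) (hAG : A ≤ normalizer (G : Set H))
    (hfix : G ⊓ centralizer (A : Set H) = ⊥) {x : H} (hx : x ∈ A) (hx1 : x ≠ 1) :
    Group.IsNilpotent ↥(G ⊓ centralizer {x}) := by
  have hp : p.Prime := Fact.out
  obtain ⟨b, hb, hbx⟩ := exists_not_mem_zpowers hA x hx
  set K : Subgroup H := G ⊓ centralizer {x} with hK
  have hbxc : b * x = x * b := hA.1 b hb x hx
  have hconj : ∀ c : H, c ∈ A → ∀ w ∈ K, c * w * c⁻¹ ∈ K := by
    intro c hc w hw
    refine mem_inf.mpr ⟨(mem_normalizer_iff.mp (hAG hc) w).mp (mem_inf.mp hw).1, ?_⟩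
    have hw2 := (mem_inf.mp hw).2
    rw [mem_centralizer_singleton_iff] at hw2 ⊢
    have hcx : c * x = x * c := hA.1 c hc x hx
    have hcx' : c⁻¹ * x = x * c⁻¹ := by
      have : x * c⁻¹ = c⁻¹ * (c * x) * c⁻¹ := by group
      rw [this, hcx]; group
    calc c * w * c⁻¹ * x = c * w * (c⁻¹ * x) := by group
      _ = c * (w * x) * c⁻¹ := by rw [hcx']; group
      _ = c * (x * w) * c⁻¹ := by rw [hw2]
      _ = (c * x) * w * c⁻¹ := by group
      _ = x * (c * w * c⁻¹) := by rw [hcx]; group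
  have hbK : b ∈ normalizer (K : Set H) := by
    rw [mem_normalizer_iff]
    intro w
    constructor
    · exact hconj b hb w
    · intro hw
      have := hconj b⁻¹ (A.inv_mem hb) _ hw
      simpa [mul_assoc] using this
  let φ : MulAut K := Subgroup.normalizerMonoidHom K ⟨b, hbK⟩
  have hφ : ∀ w : K, ((φ w : K) : H) = b * w * b⁻¹ := fun w => rfl
  have hpow : φ ^ p = 1 := by
    show (Subgroup.normalizerMonoidHom K ⟨b, hbK⟩) ^ p = 1
    rw [← map_pow]
    have : (⟨b, hbK⟩ : normalizer (K : Set H)) ^ p = 1 := Subtype.ext (by simpa using hA.2.1 b hb)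
    rw [this, map_one]
  refine Helper1.fpf_prime_nilpotent hp φ ?_ hpow
  intro w hw
  have h1 : b * (w : H) * b⁻¹ = w := by
    have := congrArg Subtype.val hw
    simpa [hφ] using this
  have hwb : (w : H) * b = b * w := by
    calc (w : H) * b = (b * w * b⁻¹) * b := by rw [h1]
      _ = b * w := by group
  have hwx : (w : H) * x = x * w := by
    have := (mem_inf.mp w.2).2
    rwa [mem_centralizer_singleton_iff] at this
  have hwA : (w : H) ∈ centralizer (A : Set H) := mem_centralizer_of_two hA hx hx1 hb hbx hwx hwb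
  have : (w : H) ∈ G ⊓ centralizer (A : Set H) := mem_inf.mpr ⟨(mem_inf.mp w.2).1, hwA⟩
  rw [hfix, mem_bot] at this
  exact Subtype.ext this

/-- elements of coprime orders in a nilpotent subgroup commute. -/
theorem commute_of_coprime {K : Subgroup H} (hK : Group.IsNilpotent K) {y v : H} (hy : y ∈ K)
    (hv : v ∈ K) (hco : (orderOf y).Coprime (orderOf v)) : y * v = v * y := by
  have := Helper65.commute_of_coprime_orderOf ↥K ⟨y, hy⟩ ⟨v, hv⟩
    (by rwa [Subgroup.orderOf_mk, Subgroup.orderOf_mk])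
  exact congrArg Subtype.val this.eq

theorem orderOf_dvd_of_isPGroup {s : ℕ} {S : Subgroup H} (hS : IsPGroup s S) {y : H} (hy : y ∈ S) :
    ∃ k : ℕ, orderOf y ∣ s ^ k := by
  obtain ⟨k, hk⟩ := hS ⟨y, hy⟩
  refine ⟨k, orderOf_dvd_of_pow_eq_one ?_⟩
  have := congrArg Subtype.val hk
  simpa using this

theorem coprime_orderOf_of_isPGroup {s r : ℕ} (hs : s.Prime) (hr : r.Prime) (hsr : s ≠ r)
    {S R : Subgroup H} (hS : IsPGroup s S) (hR : IsPGroup r R) {y v : H} (hy : y ∈ S) (hv : v ∈ R) :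
    (orderOf y).Coprime (orderOf v) := by
  obtain ⟨k, hk⟩ := orderOf_dvd_of_isPGroup hS hy
  obtain ⟨l, hl⟩ := orderOf_dvd_of_isPGroup hR hv
  have : (s ^ k).Coprime (r ^ l) := Nat.Coprime.pow _ _ ((Nat.coprime_primes hs hr).mpr hsr)
  exact Nat.Coprime.coprime_dvd_left hk (Nat.Coprime.coprime_dvd_right hl this)

/-- a `q`-group normalizing a nontrivial `q`-group centralizes a nontrivial element of it. -/
theorem inf_centralizer_ne_bot [Finite H] {q : ℕ} [Fact q.Prime] {Q V : Subgroup H}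
    (hQ : IsPGroup q Q) (hV : IsPGroup q V) (hV1 : V ≠ ⊥) (hQV : Q ≤ normalizer (V : Set H)) :
    V ⊓ centralizer (Q : Set H) ≠ ⊥ := by
  let ψ : Q →* MulAut V := (Subgroup.normalizerMonoidHom V).comp (Subgroup.inclusion hQV)
  letI : MulAction Q V := MulAction.compHom V ψ
  have hsmul : ∀ (c : Q) (w : V), ((c • w : V) : H) = (c : H) * w * (c : H)⁻¹ := fun c w => rfl
  have hdvd : q ∣ Nat.card V := by
    obtain ⟨n, hn⟩ := IsPGroup.iff_card.mp hV
    rcases Nat.eq_zero_or_pos n with h0 | h0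
    · rw [h0, pow_zero] at hn
      exact absurd (Subgroup.card_eq_one.mp hn) hV1
    · rw [hn]; exact dvd_pow_self q h0.ne'
  have h1 : (1 : V) ∈ MulAction.fixedPoints Q V := by
    intro c
    apply Subtype.ext
    rw [hsmul]; simp
  obtain ⟨b, hb, hb1⟩ := hQ.exists_fixed_point_of_prime_dvd_card_of_fixed_point V hdvd h1
  intro hbot
  have hmem : (b : H) ∈ V ⊓ centralizer (Q : Set H) := by
    refine mem_inf.mpr ⟨b.2, ?_⟩
    rw [mem_centralizer_iff]
    intro c hc
    have := congrArg Subtype.val (hb ⟨c, hc⟩)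
    rw [hsmul] at this
    calc c * (b : H) = (c * b * c⁻¹) * c := by group
      _ = b * c := by rw [this]
  rw [hbot, mem_bot] at hmem
  exact hb1 (Subtype.ext hmem.symm)

end Cfsg.Agent.Helper29.WardT1
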