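import Mathlib
import Cfsg.Agent.Helper29.WardT1A
import Cfsg.Agent.Helper91.WardW5

/-!
# Ward's theorem, piece (W9), part C: from Sylow data in `H` to nilpotency of the image of `G`
(helper29)
-/

set_option autoImplicit false

namespace Cfsg.Agent.Helper29.WardT1

open Subgroup

variable {H : Type*} [Group H]

/-- If `N ≤ G` with `N` normal, `N` and `G / N` nilpotent modulo `ker f`, and suitable Sylow subgroups of `G`
commute modulo `ker f` with the Sylow subgroups of `N`, then `G` is nilpotent modulo `ker f`. -/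
theorem exists_lcs_le_ker {H' : Type*} [Group H'] [Finite H'] (f : H →* H')
    (hf : Function.Surjective f) (G N : Subgroup H) [hN : N.Normal] (hNG : N ≤ G) (k : ℕ)
    (hNk : N.lowerCentralSeries k ≤ f.ker) (hGk : G.lowerCentralSeries k ≤ N)
    (hsyl : ∀ s : ℕ, s.Prime → ∃ P : Subgroup H, P ≤ N ∧ IsPGroup s P ∧ ¬ s ∣ P.relIndex N ∧
      ∀ r : ℕ, r.Prime → r ≠ s → ∃ R : Subgroup H, R ≤ G ∧ IsPGroup r R ∧
        ¬ r ∣ (R.map f).relIndex (G.map f) ∧ ∀ x ∈ R, ∀ y ∈ P, f x * f y = f y * f x) :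
    ∃ m : ℕ, G.lowerCentralSeries m ≤ f.ker := by
  set G' : Subgroup H' := G.map f with hG'
  set N' : Subgroup H' := N.map f with hN'
  have hN'n : N'.Normal := hN.map f hf
  have hNG' : N' ≤ G' := Subgroup.map_mono hNG
  set M : Subgroup G' := N'.subgroupOf G' with hM
  have hMn : M.Normal := hN'n.subgroupOf G'
  -- `M` nilpotent
  have hN'nil : Group.IsNilpotent N' := by
    rw [isNilpotent_iff_lowerCentralSeries]
    refine ⟨k, ?_⟩
    rw [hN', ← map_lowerCentralSeries, eq_bot_iff]
    exact (Subgroup.map_mono hNk).trans (le_of_eq ((Subgroup.map_eq_bot_iff _).mpr le_rfl))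
  have hMnil : Group.IsNilpotent M :=
    (Group.isNilpotent_congr (Subgroup.subgroupOfEquivOfLe hNG')).mpr hN'nil
  -- `G' / M` nilpotent
  have hlcs : (⊤ : Subgroup G').lowerCentralSeries k ≤ M := by
    intro x hx
    rw [hM, mem_subgroupOf]
    have h1 : (x : H') ∈ ((⊤ : Subgroup G').lowerCentralSeries k).map G'.subtype := ⟨x, hx, rfl⟩
    have h2 : G'.lowerCentralSeries k = (G.lowerCentralSeries k).map f :=
      (map_lowerCentralSeries G f k).symm
    rw [top_subtype_lowerCentralSeries, h2] at h1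
    exact Subgroup.map_mono hGk h1
  have hQnil : Group.IsNilpotent (G' ⧸ M) := by
    rw [Subgroup.nilpotent_iff_lowerCentralSeries]
    refine ⟨k, ?_⟩
    have htop : (⊤ : Subgroup (G' ⧸ M)) = (⊤ : Subgroup G').map (QuotientGroup.mk' M) := by
      rw [← MonoidHom.range_eq_map, MonoidHom.range_eq_top.mpr (QuotientGroup.mk'_surjective M)]
    rw [htop, ← map_lowerCentralSeries, eq_bot_iff]
    refine (Subgroup.map_mono hlcs).trans (le_of_eq ?_)
    rw [Subgroup.map_eq_bot_iff, QuotientGroup.ker_mk']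
  -- apply (W5)
  have hnil : Group.IsNilpotent G' := by
    refine Helper91.Ward.nilpotent_of_sylow_centralize M hMnil hQnil ?_
    intro s hs
    obtain ⟨P, hPN, hPs, hPidx, hR⟩ := hsyl s hs
    refine ⟨(P.map f).subgroupOf G', ?_, (hPs.map f).comap_subtype, ?_, ?_⟩
    · intro x hx
      rw [hM, mem_subgroupOf]
      rw [mem_subgroupOf] at hx
      exact Subgroup.map_mono hPN hx
    · rw [hM, Subgroup.relIndex_subgroupOf hNG']
      exact fun hd => hPidx (hd.trans (relIndex_map_dvd f hPN))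
    · intro r hr hrs
      obtain ⟨R, hRG, hRr, hRidx, hcomm⟩ := hR r hr hrs
      refine ⟨(R.map f).subgroupOf G', (hRr.map f).comap_subtype, hRidx, ?_⟩
      intro x hx
      rw [mem_centralizer_iff]
      intro y hy
      rw [mem_subgroupOf] at hx
      have hy' : (y : H') ∈ P.map f := hy
      obtain ⟨x0, hx0, hx0x⟩ := hx
      obtain ⟨y0, hy0, hy0y⟩ := hy'
      apply Subtype.ext
      rw [Subgroup.coe_mul, Subgroup.coe_mul, ← hx0x, ← hy0y]
      exact (hcomm x0 hx0 y0 hy0).symm
  rw [isNilpotent_iff_lowerCentralSeries] at hnil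
  obtain ⟨m, hm⟩ := hnil
  refine ⟨m, ?_⟩
  have h2 : G'.lowerCentralSeries m = (G.lowerCentralSeries m).map f :=
    (map_lowerCentralSeries G f m).symm
  rw [h2, Subgroup.map_eq_bot_iff] at hm
  exact hm

end Cfsg.Agent.Helper29.WardT1
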