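import Mathlib
import Cfsg.Agent.Helper21.WardDefs
import Cfsg.Agent.Helper29.WardT1A
import Cfsg.Agent.Helper29.WardT1B
import Cfsg.Agent.Helper29.WardT1C
import Cfsg.Agent.Helper81.RealP1

/-!
# Ward's theorem, piece (W9): `LemmaCStmt → T1Stmt` (helper29)

`G / C_G(V)` is nilpotent for a chief factor `V`: invariant Sylow subgroups, Frattini, Thompson's theorem for the
centralizers `C_G(x)`, the tower lemma, and the nilpotency criterion (W5).
-/

set_option autoImplicit false

namespace Cfsg.Agent.Helper29.WardT1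

open Subgroup Cfsg.Agent.Helper21.Ward

open scoped commutatorElement

set_option linter.style.haveILetI false

universe u

section aux

variable {H : Type*} [Group H]

theorem le_normalizer_of_normal {K : Subgroup H} (hK : K.Normal) (L : Subgroup H) :
    L ≤ normalizer (K : Set H) :=
  Helper48.mem_normalizer_of_forall_conj_mem (fun a _ x hx => hK.conj_mem x hx a)

theorem conj_mem_centralizer_singleton {c w x : H} (hcx : c * x = x * c)
    (hw : w ∈ centralizer {x}) : c * w * c⁻¹ ∈ centralizer {x} := by
  rw [mem_centralizer_singleton_iff] at hw ⊢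
  have hcx' : c⁻¹ * x = x * c⁻¹ := by
    have : x * c⁻¹ = c⁻¹ * (c * x) * c⁻¹ := by group
    rw [this, hcx]; group
  calc c * w * c⁻¹ * x = c * w * (c⁻¹ * x) := by group
    _ = c * (w * x) * c⁻¹ := by rw [hcx']; group
    _ = c * (x * w) * c⁻¹ := by rw [hw]
    _ = (c * x) * w * c⁻¹ := by group
    _ = x * (c * w * c⁻¹) := by rw [hcx]; group

theorem mem_centralizer_sup {v : H} {K L : Subgroup H} (hK : v ∈ centralizer (K : Set H))
    (hL : v ∈ centralizer (L : Set H)) : v ∈ centralizer ((K ⊔ L : Subgroup H) : Set H) := by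
  have h : K ⊔ L ≤ centralizer {v} := by
    apply sup_le
    · intro x hx
      rw [mem_centralizer_singleton_iff]
      exact mem_centralizer_iff.mp hK x hx
    · intro x hx
      rw [mem_centralizer_singleton_iff]
      exact mem_centralizer_iff.mp hL x hx
  rw [mem_centralizer_iff]
  intro x hx
  have := h hx
  rwa [mem_centralizer_singleton_iff] at this

/-- an abelian minimal normal subgroup is a `q`-group. -/
theorem exists_prime_isPGroup [Finite H] (V : Subgroup H) (hVn : V.Normal) (hV1 : V ≠ ⊥)
    (hmin : ∀ U : Subgroup H, U.Normal → U ≤ V → U = ⊥ ∨ U = V)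
    (hab : ∀ u ∈ V, ∀ v ∈ V, u * v = v * u) : ∃ q : ℕ, q.Prime ∧ IsPGroup q V := by
  have hcard : Nat.card V ≠ 1 := fun h => hV1 (Subgroup.card_eq_one.mp h)
  obtain ⟨q, hq, hqd⟩ := Nat.exists_prime_and_dvd hcard
  haveI : Fact q.Prime := ⟨hq⟩
  obtain ⟨x, hx⟩ := exists_prime_orderOf_dvd_card' q hqd
  let Ω : Subgroup H :=
    { carrier := {y | y ∈ V ∧ y ^ q = 1}
      mul_mem' := by
        rintro y z ⟨hy, hy1⟩ ⟨hz, hz1⟩
        refine ⟨V.mul_mem hy hz, ?_⟩
        have hc : Commute y z := hab y hy z hz
        rw [hc.mul_pow, hy1, hz1, one_mul]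
      one_mem' := ⟨V.one_mem, one_pow _⟩
      inv_mem' := by
        rintro y ⟨hy, hy1⟩
        exact ⟨V.inv_mem hy, by rw [inv_pow, hy1, inv_one]⟩ }
  have hΩV : Ω ≤ V := fun y hy => hy.1
  have hΩn : Ω.Normal := by
    constructor
    intro y hy g
    refine ⟨hVn.conj_mem y hy.1 g, ?_⟩
    rw [conj_pow, hy.2, mul_one, mul_inv_cancel]
  have hΩ1 : Ω ≠ ⊥ := by
    intro h
    have hxΩ : (x : H) ∈ Ω := by
      refine ⟨x.2, ?_⟩
      have := pow_orderOf_eq_one x
      rw [hx] at this
      have h2 := congrArg Subtype.val this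
      simpa using h2
    rw [h, Subgroup.mem_bot] at hxΩ
    have hx1 : x = 1 := Subtype.ext hxΩ
    rw [hx1, orderOf_one] at hx
    exact hq.one_lt.ne hx
  rcases hmin Ω hΩn hΩV with h | h
  · exact absurd h hΩ1
  · refine ⟨q, hq, ?_⟩
    intro y
    refine ⟨1, Subtype.ext ?_⟩
    have hy : (y : H) ∈ Ω := by rw [h]; exact y.2
    simpa using hy.2

theorem isNilpotent_map_of_lcs_le_ker {H' : Type*} [Group H'] (f : H →* H') (N : Subgroup H) (k : ℕ)
    (hNk : N.lowerCentralSeries k ≤ f.ker) : Group.IsNilpotent (N.map f) := by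
  rw [isNilpotent_iff_lowerCentralSeries]
  refine ⟨k, ?_⟩
  rw [← map_lowerCentralSeries, eq_bot_iff]
  exact (Subgroup.map_mono hNk).trans (le_of_eq ((Subgroup.map_eq_bot_iff _).mpr le_rfl))

theorem eq_bot_of_isPGroup_of_not_dvd [Finite H] {p : ℕ} [Fact p.Prime] {Q G : Subgroup H}
    (hQ : IsPGroup p Q) (hQG : Q ≤ G) (hpG : ¬ p ∣ Nat.card G) : Q = ⊥ := by
  obtain ⟨n, hn⟩ := IsPGroup.iff_card.mp hQ
  rcases Nat.eq_zero_or_pos n with h0 | h0
  · rw [h0, pow_zero] at hn
    exact Subgroup.card_eq_one.mp hn
  · exfalso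
    apply hpG
    have h1 : p ∣ Nat.card Q := by rw [hn]; exact dvd_pow_self p h0.ne'
    exact h1.trans (Subgroup.card_dvd_of_le hQG)

end aux

/-- **(W9)** the chief factor step from the tower lemma. -/
theorem t1_of_lemmaC (hC : LemmaCStmt.{u}) : T1Stmt.{u} := by
  intro H _ _ p _ G A V N k hA hGn hGA hGsolv hpG hfix hVn hVG hV1 hVmin hNn hVN hNG hNk hGk
  classical
  have hp : p.Prime := Fact.out
  haveI := hGn
  haveI := hVn
  haveI := hNn
  -- `V` is an abelian `q`-group
  have hVsolv : Group.IsSolvable ↥V :=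
    Group.isSolvable_of_isSolvable_injective (Subgroup.inclusion_injective hVG)
  have hVab : ∀ u ∈ V, ∀ v ∈ V, u * v = v * u :=
    Helper81.comm_of_minimal_normal_solvable V hV1 hVmin hVsolv
  obtain ⟨q, hq, hVq⟩ := exists_prime_isPGroup V hVn hV1 hVmin hVab
  haveI : Fact q.Prime := ⟨hq⟩
  have hAp : IsPGroup p A := hA.isPGroup
  -- the kernel
  set C : Subgroup H := G ⊓ centralizer (V : Set H) with hCdef
  have hCn : C.Normal := by rw [hCdef]; infer_instance
  have hCG : C ≤ G := inf_le_left
  have hCV : C ≤ centralizer (V : Set H) := inf_le_right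
  have hVC : V ≤ C :=
    le_inf hVG (fun v hv => mem_centralizer_iff.mpr (fun w hw => hVab w hw v hv))
  let π : H →* H ⧸ C := QuotientGroup.mk' C
  have hπker : π.ker = C := QuotientGroup.ker_mk' C
  have hπsurj : Function.Surjective π := QuotientGroup.mk'_surjective C
  have hker : ∀ x : H, x ∈ C → π x = 1 := fun x hx => by
    rw [← MonoidHom.mem_ker, hπker]; exact hx
  have hNkπ : N.lowerCentralSeries k ≤ π.ker := hNk.trans (hVC.trans hπker.ge)
  have key : ∃ m : ℕ, G.lowerCentralSeries m ≤ π.ker := by
    refine exists_lcs_le_ker π hπsurj G N hNG k hNkπ hGk ?_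
    intro s hs
    haveI : Fact s.Prime := ⟨hs⟩
    have hpN : ¬ p ∣ Nat.card N := fun h => hpG (h.trans (Subgroup.card_dvd_of_le hNG))
    obtain ⟨Ns, hNs, hANs⟩ :=
      exists_invariant_isSyl N A (le_normalizer_of_normal hNn A) hAp hpN s
    have hNsG : Ns ≤ G := hNs.1.trans hNG
    by_cases hdeg : Ns ≤ C
    · -- degenerate case: the Sylow subgroup of the image of `N` is trivial
      refine ⟨Ns, hNs.1, hNs.2.1, hNs.2.2, ?_⟩
      intro r hr hrs
      haveI : Fact r.Prime := ⟨hr⟩
      obtain ⟨R, hR, -⟩ :=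
        exists_invariant_isSyl G A (le_normalizer_of_normal hGn A) hAp hpG r
      refine ⟨R, hR.1, hR.2.1, (hR.map π).2.2, ?_⟩
      intro x _ y hy
      rw [hker y (hdeg hy)]; simp
    · -- main case
      have hsp : s ≠ p := by
        rintro rfl
        apply hdeg
        rw [eq_bot_of_isPGroup_of_not_dvd hNs.2.1 hNsG hpG]
        exact bot_le
      -- `S1 = Ns C` is normal in `H`
      have hN'nil : Group.IsNilpotent (N.map π) := isNilpotent_map_of_lcs_le_ker π N k hNkπ
      haveI hN'n : (N.map π).Normal := hNn.map π hπsurj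
      have hNsπn : (Ns.map π).Normal := (hNs.map π).normal_of_nilpotent hN'nil
      set S1 : Subgroup H := Ns ⊔ C with hS1
      have hS1n : S1.Normal := by
        have := hNsπn.comap π
        rwa [Subgroup.comap_map_eq, hπker] at this
      haveI := hS1n
      have hS1G : S1 ≤ G := sup_le hNsG hCG
      have hS1π : S1.map π = Ns.map π := by
        rw [hS1, Subgroup.map_sup, (Subgroup.map_eq_bot_iff C).mpr hπker.ge, sup_bot_eq]
      have hsq : s ≠ q := by
        rintro rfl
        apply hdeg
        have hFn : (V ⊓ centralizer (S1 : Set H)).Normal := inferInstance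
        rcases hVmin _ hFn inf_le_left with h | h
        · exfalso
          refine inf_centralizer_ne_bot hNs.2.1 hVq hV1 (le_normalizer_of_normal hVn Ns) ?_
          rw [eq_bot_iff, ← h]
          intro v hv
          obtain ⟨hvV, hvN⟩ := mem_inf.mp hv
          refine mem_inf.mpr ⟨hvV, mem_centralizer_sup hvN ?_⟩
          rw [mem_centralizer_iff]
          intro c hc
          exact (mem_centralizer_iff.mp (hCV hc) v hvV).symm
        · intro y hy
          refine mem_inf.mpr ⟨hNsG hy, ?_⟩
          rw [mem_centralizer_iff]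
          intro v hv
          have hv' : v ∈ V ⊓ centralizer (S1 : Set H) := by rw [h]; exact hv
          have := mem_centralizer_iff.mp (mem_inf.mp hv').2 y (le_sup_left (a := Ns) (b := C) hy)
          exact this.symm
      -- an `A`-invariant Sylow subgroup `S` of `S1`
      have hpS1 : ¬ p ∣ Nat.card S1 := fun h => hpG (h.trans (Subgroup.card_dvd_of_le hS1G))
      obtain ⟨S, hS, hAS⟩ :=
        exists_invariant_isSyl S1 A (le_normalizer_of_normal hS1n A) hAp hpS1 s
      have hSG : S ≤ G := hS.1.trans hS1G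
      have hSπ : S.map π = Ns.map π := by
        rw [← hS1π]
        apply (hS.map π).eq_of_isPGroup
        rw [hS1π]
        exact hNs.2.1.map π
      -- Frattini
      set NG : Subgroup H := G ⊓ normalizer (S : Set H) with hNGdef
      have hSNG : S ≤ NG := le_inf hSG le_normalizer
      have hNGπ : NG.map π = G.map π := by
        apply le_antisymm (Subgroup.map_mono inf_le_left)
        rintro _ ⟨g, hg, rfl⟩
        obtain ⟨n, hn, c, hc, rfl⟩ := hS.frattini g
        have hcG : c ∈ G := hS1G hc
        have hnG : n ∈ G := by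
          have : n = n * c * c⁻¹ := by group
          rw [this]; exact G.mul_mem hg (G.inv_mem hcG)
        have hcπ : π c ∈ S.map π := by
          rw [hSπ, ← hS1π]; exact Subgroup.mem_map_of_mem π hc
        obtain ⟨y, hy, hyc⟩ := hcπ
        refine ⟨n * y, NG.mul_mem (mem_inf.mpr ⟨hnG, hn⟩) (hSNG hy), ?_⟩
        rw [map_mul, map_mul, hyc]
      have hANG : A ≤ normalizer (NG : Set H) := by
        apply Helper48.mem_normalizer_of_forall_conj_mem
        intro a ha w hw
        obtain ⟨hwG, hwS⟩ := mem_inf.mp hw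
        refine mem_inf.mpr ⟨hGn.conj_mem w hwG a, ?_⟩
        exact Subgroup.mul_mem _ (Subgroup.mul_mem _ (hAS ha) hwS) (Subgroup.inv_mem _ (hAS ha))
      have hpNG : ¬ p ∣ Nat.card NG :=
        fun h => hpG (h.trans (Subgroup.card_dvd_of_le inf_le_left))
      refine ⟨Ns, hNs.1, hNs.2.1, hNs.2.2, ?_⟩
      intro r hr hrs
      haveI : Fact r.Prime := ⟨hr⟩
      obtain ⟨R, hR, hAR⟩ := exists_invariant_isSyl NG A hANG hAp hpNG r
      have hRG : R ≤ G := hR.1.trans inf_le_left
      have hRS : R ≤ normalizer (S : Set H) := hR.1.trans inf_le_right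
      have hpR : ¬ p ∣ Nat.card R := fun h => hpG (h.trans (Subgroup.card_dvd_of_le hRG))
      refine ⟨R, hRG, hR.2.1, ?_, ?_⟩
      · have := (hR.map π).2.2
        rwa [hNGπ] at this
      · suffices hsuff : ∀ y ∈ S, R ≤ (centralizer {π y}).comap π by
          intro x hx y hy
          have : π y ∈ S.map π := hSπ ▸ Subgroup.mem_map_of_mem π hy
          obtain ⟨y', hy', hyy'⟩ := this
          rw [← hyy']
          have := hsuff y' hy' hx
          rwa [mem_comap, mem_centralizer_singleton_iff] at this
        intro y hy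
        refine (Helper48.le_cgen R A hpR hAR hA).trans ?_
        unfold Helper48.cgen
        apply iSup_le
        rintro ⟨a, haA, ha1⟩
        -- the tower lemma for `R ⊓ C(a)`
        have hGa : ∀ x ∈ A, x ≠ 1 → Group.IsNilpotent ↥(G ⊓ centralizer {x}) :=
          fun x hx hx1 => nilpotent_centralizer hA (le_normalizer_of_normal hGn A) hfix hx hx1
        have hcomm : ⁅S, R ⊓ centralizer {a}⁆ ≤ centralizer (V : Set H) := by
          refine hC H p s A V S (R ⊓ centralizer {a}) a hA haA ha1
            (le_normalizer_of_normal hVn A) hAS ?_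
            (le_normalizer_of_normal hVn S) (le_normalizer_of_normal hVn _)
            (inf_le_left.trans hRS) hVab ?_ ?_ hS.2.1 hsp.symm ?_ inf_le_right ?_ ?_ ?_ ?_
          · -- `A` normalizes `R ⊓ C(a)`
            apply Helper48.mem_normalizer_of_forall_conj_mem
            intro c hc w hw
            obtain ⟨hwR, hwa⟩ := mem_inf.mp hw
            refine mem_inf.mpr ⟨(mem_normalizer_iff.mp (hAR hc) w).mp hwR, ?_⟩
            exact conj_mem_centralizer_singleton (hA.1 c hc a haA) hwa
          · -- `|V|` prime to `s`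
            obtain ⟨n, hn⟩ := IsPGroup.iff_card.mp hVq
            rw [hn]
            exact Nat.Coprime.pow_left n ((Nat.coprime_primes hq hs).mpr (Ne.symm hsq))
          · -- `|V|` prime to `p`
            have : ¬ p ∣ Nat.card V := fun h => hpG (h.trans (Subgroup.card_dvd_of_le hVG))
            exact ((Nat.Prime.coprime_iff_not_dvd hp).mpr this).symm
          · exact fun h => hpR (h.trans (Subgroup.card_dvd_of_le inf_le_left))
          · -- (C2)
            intro x hx hxa
            rw [eq_bot_iff]
            intro w hw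
            obtain ⟨hw1, hwx⟩ := mem_inf.mp hw
            obtain ⟨hwR, hwa⟩ := mem_inf.mp hw1
            rw [mem_centralizer_singleton_iff] at hwx hwa
            have hwA : w ∈ centralizer (A : Set H) :=
              mem_centralizer_of_two hA haA ha1 hx hxa hwa hwx
            have : w ∈ G ⊓ centralizer (A : Set H) := mem_inf.mpr ⟨hRG hwR, hwA⟩
            rwa [hfix] at this
          · -- (C3)
            intro z hz
            obtain ⟨hzS, hza⟩ := mem_inf.mp hz
            rw [mem_centralizer_iff]
            intro w hw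
            obtain ⟨hwR, hwa⟩ := mem_inf.mp hw
            exact commute_of_coprime (hGa a haA ha1) (mem_inf.mpr ⟨hRG hwR, hwa⟩)
              (mem_inf.mpr ⟨hSG hzS, hza⟩)
              (coprime_orderOf_of_isPGroup hr hs hrs hR.2.1 hS.2.1 hwR hzS)
          · -- (C4)
            intro x hx hx1 z hz
            obtain ⟨hzS, hzx⟩ := mem_inf.mp hz
            rw [mem_centralizer_iff]
            intro v hv
            obtain ⟨hvV, hvx⟩ := mem_inf.mp hv
            exact commute_of_coprime (hGa x hx hx1) (mem_inf.mpr ⟨hVG hvV, hvx⟩)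
              (mem_inf.mpr ⟨hSG hzS, hzx⟩)
              (coprime_orderOf_of_isPGroup hq hs (Ne.symm hsq) hVq hS.2.1 hvV hzS)
          · -- (C5)
            rw [eq_bot_iff, ← hfix]
            exact inf_le_inf_right _ hSG
        intro x hx
        have h1 : ⁅y, x⁆ ∈ centralizer (V : Set H) :=
          hcomm (Subgroup.commutator_mem_commutator hy hx)
        have hxG : x ∈ G := hRG (mem_inf.mp hx).1
        have h2 : ⁅y, x⁆ ∈ G := by
          rw [commutatorElement_def]
          exact G.mul_mem (G.mul_mem (G.mul_mem (hSG hy) hxG) (G.inv_mem (hSG hy))) (G.inv_mem hxG)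
        have h3 : π ⁅y, x⁆ = 1 := hker _ (mem_inf.mpr ⟨h2, h1⟩)
        rw [map_commutatorElement, commutatorElement_eq_one_iff_commute] at h3
        rw [mem_comap, mem_centralizer_singleton_iff]
        exact h3.eq.symm
  obtain ⟨m, hm⟩ := key
  exact ⟨m, hm.trans (hπker.le.trans hCV)⟩

end Cfsg.Agent.Helper29.WardT1
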