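import Cfsg.Agent.Helper96.StC.Generic
import Cfsg.Agent.Helper96.StC.Basic

/-!
helper29, piece (A1) of #7155 for helper96 (S2092): conjugation by the long-root `w` on a short root
element, in an abstract group with the Steinberg relations of type `C`.
-/

set_option autoImplicit false

namespace Cfsg.Agent.Helper29.StCA1

open Cfsg.Agent.Helper96.StN Cfsg.Agent.Helper96.StC

universe u v w

variable {K : Type u} [Field K] {D : Type v} [Group D] {ι : Type w} [DecidableEq ι]
  {X : ι ⊕ ι → ι ⊕ ι → K → D}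

theorem W_long_conj_bar (hX : SpRel X) {p l : ι ⊕ ι} (hlp : l ≠ p) (hlp' : l ≠ bar p) {t : K}
    (ht : t ≠ 0) (u : K) :
    W X p (bar p) t * X (bar p) l u * (W X p (bar p) t)⁻¹ = X p l (t * u) := by
  -- index facts
  have hpl : p ≠ l := hlp.symm
  have hpl' : p ≠ bar l := fun e => hlp' (by rw [e, bar_bar])
  have hbpl : bar p ≠ l := hlp'.symm
  have hbpl' : bar p ≠ bar l := fun e => hlp (bar_injective e).symm
  have hpbp : p ≠ bar p := (bar_ne p).symm
  have hbpp : bar p ≠ p := bar_ne p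
  have hbll : bar l ≠ l := bar_ne l
  have hlbl : l ≠ bar l := (bar_ne l).symm
  have hblp : bar l ≠ p := hpl'.symm
  have hblbp : bar l ≠ bar p := hbpl'.symm
  set e : K := eps K p l with he
  set A : D := X p (bar p) t with hA
  set Y : D := X (bar p) p (-t⁻¹) with hY
  set Z : D := X (bar p) l u with hZ
  set Z' : D := X (bar p) l (-u) with hZ'
  set P1 : D := X p l (t * u) with hP1
  set L1 : D := X (bar l) l (e * t * u ^ 2) with hL1
  set L2 : D := X (bar l) l (-(2 * (e * t * u ^ 2))) with hL2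
  -- `Z'` is the inverse of `Z`
  have hZinv : Z'⁻¹ = Z := by
    rw [hZ', X_neg hX hbpl, neg_neg]
  -- Step 1
  have h1 : A * Z * A⁻¹ = P1 * L1 * Z := r6_conj hX hpl hpl' t u
  -- Step 2
  have h2 : Y * P1 * Y⁻¹ = Z' * L1 * P1 := by
    have := r6_conj hX hbpl hbpl' (-t⁻¹) (t * u)
    rw [bar_bar, eps_bar_left] at this
    have e1 : -t⁻¹ * (t * u) = -u := by field_simp
    have e2 : -eps K p l * -t⁻¹ * (t * u) ^ 2 = e * t * u ^ 2 := by
      rw [he]; field_simp
    rw [e1, e2] at this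
    exact this
  have h3 : Y * L1 * Y⁻¹ = L1 :=
    comm_conj hX hbpp hbll hblp.symm (by rw [Ne, eq_comm]; exact hblp) (by rw [bar_bar]; exact hbpl) hbpl _ _
  have h4 : Y * Z * Y⁻¹ = Z :=
    comm_conj hX hbpp hbpl hpbp hpl' (by rw [bar_bar]; exact hbpp) hbpl _ _
  -- commutations of the long root element `X (bar l) l _`
  have c1 : ∀ a b : K, X (bar l) l a * X p l b = X p l b * X (bar l) l a := fun a b =>
    hX.comm (bar l) l p l hbll hpl hlp hlbl hblbp hbll a b
  have c2 : ∀ a b : K, X (bar l) l a * X (bar p) l b = X (bar p) l b * X (bar l) l a := fun a b =>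
    hX.comm (bar l) l (bar p) l hbll hbpl hlp' hlbl (by rw [bar_bar]; exact hblp) hbll a b
  -- the conjugation of `P1` by `Z'`
  have h7 : Z' * P1 * Z'⁻¹ = L2 * P1 := by
    have hs : Z' = X (bar l) p (-(e * u)) := by
      rw [hZ', hX.sym (bar p) l hbpl (by rw [bar_bar]; exact hlp) (-u), bar_bar, eps_bar_left]
      congr 1
      rw [he]; ring
    have := r5_conj hX hblp hblbp (-(e * u)) (t * u)
    rw [bar_bar] at this
    rw [hs, this, hL2]
    congr 2
    ring
  -- Step 3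
  have h8 : A * P1 * A⁻¹ = P1 :=
    comm_conj hX hpbp hpl hbpp hbpl' hpbp hpl _ _
  -- assembly
  have hL : L1 * L1 * L2 = 1 := by
    rw [hL1, hL2, ← hX.add _ _ hbll, ← hX.add _ _ hbll]
    have : e * t * u ^ 2 + e * t * u ^ 2 + -(2 * (e * t * u ^ 2)) = 0 := by ring
    rw [this, X_zero hX hbll]
  have key : Y * (P1 * L1 * Z) * Y⁻¹ = P1 := by
    have e1 : Y * (P1 * L1 * Z) * Y⁻¹ = (Y * P1 * Y⁻¹) * (Y * L1 * Y⁻¹) * (Y * Z * Y⁻¹) := by group
    rw [e1, h2, h3, h4]
    -- `Z' * L1 * P1 * L1 * Z`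
    have c1' : L1 * P1 = P1 * L1 := c1 _ _
    have c2' : L1 * Z' = Z' * L1 := c2 _ _
    calc Z' * L1 * P1 * L1 * Z = Z' * L1 * (P1 * L1) * Z := by group
      _ = Z' * L1 * (L1 * P1) * Z := by rw [c1']
      _ = (Z' * L1) * L1 * P1 * Z := by group
      _ = (L1 * Z') * L1 * P1 * Z := by rw [c2']
      _ = L1 * (Z' * L1) * P1 * Z := by group
      _ = L1 * (L1 * Z') * P1 * Z := by rw [c2']
      _ = L1 * L1 * (Z' * P1 * Z'⁻¹) := by rw [hZinv]; group
      _ = L1 * L1 * (L2 * P1) := by rw [h7]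
      _ = (L1 * L1 * L2) * P1 := by group
      _ = P1 := by rw [hL, one_mul]
  have eW : W X p (bar p) t = A * Y * A := rfl
  have e0 : (A * Y * A) * Z * (A * Y * A)⁻¹ = A * (Y * (A * Z * A⁻¹) * Y⁻¹) * A⁻¹ := by group
  rw [eW, e0, h1, key, h8]

end Cfsg.Agent.Helper29.StCA1
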