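import Mathlib
import Cfsg.Agent.Helper96.StC.Basic

/-!
# S2092 (helper96), piece (M): the symplectic root matrices lie in `Sp_{2m}(K)` and satisfy the
Steinberg relations of type `C`.
-/

set_option autoImplicit false

namespace Cfsg.Agent.Helper29.StCM

open Matrix Cfsg.Agent.Helper96.StN Cfsg.Agent.Helper96.StC

universe u v

section gen

variable {K : Type u} [Field K] {ι : Type v} [DecidableEq ι] [Fintype ι]

set_option linter.unusedSectionVars false
set_option linter.unusedSimpArgs false

/-- matrix units -/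
def E (a b : ι ⊕ ι) : Matrix (ι ⊕ ι) (ι ⊕ ι) K := Matrix.single a b 1

theorem single_eq_smul_E (a b : ι ⊕ ι) (t : K) : Matrix.single a b t = t • (E a b : Matrix _ _ K) := by
  unfold E; rw [Matrix.smul_single, smul_eq_mul, mul_one]

theorem E_mul_E (a b c d : ι ⊕ ι) :
    (E a b : Matrix _ _ K) * E c d = if b = c then E a d else 0 := by
  unfold E
  split_ifs with h
  · subst h; rw [single_mul_single_same, mul_one]
  · rw [single_mul_single_of_ne _ _ _ _ h]

theorem E_transpose (a b : ι ⊕ ι) : (E a b : Matrix _ _ K)ᵀ = E b a := by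
  unfold E; rw [Matrix.transpose_single]

/-- the sign of an index in `J` -/
def sgn (K : Type u) [Field K] (a : ι ⊕ ι) : K := if a.isLeft then -1 else 1

theorem J_apply (a b : ι ⊕ ι) : Matrix.J ι K a b = if b = bar a then sgn K a else 0 := by
  rcases a with a | a <;> rcases b with b | b <;>
    simp [Matrix.J, sgn, Matrix.one_apply, eq_comm, apply_ite]

theorem E_mul_J (a b : ι ⊕ ι) :
    (E a b : Matrix _ _ K) * Matrix.J ι K = sgn K b • E a (bar b) := by
  ext x y
  unfold E
  by_cases hx : x = a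
  · subst hx
    rw [Matrix.single_mul_apply_same, one_mul, J_apply, Matrix.smul_apply, Matrix.single_apply]
    by_cases hy : y = bar b
    · subst hy; simp
    · rw [if_neg hy, if_neg (fun h => hy h.2.symm)]; simp
  · rw [Matrix.single_mul_apply_of_ne _ _ _ _ _ hx, Matrix.smul_apply, Matrix.single_apply,
      if_neg (fun h => hx h.1.symm)]; simp

theorem J_mul_E (a b : ι ⊕ ι) :
    Matrix.J ι K * (E a b : Matrix _ _ K) = sgn K (bar a) • E (bar a) b := by
  ext x y
  unfold E
  by_cases hy : y = b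
  · subst hy
    rw [Matrix.mul_single_apply_same, mul_one, J_apply, Matrix.smul_apply, Matrix.single_apply]
    by_cases hx : x = bar a
    · subst hx; simp
    · rw [if_neg (fun h => hx (by rw [h, bar_bar])), if_neg (fun h => hx h.1.symm)]; simp
  · rw [Matrix.mul_single_apply_of_ne _ _ _ _ _ hy, Matrix.smul_apply, Matrix.single_apply,
      if_neg (fun h => hy h.2.symm)]; simp

theorem spM_long (p : ι ⊕ ι) (t : K) : spM p (bar p) t = 1 + t • (E p (bar p) : Matrix _ _ K) := by
  unfold spM; rw [if_pos rfl, single_eq_smul_E]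

theorem spM_long' {p q : ι ⊕ ι} (h : q = bar p) (t : K) :
    spM p q t = 1 + t • (E p q : Matrix _ _ K) := by
  subst h; exact spM_long p t

theorem spM_short {p q : ι ⊕ ι} (h : q ≠ bar p) (t : K) :
    spM p q t = 1 + t • (E p q : Matrix _ _ K) - (eps K p q * t) • E (bar q) (bar p) := by
  unfold spM; rw [if_neg h, single_eq_smul_E, single_eq_smul_E]

theorem eps_inl_inl (i j : ι) : eps K (Sum.inl i : ι ⊕ ι) (Sum.inl j) = 1 := by simp [eps]
theorem eps_inl_inr (i j : ι) : eps K (Sum.inl i : ι ⊕ ι) (Sum.inr j) = -1 := by simp [eps]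
theorem eps_inr_inl (i j : ι) : eps K (Sum.inr i : ι ⊕ ι) (Sum.inl j) = -1 := by simp [eps]
theorem eps_inr_inr (i j : ι) : eps K (Sum.inr i : ι ⊕ ι) (Sum.inr j) = 1 := by simp [eps]
theorem sgn_inl (i : ι) : sgn K (Sum.inl i : ι ⊕ ι) = -1 := by simp [sgn]
theorem sgn_inr (i : ι) : sgn K (Sum.inr i : ι ⊕ ι) = 1 := by simp [sgn]
theorem sgn_bar (a : ι ⊕ ι) : sgn K (bar a) = - sgn K a := by
  rcases a with a | a <;> simp [sgn]

theorem ne_bar_symm {p q : ι ⊕ ι} (h : p ≠ bar q) : q ≠ bar p := fun e => h (by rw [e, bar_bar])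

theorem spM_mem_gen (p q : ι ⊕ ι) (hpq : p ≠ q) (t : K) :
    spM p q t ∈ Matrix.symplecticGroup ι K := by
  rw [SymplecticGroup.mem_iff]
  by_cases hq : q = bar p
  · subst hq
    rw [spM_long]
    simp only [transpose_add, transpose_one, transpose_smul, E_transpose, mul_add, add_mul,
      mul_one, one_mul, smul_mul_assoc, mul_smul_comm, E_mul_J, J_mul_E, E_mul_E, bar_bar,
      sgn_bar, (bar_ne p).symm, if_false, if_true, smul_zero, add_zero, bar_ne p]
    rcases p with p | p <;> simp only [sgn_inl, sgn_inr] <;> module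
  · rw [spM_short hq]
    have h1 : bar q ≠ p := fun e => hq (by rw [← e, bar_bar])
    simp only [transpose_add, transpose_sub, transpose_one, transpose_smul, E_transpose, mul_add,
      add_mul, mul_sub, sub_mul,
      mul_one, one_mul, smul_mul_assoc, mul_smul_comm, E_mul_J, J_mul_E, E_mul_E, bar_bar,
      sgn_bar, (bar_ne p).symm, (bar_ne q).symm, bar_ne q, if_false, if_true, smul_zero, add_zero,
      sub_zero, bar_ne p,
      bar_eq_iff, hpq, hpq.symm, hq, ne_bar_symm hq]
    rcases p with p | p <;> rcases q with q | q <;>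
      simp only [sgn_inl, sgn_inr, eps_inl_inl, eps_inl_inr, eps_inr_inl, eps_inr_inr] <;> module

theorem spM_add (p q : ι ⊕ ι) (hpq : p ≠ q) (t u : K) :
    spM p q (t + u) = spM p q t * spM p q u := by
  by_cases hq : q = bar p
  · rw [spM_long' hq, spM_long' hq, spM_long' hq]
    simp only [mul_add, add_mul, mul_sub, sub_mul, mul_one, one_mul, smul_mul_assoc,
      mul_smul_comm, E_mul_E, bar_eq_iff, bar_bar, hpq, hpq.symm, if_false, if_true, smul_zero,
      add_zero, sub_zero, zero_add]
    module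
  · rw [spM_short hq, spM_short hq, spM_short hq]
    simp only [mul_add, add_mul, mul_sub, sub_mul, mul_one, one_mul, smul_mul_assoc,
      mul_smul_comm, E_mul_E, bar_eq_iff, bar_bar, hpq, hpq.symm, hq, ne_bar_symm hq,
      (bar_ne p).symm, (bar_ne q).symm, if_false, if_true, smul_zero,
      add_zero, sub_zero, zero_add]
    module

theorem spM_sym (p q : ι ⊕ ι) (hpq : p ≠ q) (hq : q ≠ bar p) (t : K) :
    spM p q t = spM (bar q) (bar p) (-(eps K p q * t)) := by
  have h2 : bar p ≠ bar (bar q) := by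
    rw [bar_bar]; exact fun e => hq (by rw [← e])
  rw [spM_short hq, spM_short h2]
  simp only [bar_bar, eps_bar_left, eps_bar_right]
  rcases p with p | p <;> rcases q with q | q <;>
    simp only [eps_inl_inl, eps_inl_inr, eps_inr_inl, eps_inr_inr] <;> module

theorem spM_comm (p q r s : ι ⊕ ι) (_hpq : p ≠ q) (_hrs : r ≠ s) (hqr : q ≠ r) (hqs : q ≠ bar s)
    (hpr : p ≠ bar r) (hps : p ≠ s) (t u : K) :
    spM p q t * spM r s u = spM r s u * spM p q t := by
  by_cases hq : q = bar p <;> by_cases hs : s = bar r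
  · rw [spM_long' hq, spM_long' hs]
    simp only [mul_add, add_mul, mul_sub, sub_mul, mul_one, one_mul, smul_mul_assoc,
      mul_smul_comm, E_mul_E, bar_eq_iff, bar_bar, hqr, hqr.symm, hqs, ne_bar_symm hqs, hpr,
      ne_bar_symm hpr, hps, hps.symm, if_false, if_true, smul_zero,
      add_zero, sub_zero, zero_add]
    module
  · rw [spM_long' hq, spM_short hs]
    simp only [mul_add, add_mul, mul_sub, sub_mul, mul_one, one_mul, smul_mul_assoc,
      mul_smul_comm, E_mul_E, bar_eq_iff, bar_bar, hqr, hqr.symm, hqs, ne_bar_symm hqs, hpr,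
      ne_bar_symm hpr, hps, hps.symm, if_false, if_true, smul_zero,
      add_zero, sub_zero, zero_add]
    module
  · rw [spM_short hq, spM_long' hs]
    simp only [mul_add, add_mul, mul_sub, sub_mul, mul_one, one_mul, smul_mul_assoc,
      mul_smul_comm, E_mul_E, bar_eq_iff, bar_bar, hqr, hqr.symm, hqs, ne_bar_symm hqs, hpr,
      ne_bar_symm hpr, hps, hps.symm, if_false, if_true, smul_zero,
      add_zero, sub_zero, zero_add]
    module
  · rw [spM_short hq, spM_short hs]
    simp only [mul_add, add_mul, mul_sub, sub_mul, mul_one, one_mul, smul_mul_assoc,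
      mul_smul_comm, E_mul_E, bar_eq_iff, bar_bar, hqr, hqr.symm, hqs, ne_bar_symm hqs, hpr,
      ne_bar_symm hpr, hps, hps.symm, if_false, if_true, smul_zero,
      add_zero, sub_zero, zero_add]
    module

theorem spM_mul (p q s : ι ⊕ ι) (hpq : p ≠ q) (hqs : q ≠ s) (hps : p ≠ s) (hpq' : p ≠ bar q)
    (hqs' : q ≠ bar s) (hps' : p ≠ bar s) (t u : K) :
    spM p q t * spM q s u = spM p s (t * u) * spM q s u * spM p q t := by
  rw [spM_short (ne_bar_symm hpq'), spM_short (ne_bar_symm hqs'), spM_short (ne_bar_symm hps')]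
  simp only [mul_add, add_mul, mul_sub, sub_mul, mul_one, one_mul, smul_mul_assoc,
    mul_smul_comm, E_mul_E, bar_eq_iff, bar_bar, hpq, hpq.symm, hqs, hqs.symm, hps, hps.symm,
    hpq', ne_bar_symm hpq', hqs', ne_bar_symm hqs', hps', ne_bar_symm hps',
    (bar_ne p).symm, (bar_ne q).symm, (bar_ne s).symm, if_false, if_true, smul_zero,
    add_zero, sub_zero, zero_add, mul_zero, zero_mul]
  rcases p with p | p <;> rcases q with q | q <;> rcases s with s | s <;>
    simp only [eps_inl_inl, eps_inl_inr, eps_inr_inl, eps_inr_inr] <;> module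

theorem spM_r5 (p q : ι ⊕ ι) (hpq : p ≠ q) (hpq' : p ≠ bar q) (t u : K) :
    spM p q t * spM q (bar p) u = spM p (bar p) (2 * t * u) * spM q (bar p) u * spM p q t := by
  have h1 : bar p ≠ bar q := fun e => hpq (bar_injective e)
  rw [spM_short (ne_bar_symm hpq'), spM_short h1, spM_long]
  simp only [mul_add, add_mul, mul_sub, sub_mul, mul_one, one_mul, smul_mul_assoc,
    mul_smul_comm, E_mul_E, bar_eq_iff, bar_bar, hpq, hpq.symm,
    hpq', ne_bar_symm hpq', eps_bar_left, eps_bar_right,
    (bar_ne p).symm, (bar_ne q).symm, if_false, if_true, smul_zero,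
    add_zero, sub_zero, zero_add, mul_zero, zero_mul]
  rcases p with p | p <;> rcases q with q | q <;>
    simp only [eps_inl_inl, eps_inl_inr, eps_inr_inl, eps_inr_inr] <;> module

theorem spM_r6 (p q : ι ⊕ ι) (hpq : p ≠ q) (hpq' : p ≠ bar q) (t u : K) :
    spM p (bar p) t * spM (bar p) q u =
      spM p q (t * u) * spM (bar q) q (eps K p q * t * u ^ 2) * spM (bar p) q u *
        spM p (bar p) t := by
  have h1 : q ≠ bar (bar p) := by rw [bar_bar]; exact hpq.symm
  have h2 : q = bar (bar q) := by rw [bar_bar]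
  rw [spM_short (ne_bar_symm hpq'), spM_short h1, spM_long, spM_long' h2]
  simp only [mul_add, add_mul, mul_sub, sub_mul, mul_one, one_mul, smul_mul_assoc,
    mul_smul_comm, E_mul_E, bar_eq_iff, bar_bar, hpq, hpq.symm,
    hpq', ne_bar_symm hpq', eps_bar_left, eps_bar_right,
    (bar_ne p).symm, (bar_ne q).symm, if_false, if_true, smul_zero,
    add_zero, sub_zero, zero_add, mul_zero, zero_mul]
  rcases p with p | p <;> rcases q with q | q <;>
    simp only [eps_inl_inl, eps_inl_inr, eps_inr_inl, eps_inr_inr] <;> module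

end gen

section fin

variable {K : Type u} [Field K] {m : ℕ}

theorem spM_mem (p q : Fin m ⊕ Fin m) (hpq : p ≠ q) (t : K) :
    spM p q t ∈ Matrix.symplecticGroup (Fin m) K :=
  spM_mem_gen p q hpq t

/-- the root elements of `Sp_{2m}(K)` -/
def spT (p q : Fin m ⊕ Fin m) (t : K) : Matrix.symplecticGroup (Fin m) K :=
  if h : p ≠ q then ⟨spM p q t, spM_mem p q h t⟩ else 1

theorem spT_coe {p q : Fin m ⊕ Fin m} (hpq : p ≠ q) (t : K) : (spT p q t).1 = spM p q t := by
  unfold spT; rw [dif_pos hpq]

theorem comm_rel_iff {G : Type*} [Group G] (a b c : G) :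
    a * b * a⁻¹ * b⁻¹ = c ↔ a * b = c * b * a := by
  rw [mul_inv_eq_iff_eq_mul, mul_inv_eq_iff_eq_mul]

theorem spT_spRel : SpRel (fun (p q : Fin m ⊕ Fin m) (t : K) => spT p q t) := by
  refine ⟨?_, ?_, ?_, ?_, ?_, ?_⟩
  · intro p q hpq hq t
    have h2 : bar q ≠ bar p := fun e => hpq (bar_injective e).symm
    apply Subtype.ext
    rw [spT_coe hpq, spT_coe h2]
    exact spM_sym p q hpq hq t
  · intro p q hpq t u
    apply Subtype.ext
    rw [Submonoid.coe_mul, spT_coe hpq, spT_coe hpq, spT_coe hpq]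
    exact spM_add p q hpq t u
  · intro p q r s hpq hrs hqr hqs hpr hps t u
    apply Subtype.ext
    rw [Submonoid.coe_mul, Submonoid.coe_mul, spT_coe hpq, spT_coe hrs]
    exact spM_comm p q r s hpq hrs hqr hqs hpr hps t u
  · intro p q s hpq hqs hps hpq' hqs' hps' t u
    rw [comm_rel_iff]
    apply Subtype.ext
    rw [Submonoid.coe_mul, Submonoid.coe_mul, Submonoid.coe_mul, spT_coe hpq, spT_coe hqs,
      spT_coe hps]
    exact spM_mul p q s hpq hqs hps hpq' hqs' hps' t u
  · intro p q hpq hpq' t u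
    rw [comm_rel_iff]
    have h1 : q ≠ bar p := ne_bar_symm hpq'
    apply Subtype.ext
    rw [Submonoid.coe_mul, Submonoid.coe_mul, Submonoid.coe_mul, spT_coe hpq, spT_coe h1,
      spT_coe (bar_ne p).symm]
    exact spM_r5 p q hpq hpq' t u
  · intro p q hpq hpq' t u
    rw [comm_rel_iff]
    have h1 : bar p ≠ q := fun e => hpq' (by rw [← e, bar_bar])
    apply Subtype.ext
    rw [Submonoid.coe_mul, Submonoid.coe_mul, Submonoid.coe_mul, Submonoid.coe_mul,
      spT_coe hpq, spT_coe h1, spT_coe (bar_ne p).symm, spT_coe (bar_ne q)]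
    exact spM_r6 p q hpq hpq' t u

end fin

end Cfsg.Agent.Helper29.StCM
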