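import Mathlib

/-!
# S3782 (helper71, Alperin), piece (B0): an automorphism of order dividing `p` of an elementary
abelian `p`-group `V` has `|V| ≤ |Fix|^p`.
-/

set_option autoImplicit false

namespace Cfsg.Agent.Helper29.Alp

/-- the kernel of the `k`-th iterate of an additive endomorphism -/
def iterKer {V : Type*} [AddCommGroup V] (δ : V →+ V) (k : ℕ) : AddSubgroup V where
  carrier := {v | δ^[k] v = 0}
  zero_mem' := iterate_map_zero δ k
  add_mem' := by
    intro a b ha hb
    show δ^[k] (a + b) = 0
    rw [iterate_map_add, ha, hb, add_zero]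
  neg_mem' := by
    intro a ha
    show δ^[k] (-a) = 0
    rw [iterate_map_neg, ha, neg_zero]

theorem mem_iterKer {V : Type*} [AddCommGroup V] (δ : V →+ V) (k : ℕ) (v : V) :
    v ∈ iterKer δ k ↔ δ^[k] v = 0 := Iff.rfl

/-- `|ker δ^(k+1)| ≤ |ker δ| * |ker δ^k|` -/
theorem card_iterKer_succ_le {V : Type*} [AddCommGroup V] [Finite V] (δ : V →+ V) (k : ℕ) :
    Nat.card (iterKer δ (k + 1)) ≤ Nat.card (iterKer δ 1) * Nat.card (iterKer δ k) := by
  -- the map `ker δ^(k+1) → ker δ^k`, `x ↦ δ x`
  let g : iterKer δ (k + 1) →+ iterKer δ k :=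
    { toFun := fun x => ⟨δ x.1, by
        have hx := x.2
        rw [mem_iterKer] at hx ⊢
        rw [Function.iterate_succ_apply] at hx
        exact hx⟩
      map_zero' := by
        apply Subtype.ext
        simp
      map_add' := by
        intro x y
        apply Subtype.ext
        simp }
  have h1 : Nat.card g.ker * Nat.card g.range = Nat.card (iterKer δ (k + 1)) := by
    rw [← AddSubgroup.index_ker]
    exact AddSubgroup.card_mul_index g.ker
  have h2 : Nat.card g.range ≤ Nat.card (iterKer δ k) :=
    Nat.card_le_card_of_injective (fun y => (y : iterKer δ k)) Subtype.val_injective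
  have h3 : Nat.card g.ker ≤ Nat.card (iterKer δ 1) := by
    refine Nat.card_le_card_of_injective (fun x => ⟨x.1.1, ?_⟩) ?_
    · have hx := x.2
      rw [AddMonoidHom.mem_ker] at hx
      rw [mem_iterKer, Function.iterate_one]
      exact congrArg Subtype.val hx
    · intro x y hxy
      apply Subtype.ext
      apply Subtype.ext
      have := congrArg Subtype.val hxy
      exact this
  calc Nat.card (iterKer δ (k + 1))
      = Nat.card g.ker * Nat.card g.range := h1.symm
    _ ≤ Nat.card (iterKer δ 1) * Nat.card (iterKer δ k) := Nat.mul_le_mul h3 h2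

theorem card_iterKer_le {V : Type*} [AddCommGroup V] [Finite V] (δ : V →+ V) (k : ℕ) :
    Nat.card (iterKer δ k) ≤ Nat.card (iterKer δ 1) ^ k := by
  induction k with
  | zero =>
    rw [pow_zero]
    have : iterKer δ 0 = ⊥ := by
      ext v
      rw [mem_iterKer, AddSubgroup.mem_bot]
      rfl
    rw [this]
    simp
  | succ k ih =>
    calc Nat.card (iterKer δ (k + 1))
        ≤ Nat.card (iterKer δ 1) * Nat.card (iterKer δ k) := card_iterKer_succ_le δ k
      _ ≤ Nat.card (iterKer δ 1) * Nat.card (iterKer δ 1) ^ k := Nat.mul_le_mul le_rfl ih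
      _ = Nat.card (iterKer δ 1) ^ (k + 1) := by rw [pow_succ, mul_comm]

/-- (B0) -/
theorem card_le_fix_pow {V : Type*} [AddCommGroup V] [Finite V] {p : ℕ} (hp : p.Prime)
    (hV : ∀ v : V, p • v = 0) (f : V ≃+ V) (hf : ∀ v, f^[p] v = v) :
    Nat.card V ≤ Nat.card {v : V // f v = v} ^ p := by
  classical
  have : Fact p.Prime := ⟨hp⟩
  have : Nonempty {v : V // f v = v} := ⟨⟨0, map_zero f⟩⟩
  have hpos : 0 < Nat.card {v : V // f v = v} := Nat.card_pos
  rcases subsingleton_or_nontrivial V with hsub | hnt
  · have h1 : Nat.card V = 1 := Nat.card_eq_one_iff_unique.mpr ⟨hsub, ⟨0⟩⟩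
    rw [h1]
    exact Nat.one_le_pow _ _ hpos
  · let F : AddMonoid.End V := f.toAddMonoidHom
    have hFv : ∀ v, F v = f v := fun _ => rfl
    have : Nontrivial (AddMonoid.End V) := by
      obtain ⟨v, hv⟩ := exists_ne (0 : V)
      refine ⟨⟨1, 0, fun h => hv ?_⟩⟩
      have := congrArg (fun e : AddMonoid.End V => e v) h
      exact this
    have hp0 : ((p : ℕ) : AddMonoid.End V) = 0 := by
      ext v
      have h1 : ((p : ℕ) : AddMonoid.End V) v = p • v := by
        simp
      rw [h1, hV]; rfl
    have : CharP (AddMonoid.End V) p := (CharP.charP_iff_prime_eq_zero hp).mpr hp0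
    have hFp : F ^ p = 1 := by
      ext v
      rw [AddMonoid.End.coe_pow]
      have h1 : ∀ (n : ℕ) (v : V), (⇑F)^[n] v = (⇑f)^[n] v := by
        intro n; induction n with
        | zero => intro v; rfl
        | succ n ih =>
          intro v
          rw [Function.iterate_succ_apply, Function.iterate_succ_apply, hFv, ih]
      rw [h1, hf]; rfl
    have hδp : (F - 1) ^ p = 0 := by
      rw [sub_pow_char_of_commute p (Commute.one_right F), hFp, one_pow, sub_self]
    -- pass to honest additive homomorphisms
    let δ : V →+ V := (F - 1 : AddMonoid.End V)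
    have hδv : ∀ v, δ v = f v - v := fun _ => rfl
    have hiter : ∀ v, δ^[p] v = 0 := by
      intro v
      have h1 : ((F - 1) ^ p : AddMonoid.End V) v = 0 := by rw [hδp]; rfl
      rw [AddMonoid.End.coe_pow] at h1
      exact h1
    have h1 := card_iterKer_le δ p
    have h2 : Nat.card (iterKer δ p) = Nat.card V := by
      have : iterKer δ p = ⊤ := by
        ext v; rw [mem_iterKer]; simp [hiter v]
      rw [this]
      exact Nat.card_congr (AddSubgroup.topEquiv).toEquiv
    have hker : ∀ v, v ∈ iterKer δ 1 ↔ f v = v := by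
      intro v
      rw [mem_iterKer, Function.iterate_one, hδv, sub_eq_zero]
    have h3 : Nat.card (iterKer δ 1) = Nat.card {v : V // f v = v} :=
      Nat.card_congr (Equiv.subtypeEquivRight hker)
    rw [h2, h3] at h1
    exact h1

end Cfsg.Agent.Helper29.Alp
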