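-- (FC) for helper10's S3999: a nilpotent normal Hall subgroup contains all `p`-elements, `p ∣ |N|`.
import Mathlib
import Cfsg.Prelude.Def_Solvable

set_option autoImplicit false

namespace Cfsg.Agent.Helper29.FrobOT

open Cfsg

universe u

variable {X : Type u} [Group X] [Finite X]

/-- the set of `p`-elements of a group with a normal Sylow `p`-subgroup `Q` is `Q` -/
theorem pElements_eq_of_normal_sylow (p : ℕ) [Fact p.Prime] (Q : Sylow p X)
    (hQ : (Q : Subgroup X).Normal) (x : X) :
    (∃ k : ℕ, orderOf x = p ^ k) ↔ x ∈ (Q : Subgroup X) := by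
  have hp : p.Prime := Fact.out
  constructor
  · rintro ⟨k, hk⟩
    have hpg : IsPGroup p (Subgroup.zpowers x) := by
      apply IsPGroup.of_card (n := k)
      rw [Nat.card_zpowers, hk]
    obtain ⟨R, hR⟩ := hpg.exists_le_sylow
    have := Sylow.unique_of_normal Q hQ
    have hRQ : R = Q := Subsingleton.elim R Q
    rw [← hRQ]
    exact hR (Subgroup.mem_zpowers x)
  · intro hx
    have h1 : orderOf x ∣ Nat.card (Q : Subgroup X) := by
      have := orderOf_dvd_natCard (⟨x, hx⟩ : (Q : Subgroup X))
      rwa [Subgroup.orderOf_mk] at this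
    rw [Sylow.card_eq_multiplicity] at h1
    obtain ⟨k, -, hk⟩ := (Nat.dvd_prime_pow hp).1 h1
    exact ⟨k, hk⟩

/-- (FC) a nilpotent normal Hall subgroup contains all `p`-elements for `p ∣ |N|`, and they
form a Sylow `p`-subgroup of `X` -/
theorem card_pElements_of_nilpotent_normal_hall (N : Subgroup X) [N.Normal]
    (hnil : Group.IsNilpotent N) (hcop : (Nat.card N).Coprime N.index) (p : ℕ) [Fact p.Prime]
    (hp : p ∣ Nat.card N) :
    Nat.card {x : X // ∃ k : ℕ, orderOf x = p ^ k} = p ^ (Nat.card X).factorization p := by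
  classical
  have hpp : p.Prime := Fact.out
  -- a Sylow `p`-subgroup of `N`, normal hence characteristic
  obtain ⟨P⟩ : Nonempty (Sylow p N) := inferInstance
  have hPn : (P : Subgroup N).Normal :=
    ((Group.isNilpotent_of_finite_tfae (G := N)).out 0 3 rfl rfl).mp hnil p inferInstance P
  have hPc : (P : Subgroup N).Characteristic := Sylow.characteristic_of_normal P hPn
  have hQn : ((P : Subgroup N).map N.subtype).Normal := ConjAct.normal_of_characteristic_of_normal
  -- its order
  have hpidx : ¬ p ∣ N.index := by
    intro hd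
    have := Nat.Coprime.eq_one_of_dvd (Nat.Coprime.coprime_dvd_left hp hcop) hd
    exact hpp.one_lt.ne' this
  have hidx0 : N.index ≠ 0 := Subgroup.index_ne_zero_of_finite
  have hfac : (Nat.card X).factorization p = (Nat.card N).factorization p := by
    rw [← Subgroup.card_mul_index N, Nat.factorization_mul Nat.card_pos.ne' hidx0,
      Finsupp.add_apply, Nat.factorization_eq_zero_of_not_dvd hpidx, add_zero]
  have hcardQ : Nat.card ((P : Subgroup N).map N.subtype) = p ^ (Nat.card X).factorization p := by
    rw [Subgroup.card_map_of_injective N.subtype_injective, hfac]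
    exact Sylow.card_eq_multiplicity P
  let Q : Sylow p X := Sylow.ofCard _ hcardQ
  have hQcoe : (Q : Subgroup X) = (P : Subgroup N).map N.subtype := rfl
  have hQn' : (Q : Subgroup X).Normal := by rw [hQcoe]; exact hQn
  have hcongr : {x : X // ∃ k : ℕ, orderOf x = p ^ k} ≃ (Q : Subgroup X) :=
    Equiv.subtypeEquivRight (fun x => pElements_eq_of_normal_sylow p Q hQn' x)
  rw [Nat.card_congr hcongr]
  exact hcardQ

end Cfsg.Agent.Helper29.FrobOT
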