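-- (GB) for helper10's S3999: normal Sylow subgroups for all primes of `ν` give a normal subgroup of order `ν`.
import Mathlib
import Cfsg.Prelude.Def_Solvable

set_option autoImplicit false

namespace Cfsg.Agent.Helper29.FrobOT

open Cfsg

universe u

variable {X : Type u} [Group X] [Finite X]

/-- `|M ⊔ P| = |M| |P|` for `P` normal and `M ⊓ P = ⊥` -/
theorem card_sup_of_normal_of_inf_eq_bot (M P : Subgroup X) [P.Normal] (h : M ⊓ P = ⊥) :
    Nat.card (M ⊔ P : Subgroup X) = Nat.card M * Nat.card P := by
  have h1 : Nat.card (M ⊔ P : Subgroup X) = Nat.card P * P.relIndex M := by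
    rw [← Subgroup.relIndex_sup_right M P, ← Subgroup.relIndex_bot_left, ← Subgroup.relIndex_bot_left,
      Subgroup.relIndex_mul_relIndex _ _ _ bot_le le_sup_right]
  have h2 : P.relIndex M = Nat.card M := by
    rw [← Subgroup.inf_relIndex_left, h, Subgroup.relIndex_bot_left]
  rw [h1, h2, mul_comm]

/-- (GB) normal Sylow subgroups for all primes of `ν` (`|X| = ν c`, coprime) ⟹ normal subgroup
of order `ν` -/
theorem exists_normal_card_eq_of_normal_sylows (ν c : ℕ) (hX : Nat.card X = ν * c)
    (hcop : ν.Coprime c)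
    (h : ∀ p : ℕ, p.Prime → p ∣ ν →
      ∃ P : Subgroup X, P.Normal ∧ Nat.card P = p ^ (Nat.card X).factorization p) :
    ∃ N : Subgroup X, N.Normal ∧ Nat.card N = ν := by
  classical
  have hX0 : Nat.card X ≠ 0 := Nat.card_pos.ne'
  have hν0 : ν ≠ 0 := by
    rintro rfl
    rw [zero_mul] at hX
    exact hX0 hX
  have hc0 : c ≠ 0 := by
    rintro rfl
    rw [mul_zero] at hX
    exact hX0 hX
  -- the key induction
  have key : ∀ s : Finset ℕ, s ⊆ ν.primeFactors →
      ∃ M : Subgroup X, M.Normal ∧ Nat.card M = ∏ p ∈ s, p ^ (Nat.card X).factorization p := by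
    intro s
    induction s using Finset.induction_on with
    | empty =>
      intro _
      exact ⟨⊥, inferInstance, by simp⟩
    | insert q s hq ih =>
      intro hs
      obtain ⟨M, hMn, hMc⟩ := ih (fun x hx => hs (Finset.mem_insert_of_mem hx))
      have hqν := hs (Finset.mem_insert_self q s)
      have hqp : q.Prime := Nat.prime_of_mem_primeFactors hqν
      have hqd : q ∣ ν := Nat.dvd_of_mem_primeFactors hqν
      obtain ⟨P, hPn, hPc⟩ := h q hqp hqd
      have := hPn
      have := hMn
      have hcop' : (Nat.card M).Coprime (Nat.card P) := by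
        rw [hMc, hPc]
        apply Nat.Coprime.pow_right
        apply Nat.Coprime.prod_left
        intro p hp
        apply Nat.Coprime.pow_left
        have hpp : p.Prime := Nat.prime_of_mem_primeFactors (hs (Finset.mem_insert_of_mem hp))
        rw [Nat.coprime_primes hpp hqp]
        rintro rfl
        exact hq hp
      have hinf : M ⊓ P = ⊥ := (Subgroup.disjoint_of_coprime_natCard hcop').eq_bot
      refine ⟨M ⊔ P, inferInstance, ?_⟩
      rw [card_sup_of_normal_of_inf_eq_bot M P hinf, hMc, hPc, Finset.prod_insert hq, mul_comm]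
  obtain ⟨N, hNn, hNc⟩ := key ν.primeFactors (Finset.Subset.refl _)
  refine ⟨N, hNn, ?_⟩
  rw [hNc]
  have hfac : ∀ p ∈ ν.primeFactors, (Nat.card X).factorization p = ν.factorization p := by
    intro p hp
    have hpp : p.Prime := Nat.prime_of_mem_primeFactors hp
    have hpd : p ∣ ν := Nat.dvd_of_mem_primeFactors hp
    have hpc : ¬ p ∣ c := by
      intro hd
      have := Nat.Coprime.eq_one_of_dvd (Nat.Coprime.coprime_dvd_left hpd hcop) hd
      exact hpp.one_lt.ne' this
    rw [hX, Nat.factorization_mul hν0 hc0, Finsupp.add_apply,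
      Nat.factorization_eq_zero_of_not_dvd hpc, add_zero]
  rw [Finset.prod_congr rfl (fun p hp => by rw [hfac p hp])]
  exact Nat.prod_factorization_pow_eq_self hν0

end Cfsg.Agent.Helper29.FrobOT
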