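import Mathlib

set_option autoImplicit false

/-!
# S3921 farm (helper54): leaf (OC)
-/

namespace Cfsg.Agent.Helper29.SCG

/-- (OC) a prime s dividing (p-1)(p+1) is < p or is 2. -/
theorem OC_coprime (n p : ℕ) (hn : Odd n) (hp : n.minFac = p) (hn1 : n ≠ 1) :
    Nat.Coprime n ((p - 1) * (p + 1)) := by
  have hpp : p.Prime := by rw [← hp]; exact Nat.minFac_prime hn1
  have hpn : p ∣ n := by rw [← hp]; exact Nat.minFac_dvd n
  have hpodd : Odd p := hn.of_dvd_nat hpn
  have h2 : 2 ≤ p := hpp.two_le
  apply Nat.coprime_of_dvd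
  intro s hs hsn hsm
  have hsp : p ≤ s := by rw [← hp]; exact Nat.minFac_le_of_dvd hs.two_le hsn
  have hsodd : Odd s := hn.of_dvd_nat hsn
  rcases (Nat.Prime.dvd_mul hs).mp hsm with h | h
  · have : s ≤ p - 1 := Nat.le_of_dvd (by omega) h
    omega
  · have hle : s ≤ p + 1 := Nat.le_of_dvd (by omega) h
    rcases Nat.lt_or_ge p s with h1 | h1
    · have hs1 : s = p + 1 := by omega
      have : Even s := by rw [hs1]; exact hpodd.add_one
      exact (Nat.not_even_iff_odd.mpr hsodd) this
    · have hsp' : s = p := by omega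
      rw [hsp'] at h
      have : p ∣ 1 := (Nat.dvd_add_right (dvd_refl p)).mp h
      have := Nat.le_of_dvd (by omega) this
      omega

end Cfsg.Agent.Helper29.SCG
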