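-- (SUBSYL) for helper17's S1022: Sylow p-subgroups of G inside a subgroup H containing one of them.
import Mathlib
import Cfsg.Prelude.Def_Characters
import Cfsg.Prelude.Def_Blocks

set_option autoImplicit false

namespace Cfsg.Agent.Helper29.O459

open Cfsg Subgroup

universe u

variable {G : Type u} [Group G] [Finite G]

theorem card_sylow_le_mul {p : ℕ} [Fact p.Prime] (P : Sylow p G) (H : Subgroup G)
    (hPH : (P : Subgroup G) ≤ H) :
    Nat.card {Q : Sylow p G // (Q : Subgroup G) ≤ H} *
        Nat.card (H ⊓ normalizer ((P : Subgroup G) : Set G) : Subgroup G) = Nat.card H ∧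
      Nat.card {Q : Sylow p G // (Q : Subgroup G) ≤ H} ≡ 1 [MOD p] := by
  classical
  have hp : p.Prime := Fact.out
  have hfac : (Nat.card H).factorization p = (Nat.card G).factorization p := by
    apply le_antisymm
    · exact (Nat.factorization_le_iff_dvd Nat.card_pos.ne' Nat.card_pos.ne').2
        (Subgroup.card_subgroup_dvd_card H) p
    · have h1 : Nat.card (P : Subgroup G) ∣ Nat.card H := Subgroup.card_dvd_of_le hPH
      rw [Sylow.card_eq_multiplicity] at h1
      exact (hp.pow_dvd_iff_le_factorization Nat.card_pos.ne').1 h1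
  let f : {Q : Sylow p G // (Q : Subgroup G) ≤ H} → Sylow p ↥H := fun Q => Q.1.subtype Q.2
  have hf_inj : Function.Injective f := fun Q Q' h => Subtype.ext (Sylow.subtype_injective h)
  have hf_surj : Function.Surjective f := by
    intro R
    have hcard : Nat.card ((R : Subgroup ↥H).map H.subtype) = p ^ (Nat.card G).factorization p := by
      rw [Subgroup.card_map_of_injective H.subtype_injective, ← hfac]
      exact Sylow.card_eq_multiplicity R
    refine ⟨⟨Sylow.ofCard _ hcard, ?_⟩, ?_⟩
    · show (R : Subgroup ↥H).map H.subtype ≤ H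
      exact Subgroup.map_subtype_le _
    · apply Sylow.ext
      show ((R : Subgroup ↥H).map H.subtype).subgroupOf H = R
      exact Subgroup.comap_map_eq_self_of_injective H.subtype_injective _
  have hcard : Nat.card {Q : Sylow p G // (Q : Subgroup G) ≤ H} = Nat.card (Sylow p ↥H) :=
    Nat.card_congr (Equiv.ofBijective f ⟨hf_inj, hf_surj⟩)
  constructor
  · rw [hcard, Sylow.card_eq_index_normalizer (P.subtype hPH)]
    have h1 : Nat.card (H ⊓ normalizer ((P : Subgroup G) : Set G) : Subgroup G) =
        Nat.card (normalizer (((P.subtype hPH : Sylow p ↥H) : Subgroup ↥H) : Set ↥H)) := by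
      rw [Sylow.coe_subtype, ← subgroupOf_normalizer_eq hPH,
        ← Subgroup.card_map_of_injective H.subtype_injective, subgroupOf_map_subtype, inf_comm]
    rw [h1, mul_comm]
    exact Subgroup.card_mul_index _
  · rw [hcard]
    exact card_sylow_modEq_one p ↥H

end Cfsg.Agent.Helper29.O459
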