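import Mathlib
import Cfsg.Agent.Helper13.FExtDefs

set_option autoImplicit false

/-! # S5975 (helper13 #7889), piece (G3): `fixSp y ⊓ supp y = ⊥` for `y ^ r = 1`, `r ≠ 0` in `F` -/

namespace Cfsg.Agent.Helper29.FExtG3

open Matrix Cfsg Cfsg.Geo
open Cfsg.Agent.Helper13.FExt

variable {F : Type*} [Field F] {ι : Type} [Fintype ι] [DecidableEq ι]

/-- (G3) semisimplicity: `y ^ r = 1` with `r ≠ 0` in `F` -/
theorem fixSp_inf_supp_eq_bot (y : Matrix ι ι F) (r : ℕ) (hr : (r : F) ≠ 0) (hy : y ^ r = 1) :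
    fixSp y ⊓ supp y = ⊥ := by
  rw [eq_bot_iff]
  rintro v ⟨hv1, hv2⟩
  rw [Submodule.mem_bot]
  -- `y v = v`
  have hfix : y *ᵥ v = v := by
    have h1 : (y - 1) *ᵥ v = 0 := hv1
    rw [Matrix.sub_mulVec, Matrix.one_mulVec, sub_eq_zero] at h1
    exact h1
  obtain ⟨u, hu⟩ := hv2
  have hu' : (y - 1) *ᵥ u = v := hu
  have hpow : ∀ i : ℕ, (y ^ i) *ᵥ v = v := by
    intro i
    induction i with
    | zero => rw [pow_zero, Matrix.one_mulVec]
    | succ i ih => rw [pow_succ, ← Matrix.mulVec_mulVec, hfix, ih]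
  have h2 : (∑ i ∈ Finset.range r, y ^ i) *ᵥ v = (r : F) • v := by
    rw [Matrix.sum_mulVec]
    simp only [hpow]
    rw [Finset.sum_const, Finset.card_range, Nat.cast_smul_eq_nsmul]
  have h3 : (∑ i ∈ Finset.range r, y ^ i) *ᵥ v = 0 := by
    rw [← hu', Matrix.mulVec_mulVec, geom_sum_mul, hy, sub_self, Matrix.zero_mulVec]
  rw [h2] at h3
  exact (smul_eq_zero.mp h3).resolve_left hr

end Cfsg.Agent.Helper29.FExtG3
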