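import Mathlib
import Cfsg.Agent.Helper13.FExtDefs

set_option autoImplicit false

/-! # S5975 (helper13 #7889), piece (G4): the dimension of the support is a class function -/

namespace Cfsg.Agent.Helper29.FExtG4

open Matrix Cfsg Cfsg.Geo
open Cfsg.Agent.Helper13.FExt

variable {F : Type*} [Field F] {ι : Type} [Fintype ι] [DecidableEq ι]

theorem finrank_supp_eq_rank (y : Matrix ι ι F) : Module.finrank F (supp y) = (y - 1).rank := rfl

/-- (G4) the dimension of the support is a class function -/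
theorem finrank_supp_conj (x g : GL ι F) :
    Module.finrank F (supp ((g⁻¹ * x * g : GL ι F) : Matrix ι ι F)) =
      Module.finrank F (supp (x : Matrix ι ι F)) := by
  rw [finrank_supp_eq_rank, finrank_supp_eq_rank]
  have hg : IsUnit (g : Matrix ι ι F).det :=
    (Matrix.isUnit_iff_isUnit_det _).mp ⟨g, rfl⟩
  have hg' : IsUnit ((g⁻¹ : GL ι F) : Matrix ι ι F).det :=
    (Matrix.isUnit_iff_isUnit_det _).mp ⟨g⁻¹, rfl⟩
  have h1 : ((g⁻¹ * x * g : GL ι F) : Matrix ι ι F) - 1 =
      ((g⁻¹ : GL ι F) : Matrix ι ι F) * (((x : Matrix ι ι F) - 1) * (g : Matrix ι ι F)) := by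
    have e1 : ((g⁻¹ : GL ι F) : Matrix ι ι F) * (g : Matrix ι ι F) = 1 := by
      rw [← Units.val_mul, inv_mul_cancel, Units.val_one]
    rw [Units.val_mul, Units.val_mul, Matrix.sub_mul, Matrix.one_mul, Matrix.mul_sub, e1,
      Matrix.mul_assoc]
  rw [h1, rank_mul_eq_right_of_isUnit_det _ _ hg', rank_mul_eq_left_of_isUnit_det _ _ hg]

end Cfsg.Agent.Helper29.FExtG4
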