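import Mathlib
import Cfsg.Agent.Helper13.FExtDefs

set_option autoImplicit false

/-! # S5975 (helper13 #7889), piece (G5): rank-nullity for `fixSp` and `supp` -/

namespace Cfsg.Agent.Helper29.FExtG5

open Matrix Cfsg Cfsg.Geo
open Cfsg.Agent.Helper13.FExt

variable {F : Type*} [Field F] {ι : Type} [Fintype ι] [DecidableEq ι]

/-- (G5) rank-nullity -/
theorem finrank_fixSp_add_supp (y : Matrix ι ι F) :
    Module.finrank F (fixSp y) + Module.finrank F (supp y) = Fintype.card ι := by
  unfold fixSp supp
  rw [add_comm, LinearMap.finrank_range_add_finrank_ker, Module.finrank_fintype_fun_eq_card]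

end Cfsg.Agent.Helper29.FExtG5
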