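import Mathlib
import Cfsg.Agent.Helper13.FExtDefs

set_option autoImplicit false

/-! # S5975 (helper13 #7889), piece (G6): the support of a matrix commuting with `K` is `K`-invariant -/

namespace Cfsg.Agent.Helper29.FExtG6

open Matrix Cfsg Cfsg.Geo
open Cfsg.Agent.Helper13.FExt

variable {F : Type*} [Field F] {ι : Type} [Fintype ι] [DecidableEq ι]

/-- (G6) the support of a matrix commuting with `K` is `K`-invariant -/
theorem KInv_supp (K : Subalgebra F (Matrix ι ι F)) (y : Matrix ι ι F) (hy : Centralizes K y) :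
    KInv K (supp y) := by
  intro a ha w hw
  obtain ⟨u, rfl⟩ := hw
  refine ⟨a *ᵥ u, ?_⟩
  rw [Matrix.mulVecLin_apply, Matrix.mulVecLin_apply, Matrix.mulVec_mulVec, Matrix.mulVec_mulVec,
    Matrix.sub_mul, Matrix.mul_sub, Matrix.one_mul, Matrix.mul_one, hy a ha]

end Cfsg.Agent.Helper29.FExtG6
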