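import Mathlib
import Cfsg.Agent.Helper13.SqOMDefs

/-!
# (ADJ0) for helper13's S4625 (OM) skeleton (helper29): if the row `a` of an isometry is the unit row
then the column `rev a` is the unit column
-/

set_option autoImplicit false

namespace Cfsg.Agent.Helper29.SqOM

open Matrix Cfsg Cfsg.Agent.Helper5.OmBN Cfsg.Agent.Helper13.SqOM

variable {F : Type*} [Field F] {m : ℕ} {α β : F}

/-- the binary form is nondegenerate when the discriminant does not vanish -/
theorem ADJ0_solve (hdisc : 4 * β - α ^ 2 ≠ 0) (x y : F) (h1 : 2 * x + α * y = 0)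
    (h2 : α * x + 2 * β * y = 0) : x = 0 ∧ y = 0 := by
  constructor
  · have : (4 * β - α ^ 2) * x = 0 := by linear_combination (2 * β) * h1 - α * h2
    exact (mul_eq_zero.1 this).resolve_left hdisc
  · have : (4 * β - α ^ 2) * y = 0 := by linear_combination 2 * h2 - α * h1
    exact (mul_eq_zero.1 this).resolve_left hdisc

theorem ADJ0_rev_ne_c1 (a : Fin (2 * m + 2)) (ha2 : a ≠ c2) : Fin.rev a ≠ c1 := by
  intro h
  apply ha2
  rw [← Fin.rev_rev a, h, rev_c1]

theorem ADJ0_rev_ne_c2 (a : Fin (2 * m + 2)) (ha1 : a ≠ c1) : Fin.rev a ≠ c2 := by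
  intro h
  apply ha1
  rw [← Fin.rev_rev a, h, rev_c2]

/-- the polar form against an outer basis vector picks the opposite coordinate -/
theorem ADJ0_Bm_single (u : Fin (2 * m + 2) → F) (s : Fin (2 * m + 2)) (hs1 : s ≠ c1) (hs2 : s ≠ c2) :
    Bm α β u (Pi.single s 1) = u (Fin.rev s) := by
  rcases pos_cases s with ⟨i, rfl⟩ | ⟨i, rfl⟩ | h' | h'
  · rw [rev_lo, Bm_single_lo]
  · rw [rev_hi, Bm_single_hi]
  · exact absurd h' hs1
  · exact absurd h' hs2

/-- (ADJ0) if the row `a` of an isometry is the unit row then the column `rev a` is the unit column -/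
theorem colId_rev_of_rowId (hdisc : 4 * β - α ^ 2 ≠ 0) (g : OG m α β) (a : Fin (2 * m + 2))
    (ha1 : a ≠ c1) (ha2 : a ≠ c2) (h : RowId g a) : ColId g (Fin.rev a) := by
  classical
  have hf1 : Fin.rev a ≠ c1 := ADJ0_rev_ne_c1 a ha2
  have hf2 : Fin.rev a ≠ c2 := ADJ0_rev_ne_c2 a ha1
  -- `B(v, g⁻¹ e_f) = v_a` for all `v`
  have key : ∀ v : Fin (2 * m + 2) → F,
      Bm α β v (fun r => mat g⁻¹ r (Fin.rev a)) = v a := by
    intro v
    rw [← Cfsg.Agent.Helper5.OmBN.mulVec_single_one, ← Bm_mulVec_inv, ADJ0_Bm_single _ _ hf1 hf2, Fin.rev_rev]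
    show ∑ s, mat g a s * v s = v a
    rw [Finset.sum_eq_single a]
    · rw [h a, if_pos rfl, one_mul]
    · intro s _ hs
      rw [h s, if_neg hs, zero_mul]
    · intro h'
      exact absurd (Finset.mem_univ _) h'
  -- the column `f` of `g⁻¹`
  have hx : ∀ r : Fin (2 * m + 2), mat g⁻¹ r (Fin.rev a) = if r = Fin.rev a then 1 else 0 := by
    intro r
    by_cases hr : r = c1 ∨ r = c2
    · have k1 := key (Pi.single c1 1)
      have k2 := key (Pi.single c2 1)
      rw [Bm_comm, Bm_single_c1, Pi.single_eq_of_ne ha1] at k1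
      rw [Bm_comm, Bm_single_c2, Pi.single_eq_of_ne ha2] at k2
      obtain ⟨e1, e2⟩ := ADJ0_solve hdisc _ _ k1 k2
      rcases hr with rfl | rfl
      · rw [e1, if_neg hf1.symm]
      · rw [e2, if_neg hf2.symm]
    · rw [not_or] at hr
      have hs1 : Fin.rev r ≠ c1 := ADJ0_rev_ne_c1 r hr.2
      have hs2 : Fin.rev r ≠ c2 := ADJ0_rev_ne_c2 r hr.1
      have k := key (Pi.single (Fin.rev r) 1)
      rw [Bm_comm, ADJ0_Bm_single _ _ hs1 hs2, Fin.rev_rev, Pi.single_apply] at k
      rw [k]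
      by_cases hra : r = Fin.rev a
      · rw [if_pos hra, if_pos (by rw [hra, Fin.rev_rev])]
      · rw [if_neg hra, if_neg]
        intro h'
        apply hra
        rw [h', Fin.rev_rev]
  -- the column `f` of `g`
  intro r
  have e : mat g r (Fin.rev a) = (mat g * mat g⁻¹) r (Fin.rev a) := by
    rw [Matrix.mul_apply, Finset.sum_eq_single (Fin.rev a)]
    · rw [hx (Fin.rev a), if_pos rfl, mul_one]
    · intro k _ hk
      rw [hx k, if_neg hk, mul_zero]
    · intro h'
      exact absurd (Finset.mem_univ _) h'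
  rw [e, mul_inv_mat, Matrix.one_apply]

end Cfsg.Agent.Helper29.SqOM
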