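import Mathlib
import Cfsg.Agent.Helper13.SqOMDefs
import Cfsg.Agent.Helper29.SqOMADJ0

/-!
# (ADJ1) for helper13's S4625 (OM) skeleton (helper29): if the row `a` of an isometry is
`e_a + z e_{rev a}` then `z = 0`
-/

set_option autoImplicit false

namespace Cfsg.Agent.Helper29.SqOM

open Matrix Cfsg Cfsg.Agent.Helper5.OmBN Cfsg.Agent.Helper13.SqOM

variable {F : Type*} [Field F] {m : ℕ} {α β : F}

theorem ADJ1_rev_ne (a : Fin (2 * m + 2)) : Fin.rev a ≠ a := by
  intro h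
  have h1 := congrArg Fin.val h
  rw [val_rev] at h1
  have := a.2
  omega

/-- (ADJ1) if the row `a` of an isometry is `e_a + z e_{rev a}` then `z = 0` -/
theorem apply_rev_eq_zero (hdisc : 4 * β - α ^ 2 ≠ 0) (g : OG m α β) (a : Fin (2 * m + 2))
    (ha1 : a ≠ c1) (ha2 : a ≠ c2)
    (h0 : ∀ s : Fin (2 * m + 2), s ≠ a → s ≠ Fin.rev a → mat g a s = 0)
    (h1 : mat g a a = 1) : mat g a (Fin.rev a) = 0 := by
  classical
  have hf1 : Fin.rev a ≠ c1 := ADJ0_rev_ne_c1 a ha2
  have hf2 : Fin.rev a ≠ c2 := ADJ0_rev_ne_c2 a ha1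
  have hfa : Fin.rev a ≠ a := ADJ1_rev_ne a
  set z : F := mat g a (Fin.rev a) with hz
  -- `B(v, g⁻¹ e_f) = v_a + z v_f` for all `v`
  have key : ∀ v : Fin (2 * m + 2) → F,
      Bm α β v (fun r => mat g⁻¹ r (Fin.rev a)) = v a + z * v (Fin.rev a) := by
    intro v
    rw [← Cfsg.Agent.Helper5.OmBN.mulVec_single_one, ← Bm_mulVec_inv, ADJ0_Bm_single _ _ hf1 hf2,
      Fin.rev_rev]
    show ∑ s, mat g a s * v s = v a + z * v (Fin.rev a)
    rw [Finset.sum_eq_add a (Fin.rev a) hfa.symm]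
    · rw [h1, one_mul]
    · intro s _ hs
      rw [h0 s hs.1 hs.2, zero_mul]
    · intro h'
      exact absurd (Finset.mem_univ _) h'
    · intro h'
      exact absurd (Finset.mem_univ _) h'
  -- the column `f` of `g⁻¹`
  have hxmid : mat g⁻¹ c1 (Fin.rev a) = 0 ∧ mat g⁻¹ c2 (Fin.rev a) = 0 := by
    have k1 := key (Pi.single c1 1)
    have k2 := key (Pi.single c2 1)
    rw [Bm_comm, Bm_single_c1, Pi.single_eq_of_ne ha1, Pi.single_eq_of_ne hf1, mul_zero,
      add_zero] at k1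
    rw [Bm_comm, Bm_single_c2, Pi.single_eq_of_ne ha2, Pi.single_eq_of_ne hf2, mul_zero,
      add_zero] at k2
    exact ADJ0_solve hdisc _ _ k1 k2
  have hxout : ∀ r : Fin (2 * m + 2), r ≠ c1 → r ≠ c2 →
      mat g⁻¹ r (Fin.rev a) = (if r = Fin.rev a then 1 else 0) + z * (if r = a then 1 else 0) := by
    intro r hr1 hr2
    have hs1 : Fin.rev r ≠ c1 := ADJ0_rev_ne_c1 r hr2
    have hs2 : Fin.rev r ≠ c2 := ADJ0_rev_ne_c2 r hr1
    have k := key (Pi.single (Fin.rev r) 1)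
    rw [Bm_comm, ADJ0_Bm_single _ _ hs1 hs2, Fin.rev_rev, Pi.single_apply, Pi.single_apply] at k
    rw [k]
    have e1 : (a = Fin.rev r) ↔ (r = Fin.rev a) := by
      constructor
      · intro h'; rw [h', Fin.rev_rev]
      · intro h'; rw [h', Fin.rev_rev]
    have e2 : (Fin.rev a = Fin.rev r) ↔ (r = a) := by
      constructor
      · intro h'; exact (Fin.rev_injective h').symm
      · intro h'; rw [h']
    simp only [e1, e2]
  have hxa : mat g⁻¹ a (Fin.rev a) = z := by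
    rw [hxout a ha1 ha2, if_neg hfa.symm, if_pos rfl, zero_add, mul_one]
  have hxf : mat g⁻¹ (Fin.rev a) (Fin.rev a) = 1 := by
    rw [hxout _ hf1 hf2, if_pos rfl, if_neg hfa, mul_zero, add_zero]
  have hxo : ∀ r : Fin (2 * m + 2), r ≠ c1 → r ≠ c2 → r ≠ a → r ≠ Fin.rev a →
      mat g⁻¹ r (Fin.rev a) = 0 := by
    intro r hr1 hr2 hra hrf
    rw [hxout r hr1 hr2, if_neg hrf, if_neg hra, mul_zero, add_zero]
  -- the quadratic form on that column
  have hq := q_col g⁻¹ (Fin.rev a)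
  unfold qd at hq
  rw [if_neg hf1, if_neg hf2, hxmid.1, hxmid.2] at hq
  have hN : Nf α β (0 : F) 0 = 0 := by unfold Nf; ring
  rw [hN, add_zero] at hq
  rcases pos_cases a with ⟨j, hj⟩ | ⟨j, hj⟩ | h' | h'
  · have hrj : Fin.rev a = hi j := by rw [hj, rev_lo]
    rw [Finset.sum_eq_single j] at hq
    · rw [← hj, ← hrj, hxa, hxf, mul_one] at hq
      exact hq
    · intro i _ hij
      have hne1 : lo i ≠ a := by rw [hj]; exact fun h' => hij (lo_injective h')
      have hne2 : lo i ≠ Fin.rev a := by rw [hrj]; exact lo_ne_hi i j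
      rw [hxo (lo i) (lo_ne_c1 i) (lo_ne_c2 i) hne1 hne2, zero_mul]
    · intro h'
      exact absurd (Finset.mem_univ _) h'
  · have hrj : Fin.rev a = lo j := by rw [hj, rev_hi]
    rw [Finset.sum_eq_single j] at hq
    · rw [← hj, ← hrj, hxa, hxf, one_mul] at hq
      exact hq
    · intro i _ hij
      have hne1 : hi i ≠ a := by rw [hj]; exact fun h' => hij (hi_injective h')
      have hne2 : hi i ≠ Fin.rev a := by rw [hrj]; exact (lo_ne_hi j i).symm
      rw [hxo (hi i) (hi_ne_c1 i) (hi_ne_c2 i) hne1 hne2, mul_zero]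
    · intro h'
      exact absurd (Finset.mem_univ _) h'
  · exact absurd h' ha1
  · exact absurd h' ha2

end Cfsg.Agent.Helper29.SqOM
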