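import Mathlib
import Cfsg.Agent.Helper5.OmBN.Defs

/-!
# (BUT) for helper5's S2549 skeleton 3 (helper29): `B = U T` in the minus-type orthogonal group
-/

set_option autoImplicit false

namespace Cfsg.Agent.Helper29.OmBN

open Matrix Cfsg Cfsg.Agent.Helper5.OmBN

variable {F : Type*} [Field F] {m : ℕ} {α β : F}

/-- the block diagonal part of a matrix -/
def BUT_diag (A : Matrix (Fin (2 * m + 2)) (Fin (2 * m + 2)) F) :
    Matrix (Fin (2 * m + 2)) (Fin (2 * m + 2)) F :=
  Matrix.of fun r s => if pos r = pos s then A r s else 0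

theorem BUT_diag_apply (A : Matrix (Fin (2 * m + 2)) (Fin (2 * m + 2)) F) (r s : Fin (2 * m + 2)) :
    BUT_diag A r s = if pos r = pos s then A r s else 0 := rfl

theorem BUT_diag_eq (A : Matrix (Fin (2 * m + 2)) (Fin (2 * m + 2)) F) (r s : Fin (2 * m + 2))
    (h : pos r = pos s) : BUT_diag A r s = A r s := by
  rw [BUT_diag_apply, if_pos h]

theorem BUT_diag_ne (A : Matrix (Fin (2 * m + 2)) (Fin (2 * m + 2)) F) (r s : Fin (2 * m + 2))
    (h : pos r ≠ pos s) : BUT_diag A r s = 0 := by
  rw [BUT_diag_apply, if_neg h]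

theorem BUT_pos_le (r : Fin (2 * m + 2)) : pos r ≤ 2 * m := by
  have hr := r.2
  unfold pos
  split_ifs <;> omega

theorem BUT_pos_rev (r : Fin (2 * m + 2)) : pos (Fin.rev r) = 2 * m - pos r := by
  have hr := r.2
  unfold pos
  rw [val_rev]
  split_ifs <;> omega

theorem BUT_Nb_zero_left (x y : F) : Nb α β 0 0 x y = 0 := by unfold Nb; ring

theorem BUT_Nb_zero_right (x y : F) : Nb α β x y 0 0 = 0 := by unfold Nb; ring

theorem BUT_Nf_zero : Nf α β 0 0 = 0 := by unfold Nf; ring

/-- the Gram matrix vanishes outside the pairs of opposite blocks -/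
theorem BUT_Jm_eq_zero (r s : Fin (2 * m + 2)) (h : pos r + pos s ≠ 2 * m) : Jm α β r s = 0 := by
  unfold Jm
  by_cases hr1 : r = c1
  · rw [if_pos hr1]
    rw [hr1, pos_c1] at h
    have hs1 : s ≠ c1 := fun e => h (by rw [e, pos_c1]; omega)
    have hs2 : s ≠ c2 := fun e => h (by rw [e, pos_c2]; omega)
    rw [if_neg hs1, if_neg hs2]
  · rw [if_neg hr1]
    by_cases hr2 : r = c2
    · rw [if_pos hr2]
      rw [hr2, pos_c2] at h
      have hs1 : s ≠ c1 := fun e => h (by rw [e, pos_c1]; omega)
      have hs2 : s ≠ c2 := fun e => h (by rw [e, pos_c2]; omega)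
      rw [if_neg hs1, if_neg hs2]
    · rw [if_neg hr2, if_neg]
      intro e
      apply h
      rw [e, BUT_pos_rev]
      have := BUT_pos_le r
      omega

/-- the block diagonal part of an element of `B` satisfies the matrix conditions -/
theorem BUT_isO (b : OG m α β) (hbt : ∀ r s : Fin (2 * m + 2), pos s < pos r → mat b r s = 0) :
    IsO α β (BUT_diag (mat b)) := by
  constructor
  · intro s
    have h0 : ∑ i : Fin m, BUT_diag (mat b) (lo i) s * BUT_diag (mat b) (hi i) s = 0 := by
      apply Finset.sum_eq_zero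
      intro i _
      by_cases h : pos (lo i) = pos s
      · have h2 : pos (hi i) ≠ pos s := by
          rw [← h, pos_lo, pos_hi]
          have := i.2
          omega
        rw [BUT_diag_ne _ _ _ h2, mul_zero]
      · rw [BUT_diag_ne _ _ _ h, zero_mul]
    rw [h0, zero_add]
    by_cases hs : pos s = m
    · rw [BUT_diag_eq _ c1 s (by rw [pos_c1, hs]), BUT_diag_eq _ c2 s (by rw [pos_c2, hs])]
      have hq := q_col b s
      have h1 : ∑ i : Fin m, mat b (lo i) s * mat b (hi i) s = 0 := by
        apply Finset.sum_eq_zero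
        intro i _
        rw [hbt (hi i) s (by rw [hs, pos_hi]; have := i.2; omega), mul_zero]
      rw [h1, zero_add] at hq
      exact hq
    · rw [BUT_diag_ne _ c1 s (by rw [pos_c1]; exact fun h => hs h.symm),
        BUT_diag_ne _ c2 s (by rw [pos_c2]; exact fun h => hs h.symm), BUT_Nf_zero]
      unfold qd
      have hs1 : s ≠ c1 := fun e => hs (by rw [e, pos_c1])
      have hs2 : s ≠ c2 := fun e => hs (by rw [e, pos_c2])
      rw [if_neg hs1, if_neg hs2]
  · intro r s
    have hr := BUT_pos_le r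
    have hs := BUT_pos_le s
    by_cases hrs : pos r + pos s = 2 * m
    · -- opposite blocks: every term agrees with the corresponding term for `b`
      rw [← rel_col b r s]
      congr 1
      · apply Finset.sum_congr rfl
        intro i _
        have hi1 := i.2
        congr 1
        · by_cases h : pos (lo i) = pos r
          · have h2 : pos (hi i) = pos s := by
              rw [pos_lo] at h
              rw [pos_hi]
              omega
            rw [BUT_diag_eq _ _ _ h, BUT_diag_eq _ _ _ h2]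
          · rw [BUT_diag_ne _ _ _ h, zero_mul]
            rw [pos_lo] at h
            rcases lt_or_gt_of_ne h with hlt | hgt
            · rw [hbt (hi i) s (by rw [pos_hi]; omega), mul_zero]
            · rw [hbt (lo i) r (by rw [pos_lo]; omega), zero_mul]
        · by_cases h : pos (lo i) = pos s
          · have h2 : pos (hi i) = pos r := by
              rw [pos_lo] at h
              rw [pos_hi]
              omega
            rw [BUT_diag_eq _ _ _ h, BUT_diag_eq _ _ _ h2]
          · rw [BUT_diag_ne _ _ _ h, mul_zero]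
            rw [pos_lo] at h
            rcases lt_or_gt_of_ne h with hlt | hgt
            · rw [hbt (hi i) r (by rw [pos_hi]; omega), zero_mul]
            · rw [hbt (lo i) s (by rw [pos_lo]; omega), mul_zero]
      · by_cases hrm : pos r = m
        · have hsm : pos s = m := by omega
          rw [BUT_diag_eq _ c1 r (by rw [pos_c1, hrm]), BUT_diag_eq _ c2 r (by rw [pos_c2, hrm]),
            BUT_diag_eq _ c1 s (by rw [pos_c1, hsm]), BUT_diag_eq _ c2 s (by rw [pos_c2, hsm])]
        · rcases lt_or_gt_of_ne hrm with hlt | hgt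
          · rw [BUT_diag_ne _ c1 r (by rw [pos_c1]; omega), BUT_diag_ne _ c2 r (by rw [pos_c2]; omega),
              hbt c1 r (by rw [pos_c1]; omega), hbt c2 r (by rw [pos_c2]; omega),
              BUT_Nb_zero_left, BUT_Nb_zero_left]
          · rw [BUT_diag_ne _ c1 s (by rw [pos_c1]; omega), BUT_diag_ne _ c2 s (by rw [pos_c2]; omega),
              hbt c1 s (by rw [pos_c1]; omega), hbt c2 s (by rw [pos_c2]; omega),
              BUT_Nb_zero_right, BUT_Nb_zero_right]
    · rw [BUT_Jm_eq_zero r s hrs]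
      have h0 : ∑ i : Fin m, (BUT_diag (mat b) (lo i) r * BUT_diag (mat b) (hi i) s +
          BUT_diag (mat b) (hi i) r * BUT_diag (mat b) (lo i) s) = 0 := by
        apply Finset.sum_eq_zero
        intro i _
        have hi1 := i.2
        have e1 : BUT_diag (mat b) (lo i) r * BUT_diag (mat b) (hi i) s = 0 := by
          by_cases h : pos (lo i) = pos r
          · rw [BUT_diag_ne _ (hi i) s (by rw [pos_lo] at h; rw [pos_hi]; omega), mul_zero]
          · rw [BUT_diag_ne _ _ _ h, zero_mul]
        have e2 : BUT_diag (mat b) (hi i) r * BUT_diag (mat b) (lo i) s = 0 := by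
          by_cases h : pos (lo i) = pos s
          · rw [BUT_diag_ne _ (hi i) r (by rw [pos_lo] at h; rw [pos_hi]; omega), zero_mul]
          · rw [BUT_diag_ne _ _ _ h, mul_zero]
        rw [e1, e2, add_zero]
      rw [h0, zero_add]
      by_cases hrm : pos r = m
      · rw [BUT_diag_ne _ c1 s (by rw [pos_c1]; omega), BUT_diag_ne _ c2 s (by rw [pos_c2]; omega),
          BUT_Nb_zero_right]
      · rw [BUT_diag_ne _ c1 r (by rw [pos_c1]; omega), BUT_diag_ne _ c2 r (by rw [pos_c2]; omega),
          BUT_Nb_zero_left]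

/-- the block diagonal part of `b⁻¹` is a left inverse of the block diagonal part of `b` -/
theorem BUT_diag_inv_mul (b : OG m α β) (hb : b ∈ Bfull m α β) :
    BUT_diag (mat b⁻¹) * BUT_diag (mat b) = 1 := by
  have hbt := (mem_Bfull_iff b).1 hb
  have hct := (mem_Bfull_iff b⁻¹).1 ((Bfull m α β).inv_mem hb)
  ext r s
  rw [Matrix.mul_apply]
  by_cases hrs : pos r = pos s
  · have e : (1 : Matrix (Fin (2 * m + 2)) (Fin (2 * m + 2)) F) r s = (mat b⁻¹ * mat b) r s := by
      rw [inv_mul_mat]
    rw [e, Matrix.mul_apply]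
    apply Finset.sum_congr rfl
    intro k _
    by_cases hk : pos r = pos k
    · rw [BUT_diag_eq _ _ _ hk, BUT_diag_eq _ _ _ (hk.symm.trans hrs)]
    · rw [BUT_diag_ne _ _ _ hk, zero_mul]
      rcases lt_or_gt_of_ne hk with hlt | hgt
      · rw [hbt k s (by rw [← hrs]; exact hlt), mul_zero]
      · rw [hct r k hgt, zero_mul]
  · rw [Matrix.one_apply_ne (fun h => hrs (by rw [h]))]
    apply Finset.sum_eq_zero
    intro k _
    by_cases hk : pos r = pos k
    · rw [BUT_diag_ne _ k s (by rw [← hk]; exact hrs), mul_zero]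
    · rw [BUT_diag_ne _ _ _ hk, zero_mul]

/-- (BUT) `B = U T` -/
theorem exists_Usub_mul_Tsub (b : OG m α β) (hb : b ∈ Bsub m α β) :
    ∃ u ∈ Usub m α β, ∃ t ∈ Tsub m α β, b = u * t := by
  classical
  obtain ⟨hbt, hR1, hR2⟩ := (mem_Bsub_iff b).1 hb
  have hbF : b ∈ Bfull m α β := Bsub_le_Bfull hb
  obtain ⟨t, ht⟩ := exists_of_isO (BUT_isO b hbt) (BUT_diag_inv_mul b hbF)
  have htT : t ∈ Tsub m α β := by
    rw [mem_Tsub_iff]
    refine ⟨fun r s hrs => ?_, ?_, ?_⟩
    · rw [ht, BUT_diag_ne _ _ _ hrs]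
    · rw [ht, BUT_diag_eq _ c1 c2 (by rw [pos_c1, pos_c2]),
        BUT_diag_eq _ c2 c1 (by rw [pos_c1, pos_c2])]
      exact hR1
    · rw [ht, BUT_diag_eq _ c2 c2 rfl, BUT_diag_eq _ c1 c1 rfl,
        BUT_diag_eq _ c2 c1 (by rw [pos_c1, pos_c2])]
      exact hR2
  have htiT : t⁻¹ ∈ Tsub m α β := (Tsub m α β).inv_mem htT
  have htiF := (mem_Tfull_iff t⁻¹).1 (Tsub_le_Tfull htiT)
  have hu : b * t⁻¹ ∈ Usub m α β := by
    rw [mem_Usub_iff]
    constructor
    · exact ((mem_Bsub_iff _).1 ((Bsub m α β).mul_mem hb (Tsub_le_Bsub htiT))).1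
    · intro r s hrs
      have e : mat (b * t⁻¹) r s = (mat t * mat t⁻¹) r s := by
        rw [mat_mul, Matrix.mul_apply, Matrix.mul_apply]
        apply Finset.sum_congr rfl
        intro k _
        by_cases hk : pos r = pos k
        · rw [ht, BUT_diag_eq _ _ _ hk]
        · rw [htiF k s (by rw [← hrs]; exact fun h => hk h.symm), mul_zero, mul_zero]
      rw [e, mul_inv_mat, Matrix.one_apply]
  exact ⟨b * t⁻¹, hu, t, htT, (inv_mul_cancel_right b t).symm⟩

end Cfsg.Agent.Helper29.OmBN
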