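import Mathlib
import Cfsg.Agent.Helper5.OmBN.Defs

/-!
# (P12) for helper5's S2549 skeleton 3 (helper29): the order of the torus of the minus-type orthogonal group
is prime to `p`
-/

set_option autoImplicit false

namespace Cfsg.Agent.Helper29.OmBN

open Matrix Cfsg Cfsg.Agent.Helper5.OmBN

variable {F : Type*} [Field F] {m : ℕ} {α β : F}

/-- the middle block of a matrix -/
def P12_mid (A : Matrix (Fin (2 * m + 2)) (Fin (2 * m + 2)) F) : Matrix (Fin 2) (Fin 2) F :=
  !![A c1 c1, A c1 c2; A c2 c1, A c2 c2]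

theorem P12_mat_pow (t : OG m α β) (k : ℕ) : mat (t ^ k) = (mat t) ^ k := by
  induction k with
  | zero => rw [pow_zero, pow_zero, mat_one]
  | succ k ih => rw [pow_succ, pow_succ, mat_mul, ih]

/-- the diagonal entries (outside the middle) of a product with a block diagonal matrix -/
theorem P12_mul_diag (A M : Matrix (Fin (2 * m + 2)) (Fin (2 * m + 2)) F)
    (hM : ∀ r s : Fin (2 * m + 2), pos r ≠ pos s → M r s = 0) (r : Fin (2 * m + 2))
    (h1 : r ≠ c1) (h2 : r ≠ c2) : (A * M) r r = A r r * M r r := by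
  rw [Matrix.mul_apply]
  apply Finset.sum_eq_single r
  · intro k _ hk
    rw [hM k r (fun h => hk (eq_of_pos_eq k r h h1 h2)), mul_zero]
  · intro h; exact absurd (Finset.mem_univ _) h

/-- the middle columns of a product with a block diagonal matrix -/
theorem P12_mul_mid (A M : Matrix (Fin (2 * m + 2)) (Fin (2 * m + 2)) F)
    (hM : ∀ r s : Fin (2 * m + 2), pos r ≠ pos s → M r s = 0) (r s : Fin (2 * m + 2))
    (hs : pos s = m) : (A * M) r s = A r c1 * M c1 s + A r c2 * M c2 s := by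
  rw [Matrix.mul_apply]
  apply Finset.sum_eq_add c1 c2 c1_ne_c2
  · intro k _ hk
    have hne : pos k ≠ pos s := by
      rw [hs]
      intro h'
      rcases (pos_eq_m_iff k).1 h' with h'' | h''
      · exact hk.1 h''
      · exact hk.2 h''
    rw [hM k s hne, mul_zero]
  · intro h; exact absurd (Finset.mem_univ _) h
  · intro h; exact absurd (Finset.mem_univ _) h

theorem P12_mid_mul (A M : Matrix (Fin (2 * m + 2)) (Fin (2 * m + 2)) F)
    (hM : ∀ r s : Fin (2 * m + 2), pos r ≠ pos s → M r s = 0) :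
    P12_mid (A * M) = P12_mid A * P12_mid M := by
  unfold P12_mid
  rw [P12_mul_mid A M hM c1 c1 pos_c1, P12_mul_mid A M hM c1 c2 pos_c2,
    P12_mul_mid A M hM c2 c1 pos_c1, P12_mul_mid A M hM c2 c2 pos_c2]
  ext i j
  fin_cases i <;> fin_cases j <;> simp [Matrix.mul_apply, Fin.sum_univ_two]

theorem P12_mid_one : P12_mid (1 : Matrix (Fin (2 * m + 2)) (Fin (2 * m + 2)) F) = 1 := by
  unfold P12_mid
  rw [Matrix.one_apply_eq, Matrix.one_apply_eq, Matrix.one_apply_ne c1_ne_c2,
    Matrix.one_apply_ne c1_ne_c2.symm]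
  ext i j
  fin_cases i <;> fin_cases j <;> simp

theorem P12_pow_diag (M : Matrix (Fin (2 * m + 2)) (Fin (2 * m + 2)) F)
    (hM : ∀ r s : Fin (2 * m + 2), pos r ≠ pos s → M r s = 0) (r : Fin (2 * m + 2))
    (h1 : r ≠ c1) (h2 : r ≠ c2) (k : ℕ) : (M ^ k) r r = (M r r) ^ k := by
  induction k with
  | zero => rw [pow_zero, pow_zero, Matrix.one_apply_eq]
  | succ k ih => rw [pow_succ, pow_succ, P12_mul_diag _ M hM r h1 h2, ih]

theorem P12_pow_mid (M : Matrix (Fin (2 * m + 2)) (Fin (2 * m + 2)) F)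
    (hM : ∀ r s : Fin (2 * m + 2), pos r ≠ pos s → M r s = 0) (k : ℕ) :
    P12_mid (M ^ k) = (P12_mid M) ^ k := by
  induction k with
  | zero => rw [pow_zero, pow_zero, P12_mid_one]
  | succ k ih => rw [pow_succ, pow_succ, P12_mid_mul _ M hM, ih]

/-- an element of the torus of order dividing `p` is trivial -/
theorem P12_eq_one_of_pow [Fintype F] (p : ℕ) [Fact p.Prime] [CharP F p]
    (hab : ∀ z₁ z₂ : F, Nf α β z₁ z₂ = 0 → z₁ = 0 ∧ z₂ = 0)
    (g : OG m α β) (hg : g ∈ Tsub m α β) (hp : g ^ p = 1) : g = 1 := by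
  classical
  have hpp : p.Prime := Fact.out
  obtain ⟨hT, hR1, hR2⟩ := (mem_Tsub_iff g).1 hg
  have hMp : (mat g) ^ p = 1 := by rw [← P12_mat_pow, hp, mat_one]
  -- the diagonal entries
  have hdiag : ∀ r : Fin (2 * m + 2), r ≠ c1 → r ≠ c2 → mat g r r = 1 := by
    intro r h1 h2
    have e : (mat g r r) ^ p = 1 := by
      rw [← P12_pow_diag (mat g) hT r h1 h2 p, hMp, Matrix.one_apply_eq]
    have e2 : (mat g r r - 1) ^ p = 0 := by
      rw [sub_pow_char, e, one_pow, sub_self]
    exact sub_eq_zero.1 (pow_eq_zero_iff hpp.ne_zero |>.1 e2)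
  -- the middle block
  have hmidp : (P12_mid (mat g)) ^ p = 1 := by
    rw [← P12_pow_mid (mat g) hT p, hMp, P12_mid_one]
  have hnil : (P12_mid (mat g) - 1) ^ p = 0 := by
    have hc : Commute (P12_mid (mat g)) 1 := Commute.one_right _
    rw [sub_pow_char_of_commute p hc, hmidp, one_pow, sub_self]
  have hdet : (P12_mid (mat g) - 1).det = 0 := by
    have := congrArg Matrix.det hnil
    rw [Matrix.det_pow, Matrix.det_zero] at this
    exact pow_eq_zero_iff hpp.ne_zero |>.1 this
  have hN : Nf α β (mat g c1 c1 - 1) (mat g c2 c1) = 0 := by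
    have e : (P12_mid (mat g) - 1).det = Nf α β (mat g c1 c1 - 1) (mat g c2 c1) := by
      rw [Matrix.det_fin_two]
      unfold P12_mid Nf
      simp only [Matrix.sub_apply, Matrix.of_apply, Matrix.cons_val', Matrix.cons_val_zero,
        Matrix.cons_val_one, Matrix.one_apply_eq, Matrix.empty_val', Matrix.cons_val_fin_one]
      rw [hR1, hR2]
      simp
      ring
    rw [← e, hdet]
  obtain ⟨hx, hy⟩ := hab _ _ hN
  have hx' : mat g c1 c1 = 1 := sub_eq_zero.1 hx
  apply mat_injective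
  ext r s
  rw [mat_one, Matrix.one_apply]
  by_cases hrs : pos r = pos s
  · by_cases hs : s = c1 ∨ s = c2
    · have hr : r = c1 ∨ r = c2 := by
        rw [← pos_eq_m_iff, hrs, pos_eq_m_iff]
        exact hs
      rcases hr with rfl | rfl <;> rcases hs with rfl | rfl
      · rw [if_pos rfl, hx']
      · rw [if_neg c1_ne_c2, hR1, hy, mul_zero]
      · rw [if_neg c1_ne_c2.symm, hy]
      · rw [if_pos rfl, hR2, hx', hy, mul_zero, add_zero]
    · rw [not_or] at hs
      have e := eq_of_pos_eq r s hrs hs.1 hs.2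
      rw [e, if_pos rfl]
      exact hdiag s hs.1 hs.2
  · rw [hT r s hrs, if_neg]
    intro h
    exact hrs (by rw [h])

/-- (P12) the order of the torus is prime to `p` -/
theorem not_dvd_card_Tsub [Fintype F] (p : ℕ) [Fact p.Prime] [CharP F p]
    (hab : ∀ z₁ z₂ : F, Nf α β z₁ z₂ = 0 → z₁ = 0 ∧ z₂ = 0) :
    ¬ p ∣ Nat.card (Tsub m α β) := by
  classical
  intro hdvd
  have hpp : p.Prime := Fact.out
  have : Finite (OG m α β) := inferInstance
  obtain ⟨t, ht⟩ := exists_prime_orderOf_dvd_card' p hdvd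
  have h1 : t ^ p = 1 := by rw [← ht]; exact pow_orderOf_eq_one t
  have h2 : (t : OG m α β) ^ p = 1 := by
    have := congrArg (fun x : ↥(Tsub m α β) => (x : OG m α β)) h1
    simpa using this
  have h3 : (t : OG m α β) = 1 := P12_eq_one_of_pow p hab _ t.2 h2
  have h4 : t = 1 := Subtype.ext h3
  rw [h4, orderOf_one] at ht
  exact hpp.one_lt.ne ht

end Cfsg.Agent.Helper29.OmBN
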