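import Cfsg.Agent.Helper19.SpBN.Basic

/-!
# `Sp_{2m}(K)`: the only coset of `B` fixed by `U` is `B` (piece (P10) of helper19's S2545)
-/

set_option autoImplicit false

namespace Cfsg.Agent.Helper29.SpBNP10

open Matrix Cfsg.Agent.Helper96.StN Cfsg.Agent.Helper96.StC Cfsg.Agent.Helper29.StCM
open Cfsg Cfsg.Agent.Helper6 Cfsg.Agent.Helper18 Cfsg.Agent.Helper19.Cox Cfsg.Agent.Helper19.Poinc
  Cfsg.Agent.Helper19.Stein Cfsg.Agent.Helper19.StBN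
open Cfsg.Agent.Helper19.SpBN

universe u

variable {K : Type u} [Field K] {m : ℕ}

/-- the entry `(p, q)` of the root matrix `x_{pq}(t)` -/
theorem spM_apply_self {p q : Fin m ⊕ Fin m} (hpq : p ≠ q) (t : K) :
    (spM p q t : Matrix (Fin m ⊕ Fin m) (Fin m ⊕ Fin m) K) p q = t := by
  have h := Cfsg.Agent.Helper38.StCU.spM_mul_apply hpq t
    (1 : Matrix (Fin m ⊕ Fin m) (Fin m ⊕ Fin m) K) (Matrix.one_apply_eq q)
    (Matrix.one_apply_ne hpq)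
  rwa [mul_one] at h

/-- a permutation whose inverse is strictly increasing for `rk` is trivial -/
theorem perm_eq_one_of_strictMono (π : Equiv.Perm (Fin m ⊕ Fin m))
    (h : ∀ i j, rk i < rk j → rk (π⁻¹ i) < rk (π⁻¹ j)) : π = 1 := by
  have key : ∀ N, ∀ k, rk k = N → rk k ≤ rk (π⁻¹ k) := by
    intro N
    induction N using Nat.strong_induction_on with
    | _ N ih =>
      intro k hk
      by_contra hcon
      have hlt : rk (π⁻¹ k) < rk k := not_le.mp hcon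
      have h1 := ih (rk (π⁻¹ k)) (hk ▸ hlt) (π⁻¹ k) rfl
      have h2 := h _ _ hlt
      omega
  apply Cfsg.Agent.Helper68.StCN2a.perm_eq_one_of_rk_le
  intro k
  have h1 := key _ (π k) rfl
  have e2 : π⁻¹ (π k) = k := by simp
  rwa [e2] at h1

/-- (P10) the only coset of `B` fixed by `U` is `B` -/
theorem mem_B_of_conj (hM : MonoData (XS K m) reflPerm cw) [Fintype K] (g : SpG K m)
    (h : ∀ u ∈ U K m, g⁻¹ * u * g ∈ B K m) : g ∈ B K m := by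
  obtain ⟨u₁, hu₁, n, hn, u₂, hu₂, hg⟩ :=
    Cfsg.Agent.Helper64.StCB.bruhat XS_spRel hM XS_closure g
  have hUB : U K m ≤ B K m := le_sup_left
  have hHB : H K m ≤ B K m := le_sup_right
  have hnB : ∀ u ∈ U K m, n⁻¹ * u * n ∈ B K m := by
    intro u hu
    have h1 := h (u₁ * u * u₁⁻¹) (mul_mem (mul_mem hu₁ hu) (inv_mem hu₁))
    have h2 : n⁻¹ * u * n = u₂ * (g⁻¹ * (u₁ * u * u₁⁻¹) * g) * u₂⁻¹ := by
      rw [hg]; group
    rw [h2]
    exact mul_mem (mul_mem (hUB hu₂) h1) (inv_mem (hUB hu₂))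
  obtain ⟨π, pp, hπ, -⟩ := Cfsg.Agent.Helper68.StCN2a.exists_isMono_bar hM hn
  have hmono : ∀ i j, rk i < rk j → rk (π⁻¹ i) < rk (π⁻¹ j) := by
    intro i j hij
    have hkl : π⁻¹ i ≠ π⁻¹ j := fun e =>
      Cfsg.Agent.Helper64.StCB.ne_of_rk_lt hij (π⁻¹.injective e)
    have hc0 : pp (π⁻¹ i) * (pp (π⁻¹ j))⁻¹ ≠ 0 :=
      mul_ne_zero (hπ.1 _) (inv_ne_zero (hπ.1 _))
    have hc := hπ.2 (π⁻¹ i) (π⁻¹ j) hkl ((pp (π⁻¹ i) * (pp (π⁻¹ j))⁻¹)⁻¹)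
    have e1 : ∀ x, π (π⁻¹ x) = x := fun x => by simp
    rw [e1, e1, mul_inv_cancel₀ hc0] at hc
    have h3 : n⁻¹ * XS K m i j 1 * n =
        XS K m (π⁻¹ i) (π⁻¹ j) ((pp (π⁻¹ i) * (pp (π⁻¹ j))⁻¹)⁻¹) := by
      rw [← hc]; group
    have h4 := hnB (XS K m i j 1) (Cfsg.Agent.Helper64.StCB.X_mem_UposC _ hij 1)
    rw [h3] at h4
    have h5 := B_upper hM h4
    by_contra hcon
    have hle : rk (π⁻¹ j) ≤ rk (π⁻¹ i) := not_lt.mp hcon
    have hlt : rk (π⁻¹ j) < rk (π⁻¹ i) :=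
      lt_of_le_of_ne hle (fun e => hkl (rk_injective e).symm)
    have h6 := h5 (π⁻¹ i) (π⁻¹ j) hlt
    rw [XS_coe hkl, spM_apply_self hkl] at h6
    exact inv_ne_zero hc0 h6
  have hπ1 : π = 1 := perm_eq_one_of_strictMono π hmono
  rw [hπ1] at hπ
  have hnH : n ∈ H K m := mem_H_of_perm_one hM hn hπ
  rw [hg]
  exact mul_mem (mul_mem (hUB hu₁) (hHB hnH)) (hUB hu₂)

end Cfsg.Agent.Helper29.SpBNP10
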