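import Mathlib
import Cfsg.Agent.Helper40.StCLiftDefs

/-!
# S2092 part II (helper40 #7552), piece (SH2): Milnor's identity with a long root element in the
middle
-/

set_option autoImplicit false
set_option linter.unusedSectionVars false

namespace Cfsg.Agent.Helper29.StCSH2

open scoped commutatorElement
open Cfsg.Agent.Helper96.StN Cfsg.Agent.Helper96.StC Cfsg.Agent.Helper96.StLift
  Cfsg.Agent.Helper40.StCLift

universe u v v' w

variable {K : Type u} [Field K] {D : Type v} [Group D] {E : Type v'} [Group E] {π : E →* D}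
  {ι : Type w} [DecidableEq ι] {X : ι ⊕ ι → ι ⊕ ι → K → D}

omit [DecidableEq ι] in
theorem eps_eq (p q : ι ⊕ ι) : eps K p q = 1 ∨ eps K p q = -1 := by
  unfold eps; split_ifs
  · exact Or.inl rfl
  · exact Or.inr rfl

omit [DecidableEq ι] in
/-- `⁅x_{ih}(a), x_{h,-h}(b)⁆ = x_{i,-i}(ε a² b) x_{i,-h}(a b)` -/
theorem comm_short_long (hX : SpRel X) {i h : ι ⊕ ι} (hih : AbsNe i h) (a b : K) :
    ⁅X i h a, X h (bar h) b⁆ = X i (bar i) (eps K i h * a ^ 2 * b) * X i (bar h) (a * b) := by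
  have n_hib : h ≠ bar i := hih.symm.2
  have n_hi : h ≠ bar (bar i) := by rw [bar_bar]; exact hih.1.symm
  have n_hbib : bar h ≠ bar i := fun e => hih.1 (bar_injective e).symm
  have r6 := hX.r6 h (bar i) n_hib n_hi b (-(eps K i h * a))
  rw [bar_bar] at r6
  have s1 : X i h a = X (bar h) (bar i) (-(eps K i h * a)) := hX.sym i h hih.1 n_hib a
  have s2 : X i (bar h) (a * b) = X h (bar i) (-(eps K i (bar h) * (a * b))) := by
    have := hX.sym i (bar h) hih.2 n_hbib (a * b)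
    rwa [bar_bar] at this
  have e1 : ∀ x y : D, ⁅x, y⁆ = (y * x * y⁻¹ * x⁻¹)⁻¹ := by
    intro x y; rw [commutatorElement_def]; group
  rw [s2, s1, e1, r6, mul_inv_rev, X_neg hX (bar_ne i).symm, X_neg hX n_hib,
    eps_bar_right, eps_bar_right, eps_comm h i]
  rcases eps_eq (K := K) i h with he | he <;> rw [he] <;> congr 2 <;> ring

section

variable (hπ : Function.Surjective π) (hc : π.ker ≤ Subgroup.center E)

omit [DecidableEq ι] in
include hc in
theorem lc_mul_mul_eq_one {a a' b b' : D}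
    (h11 : Commute a b ∧ lc hπ a b = 1) (h12 : Commute a b' ∧ lc hπ a b' = 1)
    (h21 : Commute a' b ∧ lc hπ a' b = 1) (h22 : Commute a' b' ∧ lc hπ a' b' = 1) :
    lc hπ (a * a') (b * b') = 1 := by
  have c1 : Commute (a * a') b' := h12.1.mul_left h22.1
  rw [lc_mul_right_of_commute hπ hc c1, lc_mul_left_of_commute hπ hc h21.1,
    lc_mul_left_of_commute hπ hc h22.1, h11.2, h12.2, h21.2, h22.2, one_mul, one_mul]

omit [DecidableEq ι] in
theorem comm_and_lc (hX : SpRel X) (hCL : CLC hπ X) {p q r s : ι ⊕ ι} (h1 : p ≠ q) (h2 : r ≠ s)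
    (h3 : q ≠ r) (h4 : q ≠ bar s) (h5 : p ≠ bar r) (h6 : p ≠ s) (t u : K) :
    Commute (X p q t) (X r s u) ∧ lc hπ (X p q t) (X r s u) = 1 :=
  ⟨hX.comm p q r s h1 h2 h3 h4 h5 h6 t u, hCL p q r s h1 h2 h3 h4 h5 h6 t u⟩

include hc in
/-- (SH2) Milnor's identity with the long root element `X h h̄ b` in the middle -/
theorem milnor_B (hX : SpRel X)
    (hCL : CLC hπ X) {i h j : ι ⊕ ι} (hih : AbsNe i h) (hij : AbsNe i j) (hhj : AbsNe h j)
    (a b c : K) :
    lc hπ (X i h a) (X h j (b * c)) = lc hπ (X i (bar h) (a * b)) (X (bar h) j c) := by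
  -- index facts
  have n_ih : i ≠ h := hih.1
  have n_ihb : i ≠ bar h := hih.2
  have n_ij : i ≠ j := hij.1
  have n_ijb : i ≠ bar j := hij.2
  have n_hj : h ≠ j := hhj.1
  have n_hjb : h ≠ bar j := hhj.2
  have n_ibh : bar i ≠ h := hih.bar_left.1
  have n_ibhb : bar i ≠ bar h := hih.bar_left.2
  have n_ibj : bar i ≠ j := hij.bar_left.1
  have n_ibjb : bar i ≠ bar j := hij.bar_left.2
  have n_hbj : bar h ≠ j := hhj.bar_left.1
  have n_hbjb : bar h ≠ bar j := hhj.bar_left.2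
  have n_hib : h ≠ bar i := hih.symm.2
  have n_jib : j ≠ bar i := hij.symm.2
  have n_jbi : bar j ≠ i := fun e => n_ijb e.symm
  have n_jbib : bar j ≠ bar i := fun e => n_ibjb e.symm
  have n_iib : i ≠ bar i := (bar_ne i).symm
  have n_hhb : h ≠ bar h := (bar_ne h).symm
  have n_jbj : bar j ≠ j := bar_ne j
  have n_jjb : j ≠ bar j := (bar_ne j).symm
  have n_ihbb : i ≠ bar (bar h) := by rw [bar_bar]; exact n_ih
  have n_ijbb : i ≠ bar (bar j) := by rw [bar_bar]; exact n_ij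
  have n_ibhbb : bar i ≠ bar (bar h) := by rw [bar_bar]; exact n_ibh
  -- lifts
  obtain ⟨u, hu⟩ := hπ (X i h a)
  obtain ⟨v, hv⟩ := hπ (X h (bar h) b)
  obtain ⟨w, hw⟩ := hπ (X (bar h) j c)
  set s : K := eps K i h * a ^ 2 * b with hs
  set r : K := eps K h j * b * c ^ 2 with hr
  have huv : π ⁅u, v⁆ = X i (bar i) s * X i (bar h) (a * b) := by
    rw [map_commutatorElement, hu, hv, comm_short_long hX hih]
  have hvw : π ⁅v, w⁆ = X h j (b * c) * X (bar j) j r := by
    rw [map_commutatorElement, hv, hw, commutatorElement_def, hX.r6 h j n_hj n_hjb]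
  -- commutations in `D`
  have k_x_C := comm_and_lc hπ hX hCL n_iib n_hbj n_ibhb n_ibjb n_ihbb n_ij s c
  have k_x_y : Commute (X i (bar i) s) (X i (bar h) (a * b)) :=
    hX.comm i (bar i) i (bar h) n_iib n_ihb n_iib.symm n_ibhbb n_iib n_ihb s (a * b)
  have k_x_ij := comm_and_lc hπ hX hCL n_iib n_ij n_iib.symm n_ibjb n_iib n_ij s (a * b * c)
  have hyC : ⁅X i (bar h) (a * b), X (bar h) j c⁆ = X i j (a * b * c) := by
    rw [commutatorElement_def]
    exact hX.mul i (bar h) j n_ihb n_hbj n_ij n_ihbb n_hbjb n_ijb (a * b) c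
  have huvw : π ⁅⁅u, v⁆, w⁆ = X i j (a * b * c) := by
    rw [map_commutatorElement, huv, hw]
    have e1 : ∀ x y z : D, ⁅x * y, z⁆ = x * ⁅y, z⁆ * x⁻¹ * ⁅x, z⁆ := by
      intro x y z; simp only [commutatorElement_def]; group
    rw [e1, hyC, commutatorElement_eq_one_iff_commute.mpr k_x_C.1, mul_one, k_x_ij.1.eq,
      mul_inv_cancel_right]
  -- the three commutations of Milnor's identity
  have h1 : Commute u w :=
    commute_of_lc_eq_one hπ hc (hCL i h (bar h) j n_ih n_hbj n_hhb n_hjb n_ihbb n_ij a c) hu hw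
  have h2 : Commute ⁅u, v⁆ ⁅v, w⁆ := by
    refine commute_of_lc_eq_one hπ hc ?_ huv hvw
    exact lc_mul_mul_eq_one hπ hc
      (comm_and_lc hπ hX hCL n_iib n_hj n_ibh n_ibjb n_ihb n_ij s (b * c))
      (comm_and_lc hπ hX hCL n_iib n_jbj n_ibjb n_ibjb n_ijbb n_ij s r)
      (comm_and_lc hπ hX hCL n_ihb n_hj n_hhb.symm n_hbjb n_ihb n_ij (a * b) (b * c))
      (comm_and_lc hπ hX hCL n_ihb n_jbj n_hbjb n_hbjb n_ijbb n_ij (a * b) r)
  have h3 : Commute ⁅v, w⁆ ⁅⁅u, v⁆, w⁆ := by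
    refine commute_of_lc_eq_one hπ hc ?_ hvw huvw
    have k1 := comm_and_lc hπ hX hCL n_hj n_ij n_ij.symm n_jjb n_hib n_hj (b * c) (a * b * c)
    have k2 := comm_and_lc hπ hX hCL n_jbj n_ij n_ij.symm n_jjb n_jbib n_jbj r (a * b * c)
    rw [lc_mul_left_of_commute hπ hc k2.1, k1.2, k2.2, one_mul]
  have h4 := milnor_identity u v w h1 h2 h3
  rw [lc_eq' hπ hc hu hvw, lc_eq' hπ hc huv hw] at h4
  -- simplify both sides
  have k_A_r := comm_and_lc hπ hX hCL n_ih n_jbj n_hjb n_hjb n_ijbb n_ij a r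
  rw [lc_mul_right_of_commute hπ hc k_A_r.1, k_A_r.2, mul_one, k_x_y.eq,
    lc_mul_left_of_commute hπ hc k_x_C.1, k_x_C.2, one_mul] at h4
  exact h4

end

end Cfsg.Agent.Helper29.StCSH2
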