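import Mathlib
import Cfsg.Agent.Helper69.Bhm2

/-!
helper29, piece (L2) of #7057 for helper15 (S4321): a `p`-element commuting with all its conjugates
generates a normal `p`-subgroup, which therefore lies in every Sylow `p`-subgroup.
-/

set_option autoImplicit false

namespace Cfsg.Agent.Helper29.PSG

open Subgroup Cfsg.Agent.Helper69.Bhm

variable {G : Type*} [Group G] [Finite G]

/-- (L2) A `p`-element commuting with all its conjugates generates a normal `p`-subgroup,
which therefore lies in every Sylow `p`-subgroup. -/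
theorem normalClosure_le_sylow {p : ℕ} [Fact p.Prime] {b : G} (hb : ∃ k : ℕ, orderOf b = p ^ k)
    (hcomm : ∀ g : G, Commute b (g * b * g⁻¹)) :
    IsPGroup p (normalClosure ({b} : Set G)) ∧
      ∀ P : Sylow p G, normalClosure ({b} : Set G) ≤ (P : Subgroup G) := by
  classical
  obtain ⟨k, hk⟩ := hb
  -- all conjugates commute pairwise
  have hpair : ∀ x ∈ Group.conjugatesOfSet ({b} : Set G), ∀ y ∈ Group.conjugatesOfSet ({b} : Set G),
      x * y = y * x := by
    intro x hx y hy
    rw [Group.mem_conjugatesOfSet_iff] at hx hy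
    obtain ⟨b1, hb1, hx⟩ := hx
    obtain ⟨b2, hb2, hy⟩ := hy
    rw [Set.mem_singleton_iff] at hb1 hb2
    rw [hb1] at hx
    rw [hb2] at hy
    rw [isConj_iff] at hx hy
    obtain ⟨c, rfl⟩ := hx
    obtain ⟨d, rfl⟩ := hy
    have h := hcomm (c⁻¹ * d)
    have h1 : c * (b * (c⁻¹ * d * b * (c⁻¹ * d)⁻¹)) * c⁻¹ =
        c * ((c⁻¹ * d * b * (c⁻¹ * d)⁻¹) * b) * c⁻¹ := by rw [h.eq]
    calc c * b * c⁻¹ * (d * b * d⁻¹) = c * (b * (c⁻¹ * d * b * (c⁻¹ * d)⁻¹)) * c⁻¹ := by group
      _ = c * ((c⁻¹ * d * b * (c⁻¹ * d)⁻¹) * b) * c⁻¹ := h1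
      _ = d * b * d⁻¹ * (c * b * c⁻¹) := by group
  -- every element of the normal closure has `p`-power order
  have hpow : ∀ x ∈ normalClosure ({b} : Set G), x ^ p ^ k = 1 := by
    intro x hx
    unfold normalClosure at hx
    induction hx using Subgroup.closure_induction with
    | mem y hy =>
      rw [Group.mem_conjugatesOfSet_iff] at hy
      obtain ⟨b1, hb1, hy⟩ := hy
      rw [Set.mem_singleton_iff] at hb1
      rw [hb1] at hy
      rw [isConj_iff] at hy
      obtain ⟨c, rfl⟩ := hy
      rw [conj_pow, ← hk, pow_orderOf_eq_one, mul_one, mul_inv_cancel]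
    | one => exact one_pow _
    | mul y z hy hz ihy ihz =>
      have hyz : Commute y z := by
        have hc := Subgroup.isMulCommutative_closure hpair
        have h := hc.is_comm.comm (⟨y, hy⟩ : closure (Group.conjugatesOfSet ({b} : Set G))) ⟨z, hz⟩
        exact congrArg Subtype.val h
      rw [hyz.mul_pow, ihy, ihz, one_mul]
    | inv y hy ihy => rw [inv_pow, ihy, inv_one]
  have hP : IsPGroup p (normalClosure ({b} : Set G)) := by
    rintro ⟨x, hx⟩
    refine ⟨k, ?_⟩
    apply Subtype.ext
    rw [Subgroup.coe_pow]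
    exact hpow x hx
  refine ⟨hP, fun P => ?_⟩
  -- a normal `p`-subgroup lies in every Sylow `p`-subgroup
  obtain ⟨Q, hQ⟩ := hP.exists_le_sylow
  obtain ⟨g, rfl⟩ := MulAction.exists_smul_eq G Q P
  intro x hx
  rw [Sylow.coe_subgroup_smul, Subgroup.mem_pointwise_smul_iff_inv_smul_mem]
  apply hQ
  have hn : (normalClosure ({b} : Set G)).Normal := normalClosure_normal
  have := hn.conj_mem x hx g⁻¹
  simpa [MulAut.smul_def] using this

end Cfsg.Agent.Helper29.PSG
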