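import Mathlib
import Cfsg.Agent.Helper69.Bhm2

/-!
helper29, piece (L4) of #7057 for helper15 (S4321): a `p`-element whose class size is a power of
`p` lies in every conjugate of a Sylow `p`-subgroup containing it.
-/

set_option autoImplicit false

namespace Cfsg.Agent.Helper29.PSG

open Subgroup Cfsg.Agent.Helper69.Bhm

variable {G : Type*} [Group G] [Finite G]

/-- if all prime divisors of `n` equal `p` then `n` is coprime to every `m` with `p ∤ m` -/
theorem coprime_of_forall_prime_eq {p n m : ℕ} (hn : ∀ r : ℕ, r.Prime → r ∣ n → r = p)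
    (hm : ¬ p ∣ m) : Nat.Coprime n m := by
  apply Nat.coprime_of_dvd
  intro k hk h1 h2
  rw [hn k hk h1] at h2
  exact hm h2

/-- factorisation `G = P · C_G(x)` when the class size of `x` is a power of `p` -/
theorem exists_mul_of_ppow {p : ℕ} [Fact p.Prime] (P : Sylow p G) {x : G}
    (hci : ∀ r : ℕ, r.Prime → r ∣ ci x → r = p) (g : G) :
    ∃ t ∈ (P : Subgroup G), ∃ c ∈ cz x, g = t * c := by
  have hcop : Nat.Coprime (P : Subgroup G).index (cz x).index :=
    (coprime_of_forall_prime_eq hci P.not_dvd_index).symm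
  exact Cfsg.Agent.Helper9.exists_mul_of_coprime_index (P : Subgroup G) (cz x) hcop g

/-- (L4) A `p`-element whose class size is a power of `p` lies in every conjugate of a Sylow
`p`-subgroup containing it. -/
theorem conj_mem_sylow_of_ppow {p : ℕ} [Fact p.Prime] (P : Sylow p G) {x : G}
    (hx : x ∈ (P : Subgroup G)) (hci : ∀ r : ℕ, r.Prime → r ∣ ci x → r = p) (g : G) :
    g * x * g⁻¹ ∈ (P : Subgroup G) := by
  obtain ⟨t, ht, c, hc, rfl⟩ := exists_mul_of_ppow P hci g
  have hcx : c * x = x * c := mem_cz_iff.mp hc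
  have e : t * c * x * (t * c)⁻¹ = t * x * t⁻¹ := by
    calc t * c * x * (t * c)⁻¹ = t * (c * x) * c⁻¹ * t⁻¹ := by group
      _ = t * (x * c) * c⁻¹ * t⁻¹ := by rw [hcx]
      _ = t * x * t⁻¹ := by group
  rw [e]
  exact mul_mem (mul_mem ht hx) (inv_mem ht)

end Cfsg.Agent.Helper29.PSG
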