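import Mathlib
import Cfsg.Agent.Helper69.Bhm2
import Cfsg.Agent.Helper76.ClassSizeSylow
import Cfsg.Agent.Helper29.PSGL4

/-!
helper29, piece (L5) of #7057 for helper15 (S4321): the covering argument. `P` a normal Sylow
`p`-subgroup, nonabelian, such that every `x ∈ P` not central in `P` has `p`-power class size in
`G`. Then every Sylow `b`-subgroup (`b ≠ p`) centralizes `P`.
-/

set_option autoImplicit false

namespace Cfsg.Agent.Helper29.PSG

open Subgroup Cfsg.Agent.Helper69.Bhm

variable {G : Type*} [Group G] [Finite G]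

omit [Finite G] in
/-- a group is not the union of two proper subgroups -/
theorem eq_top_or_eq_top_of_forall_mem_or {H : Type*} [Group H] (A M : Subgroup H)
    (h : ∀ x : H, x ∈ A ∨ x ∈ M) : A = ⊤ ∨ M = ⊤ := by
  by_contra hne
  rw [not_or] at hne
  obtain ⟨hA, hM⟩ := hne
  obtain ⟨a, -, ha⟩ := SetLike.exists_of_lt (lt_top_iff_ne_top.mpr hA)
  obtain ⟨m, -, hm⟩ := SetLike.exists_of_lt (lt_top_iff_ne_top.mpr hM)
  have ha' : a ∈ M := (h a).resolve_left ha
  have hm' : m ∈ A := (h m).resolve_right hm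
  rcases h (a * m) with h1 | h1
  · apply ha
    have := A.mul_mem h1 (A.inv_mem hm')
    simpa using this
  · apply hm
    have := M.mul_mem (M.inv_mem ha') h1
    simpa using this

/-- (L5) Covering argument. -/
theorem sylow_centralizes {p b : ℕ} [Fact p.Prime] [Fact b.Prime] (hbp : b ≠ p) (P : Sylow p G)
    (hn : (P : Subgroup G).Normal)
    (hna : ∃ x ∈ (P : Subgroup G), ∃ y ∈ (P : Subgroup G), ¬ Commute x y)
    (hpow : ∀ x ∈ (P : Subgroup G), (∃ y ∈ (P : Subgroup G), ¬ Commute x y) →
      ∀ r : ℕ, r.Prime → r ∣ ci x → r = p)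
    (B : Sylow b G) : ∀ z ∈ (B : Subgroup G), ∀ y ∈ (P : Subgroup G), Commute z y := by
  classical
  have hp : p.Prime := Fact.out
  have hbpr : b.Prime := Fact.out
  -- Step 1: a non-central element of `P` has a `P`-conjugate centralized by `B`
  have step1 : ∀ x ∈ (P : Subgroup G), (∃ y ∈ (P : Subgroup G), ¬ Commute x y) →
      ∃ t ∈ (P : Subgroup G), ∀ z ∈ (B : Subgroup G), z * (t * x * t⁻¹) = (t * x * t⁻¹) * z := by
    intro x hx hnc
    have hci := hpow x hx hnc
    have hb_ndvd : ¬ b ∣ (cz x).index := by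
      intro hdvd
      exact hbp (hci b hbpr hdvd)
    obtain ⟨B', hB'⟩ := Cfsg.Agent.Helper76.exists_sylow_le_of_not_dvd_index' (p := b) (cz x) hb_ndvd
    obtain ⟨g, hg⟩ := MulAction.exists_smul_eq G B' B
    -- `B = g B' g⁻¹` centralizes `g x g⁻¹`
    obtain ⟨t, ht, c, hc, hgtc⟩ := exists_mul_of_ppow P hci g
    have hcx : c * x = x * c := mem_cz_iff.mp hc
    have e : g * x * g⁻¹ = t * x * t⁻¹ := by
      rw [hgtc]
      calc t * c * x * (t * c)⁻¹ = t * (c * x) * c⁻¹ * t⁻¹ := by group
        _ = t * (x * c) * c⁻¹ * t⁻¹ := by rw [hcx]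
        _ = t * x * t⁻¹ := by group
    refine ⟨t, ht, fun z hz => ?_⟩
    rw [← e]
    have hz' : z ∈ ((g • B' : Sylow b G) : Subgroup G) := by rw [hg]; exact hz
    rw [Sylow.coe_subgroup_smul, Subgroup.mem_pointwise_smul_iff_inv_smul_mem] at hz'
    have hz'' : g⁻¹ * z * g ∈ (B' : Subgroup G) := by simpa [MulAut.smul_def] using hz'
    have h3 := mem_cz_iff.mp (hB' hz'')
    calc z * (g * x * g⁻¹) = g * ((g⁻¹ * z * g) * x) * g⁻¹ := by group
      _ = g * (x * (g⁻¹ * z * g)) * g⁻¹ := by rw [h3]
      _ = g * x * g⁻¹ * z := by group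
  -- work inside `P`
  set P' : Subgroup G := (P : Subgroup G) with hP'
  set C : Subgroup ↥P' := (centralizer ((B : Subgroup G) : Set G)).subgroupOf P' with hC
  have hCtop : C = ⊤ := by
    by_contra hne
    have hnil : Group.IsNilpotent ↥P' := P.isPGroup'.isNilpotent
    obtain ⟨M, hMco, hCM⟩ := (eq_top_or_exists_le_coatom C).resolve_left hne
    have hMn : M.Normal :=
      Subgroup.NormalizerCondition.normal_of_coatom M (Group.normalizerCondition_of_isNilpotent) hMco
    have hcover : ∀ x : ↥P', x ∈ center ↥P' ∨ x ∈ M := by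
      intro x
      by_cases hxc : x ∈ center ↥P'
      · left; exact hxc
      · right
        have hnc : ∃ y ∈ P', ¬ Commute (x : G) y := by
          by_contra hall
          simp only [not_exists, not_and, not_not] at hall
          apply hxc
          rw [Subgroup.mem_center_iff]
          intro y
          apply Subtype.ext
          rw [Subgroup.coe_mul, Subgroup.coe_mul]
          exact ((hall y y.2).eq).symm
        obtain ⟨t, ht, hcent⟩ := step1 x x.2 hnc
        have hmem : (⟨t, ht⟩ : ↥P') * x * (⟨t, ht⟩ : ↥P')⁻¹ ∈ C := by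
          rw [hC, Subgroup.mem_subgroupOf, Subgroup.mem_centralizer_iff]
          intro z hz
          have := hcent z hz
          simpa using this
        have hmemM := hCM hmem
        have := hMn.conj_mem _ hmemM (⟨t, ht⟩ : ↥P')⁻¹
        simpa [mul_assoc] using this
    rcases eq_top_or_eq_top_of_forall_mem_or (center ↥P') M hcover with h1 | h1
    · obtain ⟨x, hx, y, hy, hxy⟩ := hna
      apply hxy
      have hxc : (⟨x, hx⟩ : ↥P') ∈ center ↥P' := by rw [h1]; exact Subgroup.mem_top _
      rw [Subgroup.mem_center_iff] at hxc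
      have := hxc ⟨y, hy⟩
      have h2 := congrArg Subtype.val this
      simp only [Subgroup.coe_mul] at h2
      exact h2.symm
    · exact hMco.1 h1
  intro z hz y hy
  have hyC : (⟨y, hy⟩ : ↥P') ∈ C := by rw [hCtop]; exact Subgroup.mem_top _
  rw [hC, Subgroup.mem_subgroupOf, Subgroup.mem_centralizer_iff] at hyC
  exact hyC z hz

end Cfsg.Agent.Helper29.PSG
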