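import Cfsg.Agent.Helper58.PsuIo.OdDefs
import Cfsg.Agent.Helper61.PsuM_AMAT

/-!
helper29 for helper58's S2089 block I-odd MODEL farm (#15378), piece (OMAT): the matrices of `qO`, `tO`.

`OMAT_gM B y z = [[1, B, y], [0, 1, 0], [0, z, 1]]` is the general shape; `qM σ y B = OMAT_gM B y (-σ∘y)`.
-/

set_option autoImplicit false
set_option linter.unusedSimpArgs false

namespace Cfsg.Agent.Helper29.PsuIo

open Matrix
open scoped commutatorElement
open Cfsg.Agent.Helper43.PsuM
open Cfsg.Agent.Helper58.PsuIo.Od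

universe u

variable {F : Type*} [Field F] {m : ℕ} {σ : F →+* F}

/-- the general matrix `[[1, B, y], [0, 1, 0], [0, z, 1]]` -/
def OMAT_gM (B : Matrix (Fin m) (Fin m) F) (y z : Fin m → F) : Matrix (Idx m) (Idx m) F :=
  fromBlocks (fromBlocks 1 B 0 1) (fromRows (replicateCol Unit y) 0)
    (fromCols 0 (replicateRow Unit z)) 1

theorem OMAT_colE (y : Fin m → F) : colE y = fromRows (replicateCol Unit y) 0 := by
  ext (i | i) u <;> simp [colE]

theorem OMAT_rowF (z : Fin m → F) : rowF z = fromCols 0 (replicateRow Unit z) := by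
  ext u (i | i) <;> simp [rowF]

theorem OMAT_qM_eq (y : Fin m → F) (B : Matrix (Fin m) (Fin m) F) :
    qM σ y B = OMAT_gM B y (fun i => -σ (y i)) := by
  unfold qM OMAT_gM Ev.qM
  rw [OMAT_colE, OMAT_rowF]

theorem OMAT_fromRows_add {R : Type*} [Add R] {m₁ m₂ n : Type*} (A₁ A₁' : Matrix m₁ n R)
    (A₂ A₂' : Matrix m₂ n R) :
    fromRows A₁ A₂ + fromRows A₁' A₂' = fromRows (A₁ + A₁') (A₂ + A₂') := by
  ext (i | i) j <;> simp

theorem OMAT_fromCols_add {R : Type*} [Add R] {m₁ n₁ n₂ : Type*} (A₁ A₁' : Matrix m₁ n₁ R)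
    (A₂ A₂' : Matrix m₁ n₂ R) :
    fromCols A₁ A₂ + fromCols A₁' A₂' = fromCols (A₁ + A₁') (A₂ + A₂') := by
  ext i (j | j) <;> simp

theorem OMAT_col_add (y y' : Fin m → F) :
    replicateCol Unit y + replicateCol Unit y' = replicateCol Unit (y + y') := by
  ext i u; simp

theorem OMAT_row_add (z z' : Fin m → F) :
    replicateRow Unit z + replicateRow Unit z' = replicateRow Unit (z + z') := by
  ext u i; simp

/-- the product of two matrices of the general shape -/
theorem OMAT_gM_mul (B B' : Matrix (Fin m) (Fin m) F) (y z y' z' : Fin m → F) :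
    OMAT_gM B y z * OMAT_gM B' y' z' = OMAT_gM (B + B' + vecMulVec y z') (y + y') (z + z') := by
  unfold OMAT_gM
  rw [Matrix.fromBlocks_multiply]
  congr 1
  · rw [Matrix.fromBlocks_multiply, fromRows_mul_fromCols, Matrix.fromBlocks_add]
    simp only [Matrix.mul_one, Matrix.one_mul, Matrix.mul_zero, Matrix.zero_mul, add_zero, zero_add]
    rw [vecMulVec_eq Unit]
    congr 1
    abel
  · rw [fromBlocks_mul_fromRows, Matrix.mul_one, OMAT_fromRows_add]
    simp only [Matrix.mul_one, Matrix.one_mul, Matrix.mul_zero, Matrix.zero_mul, add_zero, zero_add]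
    rw [add_comm (replicateCol Unit y'), OMAT_col_add]
  · rw [fromCols_mul_fromBlocks, Matrix.one_mul, OMAT_fromCols_add]
    simp only [Matrix.mul_one, Matrix.one_mul, Matrix.mul_zero, Matrix.zero_mul, add_zero, zero_add]
    rw [OMAT_row_add]
  · rw [fromCols_mul_fromRows]
    simp only [Matrix.mul_one, Matrix.one_mul, Matrix.mul_zero, Matrix.zero_mul, add_zero, zero_add]

/-- the determinant of a matrix of the general shape -/
theorem OMAT_det_gM (B : Matrix (Fin m) (Fin m) F) (y z : Fin m → F) : (OMAT_gM B y z).det = 1 := by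
  unfold OMAT_gM
  rw [Matrix.det_fromBlocks_one₂₂, fromRows_mul_fromCols]
  simp only [Matrix.mul_zero, Matrix.zero_mul]
  have h : fromBlocks (1 : Matrix (Fin m) (Fin m) F) B 0 (1 : Matrix (Fin m) (Fin m) F) -
      fromBlocks 0 (replicateCol Unit y * replicateRow Unit z) 0 0 =
      fromBlocks (1 : Matrix (Fin m) (Fin m) F) (B - replicateCol Unit y * replicateRow Unit z) 0
        (1 : Matrix (Fin m) (Fin m) F) := by
    rw [sub_eq_add_neg, Matrix.fromBlocks_neg, Matrix.fromBlocks_add]
    simp [sub_eq_add_neg]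
  rw [h, Matrix.det_fromBlocks_zero₂₁, Matrix.det_one, mul_one]

theorem OMAT_col_map (y : Fin m → F) :
    (replicateCol Unit y).map σ = replicateCol Unit (fun i => σ (y i)) := by
  ext i u; rfl

theorem OMAT_row_map (z : Fin m → F) :
    (replicateRow Unit z).map σ = replicateRow Unit (fun i => σ (z i)) := by
  ext u i; rfl

/-- the transpose of a matrix of the general shape -/
theorem OMAT_gM_transpose (B : Matrix (Fin m) (Fin m) F) (y z : Fin m → F) :
    (OMAT_gM B y z)ᵀ = fromBlocks (fromBlocks 1 0 Bᵀ 1) (fromRows 0 (replicateCol Unit z))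
      (fromCols (replicateRow Unit y) 0) 1 := by
  unfold OMAT_gM
  rw [Matrix.fromBlocks_transpose, Matrix.fromBlocks_transpose, transpose_fromCols, transpose_fromRows]
  simp only [Matrix.transpose_one, Matrix.transpose_zero, Matrix.transpose_replicateCol,
    Matrix.transpose_replicateRow]

/-- the image under `σ` of a matrix of the general shape -/
theorem OMAT_gM_map (B : Matrix (Fin m) (Fin m) F) (y z : Fin m → F) :
    (OMAT_gM B y z).map σ = OMAT_gM (B.map σ) (fun i => σ (y i)) (fun i => σ (z i)) := by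
  unfold OMAT_gM
  rw [Matrix.fromBlocks_map, Matrix.fromBlocks_map, fromRows_map, fromCols_map, OMAT_col_map, OMAT_row_map]
  simp only [Matrix.map_zero σ (map_zero σ), Matrix.map_one σ (map_zero σ) (map_one σ)]

/-- the hermitian form on a matrix of the general shape -/
theorem OMAT_form (B : Matrix (Fin m) (Fin m) F) (y z : Fin m → F) :
    (OMAT_gM B y z)ᵀ * Jo m F * (OMAT_gM B y z).map σ =
      fromBlocks (fromBlocks 0 1 1 (B.map σ + Bᵀ + vecMulVec z (fun i => σ (z i))))
        (fromRows 0 (replicateCol Unit ((fun i => σ (y i)) + z)))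
        (fromCols 0 (replicateRow Unit (y + fun i => σ (z i)))) 1 := by
  rw [OMAT_gM_transpose, OMAT_gM_map]
  unfold Jo Ev.Hm OMAT_gM
  rw [Matrix.fromBlocks_multiply, Matrix.fromBlocks_multiply]
  simp only [Matrix.mul_one, Matrix.one_mul, Matrix.mul_zero, Matrix.zero_mul, add_zero, zero_add]
  congr 1
  · rw [Matrix.fromBlocks_multiply, Matrix.fromBlocks_multiply, fromRows_mul_fromCols,
      Matrix.fromBlocks_add]
    simp only [Matrix.mul_one, Matrix.one_mul, Matrix.mul_zero, Matrix.zero_mul, add_zero, zero_add]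
    rw [vecMulVec_eq Unit]
  · rw [Matrix.fromBlocks_multiply, fromBlocks_mul_fromRows, OMAT_fromRows_add]
    simp only [Matrix.mul_one, Matrix.one_mul, Matrix.mul_zero, Matrix.zero_mul, add_zero, zero_add]
    rw [OMAT_col_add]
  · rw [fromCols_mul_fromBlocks, fromCols_mul_fromBlocks, OMAT_fromCols_add]
    simp only [Matrix.mul_one, Matrix.one_mul, Matrix.mul_zero, Matrix.zero_mul, add_zero, zero_add]
    rw [OMAT_row_add]
  · rw [fromCols_mul_fromBlocks, fromCols_mul_fromRows]
    simp only [Matrix.mul_one, Matrix.one_mul, Matrix.mul_zero, Matrix.zero_mul, add_zero, zero_add]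

/-- (OMAT1) -/
theorem det_qM (y : Fin m → F) (B : Matrix (Fin m) (Fin m) F) : (qM σ y B).det = 1 := by
  rw [OMAT_qM_eq]
  exact OMAT_det_gM _ _ _

/-- (OMAT2) -/
theorem isUo_qM_iff (hσ : ∀ x, σ (σ x) = x) (y : Fin m → F) (B : Matrix (Fin m) (Fin m) F) :
    IsUo σ (qM σ y B) ↔ QP σ y B := by
  unfold IsUo QP
  rw [OMAT_qM_eq, OMAT_form]
  have h1 : ((fun i => σ (y i)) + fun i => -σ (y i)) = (0 : Fin m → F) := by
    funext i; simp
  have h2 : (y + fun i => σ (-σ (y i))) = (0 : Fin m → F) := by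
    funext i; simp [hσ]
  have h3 : vecMulVec (fun i => -σ (y i)) (fun i => σ (-σ (y i))) = vecMulVec (fun i => σ (y i)) y := by
    ext i j
    simp [vecMulVec_apply, hσ]
  have h4 : replicateCol Unit (0 : Fin m → F) = 0 := by ext i u; rfl
  have h5 : replicateRow Unit (0 : Fin m → F) = 0 := by ext u i; rfl
  rw [h1, h2, h3, h4, h5, fromRows_zero, fromCols_zero]
  unfold Jo Ev.Hm
  constructor
  · intro h
    have h6 := (Matrix.fromBlocks_inj.mp h).1
    exact (Matrix.fromBlocks_inj.mp h6).2.2.2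
  · intro h
    rw [h]

/-- (OMAT3) -/
theorem mat_qO (hσ : ∀ x, σ (σ x) = x) {y : Fin m → F} {B : Matrix (Fin m) (Fin m) F}
    (h : QP σ y B) : mat (qO σ y B) = qM σ y B := by
  unfold qO
  exact mat_ofMat σ (det_qM y B) ((isUo_qM_iff hσ y B).mpr h)

/-- (OMAT4) -/
theorem mat_tO (hσ : ∀ x, σ (σ x) = x) (d : Fin m → F) (hd : ∀ i, d i ≠ 0) :
    mat (tO σ d) = tM σ d := by
  have hσd : ∀ i, σ (d i) ≠ 0 := fun i h0 => hd i (by rw [← hσ (d i), h0, map_zero])
  have hP : (∏ i, d i) ≠ 0 := Finset.prod_ne_zero_iff.mpr fun i _ => hd i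
  have hPσ : (∏ i, σ (d i)) ≠ 0 := Finset.prod_ne_zero_iff.mpr fun i _ => hσd i
  unfold tO
  apply mat_ofMat
  · unfold tM
    rw [Matrix.det_fromBlocks_zero₂₁, Cfsg.Agent.Helper61.PsuM.AMAT_det_iM, Matrix.det_diagonal,
      Matrix.det_diagonal, Matrix.det_diagonal, Finset.prod_inv_distrib]
    simp only [Finset.univ_unique, Finset.prod_singleton]
    unfold cw
    field_simp
  · unfold IsUo tM Jo
    rw [Matrix.fromBlocks_transpose, Matrix.fromBlocks_map, Matrix.fromBlocks_multiply,
      Matrix.fromBlocks_multiply]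
    simp only [Matrix.transpose_zero, Matrix.map_zero σ (map_zero σ), Matrix.mul_zero,
      Matrix.zero_mul, Matrix.mul_one, add_zero, zero_add]
    have hT : Ev.IsU σ (Ev.iM (Matrix.diagonal d) (Matrix.diagonal fun i => (σ (d i))⁻¹)) := by
      apply Cfsg.Agent.Helper61.PsuM.AMAT_isU_iM
      · rw [Matrix.diagonal_transpose, Matrix.diagonal_map (map_zero σ), Matrix.diagonal_mul_diagonal,
          ← Matrix.diagonal_one]
        congr 1
        funext i
        rw [map_inv₀, hσ]
        exact mul_inv_cancel₀ (hd i)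
      · rw [Matrix.diagonal_transpose, Matrix.diagonal_map (map_zero σ), Matrix.diagonal_mul_diagonal,
          ← Matrix.diagonal_one]
        congr 1
        funext i
        exact inv_mul_cancel₀ (hσd i)
    unfold Ev.IsU at hT
    rw [hT]
    congr 1
    rw [Matrix.diagonal_transpose, Matrix.diagonal_map (map_zero σ), Matrix.diagonal_mul_diagonal,
      ← Matrix.diagonal_one]
    congr 1
    funext u
    unfold cw
    rw [map_mul, map_inv₀, map_prod, map_prod]
    simp only [hσ]
    field_simp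

end Cfsg.Agent.Helper29.PsuIo
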