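import Cfsg.Agent.Helper58.PsuIo.OdDefs
import Cfsg.Agent.Helper29.PsuIo_OMAT

/-!
helper29 for helper58's S2089 block I-odd MODEL farm (#15378), piece (OT): the diagonal torus `Tsub`.
-/

set_option autoImplicit false
set_option linter.unusedSimpArgs false
set_option linter.unusedVariables false

namespace Cfsg.Agent.Helper29.PsuIo

open Matrix
open scoped commutatorElement
open Cfsg.Agent.Helper43.PsuM
open Cfsg.Agent.Helper58.PsuIo.Od

universe u

variable {F : Type*} [Field F] {m : ℕ} {σ : F →+* F}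

/-- `tM σ d` is a diagonal matrix -/
theorem OT_tM_eq (d : Fin m → F) :
    tM σ d = Matrix.diagonal (Sum.elim (Sum.elim d (fun i => (σ (d i))⁻¹)) (fun _ => cw σ d)) := by
  unfold tM Ev.iM
  rw [Matrix.fromBlocks_diagonal, Matrix.fromBlocks_diagonal]

/-- the matrix of an element of `Tsub` is diagonal -/
theorem OT_mat_eq_diagonal {g : SUo m σ} (hg : g ∈ Tsub m σ) :
    mat g = Matrix.diagonal fun a => mat g a a := by
  ext i j
  by_cases hij : i = j
  · subst hij; simp
  · rw [hg i j hij, Matrix.diagonal_apply_ne _ hij]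

/-- (OT1) -/
theorem tO_mem_Tsub (hσ : ∀ x, σ (σ x) = x) (d : Fin m → F) (hd : ∀ i, d i ≠ 0) :
    tO σ d ∈ Tsub m σ := by
  intro a b hab
  rw [mat_tO hσ d hd, OT_tM_eq, Matrix.diagonal_apply_ne _ hab]

/-- the entries of `Jo` between `e_i` and `f_i` -/
theorem OT_Jo_ef (i : Fin m) : Jo m F (Sum.inl (Sum.inl i)) (Sum.inl (Sum.inr i)) = 1 := by
  simp [Jo, Ev.Hm]

/-- (OT2) -/
theorem mem_Tsub_iff (hσ : ∀ x, σ (σ x) = x) (g : SUo m σ) :
    g ∈ Tsub m σ ↔ ∃ d : Fin m → F, (∀ i, d i ≠ 0) ∧ g = tO σ d := by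
  constructor
  · intro hg
    have hdiag := OT_mat_eq_diagonal hg
    set f : Idx m → F := fun a => mat g a a with hf
    have hU : (mat g)ᵀ * Jo m F * (mat g).map σ = Jo m F := isUo_mat g
    rw [hdiag, Matrix.diagonal_transpose, Matrix.diagonal_map (map_zero σ)] at hU
    have hent : ∀ a b, f a * Jo m F a b * σ (f b) = Jo m F a b := by
      intro a b
      have := congrFun (congrFun hU a) b
      rw [Matrix.mul_diagonal, Matrix.diagonal_mul] at this
      exact this
    have h1 : ∀ i : Fin m, f (Sum.inl (Sum.inl i)) * σ (f (Sum.inl (Sum.inr i))) = 1 := by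
      intro i
      have := hent (Sum.inl (Sum.inl i)) (Sum.inl (Sum.inr i))
      rw [OT_Jo_ef, mul_one] at this
      exact this
    set d : Fin m → F := fun i => f (Sum.inl (Sum.inl i)) with hd
    have hd0 : ∀ i, d i ≠ 0 := by
      intro i h0
      have := h1 i
      rw [show f (Sum.inl (Sum.inl i)) = d i from rfl, h0, zero_mul] at this
      exact zero_ne_one this
    have hb : ∀ i : Fin m, f (Sum.inl (Sum.inr i)) = (σ (d i))⁻¹ := by
      intro i
      have h2 : σ (f (Sum.inl (Sum.inr i))) = (d i)⁻¹ := eq_inv_of_mul_eq_one_right (h1 i)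
      have h3 : f (Sum.inl (Sum.inr i)) = σ ((d i)⁻¹) := by rw [← h2, hσ]
      rw [h3, map_inv₀]
    have hσd : ∀ i, σ (d i) ≠ 0 := fun i h0 => hd0 i (by rw [← hσ (d i), h0, map_zero])
    have hdet : (mat g).det = 1 := det_mat g
    rw [hdiag, Matrix.det_diagonal, Fintype.prod_sum_type, Fintype.prod_sum_type] at hdet
    simp only [Finset.univ_unique, Finset.prod_singleton] at hdet
    have hc : f (Sum.inr ()) = cw σ d := by
      have hP : (∏ i, d i) ≠ 0 := Finset.prod_ne_zero_iff.mpr fun i _ => hd0 i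
      have hPσ : (∏ i, σ (d i)) ≠ 0 := Finset.prod_ne_zero_iff.mpr fun i _ => hσd i
      have e1 : (∏ i : Fin m, f (Sum.inl (Sum.inr i))) = (∏ i, σ (d i))⁻¹ := by
        rw [← Finset.prod_inv_distrib]
        exact Finset.prod_congr rfl fun i _ => hb i
      have e0 : (∏ i : Fin m, f (Sum.inl (Sum.inl i))) = ∏ i, d i := rfl
      have hu : (default : Unit) = () := rfl
      rw [e0, e1, hu] at hdet
      unfold cw
      field_simp at hdet ⊢
      linear_combination hdet
    refine ⟨d, hd0, ?_⟩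
    apply mat_injective
    rw [mat_tO hσ d hd0, OT_tM_eq, hdiag]
    congr 1
    funext a
    rcases a with (i | i) | u
    · rfl
    · exact hb i
    · exact hc
  · rintro ⟨d, hd, rfl⟩
    exact tO_mem_Tsub hσ d hd

/-- (OT3) -/
theorem Tsub_comm (a b : SUo m σ) (ha : a ∈ Tsub m σ) (hb : b ∈ Tsub m σ) : a * b = b * a := by
  apply mat_injective
  rw [mat_mul, mat_mul, OT_mat_eq_diagonal ha, OT_mat_eq_diagonal hb, Matrix.diagonal_mul_diagonal,
    Matrix.diagonal_mul_diagonal]
  congr 1
  funext x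
  exact mul_comm _ _

theorem OT_mat_pow (g : SUo m σ) (n : ℕ) : mat (g ^ n) = mat g ^ n := by
  induction n with
  | zero => rw [pow_zero, pow_zero, mat_one]
  | succ n ih => rw [pow_succ, pow_succ, mat_mul, ih]

/-- (OT4) -/
theorem not_dvd_card_Tsub [Fintype F] (hσ : ∀ x, σ (σ x) = x) (p : ℕ) [Fact p.Prime] [CharP F p] :
    ¬ p ∣ Nat.card (Tsub m σ) := by
  classical
  intro hdvd
  obtain ⟨t, ht⟩ := exists_prime_orderOf_dvd_card' p hdvd
  have htp : (t : SUo m σ) ^ p = 1 := by
    have : t ^ p = 1 := by rw [← ht]; exact pow_orderOf_eq_one t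
    have h2 := congrArg (Subtype.val) this
    simpa using h2
  have hdiag := OT_mat_eq_diagonal t.2
  have hm : mat ((t : SUo m σ) ^ p) = 1 := by rw [htp, mat_one]
  rw [OT_mat_pow, hdiag, Matrix.diagonal_pow] at hm
  have hentry : ∀ a, (mat (t : SUo m σ) a a) ^ p = 1 := by
    intro a
    have := congrFun (congrFun hm a) a
    simpa using this
  have hone : ∀ a, mat (t : SUo m σ) a a = 1 := by
    intro a
    have h1 : (mat (t : SUo m σ) a a - 1) ^ p = 0 := by
      rw [sub_pow_char (mat (t : SUo m σ) a a) 1 (p := p), hentry a, one_pow, sub_self]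
    exact sub_eq_zero.mp (pow_eq_zero_iff (Fact.out : p.Prime).ne_zero |>.mp h1)
  have ht1 : (t : SUo m σ) = 1 := by
    apply mat_injective
    rw [hdiag, mat_one, ← Matrix.diagonal_one]
    congr 1
    funext a
    exact hone a
  have : t = 1 := Subtype.ext ht1
  rw [this, orderOf_one] at ht
  exact (Fact.out : p.Prime).one_lt.ne ht

end Cfsg.Agent.Helper29.PsuIo
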