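-- (CNT) for helper17's S1022: fixed Sylow subgroups of y versus conjugates of y in N(P).
import Mathlib
import Cfsg.Prelude.Def_Characters
import Cfsg.Prelude.Def_Blocks
import Cfsg.Agent.Helper32.J2L

set_option autoImplicit false

namespace Cfsg.Agent.Helper29.O459

open Cfsg Subgroup

universe u

variable {G : Type u} [Group G] [Finite G]

theorem card_fixed_mul_card_normalizer {p : ℕ} [Fact p.Prime] (P : Sylow p G) (y : G) :
    Nat.card {Q : Sylow p G // y • Q = Q} * Nat.card (normalizer ((P : Subgroup G) : Set G)) =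
      Nat.card {y' : G // IsConj y y' ∧ y' ∈ normalizer ((P : Subgroup G) : Set G)} *
        Nat.card (centralizer ({y} : Set G)) := by
  classical
  let S : G → Sylow p G → Prop := fun a Q => IsConj y a ∧ a • Q = Q
  have hinv : ∀ g a Q, S a Q → S (g * a * g⁻¹) (g • Q) := by
    rintro g a Q ⟨h1, h2⟩
    refine ⟨h1.trans (isConj_iff.2 ⟨g, rfl⟩), ?_⟩
    rw [mul_smul, mul_smul, inv_smul_smul, h2]
  have h1 := Cfsg.Agent.Helper32.J2P.card_fibred (fun g (Q : Sylow p G) => g • Q)
    (fun Q => one_smul G Q) (fun g h Q => mul_smul g h Q) y S hinv (fun a _ h => h.1)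
  -- counting by the second coordinate
  have h2 : Nat.card {q : G × Sylow p G // S q.1 q.2} =
      Nat.card (Sylow p G) * Nat.card {a : G // S a P} := by
    choose γ hγ using fun Q : Sylow p G => MulAction.exists_smul_eq G P Q
    rw [← Nat.card_prod]
    apply Nat.card_congr
    refine
      { toFun := fun q => (q.1.2, ⟨(γ q.1.2)⁻¹ * q.1.1 * (γ q.1.2), ?_⟩)
        invFun := fun r => ⟨(γ r.1 * r.2.1 * (γ r.1)⁻¹, r.1), ?_⟩
        left_inv := ?_
        right_inv := ?_ }
    · have h := hinv (γ q.1.2)⁻¹ q.1.1 q.1.2 q.2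
      rw [inv_inv] at h
      have e : (γ q.1.2)⁻¹ • q.1.2 = P := by
        rw [inv_smul_eq_iff, hγ]
      rwa [e] at h
    · have h := hinv (γ r.1) r.2.1 P r.2.2
      rwa [hγ] at h
    · rintro ⟨⟨a, Q⟩, hq⟩
      apply Subtype.ext
      simp only [Prod.mk.injEq, and_true]
      group
    · rintro ⟨Q, ⟨b, hb⟩⟩
      simp only [Prod.mk.injEq, true_and]
      apply Subtype.ext
      simp only
      group
  have h3 : Nat.card {Q : Sylow p G // S y Q} = Nat.card {Q : Sylow p G // y • Q = Q} :=
    Nat.card_congr (Equiv.subtypeEquivRight (fun Q => by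
      show IsConj y y ∧ y • Q = Q ↔ y • Q = Q
      exact ⟨fun h => h.2, fun h => ⟨IsConj.refl y, h⟩⟩))
  have h4 : Nat.card {a : G // S a P} =
      Nat.card {y' : G // IsConj y y' ∧ y' ∈ normalizer ((P : Subgroup G) : Set G)} :=
    Nat.card_congr (Equiv.subtypeEquivRight (fun a => by
      show IsConj y a ∧ a • P = P ↔ _
      exact and_congr_right (fun _ => Sylow.smul_eq_iff_mem_normalizer)))
  have h5 : Nat.card (Sylow p G) * Nat.card (normalizer ((P : Subgroup G) : Set G)) = Nat.card G := by
    rw [Sylow.card_eq_index_normalizer P, mul_comm]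
    exact Subgroup.card_mul_index _
  rw [h2, h3, h4, ← h5] at h1
  have hpos : 0 < Nat.card (Sylow p G) := Nat.card_pos
  have h6 : Nat.card (Sylow p G) *
      (Nat.card {y' : G // IsConj y y' ∧ y' ∈ normalizer ((P : Subgroup G) : Set G)} *
        Nat.card (centralizer ({y} : Set G))) =
      Nat.card (Sylow p G) * (Nat.card {Q : Sylow p G // y • Q = Q} *
        Nat.card (normalizer ((P : Subgroup G) : Set G))) := by
    rw [← mul_assoc, h1]; ring
  exact (Nat.eq_of_mul_eq_mul_left hpos h6).symm

end Cfsg.Agent.Helper29.O459
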