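import Cfsg.Agent.Helper18.E8Odd.RefSub

/-!
helper18's farm E8INV-3 (S4281), piece (BASE): the action of the abstract Coxeter group of a certified reflection
subgroup through `D.phi` is the action of the expanded `E₈`-words.
-/

set_option autoImplicit false
set_option maxRecDepth 100000

namespace Cfsg.Agent.Helper29.E8Inv

open Cfsg Cfsg.Lie Cfsg.Agent.Helper18 Cfsg.Agent.Helper18.E8Odd Cfsg.Agent.Helper19.Cox Cfsg.Agent.Helper19.Poinc

variable (D : RefSub)

theorem BASE_actW_cons (T : List ℕ) (n d i : ℕ) (w : List ℕ) (x : ℕ) :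
    actW T n d (i :: w) x = tact T n d i (actW T n d w x) := rfl

theorem BASE_actW_ge (T : List ℕ) (n d : ℕ) (w : List ℕ) (x : ℕ) (hx : ¬ x < d) :
    actW T n d w x = x := by
  induction w with
  | nil => rfl
  | cons i w ih => rw [BASE_actW_cons, ih, tact_of_not_lt hx]

theorem BASE_expand_cons (i : ℕ) (w : List ℕ) :
    D.expand (i :: w) = D.gens.getD i [] ++ D.expand w := by
  unfold RefSub.expand
  rw [List.flatMap_cons]

/-- (BASE1) the action of a word in the generators is the action of the expanded word of `W(E₈)`. -/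
theorem phi_expand (w : List ℕ) (hw : ∀ i ∈ w, i < 8) (x : ℕ) (hx : x < 240) :
    (∀ l ∈ D.expand w, l < 8) ∧ actW D.T 8 240 w x = actW reflTabsE8 8 240 (D.expand w) x ∧ actW D.T 8 240 w x < 240 := by
  induction w with
  | nil =>
    refine ⟨?_, rfl, hx⟩
    intro l hl
    simp [RefSub.expand] at hl
  | cons i w ih =>
    have hi : i < 8 := hw i (List.mem_cons_self)
    obtain ⟨h1, h2, h3⟩ := ih (fun j hj => hw j (List.mem_cons_of_mem _ hj))
    obtain ⟨hg1, hg2⟩ := D.hgens i hi
    refine ⟨?_, ?_, ?_⟩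
    · intro l hl
      rw [BASE_expand_cons, List.mem_append] at hl
      rcases hl with hl | hl
      · exact hg1 l hl
      · exact h1 l hl
    · rw [BASE_actW_cons, BASE_expand_cons, actW_append, ← h2, hg2 _ h3]
    · rw [BASE_actW_cons]
      exact (D.hnegT i hi _ h3).1

/-- (BASE2) -/
theorem phi_wd (g : D.cox.Group) (x : ℕ) (hx : x < 240) :
    D.phi g x = actW reflTabsE8 8 240 (D.wd g) x ∧ D.phi g x < 240 := by
  have h0 : D.phi g x = actW D.T 8 240 (D.wordOf g) x := by
    conv_lhs => rw [← D.gp_wordOf g]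
    unfold RefSub.phi
    rw [phi_gp]
  obtain ⟨-, h2, h3⟩ := phi_expand D (D.wordOf g) (D.wordOf_lt g) x hx
  rw [h0]
  exact ⟨h2, h3⟩

/-- (BASE3) -/
theorem wd_lt (g : D.cox.Group) : ∀ l ∈ D.wd g, l < 8 :=
  (phi_expand D (D.wordOf g) (D.wordOf_lt g) 0 (by norm_num)).1

/-- (BASE4) -/
theorem ell_eq (g : D.cox.Group) : D.ell g = ellW D.psi (D.wd g) := by
  unfold RefSub.ell ellW
  congr 1
  apply List.filter_congr
  intro r hr
  have hr' : r < 240 := List.mem_range.mp hr
  rw [(phi_wd D g r hr').1]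

/-- (BASE5) faithfulness -/
theorem wd_inj (g g' : D.cox.Group)
    (h : ∀ x < 240, actW reflTabsE8 8 240 (D.wd g) x = actW reflTabsE8 8 240 (D.wd g') x) : g = g' := by
  apply D.phi_injective
  apply Equiv.ext
  intro x
  by_cases hx : x < 240
  · rw [(phi_wd D g x hx).1, (phi_wd D g' x hx).1, h x hx]
  · have e : ∀ k : D.cox.Group, D.phi k x = x := by
      intro k
      have h0 : D.phi k x = actW D.T 8 240 (D.wordOf k) x := by
        conv_lhs => rw [← D.gp_wordOf k]
        unfold RefSub.phi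
        rw [phi_gp]
      rw [h0, BASE_actW_ge _ _ _ _ _ hx]
    rw [e g, e g']

/-- the words in the generators preserve the subsystem -/
theorem BASE_psi_actW (w : List ℕ) (hw : ∀ i ∈ w, i < 8) (x : ℕ) (hx : x < 240) :
    D.psi.testBit (actW D.T 8 240 w x) = D.psi.testBit x := by
  induction w with
  | nil => rfl
  | cons i w ih =>
    have hi : i < 8 := hw i (List.mem_cons_self)
    have hw' : ∀ j ∈ w, j < 8 := fun j hj => hw j (List.mem_cons_of_mem _ hj)
    rw [BASE_actW_cons, D.hpsi i hi _ (phi_expand D w hw' x hx).2.2, ih hw']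

/-- (BASE6) the elements preserve `Ψ` -/
theorem psi_wd (g : D.cox.Group) (x : ℕ) (hx : x < 240) :
    D.psi.testBit (actW reflTabsE8 8 240 (D.wd g) x) = D.psi.testBit x := by
  have h := (phi_expand D (D.wordOf g) (D.wordOf_lt g) x hx).2.1
  unfold RefSub.wd
  rw [← h]
  exact BASE_psi_actW D _ (D.wordOf_lt g) x hx

end Cfsg.Agent.Helper29.E8Inv
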