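import Cfsg.Agent.Helper18.E8Odd.RefSub

/-!
helper18's farm E8INV-3 (S4281), piece (STEP): the length with respect to `Ψ ∩ Φ⁺` grows by one under right multiplication
by a generator at a positive image of its simple root.
-/

set_option autoImplicit false
set_option maxRecDepth 100000

namespace Cfsg.Agent.Helper29.E8Inv

open Cfsg Cfsg.Lie Cfsg.Agent.Helper18 Cfsg.Agent.Helper18.E8Odd Cfsg.Agent.Helper19.Cox Cfsg.Agent.Helper19.Poinc

variable (D : RefSub)

theorem STEP_actW_cons (T : List ℕ) (n d i : ℕ) (w : List ℕ) (x : ℕ) :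
    actW T n d (i :: w) x = tact T n d i (actW T n d w x) := rfl

/-- the words in the generators commute with `x ↦ 239 - x` and preserve `[0, 240)` -/
theorem STEP_actW_neg (w : List ℕ) (hw : ∀ i ∈ w, i < 8) (x : ℕ) (hx : x < 240) :
    actW D.T 8 240 w x < 240 ∧ actW D.T 8 240 w (239 - x) = 239 - actW D.T 8 240 w x := by
  induction w with
  | nil => exact ⟨hx, rfl⟩
  | cons i w ih =>
    have hi : i < 8 := hw i (List.mem_cons_self)
    obtain ⟨h1, h2⟩ := ih (fun j hj => hw j (List.mem_cons_of_mem _ hj))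
    obtain ⟨h3, h4⟩ := D.hnegT i hi _ h1
    refine ⟨?_, ?_⟩
    · rw [STEP_actW_cons]; exact h3
    · rw [STEP_actW_cons, STEP_actW_cons, h2, h4]

theorem STEP_phi_eq (g : D.cox.Group) (x : ℕ) : D.phi g x = actW D.T 8 240 (D.wordOf g) x := by
  conv_lhs => rw [← D.gp_wordOf g]
  unfold RefSub.phi
  rw [phi_gp]

theorem STEP_phi_neg (g : D.cox.Group) (x : ℕ) (hx : x < 240) :
    D.phi g x < 240 ∧ D.phi g (239 - x) = 239 - D.phi g x := by
  rw [STEP_phi_eq, STEP_phi_eq]
  exact STEP_actW_neg D _ (D.wordOf_lt g) x hx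

/-- the length as the cardinality of a `Finset` -/
theorem STEP_ell_card (g : D.cox.Group) :
    D.ell g = ((Finset.range 240).filter fun r => 120 ≤ r ∧ D.psi.testBit r = true ∧ D.phi g r < 120).card := by
  unfold RefSub.ell
  rw [← List.toFinset_card_of_nodup ((List.nodup_range).filter _)]
  congr 1
  ext r
  simp only [List.mem_toFinset, List.mem_filter, List.mem_range, Finset.mem_filter, Finset.mem_range,
    Bool.and_eq_true, decide_eq_true_eq]
  tauto

/-- (STEP) the length grows by one under right multiplication by a generator at a positive image of its simple root. -/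
theorem ell_mul_sg (w : D.cox.Group) (i : ℕ) (hi : i < 8)
    (hpos : posB 120 240 (D.phi w (D.alphas.getD i 0)) = true) : D.ell (w * sg D.cox i) = D.ell w + 1 := by
  classical
  set a : ℕ := D.alphas.getD i 0 with ha
  obtain ⟨ha120, ha240, hapsi, hsa, hsimp⟩ := D.hsimple i hi
  rw [← ha] at ha120 ha240 hapsi hsa hsimp
  have hinv : Function.Involutive (tact D.T 8 240 i) := tact_invol D.hI i
  have hphis : ∀ r, D.phi (w * sg D.cox i) r = D.phi w (tact D.T 8 240 i r) := by
    intro r
    rw [map_mul, Equiv.Perm.mul_apply]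
    unfold RefSub.phi
    rw [phi_sg]
  have hposa : 120 ≤ D.phi w a := by
    unfold posB at hpos
    simp only [Bool.and_eq_true, decide_eq_true_eq] at hpos
    exact hpos.1
  -- `s` maps `Ψ⁺ \ {a}` into itself
  have hF2 : ∀ r, r < 240 → 120 ≤ r → D.psi.testBit r = true → r ≠ a →
      tact D.T 8 240 i r < 240 ∧ 120 ≤ tact D.T 8 240 i r ∧ D.psi.testBit (tact D.T 8 240 i r) = true ∧
        tact D.T 8 240 i r ≠ a := by
    intro r hr h120 hpsi hne
    refine ⟨(D.hnegT i hi r hr).1, hsimp r hr h120 hpsi hne, ?_, ?_⟩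
    · rw [D.hpsi i hi r hr]; exact hpsi
    · intro h
      have : r = tact D.T 8 240 i a := by rw [← h, hinv r]
      rw [hsa] at this
      omega
  rw [STEP_ell_card, STEP_ell_card]
  set N' := (Finset.range 240).filter fun r => 120 ≤ r ∧ D.psi.testBit r = true ∧ D.phi (w * sg D.cox i) r < 120
    with hN'
  set N := (Finset.range 240).filter fun r => 120 ≤ r ∧ D.psi.testBit r = true ∧ D.phi w r < 120 with hN
  have haN' : a ∈ N' := by
    rw [hN', Finset.mem_filter, Finset.mem_range]
    refine ⟨ha240, ha120, hapsi, ?_⟩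
    rw [hphis, hsa, (STEP_phi_neg D w a ha240).2]
    omega
  have haN : a ∉ N := by
    rw [hN, Finset.mem_filter]
    intro h
    have := h.2.2.2
    omega
  have hcard : (N'.erase a).card = N.card := by
    apply Finset.card_nbij' (tact D.T 8 240 i) (tact D.T 8 240 i)
    · intro r hr
      rw [Finset.mem_coe, Finset.mem_erase, hN', Finset.mem_filter, Finset.mem_range] at hr
      obtain ⟨hne, hr240, h120, hpsi, hlt⟩ := hr
      obtain ⟨g1, g2, g3, -⟩ := hF2 r hr240 h120 hpsi hne
      rw [Finset.mem_coe, hN, Finset.mem_filter, Finset.mem_range]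
      refine ⟨g1, g2, g3, ?_⟩
      rw [← hphis]; exact hlt
    · intro r hr
      rw [Finset.mem_coe, hN, Finset.mem_filter, Finset.mem_range] at hr
      obtain ⟨hr240, h120, hpsi, hlt⟩ := hr
      have hne : r ≠ a := by
        rintro rfl
        omega
      obtain ⟨g1, g2, g3, g4⟩ := hF2 r hr240 h120 hpsi hne
      rw [Finset.mem_coe, Finset.mem_erase, hN', Finset.mem_filter, Finset.mem_range]
      refine ⟨g4, g1, g2, g3, ?_⟩
      rw [hphis, hinv r]; exact hlt
    · intro r _; exact hinv r
    · intro r _; exact hinv r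
  rw [← hcard, Finset.card_erase_of_mem haN']
  have : 0 < N'.card := Finset.card_pos.mpr ⟨a, haN'⟩
  omega

end Cfsg.Agent.Helper29.E8Inv
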