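import Cfsg.Agent.Helper6.BN6

/-!
# (MAX) for helper19's S5751 skeleton (helper29): a maximal parabolic subgroup `P_J`, `J = S \ {s₀}`, of a (B,N)-pair
is a coatom, is moved by `s₀`, and is core-free if `G` is simple
-/

set_option autoImplicit false

namespace Cfsg.Agent.Helper29.E8C

open Cfsg

variable {G : Type*} [Group G]

theorem MAX_not_mem (P : Cfsg.BNPair G) (s₀ : G) (hs₀ : s₀ ∈ P.S) :
    s₀ ∉ P.parabolic (P.S \ {s₀}) := by
  intro h
  have := Cfsg.Agent.Helper6.S_mem_parabolic (P := P) (J := P.S \ {s₀}) Set.sdiff_subset hs₀ h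
  exact this.2 rfl

theorem MAX_ne_top (P : Cfsg.BNPair G) (s₀ : G) (hs₀ : s₀ ∈ P.S) :
    P.parabolic (P.S \ {s₀}) ≠ ⊤ := by
  intro h
  apply MAX_not_mem P s₀ hs₀
  rw [h]
  trivial

/-- (MAX) -/
theorem max_parabolic (P : Cfsg.BNPair G) (s₀ : G) (hs₀ : s₀ ∈ P.S) :
    IsCoatom (P.parabolic (P.S \ {s₀})) ∧
      (P.parabolic (P.S \ {s₀})).map (MulAut.conj s₀).toMonoidHom ≠ P.parabolic (P.S \ {s₀}) ∧
      (IsSimpleGroup G → (P.parabolic (P.S \ {s₀})).normalCore = ⊥) := by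
  have hJ : P.S \ {s₀} ⊆ P.S := Set.sdiff_subset
  refine ⟨⟨MAX_ne_top P s₀ hs₀, ?_⟩, ?_, ?_⟩
  · intro M hM
    have hBM : P.B ≤ M := (Cfsg.Agent.Helper6.B_le_parabolic P _).trans hM.le
    have hMeq := Cfsg.Agent.Helper6.overgroup_eq_parabolic (P := P) M hBM
    set K : Set G := {s | s ∈ P.S ∧ s ∈ M} with hK
    have hKS : K ⊆ P.S := fun s hs => hs.1
    have hle : P.parabolic (P.S \ {s₀}) ≤ P.parabolic K := by
      rw [← hMeq]; exact hM.le
    have hJK : P.S \ {s₀} ⊆ K := (Cfsg.Agent.Helper6.parabolic_le_iff hJ hKS).1 hle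
    have hs₀K : s₀ ∈ K := by
      by_contra hn
      have hKJ : K ⊆ P.S \ {s₀} := by
        intro s hs
        refine ⟨hKS hs, ?_⟩
        rintro (rfl : s = s₀)
        exact hn hs
      have : K = P.S \ {s₀} := Set.Subset.antisymm hKJ hJK
      apply hM.ne
      rw [hMeq, this]
    have hKeq : K = P.S := by
      apply Set.Subset.antisymm hKS
      intro s hs
      by_cases h : s = s₀
      · rw [h]; exact hs₀K
      · exact hJK ⟨hs, h⟩
    rw [hMeq, hKeq]
    exact Cfsg.Agent.Helper6.parabolic_S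
  · intro h
    apply MAX_not_mem P s₀ hs₀
    exact Cfsg.Agent.Helper6.mem_of_conj_le (P := P) (J := P.S \ {s₀})
      (Cfsg.Agent.Helper6.B_le_parabolic P _) s₀ h.le
  · intro hsimp
    rcases (Subgroup.Normal.eq_bot_or_eq_top
      (Subgroup.normalCore_normal (P.parabolic (P.S \ {s₀})))) with h | h
    · exact h
    · exfalso
      apply MAX_ne_top P s₀ hs₀
      rw [eq_top_iff, ← h]
      exact Subgroup.normalCore_le _

end Cfsg.Agent.Helper29.E8C
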