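import Cfsg.Agent.Helper19.SpBN.Basic

/-!
# `Sp_{2m}(K)`: the centre lies in the torus (piece (P8) of helper19's S2545)
-/

set_option autoImplicit false

namespace Cfsg.Agent.Helper29.SpBNP8

open Matrix Cfsg.Agent.Helper96.StN Cfsg.Agent.Helper96.StC Cfsg.Agent.Helper29.StCM
open Cfsg Cfsg.Agent.Helper6 Cfsg.Agent.Helper18 Cfsg.Agent.Helper19.Cox Cfsg.Agent.Helper19.Poinc
  Cfsg.Agent.Helper19.Stein Cfsg.Agent.Helper19.StBN
open Cfsg.Agent.Helper19.SpBN

universe u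

variable {K : Type u} [Field K] {m : ℕ}

/-- a central element of `Sp_{2m}(K)` is a diagonal matrix -/
theorem central_diag {z : SpG K m} (hz : z ∈ Subgroup.center (SpG K m))
    (r k : Fin m ⊕ Fin m) (hrk : r ≠ k) : z.1 r k = 0 := by
  have h1 : z * XS K m k (bar k) 1 = XS K m k (bar k) 1 * z :=
    (Subgroup.mem_center_iff.mp hz _).symm
  have h2 := congrArg Subtype.val h1
  rw [Submonoid.coe_mul, Submonoid.coe_mul, XS_coe (bar_ne k).symm] at h2
  exact Cfsg.Agent.Helper68.StCN2a.col_support h2 r hrk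

/-- a diagonal element of `U` is trivial -/
theorem eq_one_of_diag {v : SpG K m} (hv : v ∈ U K m) (hd : ∀ r k, r ≠ k → v.1 r k = 0) :
    v = 1 := by
  apply Subtype.ext
  ext r k
  change v.1 r k = (1 : Matrix (Fin m ⊕ Fin m) (Fin m ⊕ Fin m) K) r k
  by_cases hrk : r = k
  · subst hrk
    rw [(U_unitri hv).2 r, Matrix.one_apply_eq]
  · rw [hd r k hrk, Matrix.one_apply_ne hrk]

theorem diag_mul_apply {A B : Matrix (Fin m ⊕ Fin m) (Fin m ⊕ Fin m) K}
    (hA : ∀ r k, r ≠ k → A r k = 0) (r k : Fin m ⊕ Fin m) : (A * B) r k = A r r * B r k := by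
  rw [Matrix.mul_apply]
  exact Finset.sum_eq_single r (fun l _ hl => by rw [hA r l hl.symm, zero_mul])
    (fun h => absurd (Finset.mem_univ r) h)

/-- (P8) the centre lies in the torus -/
theorem center_le_H (hM : MonoData (XS K m) reflPerm cw) [Fintype K] :
    Subgroup.center (SpG K m) ≤ H K m := by
  intro z hz
  obtain ⟨u, hu, n, hn, u', hu', hzn⟩ :=
    Cfsg.Agent.Helper64.StCB.bruhat XS_spRel hM XS_closure z
  have hvU : u⁻¹ * u'⁻¹ ∈ U K m := mul_mem (inv_mem hu) (inv_mem hu')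
  have hnz : n = z * (u⁻¹ * u'⁻¹) := by
    have hc : u⁻¹ * z = z * u⁻¹ := Subgroup.mem_center_iff.mp hz u⁻¹
    calc n = u⁻¹ * (u * n * u') * u'⁻¹ := by group
      _ = u⁻¹ * z * u'⁻¹ := by rw [← hzn]
      _ = z * u⁻¹ * u'⁻¹ := by rw [hc]
      _ = z * (u⁻¹ * u'⁻¹) := by rw [mul_assoc]
  generalize u⁻¹ * u'⁻¹ = v at hvU hnz
  have hzd := central_diag hz
  have hnup : ∀ r k, rk k < rk r → n.1 r k = 0 := by
    intro r k hkr
    rw [hnz, Submonoid.coe_mul, diag_mul_apply hzd, (U_unitri hvU).1 r k hkr, mul_zero]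
  have hnH : n ∈ H K m :=
    Cfsg.Agent.Helper68.StCN2.mem_Hsub_of_upper XS_spRel hM (MonoidHom.id _) id_coe n hn hnup
  have hnd := H_diag hM hnH
  have hzi : z⁻¹ ∈ Subgroup.center (SpG K m) := inv_mem hz
  have hv1 : v = 1 := by
    apply eq_one_of_diag hvU
    intro r k hrk
    have hvz : v = z⁻¹ * n := by rw [hnz]; group
    rw [hvz, Submonoid.coe_mul, diag_mul_apply (central_diag hzi), hnd r k hrk, mul_zero]
  rw [hv1, mul_one] at hnz
  rw [← hnz]
  exact hnH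

end Cfsg.Agent.Helper29.SpBNP8
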