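import Cfsg.Agent.Helper29.E6Tor_ZEXP

/-!
helper29 for helper40's S2373 farm (#14814), piece (ZFIX): the Weyl group fixes the kernel of the torus
parametrisation of `E₆` pointwise.
-/

set_option autoImplicit false
set_option linter.unusedVariables false

namespace Cfsg.Agent.Helper29.E6Tor

open Cfsg Cfsg.Lie Cfsg.Agent.Helper18 Cfsg.Agent.Helper19.Cox Cfsg.Agent.Helper19.Poinc
  Cfsg.Agent.Helper80.Tor Cfsg.Agent.Helper36.TorD
open Polynomial

/-- a fundamental reflection fixes the kernel of the Cartan matrix pointwise -/
theorem ZFIX_refM (D : ChevalleyDatum) {G : Type*} [CommGroup G] (k : Fin D.rank → G)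
    (hk : zact (cartanSimple D) k = 1) (i : ℕ) : zact (refM D i) k = k := by
  funext m
  rw [zact_apply]
  have h1 : ∀ j : Fin D.rank, k j ^ refM D i j m =
      k j ^ (if j = m then (1 : ℤ) else 0) *
        (k j ^ (if m.val = i then D.cartan j.val (D.simple i) else 0))⁻¹ := by
    intro j
    rw [← zpow_neg, ← zpow_add]
    rfl
  rw [Finset.prod_congr rfl (fun j _ => h1 j), Finset.prod_mul_distrib, Finset.prod_inv_distrib]
  have h2 : ∏ j : Fin D.rank, k j ^ (if j = m then (1 : ℤ) else 0) = k m := by
    rw [Finset.prod_eq_single m]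
    · simp
    · intro j _ hj
      simp [hj]
    · intro h; exact absurd (Finset.mem_univ _) h
  rw [h2]
  by_cases hm : m.val = i
  · have h3 : ∏ j : Fin D.rank, k j ^ (if m.val = i then D.cartan j.val (D.simple i) else 0) =
        zact (cartanSimple D) k m := by
      rw [zact_apply]
      apply Finset.prod_congr rfl
      intro j _
      rw [if_pos hm, ← hm]
      rfl
    rw [h3, hk]
    simp
  · have h3 : ∏ j : Fin D.rank, k j ^ (if m.val = i then D.cartan j.val (D.simple i) else 0) = 1 := by
      apply Finset.prod_eq_one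
      intro j _
      rw [if_neg hm, zpow_zero]
    rw [h3]
    simp

/-- the Weyl group fixes the kernel of the Cartan matrix pointwise -/
theorem ZFIX_wordM (D : ChevalleyDatum) {G : Type*} [CommGroup G] (k : Fin D.rank → G)
    (hk : zact (cartanSimple D) k = 1) (w : List ℕ) : zact (wordM D w) k = k := by
  induction w with
  | nil =>
    show zact (1 : Matrix (Fin D.rank) (Fin D.rank) ℤ) k = k
    exact zact_one k
  | cons i w ih =>
    have h1 : wordM D (i :: w) = refM D i * wordM D w := by
      unfold wordM
      rw [List.map_cons, List.prod_cons]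
    rw [h1, zact_mul, ZFIX_refM D k hk i, ih]

/-- (ZFIX) the Weyl group fixes the kernel of the torus parametrisation pointwise -/
theorem ker_tau_fixed {K : Type*} [Field K] (k : Fin 6 → Kˣ) (hk : torusHom chevE6 K k = 1) (w : List ℕ) :
    zact (wordM chevE6 w) k = k :=
  ZFIX_wordM chevE6 k (ZEXP_zact k hk) w

end Cfsg.Agent.Helper29.E6Tor
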