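import Mathlib

/-!
# (COMM) for helper80's S2372/S2375 skeleton (helper29): a matrix commuting with `M`, `Φ_m(M) = 0`, `φ(m) = l`,
is zero or nonsingular; and the Krylov core lemma shared with (IRR)
-/

set_option autoImplicit false

namespace Cfsg.Agent.Helper29.Tor

open Polynomial

/-- Krylov core: if `y ≠ 0` is killed by `Φ(A)` for an irreducible `Φ` of degree `l`, then
`y, Ay, …, A^(l-1) y` are linearly independent. -/
theorem COMM_krylov_li {l : ℕ} (A : Matrix (Fin l) (Fin l) ℚ) (Φ : ℚ[X]) (hirr : Irreducible Φ)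
    (hdeg : Φ.natDegree = l) (y : Fin l → ℚ) (hy : y ≠ 0) (hΦy : (aeval A Φ).mulVec y = 0) :
    LinearIndependent ℚ (fun i : Fin l => (A ^ (i : ℕ)).mulVec y) := by
  rw [Fintype.linearIndependent_iff]
  intro g hg
  set p : ℚ[X] := ∑ i : Fin l, C (g i) * X ^ (i : ℕ) with hp
  have hpy : (aeval A p).mulVec y = 0 := by
    rw [hp, map_sum, Matrix.sum_mulVec]
    rw [← hg]
    refine Finset.sum_congr rfl fun i _ => ?_
    rw [map_mul, aeval_C, map_pow, aeval_X, Algebra.algebraMap_eq_smul_one, smul_mul_assoc, one_mul,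
      Matrix.smul_mulVec]
  have hpdeg : p.degree < l := Polynomial.degree_sum_fin_lt g
  have hp0 : p = 0 := by
    by_contra hne
    have hnd : ¬ Φ ∣ p := by
      intro hd
      apply hne
      apply Polynomial.eq_zero_of_dvd_of_degree_lt hd
      rw [Polynomial.degree_eq_natDegree hirr.ne_zero, hdeg]
      exact hpdeg
    have hcop : IsCoprime Φ p := (Irreducible.coprime_iff_not_dvd hirr).2 hnd
    obtain ⟨a, b, hab⟩ := hcop
    apply hy
    have h1 : (aeval A (a * Φ + b * p)).mulVec y = y := by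
      rw [hab, map_one, Matrix.one_mulVec]
    rw [map_add, map_mul, map_mul, Matrix.add_mulVec, ← Matrix.mulVec_mulVec, ← Matrix.mulVec_mulVec,
      hΦy, hpy, Matrix.mulVec_zero, Matrix.mulVec_zero, add_zero] at h1
    exact h1.symm
  intro i
  have hc : p.coeff (i : ℕ) = g i := by
    rw [hp, Polynomial.finsetSum_coeff]
    rw [Finset.sum_eq_single i]
    · rw [Polynomial.coeff_C_mul, Polynomial.coeff_X_pow, if_pos rfl, mul_one]
    · intro j _ hji
      rw [Polynomial.coeff_C_mul, Polynomial.coeff_X_pow, if_neg, mul_zero]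
      intro h
      exact hji (Fin.ext h.symm)
    · intro h
      exact absurd (Finset.mem_univ i) h
  rw [← hc, hp0, Polynomial.coeff_zero]

/-- Krylov core: a matrix `D` commuting with `A` that kills such a `y` is zero. -/
theorem COMM_krylov_zero {l : ℕ} (A D : Matrix (Fin l) (Fin l) ℚ) (Φ : ℚ[X]) (hirr : Irreducible Φ)
    (hdeg : Φ.natDegree = l) (y : Fin l → ℚ) (hy : y ≠ 0) (hΦy : (aeval A Φ).mulVec y = 0)
    (hc : Commute A D) (hDy : D.mulVec y = 0) : D = 0 := by
  have hli := COMM_krylov_li A Φ hirr hdeg y hy hΦy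
  have hcard : Fintype.card (Fin l) = Module.finrank ℚ (Fin l → ℚ) := by
    rw [Module.finrank_fin_fun, Fintype.card_fin]
  set b := basisOfLinearIndependentOfCardEqFinrank' _ hli hcard with hb
  have hbi : ∀ i, b i = (A ^ (i : ℕ)).mulVec y := by
    intro i
    rw [hb]
    exact congrFun (coe_basisOfLinearIndependentOfCardEqFinrank' _ hli hcard) i
  have hlin : D.mulVecLin = 0 := by
    apply b.ext
    intro i
    rw [hbi, Matrix.mulVecLin_apply, Matrix.mulVec_mulVec, LinearMap.zero_apply]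
    have hcp : Commute (A ^ (i : ℕ)) D := hc.pow_left _
    rw [← hcp.eq, ← Matrix.mulVec_mulVec, hDy, Matrix.mulVec_zero]
  have h1 : Matrix.toLin' D = 0 := by
    rw [Matrix.toLin'_apply']
    exact hlin
  have h2 : Matrix.toLin' D = Matrix.toLin' (0 : Matrix (Fin l) (Fin l) ℚ) := by
    rw [h1, map_zero]
  exact Matrix.toLin'.injective h2

/-- the base change of an integer matrix to `ℚ`, as a `ℤ`-algebra homomorphism -/
noncomputable def COMM_toQ (l : ℕ) : Matrix (Fin l) (Fin l) ℤ →ₐ[ℤ] Matrix (Fin l) (Fin l) ℚ :=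
  ((Int.castRingHom ℚ).mapMatrix).toIntAlgHom

theorem COMM_toQ_apply {l : ℕ} (E : Matrix (Fin l) (Fin l) ℤ) (i j : Fin l) :
    COMM_toQ l E i j = (E i j : ℚ) := rfl

theorem COMM_toQ_injective (l : ℕ) : Function.Injective (COMM_toQ l) := by
  intro E E' h
  ext i j
  have := congrFun (congrFun h i) j
  rw [COMM_toQ_apply, COMM_toQ_apply] at this
  exact_mod_cast this

/-- `Φ_m(M) = 0` over `ℤ` gives `Φ_m(M_ℚ) = 0` over `ℚ` -/
theorem COMM_aeval_toQ {l : ℕ} (M : Matrix (Fin l) (Fin l) ℤ) (p : ℤ[X]) :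
    aeval (COMM_toQ l M) (p.map (algebraMap ℤ ℚ)) = COMM_toQ l (aeval M p) := by
  rw [Polynomial.aeval_map_algebraMap, Polynomial.aeval_algHom_apply]

theorem COMM_cyclotomic_toQ {l m : ℕ} (M : Matrix (Fin l) (Fin l) ℤ) :
    aeval (COMM_toQ l M) (cyclotomic m ℚ) = COMM_toQ l (aeval M (cyclotomic m ℤ)) := by
  rw [← COMM_aeval_toQ, algebraMap_int_eq, Polynomial.map_cyclotomic_int]

/-- (COMM) a matrix commuting with `M`, `Φ_m(M) = 0`, `φ(m) = l`, is zero or nonsingular -/
theorem comm_zero_or_det_ne_zero {l m : ℕ} (hm : 0 < m) (hl : Nat.totient m = l)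
    (M E : Matrix (Fin l) (Fin l) ℤ) (hM : aeval M (cyclotomic m ℤ) = 0) (hc : Commute M E) :
    E = 0 ∨ E.det ≠ 0 := by
  by_contra hcon
  rw [not_or, not_not] at hcon
  obtain ⟨hE0, hdet⟩ := hcon
  apply hE0
  apply COMM_toQ_injective l
  rw [map_zero]
  have hdetQ : (COMM_toQ l E).det = 0 := by
    have : COMM_toQ l E = (Int.castRingHom ℚ).mapMatrix E := rfl
    rw [this, ← RingHom.map_det, hdet, map_zero]
  obtain ⟨y, hy, hEy⟩ := Matrix.exists_mulVec_eq_zero_iff.2 hdetQ
  have hMQ : aeval (COMM_toQ l M) (cyclotomic m ℚ) = 0 := by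
    rw [COMM_cyclotomic_toQ, hM, map_zero]
  refine COMM_krylov_zero (COMM_toQ l M) (COMM_toQ l E) (cyclotomic m ℚ) (cyclotomic.irreducible_rat hm)
    (by rw [Polynomial.natDegree_cyclotomic, hl]) y hy (by rw [hMQ, Matrix.zero_mulVec]) ?_ hEy
  exact hc.map (COMM_toQ l)

end Cfsg.Agent.Helper29.Tor
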