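import Mathlib
import Cfsg.Agent.Helper29.TorCOMM

/-!
# (IRR) for helper80's S2372/S2375 skeleton (helper29): an integer matrix of finite order prime to `r` with an
eigenvector mod `r` whose eigenvalue has order `m`, `φ(m) = l`, is killed by `Φ_m`
-/

set_option autoImplicit false

namespace Cfsg.Agent.Helper29.Tor

open Polynomial Matrix

/-- transposes and polynomial evaluation -/
theorem IRR_aeval_transpose {R : Type*} [CommRing R] {n : Type*} [Fintype n] [DecidableEq n]
    (A : Matrix n n R) (p : R[X]) : aeval Aᵀ p = (aeval A p)ᵀ := by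
  induction p using Polynomial.induction_on' with
  | add p q hp hq => rw [map_add, map_add, hp, hq, Matrix.transpose_add]
  | monomial k a =>
    rw [aeval_monomial, aeval_monomial, Algebra.algebraMap_eq_smul_one,
      smul_mul_assoc, one_mul, smul_mul_assoc, one_mul, Matrix.transpose_smul, Matrix.transpose_pow]

/-- the reduction of an integer matrix mod `r`, as a `ℤ`-algebra homomorphism -/
noncomputable def IRR_toZ (l r : ℕ) : Matrix (Fin l) (Fin l) ℤ →ₐ[ℤ] Matrix (Fin l) (Fin l) (ZMod r) :=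
  ((Int.castRingHom (ZMod r)).mapMatrix).toIntAlgHom

theorem IRR_aeval_toZ {l r : ℕ} (A : Matrix (Fin l) (Fin l) ℤ) (p : ℤ[X]) :
    aeval (IRR_toZ l r A) (p.map (algebraMap ℤ (ZMod r))) = IRR_toZ l r (aeval A p) := by
  rw [Polynomial.aeval_map_algebraMap, Polynomial.aeval_algHom_apply]

theorem IRR_pow_mulVec {l r : ℕ} (B : Matrix (Fin l) (Fin l) (ZMod r)) (v : Fin l → ZMod r) (lam : ZMod r)
    (h : B.mulVec v = lam • v) (k : ℕ) : (B ^ k).mulVec v = lam ^ k • v := by
  induction k with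
  | zero => rw [pow_zero, pow_zero, Matrix.one_mulVec, one_smul]
  | succ k ih =>
    rw [pow_succ, ← Matrix.mulVec_mulVec, h, Matrix.mulVec_smul, ih, smul_smul, pow_succ, mul_comm]

theorem IRR_eigen {l r : ℕ} (B : Matrix (Fin l) (Fin l) (ZMod r)) (v : Fin l → ZMod r) (lam : ZMod r)
    (h : B.mulVec v = lam • v) (p : (ZMod r)[X]) : (aeval B p).mulVec v = p.eval lam • v := by
  induction p using Polynomial.induction_on' with
  | add p q hp hq => rw [map_add, Matrix.add_mulVec, hp, hq, eval_add, add_smul]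
  | monomial k a =>
    rw [aeval_monomial, Algebra.algebraMap_eq_smul_one, smul_mul_assoc, one_mul, Matrix.smul_mulVec,
      IRR_pow_mulVec B v lam h, eval_monomial, smul_smul]

/-- (IRR) -/
theorem aeval_cyclotomic_eq_zero_of_eigen {l m r : ℕ} [Fact r.Prime] (hm : 0 < m)
    (hl : Nat.totient m = l) (M : Matrix (Fin l) (Fin l) ℤ) (N : ℕ) (hN : 0 < N) (hMN : M ^ N = 1)
    (hrN : ¬ r ∣ N) (v : Fin l → ZMod r) (hv : v ≠ 0) (lam : ZMod r) (hlam : orderOf lam = m)
    (heig : Matrix.vecMul v (M.map (Int.cast : ℤ → ZMod r)) = lam • v) :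
    aeval M (cyclotomic m ℤ) = 0 := by
  set A : Matrix (Fin l) (Fin l) ℤ := Mᵀ with hA
  have hAN : A ^ N = 1 := by rw [hA, ← Matrix.transpose_pow, hMN, Matrix.transpose_one]
  set Ab := IRR_toZ l r A with hAb
  have hAbv : Ab.mulVec v = lam • v := by
    have : Ab = (M.map (Int.cast : ℤ → ZMod r))ᵀ := rfl
    rw [this, Matrix.mulVec_transpose, heig]
  have hAbN : Ab ^ N = 1 := by rw [hAb, ← map_pow, hAN, map_one]
  have hlamN : lam ^ N = 1 := by
    have h1 := IRR_pow_mulVec Ab v lam hAbv N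
    rw [hAbN, Matrix.one_mulVec] at h1
    by_contra hne
    apply hv
    have h2 : (lam ^ N - 1) • v = 0 := by rw [sub_smul, one_smul, ← h1, sub_self]
    rcases smul_eq_zero.1 h2 with h | h
    · exact absurd (sub_eq_zero.1 h) hne
    · exact h
  have hmN : m ∣ N := by rw [← hlam]; exact orderOf_dvd_of_pow_eq_one hlamN
  obtain ⟨c, hc⟩ : cyclotomic m ℤ ∣ X ^ N - 1 := by
    rw [← prod_cyclotomic_eq_X_pow_sub_one hN ℤ]
    exact Finset.dvd_prod_of_mem _ (Nat.mem_divisors.2 ⟨hmN, hN.ne'⟩)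
  have hprod : aeval A (cyclotomic m ℤ) * aeval A c = 0 := by
    rw [← map_mul, ← hc, map_sub, map_pow, aeval_X, map_one, hAN, sub_self]
  have hcbar : (c.map (algebraMap ℤ (ZMod r))).eval lam ≠ 0 := by
    have hsep : (X ^ N - C (1 : ZMod r)).Separable := by
      refine separable_X_pow_sub_C 1 ?_ one_ne_zero
      rw [Ne, ZMod.natCast_eq_zero_iff]
      exact hrN
    have hfac : cyclotomic m (ZMod r) * c.map (algebraMap ℤ (ZMod r)) = X ^ N - C 1 := by
      rw [algebraMap_int_eq, ← map_cyclotomic_int m (ZMod r), ← Polynomial.map_mul, ← hc]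
      simp
    rw [← hfac] at hsep
    obtain ⟨a, b, hab⟩ := hsep.isCoprime
    have hroot : (cyclotomic m (ZMod r)).eval lam = 0 := by
      have hprim : IsPrimitiveRoot lam m := by rw [← hlam]; exact IsPrimitiveRoot.orderOf lam
      exact hprim.isRoot_cyclotomic hm
    intro h0
    have h1 := congrArg (Polynomial.eval lam) hab
    rw [eval_add, eval_mul, eval_mul, hroot, h0, mul_zero, mul_zero, add_zero, eval_one] at h1
    exact zero_ne_one h1
  have hcA : aeval A c ≠ 0 := by
    intro h0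
    have h1 : aeval Ab (c.map (algebraMap ℤ (ZMod r))) = IRR_toZ l r (aeval A c) := IRR_aeval_toZ A c
    rw [h0, map_zero] at h1
    have h2 := IRR_eigen Ab v lam hAbv (c.map (algebraMap ℤ (ZMod r)))
    rw [h1, Matrix.zero_mulVec] at h2
    rcases smul_eq_zero.1 h2.symm with h | h
    · exact hcbar h
    · exact hv h
  set AQ := COMM_toQ l A with hAQ
  have hcQ : COMM_toQ l (aeval A c) ≠ 0 := fun h => hcA (COMM_toQ_injective l (by rw [h, map_zero]))
  obtain ⟨j, hj⟩ : ∃ j, (COMM_toQ l (aeval A c)).mulVec (Pi.single j 1) ≠ 0 := by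
    by_contra hcon
    rw [not_exists] at hcon
    apply hcQ
    ext i j
    have h1 := congrFun (not_not.1 (hcon j)) i
    rw [Matrix.mulVec_single_one] at h1
    exact h1
  set y := (COMM_toQ l (aeval A c)).mulVec (Pi.single j 1) with hy
  have hΦy : (aeval AQ (cyclotomic m ℚ)).mulVec y = 0 := by
    rw [hAQ, COMM_cyclotomic_toQ, hy, Matrix.mulVec_mulVec, ← map_mul, hprod, map_zero, Matrix.zero_mulVec]
  have hcomm : Commute AQ (aeval AQ (cyclotomic m ℚ)) := by
    have h1 := (Polynomial.commute_X (cyclotomic m ℚ)).map (aeval AQ)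
    rwa [aeval_X] at h1
  have hD : aeval AQ (cyclotomic m ℚ) = 0 :=
    COMM_krylov_zero AQ _ (cyclotomic m ℚ) (cyclotomic.irreducible_rat hm)
      (by rw [natDegree_cyclotomic, hl]) y hj hΦy hcomm hΦy
  rw [hAQ, COMM_cyclotomic_toQ] at hD
  have hA0 : aeval A (cyclotomic m ℤ) = 0 := COMM_toQ_injective l (by rw [hD, map_zero])
  have hfin : aeval M (cyclotomic m ℤ) = (aeval A (cyclotomic m ℤ))ᵀ := by
    rw [← IRR_aeval_transpose, hA, Matrix.transpose_transpose]
  rw [hfin, hA0, Matrix.transpose_zero]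

end Cfsg.Agent.Helper29.Tor
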