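import Cfsg.Agent.Helper29.BenderB
import Cfsg.Agent.Helper31.BenderPair
import Cfsg.Agent.Helper31.BGTrans
import Cfsg.Agent.Helper22.Layer
import Cfsg.Agent.Helper71.Fitting
import Cfsg.Prelude.Def_OddOrder

/-!
# Bender's uniqueness lemma for maximal subgroups whose Fitting subgroup involves two primes
(helper29)

`G` minimal simple, `H` maximal, `F = F(H)` with `|π(F)| ≥ 2`, `Z(F) ≤ M ≤ F` and no nontrivial
`M`-invariant `π(F)'`-subgroups: then `H` is the only maximal subgroup containing `M`.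
-/

set_option autoImplicit false

namespace Cfsg.Agent.Helper29.Bender

open Cfsg

variable {G : Type*} [Group G]

theorem isPGroup_Os (H : Subgroup G) (s : ℕ) : IsPGroup s ↥(Os H s) :=
  (Cfsg.Agent.Lib.isPGroup_pCore (G := ↥H) s).map H.subtype

/-- Lemma P, stand-alone form. -/
theorem Zs_le_centralizer_of_isPGroup' [Finite G] (H : Subgroup G) {p s : ℕ}
    [hpp : Fact p.Prime] [hsp : Fact s.Prime]
    (hN : Subgroup.normalizer ((Zs H p : Subgroup G) : Set G) = H) (hps : p ≠ s)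
    {P₁ : Subgroup G} (hP₁ : IsPGroup p ↥P₁)
    (hZp : Zs H p ≤ Subgroup.normalizer (P₁ : Set G))
    (hZs : Zs H s ≤ Subgroup.normalizer (P₁ : Set G)) :
    Zs H s ≤ Subgroup.centralizer (P₁ : Set G) := by
  have hQ : (Nat.card ↥(Zs H s)).Coprime p := by
    obtain ⟨k, hk⟩ := IsPGroup.iff_card.mp (isPGroup_Zs H s)
    rw [hk]
    exact Nat.Coprime.pow_left k ((Nat.coprime_primes hsp.out hpp.out).mpr hps.symm)
  have hPQ : Zs H p ≤ Subgroup.centralizer ((Zs H s : Subgroup G) : Set G) :=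
    (Zs_le_centralizer H p).trans
      (Subgroup.centralizer_le (by exact_mod_cast Zs_le_fittingOf H s))
  have hdisj : Zs H s ⊓ P₁ = ⊥ :=
    disjoint_iff.mp (IsPGroup.disjoint_of_ne s p hps.symm _ _ (isPGroup_Zs H s) hP₁)
  refine Cfsg.Agent.S0028.result p (Zs H p) (Zs H s) P₁ (isPGroup_Zs H p) hQ hP₁ hPQ hZp hZs ?_
  intro u hu
  obtain ⟨hu1, hu2⟩ := Subgroup.mem_inf.mp hu
  have huH : u ∈ H := by
    rw [← hN]
    exact Subgroup.centralizer_le_normalizer _ hu2
  have huN := le_normalizer_Zs H s huH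
  rw [Subgroup.mem_centralizer_iff]
  intro a ha
  have hc : a * u * a⁻¹ * u⁻¹ ∈ Zs H s ⊓ P₁ := by
    constructor
    · have h1 : u * a⁻¹ * u⁻¹ ∈ Zs H s :=
        (Subgroup.mem_normalizer_iff.mp huN a⁻¹).mp ((Zs H s).inv_mem ha)
      have e : a * u * a⁻¹ * u⁻¹ = a * (u * a⁻¹ * u⁻¹) := by group
      rw [e]
      exact (Zs H s).mul_mem ha h1
    · have h1 : a * u * a⁻¹ ∈ P₁ := (Subgroup.mem_normalizer_iff.mp (hZs ha) u).mp hu1
      exact P₁.mul_mem h1 (P₁.inv_mem hu1)
  rw [hdisj, Subgroup.mem_bot] at hc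
  calc a * u = (a * u * a⁻¹ * u⁻¹) * (u * a) := by group
    _ = u * a := by rw [hc, one_mul]

section simple

variable [Finite G] [IsSimpleGroup G]

theorem normalizer_Zs_eq_of_isCoatom {A : Subgroup G} (hA : IsCoatom A) {s : ℕ} [Fact s.Prime]
    (hs : s ∣ Nat.card ↥(fittingOf A)) :
    Subgroup.normalizer ((Zs A s : Subgroup G) : Set G) = A :=
  Cfsg.Agent.Helper31.normalizer_eq_of_isCoatom hA ((Zs_le_fittingOf A s).trans (fittingOf_le A))
    (Zs_ne_bot A hs) (le_normalizer_Zs A s)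

/-- `Z_q(A)` centralizes `O_p(B)` whenever `Z_p(A), Z_q(A) ≤ B` (`p ≠ q`). -/
theorem Zs_le_centralizer_Os {A B : Subgroup G} (hA : IsCoatom A) {p q : ℕ} [Fact p.Prime]
    [Fact q.Prime] (hp : p ∣ Nat.card ↥(fittingOf A)) (hpq : p ≠ q) (hZp : Zs A p ≤ B)
    (hZq : Zs A q ≤ B) : Zs A q ≤ Subgroup.centralizer ((Os B p : Subgroup G) : Set G) :=
  Zs_le_centralizer_of_isPGroup' A (normalizer_Zs_eq_of_isCoatom hA hp) hpq (isPGroup_Os B p)
    (hZp.trans (le_normalizer_Os B p)) (hZq.trans (le_normalizer_Os B p))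

/-- `O_p(B) ≤ A` whenever `Z_p(A), Z_q(A) ≤ B` (`p ≠ q` both dividing `|F(A)|`). -/
theorem Os_le_of_isCoatom {A B : Subgroup G} (hA : IsCoatom A) {p q : ℕ} [Fact p.Prime]
    [Fact q.Prime] (hp : p ∣ Nat.card ↥(fittingOf A)) (hq : q ∣ Nat.card ↥(fittingOf A))
    (hpq : p ≠ q) (hZp : Zs A p ≤ B) (hZq : Zs A q ≤ B) : Os B p ≤ A := by
  intro x hx
  rw [← normalizer_Zs_eq_of_isCoatom hA hq]
  apply Subgroup.centralizer_le_normalizer
  rw [Subgroup.mem_centralizer_iff]
  intro z hz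
  exact ((Subgroup.mem_centralizer_iff.mp (Zs_le_centralizer_Os hA hp hpq hZp hZq hz)) x hx).symm

end simple

theorem fittingOf_le_of_Os_le [Finite G] {X T : Subgroup G}
    (h : ∀ r : ℕ, r.Prime → Os X r ≤ T) : fittingOf X ≤ T := by
  have h1 : fittingSubgroup ↥X ≤ Cfsg.Agent.Helper71.pCoreJoin ↥X :=
    Cfsg.Agent.Helper71.fittingSubgroup_le_pCoreJoin
  refine (Subgroup.map_mono h1).trans ?_
  unfold Cfsg.Agent.Helper71.pCoreJoin
  rw [Subgroup.map_iSup]
  exact iSup_le fun r => h r (Nat.prime_of_mem_primeFactors r.2)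

theorem FsG_eq_fittingOf_of_isSolvable {X : Subgroup G} (hX : Group.IsSolvable ↥X) :
    (generalizedFittingSubgroup ↥X).map X.subtype = fittingOf X := by
  have h1 : layer ↥X = ⊥ :=
    Cfsg.Agent.Helper22.layer_eq_bot_of_isSolvable
      (Group.isSolvable_of_isSolvable_injective (Subgroup.subtype_injective _))
  unfold generalizedFittingSubgroup fittingOf
  rw [h1, bot_sup_eq]

/-- **Bender's uniqueness lemma.** -/
theorem unique_coatom_of_center_le [Finite G] (hG : IsMinSimpleOddOrder G) (H : Subgroup G)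
    (hH : IsCoatom H) (hF2 : 2 ≤ (Nat.card ↥(fittingOf H)).primeFactors.card)
    (M : Subgroup G) (hM : M ≤ fittingOf H)
    (hZM : fittingOf H ⊓ Subgroup.centralizer ((fittingOf H : Subgroup G) : Set G) ≤ M)
    (hinv : ∀ Y ∈ invSubgroups ⊤ M (primesNotDvd (Nat.card ↥(fittingOf H))), Y = ⊥) :
    ∀ L : Subgroup G, IsCoatom L → M ≤ L → L = H := by
  classical
  obtain ⟨-, hsimple, -, hsolv⟩ := hG
  haveI := hsimple
  intro L hL hML
  by_contra hne
  have hHsolv : Group.IsSolvable ↥H := hsolv H hH.1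
  have hLsolv : Group.IsSolvable ↥L := hsolv L hL.1
  have hZle : ∀ s : ℕ, Zs H s ≤ L := fun s => (inf_le_left.trans hZM).trans hML
  -- Step 1: `O_r(L) = 1` for `r ∤ |F|`
  have hK : piCoreOf (primesNotDvd (Nat.card ↥(fittingOf H))) L = ⊥ :=
    hinv _ ⟨le_top, Cfsg.Agent.Helper31.piCoreOf_primes _ L,
      hML.trans (Cfsg.Agent.Helper31.le_normalizer_piCoreOf _ L)⟩
  have hOr : ∀ r : ℕ, r.Prime → ¬ r ∣ Nat.card ↥(fittingOf H) → pCore r ↥L = ⊥ := by
    intro r hr hrF
    have h1 : Os L r ≤ piCoreOf (primesNotDvd (Nat.card ↥(fittingOf H))) L :=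
      Cfsg.Agent.Helper31.le_piCoreOf_of_normal (Subgroup.map_subtype_le _)
        (le_normalizer_Os L r)
        (Cfsg.Agent.Helper31.primesNotDvd_of_isPGroup hr hrF (isPGroup_Os L r))
    rw [hK, le_bot_iff] at h1
    exact (Subgroup.map_eq_bot_iff_of_injective _ L.subtype_injective).mp h1
  -- a second prime
  have hother : ∀ p : ℕ, ∃ q : ℕ, q.Prime ∧ q ∣ Nat.card ↥(fittingOf H) ∧ q ≠ p := by
    intro p
    obtain ⟨q, hqmem, hqp⟩ := Finset.exists_mem_ne (lt_of_lt_of_le one_lt_two hF2) p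
    exact ⟨q, Nat.prime_of_mem_primeFactors hqmem, Nat.dvd_of_mem_primeFactors hqmem, hqp⟩
  -- Step 3: `O_p(L) ≠ 1` for `p ∣ |F|`
  have hOp : ∀ p : ℕ, p.Prime → p ∣ Nat.card ↥(fittingOf H) → pCore p ↥L ≠ ⊥ := by
    intro p hp hpF hbot
    haveI : Fact p.Prime := ⟨hp⟩
    apply Zs_ne_bot H hpF
    rw [eq_bot_iff]
    intro z hz
    have hzL : z ∈ L := hZle p hz
    have hcent : (⟨z, hzL⟩ : ↥L) ∈
        Subgroup.centralizer ((fittingSubgroup ↥L : Subgroup ↥L) : Set ↥L) := by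
      have h5 : Cfsg.Agent.Helper71.pCoreJoin ↥L ≤
          Subgroup.centralizer ({(⟨z, hzL⟩ : ↥L)} : Set ↥L) := by
        unfold Cfsg.Agent.Helper71.pCoreJoin
        refine iSup_le fun r => ?_
        have hr : (r : ℕ).Prime := Nat.prime_of_mem_primeFactors r.2
        haveI : Fact (r : ℕ).Prime := ⟨hr⟩
        by_cases hrp : (r : ℕ) = p
        · rw [hrp, hbot]; exact bot_le
        · by_cases hrF : (r : ℕ) ∣ Nat.card ↥(fittingOf H)
          · intro y hy
            rw [Subgroup.mem_centralizer_iff]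
            intro w hw
            rw [Set.mem_singleton_iff] at hw
            subst hw
            have h6 := Zs_le_centralizer_Os (B := L) hH hrF hrp (hZle r) (hZle p) hz
            have h7 := (Subgroup.mem_centralizer_iff.mp h6) (y : G) ⟨y, hy, rfl⟩
            apply Subtype.ext
            simpa using h7.symm
          · rw [hOr r hr hrF]; exact bot_le
      have h8 : fittingSubgroup ↥L ≤ Subgroup.centralizer ({(⟨z, hzL⟩ : ↥L)} : Set ↥L) :=
        Cfsg.Agent.Helper71.fittingSubgroup_le_pCoreJoin.trans h5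
      rw [Subgroup.mem_centralizer_iff]
      intro y hy
      exact ((Subgroup.mem_centralizer_iff.mp (h8 hy)) _ rfl).symm
    have hzF : (⟨z, hzL⟩ : ↥L) ∈ fittingSubgroup ↥L := Cfsg.Agent.S0044.result hcent
    have hzp : ∃ k : ℕ, (⟨z, hzL⟩ : ↥L) ^ p ^ k = 1 := by
      obtain ⟨k, hk⟩ := (isPGroup_Zs H p) ⟨z, hz⟩
      refine ⟨k, ?_⟩
      apply Subtype.ext
      have := congrArg Subtype.val hk
      simpa using this
    have hzO := Cfsg.Agent.Helper31.mem_pCore_of_mem_fittingSubgroup hzF hzp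
    rw [hbot, Subgroup.mem_bot] at hzO
    rw [Subgroup.mem_bot]
    exact congrArg Subtype.val hzO
  -- Step 4: `F(L) ≤ H`
  have hFLH : fittingOf L ≤ H := by
    apply fittingOf_le_of_Os_le
    intro r hr
    haveI : Fact r.Prime := ⟨hr⟩
    by_cases hrF : r ∣ Nat.card ↥(fittingOf H)
    · obtain ⟨q, hq, hqF, hqr⟩ := hother r
      haveI : Fact q.Prime := ⟨hq⟩
      exact Os_le_of_isCoatom hH hrF hqF hqr.symm (hZle r) (hZle q)
    · unfold Os
      rw [hOr r hr hrF, Subgroup.map_bot]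
      exact bot_le
  -- primes of `F` divide `|F(L)|`
  have hdvdL : ∀ p : ℕ, p.Prime → p ∣ Nat.card ↥(fittingOf H) → p ∣ Nat.card ↥(fittingOf L) := by
    intro p hp hpF
    haveI : Fact p.Prime := ⟨hp⟩
    have h1 : IsPGroup p ↥(pCore p ↥L) := Cfsg.Agent.Lib.isPGroup_pCore p
    rw [card_fittingOf]
    rcases h1.card_eq_or_dvd with h2 | h2
    · exact absurd (Subgroup.eq_bot_of_card_eq _ h2) (hOp p hp hpF)
    · exact h2.trans (Subgroup.card_dvd_of_le (Cfsg.Agent.Lib.pCore_le_fittingSubgroup p))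
  -- Step 5: `F(H) ≤ L`
  have hFHL : fittingOf H ≤ L := by
    apply fittingOf_le_of_Os_le
    intro r hr
    haveI : Fact r.Prime := ⟨hr⟩
    by_cases hrF : r ∣ Nat.card ↥(fittingOf H)
    · obtain ⟨q, hq, hqF, hqr⟩ := hother r
      haveI : Fact q.Prime := ⟨hq⟩
      exact Os_le_of_isCoatom hL (hdvdL r hr hrF) (hdvdL q hq hqF) hqr.symm
        ((Zs_le_fittingOf L r).trans hFLH) ((Zs_le_fittingOf L q).trans hFLH)
    · have h1 : pCore r ↥H = ⊥ :=
        Cfsg.Agent.Helper31.pCore_eq_bot_of_not_dvd_card_fittingSubgroup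
          (by rwa [← card_fittingOf])
      unfold Os
      rw [h1, Subgroup.map_bot]
      exact bot_le
  -- Step 6: a Bender pair with two primes
  have hpair : Cfsg.Agent.Helper31.BPair H L := by
    refine ⟨fun h => hne h.symm, ?_, ?_, ?_, ?_⟩
    · intro A hA hAle hn
      rw [Cfsg.Agent.Helper31.normalizer_eq_of_isCoatom hH (hAle.trans inf_le_left) hA hn]
      exact inf_le_right
    · intro A hA hAle hn
      rw [Cfsg.Agent.Helper31.normalizer_eq_of_isCoatom hL (hAle.trans inf_le_right) hA hn]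
      exact inf_le_right
    · show (generalizedFittingSubgroup ↥H).map H.subtype ≤ L
      rw [FsG_eq_fittingOf_of_isSolvable hHsolv]; exact hFHL
    · show (generalizedFittingSubgroup ↥L).map L.subtype ≤ H
      rw [FsG_eq_fittingOf_of_isSolvable hLsolv]; exact hFLH
  obtain ⟨p, hpmem⟩ : (Nat.card ↥(fittingOf H)).primeFactors.Nonempty :=
    Finset.card_pos.mp (lt_of_lt_of_le two_pos hF2)
  obtain ⟨q, hq, hqF, hqp⟩ := hother p
  haveI : Fact p.Prime := ⟨Nat.prime_of_mem_primeFactors hpmem⟩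
  haveI : Fact q.Prime := ⟨hq⟩
  exact hpair.false_of_two_primes hqp.symm
    (Cfsg.Agent.Helper31.pCore_ne_bot_of_dvd_card_fittingSubgroup
      (by rw [← card_fittingOf]; exact Nat.dvd_of_mem_primeFactors hpmem))
    (Cfsg.Agent.Helper31.pCore_ne_bot_of_dvd_card_fittingSubgroup
      (by rw [← card_fittingOf]; exact hqF))

end Cfsg.Agent.Helper29.Bender
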