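import Cfsg.Agent.Helper29.BenderC
import Cfsg.Agent.Helper31.BGTrans3
import Cfsg.Agent.S0023
import Cfsg.Agent.S0024
import Cfsg.Agent.S0025

/-!
# Bender's lemma on maximal local subgroups, part D (helper29)

Every `M`-invariant subgroup of `R` of order coprime to `|F|` lies in `O_{π(F)'}(R)`; the unique
maximal `M`-invariant `q`-subgroup of `R`.
-/

set_option autoImplicit false

namespace Cfsg.Agent.Helper29.Bender

open Cfsg
open scoped commutatorElement

variable {G : Type*} [Group G]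

/-- `O_{π(F)'}(R)` as a subgroup of `G`. -/
abbrev KG (H R : Subgroup G) : Subgroup G :=
  piCoreOf (primesNotDvd (Nat.card ↥(fittingOf H))) R

/-- The preimage in `R` of `O_p(R / O_{π(F)'}(R))`. -/
def Lp (H R : Subgroup G) (p : ℕ) : Subgroup ↥R :=
  (pCore p (↥R ⧸ piCore (primesNotDvd (Nat.card ↥(fittingOf H))) ↥R)).comap
    (QuotientGroup.mk' (piCore (primesNotDvd (Nat.card ↥(fittingOf H))) ↥R))

/-- The same as a subgroup of `G`. -/
def LpG (H R : Subgroup G) (p : ℕ) : Subgroup G := (Lp H R p).map R.subtype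

theorem KG_le_LpG (H R : Subgroup G) (p : ℕ) : KG H R ≤ LpG H R p := by
  apply Subgroup.map_mono
  intro x hx
  rw [Lp, Subgroup.mem_comap]
  have : QuotientGroup.mk' (piCore (primesNotDvd (Nat.card ↥(fittingOf H))) ↥R) x = 1 := by
    rw [QuotientGroup.mk'_apply, QuotientGroup.eq_one_iff]; exact hx
  rw [this]
  exact Subgroup.one_mem _

theorem LpG_le (H R : Subgroup G) (p : ℕ) : LpG H R p ≤ R := Subgroup.map_subtype_le _

theorem normalizer_le_normalizer_LpG (H R : Subgroup G) (p : ℕ) :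
    Subgroup.normalizer (R : Set G) ≤ Subgroup.normalizer ((LpG H R p : Subgroup G) : Set G) := by
  haveI : (piCore (primesNotDvd (Nat.card ↥(fittingOf H))) ↥R).Characteristic :=
    piCore_characteristic _ _
  haveI : (pCore p (↥R ⧸ piCore (primesNotDvd (Nat.card ↥(fittingOf H))) ↥R)).Characteristic :=
    Cfsg.Agent.Lib.pCore_characteristic p
  exact Cfsg.Agent.Helper53.char_map_normalizer_le R (Lp H R p)
    (Cfsg.Agent.S1288.comap_mk_characteristic _ _)

theorem pow_mem_KG (H R : Subgroup G) (p : ℕ) :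
    ∀ x ∈ LpG H R p, ∃ k : ℕ, x ^ p ^ k ∈ KG H R := by
  rintro _ ⟨x, hx, rfl⟩
  rw [SetLike.mem_coe, Lp, Subgroup.mem_comap] at hx
  obtain ⟨k, hk⟩ := (Cfsg.Agent.Lib.isPGroup_pCore p) ⟨_, hx⟩
  have hk' : (QuotientGroup.mk' (piCore (primesNotDvd (Nat.card ↥(fittingOf H))) ↥R) x) ^ p ^ k = 1 := by
    have := congrArg Subtype.val hk
    simpa using this
  rw [← map_pow, QuotientGroup.mk'_apply, QuotientGroup.eq_one_iff] at hk'
  exact ⟨k, ⟨x ^ p ^ k, hk', by simp⟩⟩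

section setup

variable [Finite G] {H M R : Subgroup G}

theorem Setup.M_le_normalizer_KG (h : Setup H M R) :
    M ≤ Subgroup.normalizer ((KG H R : Subgroup G) : Set G) :=
  h.hMR.trans (Cfsg.Agent.Helper31.normalizer_le_normalizer_piCoreOf _ R)

theorem coprime_card_KG (H R : Subgroup G) :
    (Nat.card ↥(fittingOf H)).Coprime (Nat.card ↥(KG H R)) :=
  Cfsg.Agent.Helper31.coprime_card_of_primesNotDvd
    (Cfsg.Agent.Helper31.piCoreOf_primes _ R)

theorem Setup.coprime_card_M_KG (h : Setup H M R) :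
    (Nat.card ↥M).Coprime (Nat.card ↥(KG H R)) :=
  Nat.Coprime.coprime_dvd_left (Subgroup.card_dvd_of_le h.hM) (coprime_card_KG H R)

theorem Setup.isSolvable_KG (h : Setup H M R) : Group.IsSolvable ↥(KG H R) := by
  haveI := h.solv
  exact Group.isSolvable_of_isSolvable_injective
    (Subgroup.inclusion_injective (Cfsg.Agent.Helper31.piCoreOf_le _ R))

/-- `[L_p, Z_s] ≤ O_{π'}(R)` for `s ≠ p`. -/
theorem Setup.commutator_LpG_Zs_le (h : Setup H M R) {p s : ℕ} [Fact p.Prime] [Fact s.Prime]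
    (hp : p ∣ Nat.card ↥(fittingOf H)) (hps : p ≠ s) :
    ⁅LpG H R p, Zs H s⁆ ≤ KG H R := by
  obtain ⟨P₁, hP₁, hMP₁, -, hcov⟩ := exists_invariant_cover (p := p) M (KG H R) (LpG H R p)
    (KG_le_LpG H R p)
    ((LpG_le H R p).trans (Cfsg.Agent.Helper31.le_normalizer_piCoreOf _ R))
    h.M_le_normalizer_KG (h.hMR.trans (normalizer_le_normalizer_LpG H R p))
    h.coprime_card_M_KG (Or.inr h.isSolvable_KG) (pow_mem_KG H R p)
  have hZ := h.Zs_le_centralizer_of_isPGroup hp hps hP₁ ((h.Zs_le p).trans hMP₁)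
    ((h.Zs_le s).trans hMP₁)
  rw [Subgroup.commutator_le]
  intro x hx z hz
  obtain ⟨n, hn, y, hy, rfl⟩ := hcov x hx
  have hyz : y * z = z * y := (Subgroup.mem_centralizer_iff.mp (hZ hz)) y hy
  have hzN : z ∈ Subgroup.normalizer ((KG H R : Subgroup G) : Set G) :=
    h.M_le_normalizer_KG (h.Zs_le s hz)
  have h1 : z * n⁻¹ * z⁻¹ ∈ KG H R :=
    (Subgroup.mem_normalizer_iff.mp hzN n⁻¹).mp ((KG H R).inv_mem hn)
  have e : ⁅n * y, z⁆ = n * (z * n⁻¹ * z⁻¹) := by
    rw [commutatorElement_def]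
    calc n * y * z * (n * y)⁻¹ * z⁻¹ = n * (y * z) * y⁻¹ * n⁻¹ * z⁻¹ := by group
      _ = n * (z * y) * y⁻¹ * n⁻¹ * z⁻¹ := by rw [hyz]
      _ = n * (z * n⁻¹ * z⁻¹) := by group
  rw [e]
  exact (KG H R).mul_mem hn h1

/-- An `M`-invariant subgroup `Y` of `R` of order coprime to `|F|` centralizes `L_p` modulo
`O_{π'}(R)`. -/
theorem Setup.commutator_LpG_le (h : Setup H M R)
    (hF2 : 2 ≤ (Nat.card ↥(fittingOf H)).primeFactors.card) {p : ℕ} [hpp : Fact p.Prime]
    (hp : p ∣ Nat.card ↥(fittingOf H)) {Y : Subgroup G} (hYR : Y ≤ R)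
    (hYM : M ≤ Subgroup.normalizer (Y : Set G))
    (hcop : (Nat.card ↥Y).Coprime (Nat.card ↥(fittingOf H))) :
    ⁅Y, LpG H R p⁆ ≤ KG H R := by
  obtain ⟨s, hsmem, hsp⟩ := Finset.exists_mem_ne (lt_of_lt_of_le one_lt_two hF2) p
  haveI : Fact s.Prime := ⟨Nat.prime_of_mem_primeFactors hsmem⟩
  have hs : s ∣ Nat.card ↥(fittingOf H) := Nat.dvd_of_mem_primeFactors hsmem
  have hY := h.commutator_Zs_eq hs hYR hYM hcop
  have hRK : R ≤ Subgroup.normalizer ((KG H R : Subgroup G) : Set G) :=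
    Cfsg.Agent.Helper31.le_normalizer_piCoreOf _ R
  have hYL : Y ≤ Subgroup.normalizer ((LpG H R p : Subgroup G) : Set G) :=
    hYR.trans (Subgroup.le_normalizer.trans (normalizer_le_normalizer_LpG H R p))
  have h1 : ⁅⁅Y, LpG H R p⁆, Zs H s⁆ ≤ KG H R := by
    have h11 : ⁅Y, LpG H R p⁆ ≤ LpG H R p := by
      rw [Subgroup.commutator_comm]
      exact Subgroup.le_normalizer_iff_commutator_le_left.mp hYL
    exact (Subgroup.commutator_mono h11 le_rfl).trans (h.commutator_LpG_Zs_le hp hsp.symm)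
  have h2 : ⁅⁅LpG H R p, Zs H s⁆, Y⁆ ≤ KG H R := by
    have h21 : ⁅KG H R, Y⁆ ≤ KG H R :=
      Subgroup.le_normalizer_iff_commutator_le_left.mp (hYR.trans hRK)
    exact (Subgroup.commutator_mono (h.commutator_LpG_Zs_le hp hsp.symm) le_rfl).trans h21
  have h3 := commutator_commutator_le_of_rotate (N := KG H R) (A := Zs H s) (B := Y)
    (C := LpG H R p) ((h.Zs_le s).trans h.M_le_normalizer_KG) (hYR.trans hRK)
    ((LpG_le H R p).trans hRK) h1 h2
  rwa [Subgroup.commutator_comm (Zs H s) Y, hY] at h3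

/-- Every `M`-invariant subgroup of `R` of order coprime to `|F|` lies in `O_{π(F)'}(R)`. -/
theorem Setup.le_KG (h : Setup H M R)
    (hF2 : 2 ≤ (Nat.card ↥(fittingOf H)).primeFactors.card) {Y : Subgroup G} (hYR : Y ≤ R)
    (hYM : M ≤ Subgroup.normalizer (Y : Set G))
    (hcop : (Nat.card ↥Y).Coprime (Nat.card ↥(fittingOf H))) : Y ≤ KG H R := by
  haveI := h.solv
  have hcard : Nat.card ↥(Y.subgroupOf R) = Nat.card ↥Y :=
    Cfsg.Agent.Helper1.card_subgroupOf_of_le hYR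
  have hmapY : (Y.subgroupOf R).map R.subtype = Y := by
    rw [Subgroup.subgroupOf_map_subtype, inf_eq_left.mpr hYR]
  have key : Y.subgroupOf R ≤ piCore (primesNotDvd (Nat.card ↥(fittingOf H))) ↥R := by
    apply le_piCore_of_commutator_le
    · intro p hp hdvd
      rw [hcard] at hdvd
      refine ⟨hp, fun hpF => ?_⟩
      exact hp.one_lt.ne' (Nat.eq_one_of_dvd_coprimes hcop hdvd hpF)
    · intro p hp hpπ
      have hpF : p ∣ Nat.card ↥(fittingOf H) := by
        by_contra hcon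
        exact hpπ ⟨hp, hcon⟩
      haveI : Fact p.Prime := ⟨hp⟩
      have h1 := h.commutator_LpG_le hF2 hpF hYR hYM hcop
      rw [← Subgroup.map_le_map_iff_of_injective R.subtype_injective, Subgroup.map_commutator,
        hmapY]
      exact h1
  have := Subgroup.map_mono (f := R.subtype) key
  rwa [hmapY] at this

/-- **Bender's lemma.** -/
theorem Setup.main (h : Setup H M R)
    (hF2 : 2 ≤ (Nat.card ↥(fittingOf H)).primeFactors.card) (q : ℕ) [hqp : Fact q.Prime]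
    (hq : ¬ q ∣ Nat.card ↥(fittingOf H)) :
    ∃! Q : Subgroup G, Q ∈ maxInvSubgroups R M {q} ∧
      (∀ Q' : Subgroup G, Q' ∈ maxInvSubgroups R M {q} →
        Q' ≤ KG H R ∧ ¬ q ∣ Q'.relIndex (KG H R)) := by
  classical
  have hKR : KG H R ≤ R := Cfsg.Agent.Helper31.piCoreOf_le _ R
  have hMK := h.M_le_normalizer_KG
  have hcopK := h.coprime_card_M_KG
  have hsolv : Group.IsSolvable ↥M ∨ Group.IsSolvable ↥(KG H R) := Or.inr h.isSolvable_KG
  -- fixed points of `M` on `O_{π'}(R)` are trivial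
  obtain ⟨s, hsmem⟩ : (Nat.card ↥(fittingOf H)).primeFactors.Nonempty :=
    Finset.card_pos.mp (lt_of_lt_of_le two_pos hF2)
  haveI : Fact s.Prime := ⟨Nat.prime_of_mem_primeFactors hsmem⟩
  have hs : s ∣ Nat.card ↥(fittingOf H) := Nat.dvd_of_mem_primeFactors hsmem
  have hfix : KG H R ⊓ Subgroup.centralizer (M : Set G) = ⊥ := by
    have h1 := h.inf_centralizer_Zs_eq_bot hs hKR hMK (coprime_card_KG H R).symm
    rw [eq_bot_iff, ← h1]
    exact inf_le_inf_left _ (Subgroup.centralizer_le (by exact_mod_cast h.Zs_le s))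
  -- the invariant Sylow `q`-subgroup
  obtain ⟨Q₀, hQ₀M⟩ := Cfsg.Agent.S0023.result M (KG H R) hMK hcopK hsolv q
  set Q₀G : Subgroup G := (Q₀ : Subgroup ↥(KG H R)).map (KG H R).subtype with hQ₀G
  have hQ₀K : Q₀G ≤ KG H R := Subgroup.map_subtype_le _
  have hQ₀q : IsPGroup q ↥Q₀G := Q₀.isPGroup'.map _
  -- every invariant `q`-subgroup lies in it
  have huniq : ∀ U : Subgroup G, U ≤ R → IsPGroup q ↥U → M ≤ Subgroup.normalizer (U : Set G) →
      U ≤ Q₀G := by
    intro U hUR hUq hUM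
    have hUcop : (Nat.card ↥U).Coprime (Nat.card ↥(fittingOf H)) := by
      obtain ⟨k, hk⟩ := IsPGroup.iff_card.mp hUq
      rw [hk]
      exact Nat.Coprime.pow_left k ((Nat.Prime.coprime_iff_not_dvd hqp.out).mpr hq)
    have hUK : U ≤ KG H R := h.le_KG hF2 hUR hUM hUcop
    obtain ⟨P, hUP, hPM⟩ := Cfsg.Agent.S0025.result M (KG H R) hMK hcopK hsolv q U hUK hUq hUM
    obtain ⟨c, hcM, hcPQ⟩ := Cfsg.Agent.S0024.result M (KG H R) hMK hcopK hsolv q P Q₀ hPM hQ₀M
    have hc1 : (c : G) ∈ KG H R ⊓ Subgroup.centralizer (M : Set G) := ⟨c.2, hcM⟩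
    rw [hfix, Subgroup.mem_bot] at hc1
    have hc1' : c = 1 := Subtype.ext hc1
    rw [hc1', map_one, one_smul] at hcPQ
    rw [hQ₀G, ← hcPQ]
    exact hUP
  have hQ₀inv : Q₀G ∈ invSubgroups R M {q} :=
    ⟨hQ₀K.trans hKR, Cfsg.Agent.Helper31.primes_singleton_of_isPGroup hqp.out hQ₀q, hQ₀M⟩
  have hle : ∀ Y ∈ invSubgroups R M {q}, Y ≤ Q₀G := fun Y hY =>
    huniq Y hY.1 (Cfsg.Agent.Helper31.isPGroup_of_primes_singleton hqp.out hY.2.1) hY.2.2
  have hQ₀max : Q₀G ∈ maxInvSubgroups R M {q} :=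
    ⟨hQ₀inv, fun Y hY hQY => le_antisymm (hle Y hY) hQY⟩
  have hall : ∀ Q' ∈ maxInvSubgroups R M {q}, Q' = Q₀G := fun Q' hQ' =>
    (hQ'.2 Q₀G hQ₀inv (hle Q' hQ'.1)).symm
  refine ⟨Q₀G, ⟨hQ₀max, fun Q' hQ' => ?_⟩, fun Q'' hQ'' => hall Q'' hQ''.1⟩
  rw [hall Q' hQ']
  refine ⟨hQ₀K, ?_⟩
  have e : Q₀G.relIndex (KG H R) = (Q₀ : Subgroup ↥(KG H R)).index := by
    unfold Subgroup.relIndex Subgroup.subgroupOf
    rw [hQ₀G, Subgroup.comap_map_eq_self_of_injective (KG H R).subtype_injective]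
  rw [e]
  exact Q₀.not_dvd_index

end setup

end Cfsg.Agent.Helper29.Bender
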