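import Cfsg.Agent.Helper25.FSwan.Defs

/-!
helper29 for helper25's Fong–Swan farm (#15059, S4440), leaf (S2b): linearity of the `θ`-part and its
compatibility with the restriction to the `p`-regular elements.
-/

set_option autoImplicit false
set_option linter.unusedSectionVars false
set_option linter.unusedVariables false

namespace Cfsg.Agent.Helper29.FS

open Cfsg Cfsg.Agent.Helper16 Cfsg.Agent.Helper16.DT Cfsg.Agent.Helper25.FS

universe u

variable {p : ℕ} [Fact p.Prime] {M : Ideal AlgInt} [M.IsMaximal] {G : Type u} [Group G]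

/-- modulo a normal subgroup of order prime to `p`, divisibility of the order by `p` is unchanged -/
theorem S2b_dvd_orderOf_mk (N : Subgroup G) [N.Normal] (hNp : ¬ p ∣ Nat.card N) (x : G) :
    p ∣ orderOf (QuotientGroup.mk x : G ⧸ N) ↔ p ∣ orderOf x := by
  have hp : p.Prime := Fact.out
  constructor
  · intro h
    exact dvd_trans h (orderOf_map_dvd (QuotientGroup.mk' N) x)
  · intro h
    by_contra hm
    set m := orderOf (QuotientGroup.mk x : G ⧸ N) with hmdef
    have hxm : x ^ m ∈ N := by
      rw [← QuotientGroup.eq_one_iff, QuotientGroup.mk_pow, hmdef, pow_orderOf_eq_one]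
    have hk : orderOf (x ^ m) ∣ Nat.card N := Subgroup.orderOf_dvd_natCard N hxm
    have hpk : ¬ p ∣ orderOf (x ^ m) := fun h' => hNp (dvd_trans h' hk)
    have h1 : orderOf x ∣ m * orderOf (x ^ m) := by
      apply orderOf_dvd_of_pow_eq_one
      rw [pow_mul, pow_orderOf_eq_one]
    rcases (Nat.Prime.dvd_mul hp).mp (dvd_trans h h1) with h2 | h2
    · exact hm h2
    · exact hpk h2

/-- multiplying by an element of a normal subgroup of order prime to `p` does not change `p`-regularity -/
theorem S2b_isPRegular_mul (N : Subgroup G) [N.Normal] (hNp : ¬ p ∣ Nat.card N) (g n : G) (hn : n ∈ N) :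
    IsPRegular p (g * n) ↔ IsPRegular p g := by
  unfold IsPRegular
  rw [← S2b_dvd_orderOf_mk N hNp (g * n), ← S2b_dvd_orderOf_mk N hNp g]
  have : (QuotientGroup.mk (g * n) : G ⧸ N) = QuotientGroup.mk g := by
    rw [QuotientGroup.mk_mul, (QuotientGroup.eq_one_iff n).mpr hn, mul_one]
  rw [this]

variable [Fintype G] (N : Subgroup G) [hN : N.Normal] [Fintype N]

omit [Fintype G] hN [M.IsMaximal] in
/-- (S2b) linearity of the `θ`-part. -/
theorem thetaProj_add (T : Subgroup G) (hNT : N ≤ T) (θ : N → ℂ) (f f' : T → ℂ) :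
    thetaProj N T hNT θ (f + f') = thetaProj N T hNT θ f + thetaProj N T hNT θ f' := by
  funext t
  simp only [thetaProj, Pi.add_apply]
  rw [← mul_add, ← Finset.sum_add_distrib]
  congr 1
  apply Finset.sum_congr rfl
  intro n _
  ring

omit [Fintype G] hN [M.IsMaximal] in
/-- (S2b) linearity of the `θ`-part. -/
theorem thetaProj_smul (T : Subgroup G) (hNT : N ≤ T) (θ : N → ℂ) (c : ℂ) (f : T → ℂ) :
    thetaProj N T hNT θ (c • f) = c • thetaProj N T hNT θ f := by
  funext t
  simp only [thetaProj, Pi.smul_apply, smul_eq_mul]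
  simp only [Finset.mul_sum]
  apply Finset.sum_congr rfl
  intro n _
  ring

omit [M.IsMaximal] in
/-- (S2b) the `θ`-part commutes with the restriction to the `p`-regular elements: for `t ∈ T`,
`n ∈ N`, `t * n` is `p`-regular iff `t` is. -/
theorem thetaProj_pRegularPart (hNp : ¬ p ∣ Nat.card N) (T : Subgroup G) (hNT : N ≤ T)
    (θ : N → ℂ) (f : T → ℂ) :
    thetaProj N T hNT θ (pRegularPart p f) = pRegularPart p (thetaProj N T hNT θ f) := by
  funext t
  have key : ∀ n : N, IsPRegular p (t * ⟨(n : G), hNT n.2⟩ : T) ↔ IsPRegular p t := by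
    intro n
    have h1 := S2b_isPRegular_mul (p := p) N hNp (t : G) (n : G) n.2
    unfold IsPRegular at h1 ⊢
    rw [← Subgroup.orderOf_coe, ← Subgroup.orderOf_coe t]
    exact h1
  by_cases ht : IsPRegular p t
  · have h2 : pRegularPart p (thetaProj N T hNT θ f) t = thetaProj N T hNT θ f t := by
      simp only [pRegularPart]
      rw [if_pos ht]
    rw [h2]
    simp only [thetaProj]
    congr 1
    apply Finset.sum_congr rfl
    intro n _
    simp only [pRegularPart]
    rw [if_pos ((key n).mpr ht)]
  · have h2 : pRegularPart p (thetaProj N T hNT θ f) t = 0 := by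
      simp only [pRegularPart]
      rw [if_neg ht]
    rw [h2]
    simp only [thetaProj]
    rw [Finset.sum_eq_zero, mul_zero]
    intro n _
    simp only [pRegularPart]
    rw [if_neg (fun h => ht ((key n).mp h)), mul_zero]

end Cfsg.Agent.Helper29.FS
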