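import Cfsg.Agent.Helper25.FSwan.Defs
import Cfsg.Agent.Helper24.DT_AC
import Cfsg.Agent.Helper41.FS_OP1

/-!
helper29 for helper25's Fong–Swan farm (#15059, S4440), leaf (OP2): a normal `p`-subgroup lies in the
kernel of every irreducible matrix representation over the residue field.
-/

set_option autoImplicit false
set_option linter.unusedSectionVars false
set_option linter.unusedVariables false

namespace Cfsg.Agent.Helper29.FS

open Cfsg Cfsg.Agent.Helper16 Cfsg.Agent.Helper16.DT Cfsg.Agent.Helper25.FS

universe u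

variable {p : ℕ} [Fact p.Prime] {M : Ideal AlgInt} [M.IsMaximal] {G : Type u} [Group G]

/-- the general statement: over a field of characteristic `p`, a finite normal `p`-subgroup acts trivially
in every irreducible matrix representation -/
theorem OP2_general {K : Type*} [Field K] [CharP K p] {ι : Type*} [Fintype ι] [DecidableEq ι]
    (ρ : G →* Matrix ι ι K) (hρ : IsIrredMat ρ) (P : Subgroup G) [P.Normal] [Finite P]
    (hP : IsPGroup p P) : ∀ x ∈ P, ρ x = 1 := by
  obtain ⟨hne, hirr⟩ := hρ
  let W : Submodule K (ι → K) :=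
    { carrier := {v | ∀ x ∈ P, (ρ x).mulVec v = v}
      add_mem' := by
        intro a b ha hb x hx
        rw [Matrix.mulVec_add, ha x hx, hb x hx]
      zero_mem' := by
        intro x hx
        rw [Matrix.mulVec_zero]
      smul_mem' := by
        intro c a ha x hx
        rw [Matrix.mulVec_smul, ha x hx] }
  have hWmem : ∀ v, v ∈ W ↔ ∀ x ∈ P, (ρ x).mulVec v = v := fun v => Iff.rfl
  have hinv : ∀ g, ∀ w ∈ W, (ρ g).mulVec w ∈ W := by
    intro g w hw
    rw [hWmem] at hw ⊢
    intro x hx
    have hx' : g⁻¹ * x * g ∈ P := by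
      have := ‹P.Normal›.conj_mem x hx g⁻¹
      simpa using this
    have h1 : ρ x * ρ g = ρ g * ρ (g⁻¹ * x * g) := by
      rw [← map_mul, ← map_mul]
      congr 1
      group
    rw [Matrix.mulVec_mulVec, h1, ← Matrix.mulVec_mulVec, hw _ hx']
  obtain ⟨v, hv0, hv⟩ := Cfsg.Agent.Helper41.FS.exists_fixed_vector (p := p) hP (ρ.comp P.subtype)
  have hvW : v ∈ W := by
    rw [hWmem]
    intro x hx
    exact hv ⟨x, hx⟩
  have hWtop : W = ⊤ := by
    rcases hirr W hinv with h | h
    · exfalso
      rw [h, Submodule.mem_bot] at hvW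
      exact hv0 hvW
    · exact h
  intro x hx
  apply Matrix.mulVec_injective
  funext v
  rw [Matrix.one_mulVec]
  have : v ∈ W := by rw [hWtop]; exact Submodule.mem_top
  exact (hWmem v).mp this x hx

/-- (OP2) a normal `p`-subgroup lies in the kernel of every irreducible matrix representation over the
residue field. -/
theorem apply_eq_one_of_mem_normal_pGroup (hpM : (p : AlgInt) ∈ M) [Finite G] {n : ℕ}
    (ρ : G →* Matrix (Fin n) (Fin n) (AlgInt ⧸ M)) (hρ : IsIrredMat ρ) (P : Subgroup G) [P.Normal]
    (hP : IsPGroup p P) : ∀ x ∈ P, ρ x = 1 := by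
  have hchar : CharP (AlgInt ⧸ M) p := Cfsg.Agent.Helper24.DT.charP_res M hpM
  exact OP2_general ρ hρ P hP

end Cfsg.Agent.Helper29.FS
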