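import Cfsg.Agent.Helper29.BenderB
import Cfsg.Agent.Helper1.CoprimeSylow
import Cfsg.Agent.Helper1.Compl
import Cfsg.Agent.Helper71.Fitting
import Cfsg.Agent.Helper31.BGTrans
import Cfsg.Agent.S1886
import Cfsg.Agent.S1288

/-!
# Bender's lemma on maximal local subgroups, part C (helper29)

* an invariant `p`-subgroup covering a `p`-quotient (via Glauberman's lemma);
* a criterion for lying in `O_π(S)` in a solvable group `S`;
* every `M`-invariant subgroup of `R` of order coprime to `|F|` lies in `O_{π(F)'}(R)`.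
-/

set_option autoImplicit false

namespace Cfsg.Agent.Helper29.Bender

open Cfsg
open scoped Pointwise

variable {G : Type*} [Group G]

/-- If `L / K` is a `p`-group and `A` acts coprimely on `K` (normalizing `L`), there is an
`A`-invariant `p`-subgroup `P₁` of `L` with `L = K P₁`. -/
theorem exists_invariant_cover [Finite G] {p : ℕ} [Fact p.Prime] (A K L : Subgroup G)
    (hKL : K ≤ L) (hLK : L ≤ Subgroup.normalizer (K : Set G))
    (hAK : A ≤ Subgroup.normalizer (K : Set G)) (hAL : A ≤ Subgroup.normalizer (L : Set G))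
    (hcop : (Nat.card A).Coprime (Nat.card K)) (hsolv : Group.IsSolvable A ∨ Group.IsSolvable K)
    (hquot : ∀ x ∈ L, ∃ k : ℕ, x ^ p ^ k ∈ K) :
    ∃ P₁ : Subgroup G, IsPGroup p P₁ ∧ A ≤ Subgroup.normalizer (P₁ : Set G) ∧ P₁ ≤ L ∧
      ∀ x ∈ L, ∃ n ∈ K, ∃ y ∈ P₁, x = n * y := by
  classical
  haveI hNn : (K.subgroupOf L).Normal := Subgroup.normal_subgroupOf_of_le_normalizer hLK
  have hq : IsPGroup p (↥L ⧸ K.subgroupOf L) := by
    intro g
    induction g using QuotientGroup.induction_on with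
    | H x =>
      obtain ⟨k, hk⟩ := hquot x x.2
      refine ⟨k, ?_⟩
      rw [← QuotientGroup.mk_pow, QuotientGroup.eq_one_iff, Subgroup.mem_subgroupOf]
      simpa using hk
  have hcover : ∀ P : Sylow p ↥L, K.subgroupOf L ⊔ (P : Subgroup ↥L) = ⊤ := by
    intro P
    rw [← Subgroup.index_eq_one]
    obtain ⟨a, ha⟩ := IsPGroup.iff_card.mp hq
    have h1 : (K.subgroupOf L ⊔ (P : Subgroup ↥L)).index ∣ p ^ a := by
      rw [← ha, ← Subgroup.index_eq_card]
      exact Subgroup.index_dvd_of_le le_sup_left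
    have h2 : (K.subgroupOf L ⊔ (P : Subgroup ↥L)).index ∣ (P : Subgroup ↥L).index :=
      Subgroup.index_dvd_of_le le_sup_right
    obtain ⟨j, -, hj⟩ := (Nat.dvd_prime_pow (Fact.out)).mp h1
    rcases Nat.eq_zero_or_pos j with h0 | hpos
    · rw [hj, h0, pow_zero]
    · exfalso
      apply P.not_dvd_index
      refine dvd_trans ?_ h2
      rw [hj]
      exact dvd_pow_self p hpos.ne'
  have hcover' : ∀ P : Sylow p ↥L, ∀ x : ↥L,
      ∃ n ∈ K.subgroupOf L, ∃ y ∈ (P : Subgroup ↥L), x = n * y := by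
    intro P x
    have hx : x ∈ (↑(K.subgroupOf L ⊔ (P : Subgroup ↥L)) : Set ↥L) := by
      rw [hcover P]; trivial
    rw [Subgroup.normal_mul] at hx
    obtain ⟨n, hn, y, hy, rfl⟩ := hx
    exact ⟨n, hn, y, hy, rfl⟩
  letI := Cfsg.Agent.Helper1.conjActSubgroup G
  have hsmul : ∀ (g : G) (S : Subgroup G), g • S = MulAut.conj g • S := fun _ _ => rfl
  obtain ⟨⟨S, ⟨P, rfl⟩, hfix⟩, -⟩ :=
    Cfsg.Agent.Helper1.glauberman_ambient (Ω := Subgroup G) A K hAK hcop hsolv
    (Cfsg.Agent.Helper1.sylowSet p L)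
    (by obtain ⟨P⟩ : Nonempty (Sylow p L) := inferInstance; exact ⟨_, P, rfl⟩)
    (fun k hk S hS => by
      rw [hsmul]
      exact Cfsg.Agent.Helper1.conj_mem_sylowSet (Subgroup.le_normalizer (hKL hk)) hS)
    (fun a ha S hS => by
      rw [hsmul]; exact Cfsg.Agent.Helper1.conj_mem_sylowSet (hAL ha) hS)
    (by
      rintro _ ⟨P, rfl⟩ _ ⟨Q, rfl⟩
      obtain ⟨g, hg⟩ := MulAction.exists_smul_eq L P Q
      obtain ⟨n, hn, y, hy, hxy⟩ := hcover' P g
      have hyP : y • P = P := Sylow.smul_eq_iff_mem_normalizer.mpr (Subgroup.le_normalizer hy)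
      have hnP : n • P = Q := by rw [← hg, hxy, mul_smul, hyP]
      refine ⟨(n : G), Subgroup.mem_subgroupOf.mp hn, ?_⟩
      rw [hsmul, ← Cfsg.Agent.Helper1.map_subtype_conj_smul, ← hnP, Sylow.coe_subgroup_smul])
  refine ⟨(P : Subgroup L).map L.subtype, P.isPGroup'.map _,
    fun a ha => Cfsg.Agent.Helper1.mem_normalizer_of_conj_smul_eq ?_, Subgroup.map_subtype_le _, ?_⟩
  · rw [← hsmul]; exact hfix a ha
  · intro x hx
    obtain ⟨n, hn, y, hy, hxy⟩ := hcover' P ⟨x, hx⟩
    refine ⟨(n : G), Subgroup.mem_subgroupOf.mp hn, (y : G), ⟨y, hy, rfl⟩, ?_⟩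
    have := congrArg Subtype.val hxy
    simpa using this

/-- `O_π(X)` is characteristic. -/
theorem piCore_characteristic (π : Set ℕ) (X : Type*) [Group X] :
    (piCore π X).Characteristic := by
  rw [Subgroup.characteristic_iff_map_le]
  intro φ
  unfold Cfsg.piCore
  rw [Subgroup.map_le_iff_le_comap]
  refine sSup_le fun N hN => ?_
  rw [← Subgroup.map_le_iff_le_comap]
  refine le_sSup ⟨Subgroup.Normal.map hN.1 φ.toMonoidHom φ.surjective, ?_⟩
  have e : Nat.card ↥(N.map φ.toMonoidHom) = Nat.card ↥N :=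
    Subgroup.card_map_of_injective φ.injective
  rw [e]
  exact hN.2

/-- In a finite solvable group `S`, a `π`-subgroup `Y` centralizing, modulo `O_π(S)`, the preimage
of `O_p(S / O_π(S))` for each prime `p ∉ π`, lies in `O_π(S)`. -/
theorem le_piCore_of_commutator_le {S : Type*} [Group S] [Finite S] [Group.IsSolvable S]
    (π : Set ℕ) (Y : Subgroup S) (hY : ∀ p : ℕ, p.Prime → p ∣ Nat.card ↥Y → p ∈ π)
    (hcomm : ∀ p : ℕ, p.Prime → p ∉ π →
      ⁅Y, (pCore p (S ⧸ piCore π S)).comap (QuotientGroup.mk' (piCore π S))⁆ ≤ piCore π S) :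
    Y ≤ piCore π S := by
  set K := piCore π S with hK
  set f := QuotientGroup.mk' K with hf
  have hfs : Function.Surjective f := QuotientGroup.mk'_surjective K
  have hker : f.ker = K := QuotientGroup.ker_mk' K
  have h1 : piCore π (S ⧸ K) = ⊥ := (Cfsg.Agent.S1886.result (X := S) π).1
  have hF : ∀ q : ℕ, q.Prime → q ∈ π → ¬ q ∣ Nat.card ↥(fittingSubgroup (S ⧸ K)) :=
    ((Cfsg.Agent.S1886.result (X := S ⧸ K) π).2 h1).1
  have hcent : ∀ p : ℕ, p.Prime → pCore p (S ⧸ K) ≤
      Subgroup.centralizer ((Y.map f : Subgroup (S ⧸ K)) : Set (S ⧸ K)) := by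
    intro p hp
    haveI : Fact p.Prime := ⟨hp⟩
    by_cases hpπ : p ∈ π
    · have hle : pCore p (S ⧸ K) ≤ fittingSubgroup (S ⧸ K) :=
        Cfsg.Agent.Lib.pCore_le_fittingSubgroup p
      have hpg : IsPGroup p ↥(pCore p (S ⧸ K)) := Cfsg.Agent.Lib.isPGroup_pCore p
      have hbot : pCore p (S ⧸ K) = ⊥ := by
        rcases hpg.card_eq_or_dvd with h | h
        · exact Subgroup.eq_bot_of_card_eq _ h
        · exact absurd (h.trans (Subgroup.card_dvd_of_le hle)) (hF p hp hpπ)
      rw [hbot]; exact bot_le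
    · have h3 := hcomm p hp hpπ
      have h4 : ⁅Y.map f, ((pCore p (S ⧸ K)).comap f).map f⁆ = ⊥ := by
        rw [← Subgroup.map_commutator, Subgroup.map_eq_bot_iff, hker]
        exact h3
      rw [Subgroup.map_comap_eq_self_of_surjective hfs, Subgroup.commutator_comm,
        Subgroup.commutator_eq_bot_iff_le_centralizer] at h4
      exact h4
  have hYc : Y.map f ≤ Subgroup.centralizer ((fittingSubgroup (S ⧸ K) : Subgroup (S ⧸ K)) : Set (S ⧸ K)) := by
    have h5 : Cfsg.Agent.Helper71.pCoreJoin (S ⧸ K) ≤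
        Subgroup.centralizer ((Y.map f : Subgroup (S ⧸ K)) : Set (S ⧸ K)) := by
      unfold Cfsg.Agent.Helper71.pCoreJoin
      exact iSup_le fun p => hcent p (Nat.prime_of_mem_primeFactors p.2)
    have h6 := Subgroup.le_centralizer_iff.mp h5
    exact h6.trans (Subgroup.centralizer_le
      (by exact_mod_cast Cfsg.Agent.Helper71.fittingSubgroup_le_pCoreJoin (G := S ⧸ K)))
  have hYF : Y.map f ≤ fittingSubgroup (S ⧸ K) := hYc.trans Cfsg.Agent.S0044.result
  have hcard : Nat.card ↥(Y.map f) = 1 := by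
    by_contra hne
    obtain ⟨r, hr, hrdvd⟩ := Nat.exists_prime_and_dvd hne
    have hrY : r ∣ Nat.card ↥Y := hrdvd.trans (Subgroup.card_map_dvd Y f)
    exact hF r hr (hY r hr hrY) (hrdvd.trans (Subgroup.card_dvd_of_le hYF))
  have hbot : Y.map f = ⊥ := Subgroup.eq_bot_of_card_eq _ hcard
  rw [Subgroup.map_eq_bot_iff, hker] at hbot
  exact hbot

end Cfsg.Agent.Helper29.Bender
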