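import Mathlib
import Cfsg.Agent.Helper71.Alp.Defs

/-!
# S3782 (helper71, Alperin), piece (D): basic lemmas on the relative derived series `dser`
-/

set_option autoImplicit false

namespace Cfsg.Agent.Helper29.Alp

open Cfsg.Agent.Helper71.Alp

variable {G : Type*} [Group G]

theorem dser_mono {H K : Subgroup G} (h : H ≤ K) (k : ℕ) : dser H k ≤ dser K k := by
  induction k with
  | zero => exact h
  | succ k ih => exact Subgroup.commutator_mono ih ih

theorem dser_add (H : Subgroup G) (a b : ℕ) : dser (dser H a) b = dser H (a + b) := by
  induction b with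
  | zero => rfl
  | succ b ih =>
    rw [dser_succ, ih, ← add_assoc, dser_succ]

theorem dser_top (k : ℕ) : dser (⊤ : Subgroup G) k = derivedSeries G k := by
  induction k with
  | zero => rfl
  | succ k ih => rw [dser_succ, ih, derivedSeries_succ]

theorem dser_le_self (H : Subgroup G) (k : ℕ) : dser H k ≤ H := by
  induction k with
  | zero => exact le_rfl
  | succ k ih =>
    rw [dser_succ]
    exact (Subgroup.commutator_le_self _).trans ih

theorem map_derivedSeries_subtype (H : Subgroup G) (k : ℕ) :
    (derivedSeries H k).map H.subtype = dser H k := by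
  induction k with
  | zero =>
    rw [derivedSeries_zero, dser_zero, ← MonoidHom.range_eq_map, Subgroup.range_subtype]
  | succ k ih =>
    rw [derivedSeries_succ, Subgroup.map_commutator, ih, dser_succ]

/-- in a solvable subgroup `H`, a nontrivial subgroup `D ≤ H` has `⁅D, D⁆ < D` -/
theorem commutator_lt_of_le_of_ne_bot (H : Subgroup G) [Group.IsSolvable H] {D : Subgroup G}
    (hD : D ≤ H) (hne : D ≠ ⊥) : ⁅D, D⁆ < D := by
  have h1 : (D.subgroupOf H).map H.subtype = D := by
    rw [Subgroup.map_subgroupOf_eq_of_le hD]
  have hne' : D.subgroupOf H ≠ ⊥ := by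
    intro h
    apply hne
    rw [← h1, h, Subgroup.map_bot]
  have h2 := Group.IsSolvable.commutator_lt_of_ne_bot hne'
  have h3 := (Subgroup.map_lt_map_iff_of_injective (f := H.subtype)
    (Subgroup.subtype_injective H)).mpr h2
  rwa [Subgroup.map_commutator, h1] at h3

theorem dser_eq_bot_of_card_le [Finite G] (H : Subgroup G) [Group.IsSolvable H] {B : ℕ}
    (hB : Nat.card H ≤ B) : dser H B = ⊥ := by
  have key : ∀ k : ℕ, dser H k = ⊥ ∨ Nat.card (dser H k) + k ≤ Nat.card H := by
    intro k
    induction k with
    | zero => right; rfl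
    | succ k ih =>
      by_cases hne : dser H k = ⊥
      · left
        rw [dser_succ, hne, Subgroup.commutator_bot_left]
      · right
        have hlt : dser H (k + 1) < dser H k := by
          rw [dser_succ]
          exact commutator_lt_of_le_of_ne_bot H (dser_le_self H k) hne
        have hcard : Nat.card (dser H (k + 1)) < Nat.card (dser H k) := by
          have hle := Subgroup.card_le_of_le hlt.le
          rcases hle.lt_or_eq with h | h
          · exact h
          · exfalso
            exact hlt.ne (Subgroup.eq_of_le_of_card_ge hlt.le h.ge)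
        rcases ih with h | h
        · exact absurd h hne
        · omega
  rcases key B with h | h
  · exact h
  · exfalso
    have hpos : 0 < Nat.card (dser H B) := Nat.card_pos
    omega

theorem dser_top_le_of_index_le [Finite G] [Group.IsSolvable G] (H : Subgroup G) [H.Normal] {B : ℕ}
    (hB : H.index ≤ B) : dser (⊤ : Subgroup G) B ≤ H := by
  have hcard : Nat.card (⊤ : Subgroup (G ⧸ H)) ≤ B := by
    rw [Subgroup.card_top]
    exact hB
  have h1 : dser (⊤ : Subgroup (G ⧸ H)) B = ⊥ := dser_eq_bot_of_card_le _ hcard
  rw [dser_top] at h1 ⊢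
  have h2 := map_derivedSeries_le_derivedSeries (QuotientGroup.mk' H) B
  rw [h1, le_bot_iff, Subgroup.map_eq_bot_iff, QuotientGroup.ker_mk'] at h2
  exact h2

theorem dser_le_lowerCentralSeries (H : Subgroup G) (k : ℕ) :
    dser H k ≤ H.lowerCentralSeries k := by
  induction k with
  | zero => exact le_rfl
  | succ k ih =>
    rw [dser_succ, Subgroup.lowerCentralSeries_succ]
    exact Subgroup.commutator_mono ih (dser_le_self H k)

end Cfsg.Agent.Helper29.Alp
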