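import Cfsg.Agent.Helper29.BG10A
import Cfsg.Agent.S1450
import Cfsg.Agent.Helper54.PLength
import Cfsg.Agent.Helper31.LocalCore

set_option autoImplicit false
set_option linter.unusedSectionVars false
set_option linter.unusedVariables false
set_option linter.style.haveILetI false

/-!
# B-G §10, part B: Frattini argument in a local subgroup of `p`-rank at most 2 (helper29)
-/

namespace Cfsg.Agent.Helper29.BG10

open Cfsg Cfsg.Agent.Helper21

variable {G : Type*} [Group G]

/-- a `p`-subgroup lies in every normal subgroup of index prime to `p` -/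
theorem le_of_index_coprime [Finite G] {p : ℕ} [Fact p.Prime] (U : Subgroup G) [U.Normal]
    (hU : (U.index).Coprime p) (P : Subgroup G) (hP : IsPGroup p P) : P ≤ U := by
  intro g hg
  obtain ⟨k, hk⟩ := hP ⟨g, hg⟩
  have hk' : g ^ p ^ k = 1 := by
    have := congrArg Subtype.val hk
    simpa using this
  have h1 : orderOf (QuotientGroup.mk' U g) ∣ p ^ k := by
    apply orderOf_dvd_of_pow_eq_one
    rw [← map_pow, hk', map_one]
  have h2 : orderOf (QuotientGroup.mk' U g) ∣ Nat.card (G ⧸ U) := orderOf_dvd_natCard _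
  have hcop : (Nat.card (G ⧸ U)).Coprime (p ^ k) := by
    rw [← Subgroup.index_eq_card]
    exact Nat.Coprime.pow_right k hU
  have h3 : orderOf (QuotientGroup.mk' U g) = 1 := Nat.eq_one_of_dvd_coprimes hcop h2 h1
  rw [orderOf_eq_one_iff, QuotientGroup.mk'_apply, QuotientGroup.eq_one_iff] at h3
  exact h3

/-- the `p`-rank of a group is that of a Sylow `p`-subgroup -/
theorem pRankLE_of_isSylowIn [Finite G] {p : ℕ} [Fact p.Prime] {N R : Subgroup G}
    (hR : IsSylowIn p R N) (hrk : Cfsg.PRankLE p 2 ↥R) : Cfsg.PRankLE p 2 ↥N := by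
  by_contra hcon
  obtain ⟨E, hEN, hEc, hEe, hEcard⟩ := (not_prankLE_iff N).1 hcon
  have hEp : IsPGroup p E := by
    intro g
    refine ⟨1, ?_⟩
    apply Subtype.ext
    simpa using hEe g.1 g.2
  obtain ⟨a, haN, ha⟩ :=
    Cfsg.Agent.Helper84.exists_conj_le_of_relIndex N R E hR.1 hR.2.1 hR.2.2 hEN hEp
  have h1 : HasEA p 2 E := ⟨E, le_rfl, hEc, hEe, hEcard⟩
  have h2 := h1.map_conj a
  have h3 : E.map (MulAut.conj a).toMonoidHom ≤ R := by
    rintro _ ⟨b, hb, rfl⟩
    simpa [MulAut.conj_apply] using ha b hb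
  exact (not_prankLE_iff R).2 (h2.mono h3) hrk

/-- Frattini argument in `N = N_G(X)`-like groups of `p`-rank at most two. -/
theorem frattini_rank_two [Finite G] {p : ℕ} [Fact p.Prime] (N X R : Subgroup G)
    (hNsolv : Group.IsSolvable ↥N) (hNodd : Odd (Nat.card ↥N))
    (hXp : IsPGroup p X) (hX1 : X ≠ ⊥) (hXN : X ≤ N)
    (hNX : N ≤ Subgroup.normalizer (X : Set G))
    (hR : IsSylowIn p R N) (hrk : Cfsg.PRankLE p 2 ↥R) :
    ∀ n ∈ N, ∃ u ∈ Subgroup.centralizer (X : Set G), ∃ n₁ ∈ N ⊓ Subgroup.normalizer (R : Set G),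
      n = u * n₁ := by
  classical
  have hpp : p.Prime := Fact.out
  haveI := hNsolv
  -- p divides |N|
  have hpN : p ∣ Nat.card ↥N := by
    obtain ⟨k, hk⟩ := hXp.exists_card_eq
    have hk0 : k ≠ 0 := by
      intro h0
      rw [h0, pow_zero] at hk
      exact hX1 ((Subgroup.card_eq_one).1 hk)
    have h1 : p ∣ Nat.card X := by rw [hk]; exact dvd_pow_self p hk0
    exact h1.trans (Subgroup.card_dvd_of_le hXN)
  have hΓrk : Cfsg.PRankLE p 2 ↥N := pRankLE_of_isSylowIn hR hrk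
  have hidx : ((Cfsg.pPrimePCore p ↥N).index).Coprime p :=
    (Cfsg.Agent.S1450.result (G := ↥N) hNodd p hpN hΓrk).2.2.2.2.2
  -- the Sylow subgroup of ↥N attached to R
  have hRp' : IsPGroup p (R.subgroupOf N) := hR.2.1.comap_subtype
  have hRidx : ¬ p ∣ (R.subgroupOf N).index := hR.2.2
  let T : Sylow p ↥N := hRp'.toSylow hRidx
  have hTcoe : (T : Subgroup ↥N) = R.subgroupOf N := IsPGroup.toSylow_coe hRp' hRidx
  haveI hWn : (Cfsg.pPrimePCore p ↥N).Normal := by unfold Cfsg.pPrimePCore; infer_instance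
  have hTW : (T : Subgroup ↥N) ≤ Cfsg.pPrimePCore p ↥N :=
    le_of_index_coprime _ hidx _ T.isPGroup'
  have h1 := Sylow.normalizer_sup_eq_top' T hTW
  rw [Cfsg.Agent.Helper54.pPrimePCore_eq_sup T hTW, ← sup_assoc] at h1
  have h2 : Subgroup.normalizer ((T : Subgroup ↥N) : Set ↥N) ⊔ (T : Subgroup ↥N) =
      Subgroup.normalizer ((T : Subgroup ↥N) : Set ↥N) := sup_of_le_left Subgroup.le_normalizer
  have h1' : Subgroup.normalizer ((T : Subgroup ↥N) : Set ↥N) ⊔ Cfsg.pPrimeCore p ↥N = ⊤ := by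
    rw [← h2]; exact h1
  -- X as a normal p-subgroup of ↥N
  haveI hXn : (X.subgroupOf N).Normal :=
    (Subgroup.normal_subgroupOf_iff_le_normalizer hXN).2 hNX
  have hXp' : IsPGroup p (X.subgroupOf N) := hXp.comap_subtype
  have hcent := Cfsg.Agent.Helper31.pPrimeCore_le_centralizer (Γ := ↥N) (p := p)
    (X.subgroupOf N) hXp'
  intro n hn
  have hmem : (⟨n, hn⟩ : ↥N) ∈ Cfsg.pPrimeCore p ↥N ⊔
      Subgroup.normalizer ((T : Subgroup ↥N) : Set ↥N) := by
    rw [sup_comm, h1']; exact Subgroup.mem_top _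
  haveI : (Cfsg.pPrimeCore p ↥N).Normal := by unfold Cfsg.pPrimeCore; exact Subgroup.sSup_normal _ (fun _ h => h.1)
  obtain ⟨k, hk, m, hm, hkm⟩ := Subgroup.mem_sup_of_normal_left.1 hmem
  refine ⟨(k : G), ?_, (m : G), Subgroup.mem_inf.mpr ⟨m.2, ?_⟩, ?_⟩
  · -- k centralizes X
    rw [Subgroup.mem_centralizer_iff]
    intro x hx
    have hk' := Subgroup.mem_centralizer_iff.1 (hcent hk) ⟨x, hXN hx⟩
      (Subgroup.mem_subgroupOf.2 hx)
    exact congrArg Subtype.val hk'
  · -- m normalizes R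
    rw [Subgroup.mem_normalizer_iff] at hm ⊢
    intro h
    constructor
    · intro hh
      have hhN : h ∈ N := hR.1 hh
      have h3 : (⟨h, hhN⟩ : ↥N) ∈ (T : Subgroup ↥N) := by
        rw [hTcoe]; exact Subgroup.mem_subgroupOf.2 hh
      have h4 := (hm ⟨h, hhN⟩).1 h3
      rw [hTcoe] at h4
      have := Subgroup.mem_subgroupOf.1 h4
      simpa using this
    · intro hh
      have hhN : h ∈ N := by
        have h5 : (m : G) * h * (m : G)⁻¹ ∈ N := hR.1 hh
        have e : h = (m : G)⁻¹ * ((m : G) * h * (m : G)⁻¹) * (m : G) := by group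
        rw [e]
        exact N.mul_mem (N.mul_mem (N.inv_mem m.2) h5) m.2
      have h3 : m * (⟨h, hhN⟩ : ↥N) * m⁻¹ ∈ (T : Subgroup ↥N) := by
        rw [hTcoe]; exact Subgroup.mem_subgroupOf.2 (by simpa using hh)
      have h4 := (hm ⟨h, hhN⟩).2 h3
      rw [hTcoe] at h4
      exact Subgroup.mem_subgroupOf.1 h4
  · have := congrArg Subtype.val hkm
    simpa using this.symm

end Cfsg.Agent.Helper29.BG10
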