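import Cfsg.Agent.Helper29.BG10B

set_option autoImplicit false
set_option linter.unusedSectionVars false
set_option linter.unusedVariables false
set_option linter.style.haveILetI false

/-!
# B-G §10, part C: Theorem 10.1 (conjugacy of `p`-subgroups of `M` for `p ∈ σ(M)`) (helper29)
-/

namespace Cfsg.Agent.Helper29.BG10

open Cfsg

variable {G : Type*} [Group G]

theorem mem_normalizer_of_cj_eq {g : G} {X : Subgroup G} (h : cj g X = X) :
    g ∈ Subgroup.normalizer (X : Set G) := by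
  rw [Subgroup.mem_normalizer_iff]
  intro x
  have h1 : g * x * g⁻¹ ∈ X ↔ g * x * g⁻¹ ∈ cj g X := by rw [h]
  rw [h1, mem_cj]
  have e : g⁻¹ * (g * x * g⁻¹) * g = x := by group
  rw [e]

theorem cj_eq_of_mem_normalizer {g : G} {X : Subgroup G}
    (h : g ∈ Subgroup.normalizer (X : Set G)) : cj g X = X := by
  ext x
  rw [mem_cj]
  have := (Subgroup.mem_normalizer_iff.1 (Subgroup.inv_mem _ h)) x
  rw [inv_inv] at this
  exact this.symm

/-- standing hypotheses for Theorem 10.1 -/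
structure SigmaCtx [Finite G] (p : ℕ) (M : Subgroup G) : Prop where
  odd : Odd (Nat.card G)
  solv : ∀ H : Subgroup G, H ≠ ⊤ → Group.IsSolvable ↥H
  norm : ∀ X : Subgroup G, IsPGroup p X → X ≠ ⊥ → Subgroup.normalizer (X : Set G) ≠ ⊤
  uniq : ∀ R : Subgroup G, IsPGroup p R → ¬ Cfsg.PRankLE p 2 ↥R → Cfsg.InUniqueMaximal R
  coatom : IsCoatom M
  sylNorm : ∀ S : Subgroup G, IsSylowIn p S M → Subgroup.normalizer (S : Set G) ≤ M
  sylTop : ∃ P₀ : Subgroup G, IsSylowIn p P₀ ⊤ ∧ P₀ ≤ M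

/-- the transitivity property of Theorem 10.1(a) -/
def Trans (M X : Subgroup G) : Prop :=
  ∀ g : G, X ≤ cj g M → ∃ c ∈ Subgroup.centralizer (X : Set G), ∃ m ∈ M, g = c * m

variable [Finite G] {p : ℕ} [Fact p.Prime] {M : Subgroup G}

theorem relIndex_eq_of_card_eq {X X' M : Subgroup G} (hX : X ≤ M) (hX' : X' ≤ M)
    (hc : Nat.card X' = Nat.card X) : X'.relIndex M = X.relIndex M := by
  have h1 := Cfsg.Agent.Helper31.relIndex_mul_card' hX
  have h2 := Cfsg.Agent.Helper31.relIndex_mul_card' hX'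
  rw [hc, ← h1] at h2
  exact Nat.eq_of_mul_eq_mul_right Nat.card_pos h2

theorem isSylowIn_of_card_eq {X X' M : Subgroup G} (h : IsSylowIn p X M) (hX' : X' ≤ M)
    (hp : IsPGroup p X') (hc : Nat.card X' = Nat.card X) : IsSylowIn p X' M :=
  ⟨hX', hp, by rw [relIndex_eq_of_card_eq h.1 hX' hc]; exact h.2.2⟩

/-- the case where `X` is a Sylow `p`-subgroup of `M` -/
theorem trans_of_isSylowIn (h : SigmaCtx p M) {X : Subgroup G} (hX : IsSylowIn p X M) :
    Trans M X := by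
  intro g hg
  have hX'M : cj g⁻¹ X ≤ M := by
    rw [cj_le_iff, inv_inv]; exact hg
  have hX' : IsSylowIn p (cj g⁻¹ X) M :=
    isSylowIn_of_card_eq hX hX'M (isPGroup_cj hX.2.1) (card_cj _ _)
  obtain ⟨m, hmM, hm⟩ := hX.exists_cj_eq hX'
  rw [← cj_mul] at hm
  have h1 : m * g⁻¹ ∈ M := h.sylNorm X hX (mem_normalizer_of_cj_eq hm)
  have h2 : g⁻¹ ∈ M := by
    have : g⁻¹ = m⁻¹ * (m * g⁻¹) := by group
    rw [this]
    exact M.mul_mem (M.inv_mem hmM) h1
  refine ⟨1, Subgroup.one_mem _, g, ?_, by simp⟩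
  simpa using M.inv_mem h2

/-- a Sylow `p`-subgroup of `N_G(X)` inside `M` -/
theorem exists_sylow_normalizer_le (h : SigmaCtx p M) {X : Subgroup G} (hXp : IsPGroup p X)
    (hXM : X ≤ M) (hns : ¬ IsSylowIn p X M)
    (IH : ∀ Y : Subgroup G, IsPGroup p Y → Y ≤ M → Nat.card X < Nat.card Y → Trans M Y) :
    ∃ R : Subgroup G, IsSylowIn p R (Subgroup.normalizer (X : Set G)) ∧ R ≤ M ∧ X ≤ R ∧
      Nat.card X < Nat.card R := by
  obtain ⟨S, hXS, hS⟩ := exists_isSylowIn_ge hXM hXp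
  have hlt : X < S := by
    refine lt_of_le_of_ne hXS ?_
    intro he
    apply hns
    rw [he]; exact hS
  have hltY := Cfsg.Agent.Helper31.bgt_lt_inf_normalizer_of_lt hS.2.1 hlt
  set Y : Subgroup G := S ⊓ Subgroup.normalizer (X : Set G) with hY
  have hYM : Y ≤ M := inf_le_left.trans hS.1
  have hYp : IsPGroup p Y := hS.2.1.to_le inf_le_left
  have hYN : Y ≤ Subgroup.normalizer (X : Set G) := inf_le_right
  have hcardY : Nat.card X < Nat.card Y := by
    have h1 := Subgroup.card_le_of_le hltY.le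
    rcases lt_or_eq_of_le h1 with h2 | h2
    · exact h2
    · exact absurd (Subgroup.eq_of_le_of_card_ge hltY.le (le_of_eq h2.symm)) hltY.ne
  obtain ⟨R₀, hYR₀, hR₀⟩ := exists_isSylowIn_ge hYN hYp
  obtain ⟨P₀, hP₀, hP₀M⟩ := h.sylTop
  obtain ⟨a, -, ha⟩ := Cfsg.Agent.Helper84.exists_conj_le_of_relIndex ⊤ P₀ R₀ hP₀.1 hP₀.2.1
    hP₀.2.2 le_top hR₀.2.1
  have hR₀a : R₀ ≤ cj a⁻¹ M := by
    rw [le_cj_iff]
    intro x hx
    have := hP₀M (ha x hx)
    simpa using this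
  obtain ⟨c, hc, m, hmM, hcm⟩ := IH Y hYp hYM hcardY a⁻¹ (hYR₀.trans hR₀a)
  have hcjM : cj a⁻¹ M = cj c M := by
    rw [hcm, cj_mul, cj_eq_self_of_mem hmM]
  rw [hcjM] at hR₀a
  have hcX : c ∈ Subgroup.centralizer (X : Set G) := centralizer_le_of_le hltY.le hc
  have hcN : c⁻¹ ∈ Subgroup.normalizer (X : Set G) :=
    Subgroup.inv_mem _ (Subgroup.centralizer_le_normalizer _ hcX)
  refine ⟨cj c⁻¹ R₀, hR₀.cj_mem hcN, ?_, ?_, ?_⟩
  · rw [cj_le_iff, inv_inv]; exact hR₀a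
  · exact (hR₀.cj_mem hcN).normal_le hXp le_rfl Subgroup.le_normalizer
  · rw [card_cj]
    exact lt_of_lt_of_le hcardY (Subgroup.card_le_of_le hYR₀)

/-- `N_G(X) = C_G(X) N_M(X)` -/
theorem normalizer_factor (h : SigmaCtx p M) {X R : Subgroup G} (hXp : IsPGroup p X)
    (hX1 : X ≠ ⊥) (hXM : X ≤ M)
    (hR : IsSylowIn p R (Subgroup.normalizer (X : Set G))) (hRM : R ≤ M) (hXR : X ≤ R)
    (hTR : Trans M R) :
    ∀ n ∈ Subgroup.normalizer (X : Set G), ∃ c ∈ Subgroup.centralizer (X : Set G), ∃ m ∈ M,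
      n = c * m := by
  intro n hn
  have hNtop := h.norm X hXp hX1
  by_cases hrk : Cfsg.PRankLE p 2 ↥R
  · have hNodd : Odd (Nat.card ↥(Subgroup.normalizer (X : Set G))) :=
      Odd.of_dvd_nat h.odd (Subgroup.card_subgroup_dvd_card _)
    obtain ⟨u, hu, n₁, hn₁, hun⟩ := frattini_rank_two _ X R (h.solv _ hNtop) hNodd hXp hX1
      Subgroup.le_normalizer le_rfl hR hrk n hn
    have hn₁R : n₁ ∈ Subgroup.normalizer (R : Set G) := (Subgroup.mem_inf.1 hn₁).2
    have hRle : R ≤ cj n₁ M := by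
      rw [le_cj_iff]
      intro r hr
      have := (Subgroup.mem_normalizer_iff.1 (Subgroup.inv_mem _ hn₁R) r).1 hr
      rw [inv_inv] at this
      exact hRM this
    obtain ⟨c₁, hc₁, m₁, hm₁, hcm⟩ := hTR n₁ hRle
    refine ⟨u * c₁, Subgroup.mul_mem _ hu (centralizer_le_of_le hXR hc₁), m₁, hm₁, ?_⟩
    rw [hun, hcm, mul_assoc]
  · obtain ⟨M', ⟨hM'c, hRM'⟩, huniq⟩ := h.uniq R hR.2.1 hrk
    obtain ⟨M'', hM''c, hNM''⟩ := (eq_top_or_exists_le_coatom _).resolve_left hNtop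
    have e1 : M'' = M' := huniq M'' ⟨hM''c, hR.1.trans hNM''⟩
    have e2 : M = M' := huniq M ⟨h.coatom, hRM⟩
    have hNM : Subgroup.normalizer (X : Set G) ≤ M := by rw [e2, ← e1]; exact hNM''
    exact ⟨1, Subgroup.one_mem _, n, hNM hn, by simp⟩

/-- the inductive step in the non-Sylow case -/
theorem trans_step (h : SigmaCtx p M) {X : Subgroup G} (hXp : IsPGroup p X) (hX1 : X ≠ ⊥)
    (hXM : X ≤ M) (hns : ¬ IsSylowIn p X M)
    (IH : ∀ Y : Subgroup G, IsPGroup p Y → Y ≤ M → Nat.card X < Nat.card Y → Trans M Y) :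
    Trans M X := by
  obtain ⟨R, hR, hRM, hXR, hcardR⟩ := exists_sylow_normalizer_le h hXp hXM hns IH
  have hTR : Trans M R := IH R hR.2.1 hRM hcardR
  have hfac := normalizer_factor h hXp hX1 hXM hR hRM hXR hTR
  intro g hg
  -- the conjugate X' = g⁻¹ X g
  have hX'M : cj g⁻¹ X ≤ M := by
    rw [cj_le_iff, inv_inv]; exact hg
  have hX'p : IsPGroup p (cj g⁻¹ X) := isPGroup_cj hXp
  have hX'card : Nat.card (cj g⁻¹ X) = Nat.card X := card_cj _ _
  have hns' : ¬ IsSylowIn p (cj g⁻¹ X) M := by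
    intro hs
    exact hns (isSylowIn_of_card_eq hs hXM hXp hX'card.symm)
  have IH' : ∀ Y : Subgroup G, IsPGroup p Y → Y ≤ M → Nat.card (cj g⁻¹ X) < Nat.card Y →
      Trans M Y := by
    intro Y hYp hYM hc
    rw [hX'card] at hc
    exact IH Y hYp hYM hc
  obtain ⟨R₁, hR₁, hR₁M, -, -⟩ := exists_sylow_normalizer_le h hX'p hX'M hns' IH'
  have hR₂ : IsSylowIn p (cj g R₁) (Subgroup.normalizer (X : Set G)) := by
    have := hR₁.cj g
    rwa [normalizer_cj, cj_cj_inv] at this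
  obtain ⟨n, hnN, hn⟩ := hR.exists_cj_eq hR₂
  rw [← cj_mul] at hn
  have hRle : R ≤ cj (n * g) M := by
    rw [← hn]; exact cj_mono hR₁M
  obtain ⟨c₁, hc₁, m₁, hm₁, hcm⟩ := hTR (n * g) hRle
  obtain ⟨c₂, hc₂, m₂, hm₂, hcm₂⟩ := hfac n⁻¹ (Subgroup.inv_mem _ hnN)
  have hm₂N : m₂ ∈ Subgroup.normalizer (X : Set G) := by
    have e : m₂ = c₂⁻¹ * n⁻¹ := by rw [hcm₂]; group
    rw [e]
    exact Subgroup.mul_mem _
      (Subgroup.inv_mem _ (Subgroup.centralizer_le_normalizer _ hc₂)) (Subgroup.inv_mem _ hnN)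
  have hc₁X : c₁ ∈ Subgroup.centralizer (X : Set G) := centralizer_le_of_le hXR hc₁
  refine ⟨c₂ * (m₂ * c₁ * m₂⁻¹), Subgroup.mul_mem _ hc₂ (conj_mem_centralizer hm₂N hc₁X),
    m₂ * m₁, M.mul_mem hm₂ hm₁, ?_⟩
  have e : g = n⁻¹ * (n * g) := by group
  rw [e, hcm₂, hcm]
  group

/-- **B-G Theorem 10.1(a)** -/
theorem trans_main (h : SigmaCtx p M) :
    ∀ X : Subgroup G, IsPGroup p X → X ≠ ⊥ → X ≤ M → Trans M X := by
  have key : ∀ k : ℕ, ∀ X : Subgroup G, IsPGroup p X → X ≠ ⊥ → X ≤ M →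
      Nat.card G - Nat.card X = k → Trans M X := by
    intro k
    induction k using Nat.strong_induction_on with
    | _ k ih =>
      intro X hXp hX1 hXM hk
      by_cases hs : IsSylowIn p X M
      · exact trans_of_isSylowIn h hs
      · apply trans_step h hXp hX1 hXM hs
        intro Y hYp hYM hc
        have hY1 : Y ≠ ⊥ := by
          intro hb
          rw [hb, Subgroup.card_bot] at hc
          have : 0 < Nat.card X := Nat.card_pos
          omega
        have hle : Nat.card Y ≤ Nat.card G := Subgroup.card_le_card_group Y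
        exact ih (Nat.card G - Nat.card Y) (by omega) Y hYp hY1 hYM rfl
  intro X hXp hX1 hXM
  exact key _ X hXp hX1 hXM rfl

end Cfsg.Agent.Helper29.BG10
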