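import Cfsg.Agent.Helper29.BG11A
import Cfsg.Agent.Helper62.FrobActGroup
import Cfsg.Agent.S1392

set_option autoImplicit false
set_option linter.unusedSectionVars false
set_option linter.unusedVariables false
set_option linter.style.haveILetI false

/-!
# B-G §11, part B: Lemmas 11.1 - 11.4 for an exceptional maximal subgroup, given the Uniqueness
Theorem and `p`-length one of proper subgroups (helper29)
-/

namespace Cfsg.Agent.Helper29.BG11

open Cfsg Cfsg.Agent.Helper29.BG10 Cfsg.Agent.Helper21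

variable {G : Type*} [Group G] [Finite G]

/-- an `A`-invariant Sylow `q`-subgroup of `G` is a member of `И*_G(A; q)` -/
theorem mem_maxInv_of_isSylowIn_top {q : ℕ} [Fact q.Prime] {A Q : Subgroup G}
    (hQ : IsSylowIn q Q ⊤) (hAQ : A ≤ Subgroup.normalizer (Q : Set G)) :
    Q ∈ Cfsg.maxInvSubgroups ⊤ A {q} := by
  have hq : q.Prime := Fact.out
  refine ⟨Cfsg.Agent.Helper31.mem_invSubgroups_of_isPGroup hq hQ.2.1 hAQ, fun R hR hQR => ?_⟩
  have hRq : IsPGroup q R := Cfsg.Agent.Helper31.isPGroup_of_primes_singleton hq hR.2.1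
  apply le_antisymm _ hQR
  apply Subgroup.relIndex_eq_one.1
  obtain ⟨n, hn⟩ := hRq.index (Q.subgroupOf R)
  have h1 : Q.relIndex R = q ^ n := hn
  have h2 := Subgroup.relIndex_mul_relIndex Q R ⊤ hQR le_top
  rcases Nat.eq_zero_or_pos n with h0 | h0
  · rw [h1, h0, pow_zero]
  · exfalso
    apply hQ.2.2
    rw [← h2, h1]
    exact Dvd.dvd.mul_right (dvd_pow_self q h0.ne') _

variable {p : ℕ} [Fact p.Prime] {M A A₀ : Subgroup G}

/-- the key step of B-G Lemma 11.1: `A`-invariant Sylow `q`-subgroups `Q₁` of `M` and `Q₂` of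
`M^g`, `g ∉ M`, `q ∈ σ(M)`, cannot both meet a proper subgroup `H ≥ A` nontrivially -/
theorem key_11_1 (hG : Cfsg.IsMinSimpleOddOrder G) (hU : UniquenessThm G)
    (hPL : ∀ (r : ℕ) [Fact r.Prime] (H : Subgroup G), H ≠ ⊤ → Cfsg.PLengthLE r 1 ↥H)
    (h : Exc p M A A₀) {g : G} (hg : g ∉ M) {q : ℕ} [Fact q.Prime] (hq : q ∈ Cfsg.sigma M)
    {Q₁ Q₂ : Subgroup G} (h₁ : IsSylowIn q Q₁ M) (hA₁ : A ≤ Subgroup.normalizer (Q₁ : Set G))
    (h₂ : IsSylowIn q Q₂ (cj g M)) (hA₂ : A ≤ Subgroup.normalizer (Q₂ : Set G))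
    (H : Subgroup G) (hH : H ≠ ⊤) (hAH : A ≤ H) (hH₁ : H ⊓ Q₁ ≠ ⊥) (hH₂ : H ⊓ Q₂ ≠ ⊥) :
    False := by
  have hqp : q.Prime := Fact.out
  obtain ⟨hN₁, hT₁⟩ := sylow_of_mem_sigma hq h₁
  have h₂' : IsSylowIn q (cj g⁻¹ Q₂) M := by
    have := h₂.cj g⁻¹
    rwa [cj_inv_cj] at this
  obtain ⟨hN₂', hT₂'⟩ := sylow_of_mem_sigma hq h₂'
  have hT₂ : IsSylowIn q Q₂ ⊤ := by
    have := hT₂'.cj g
    rwa [cj_cj_inv, cj_top] at this
  have m₁ := mem_maxInv_of_isSylowIn_top hT₁ hA₁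
  have m₂ := mem_maxInv_of_isSylowIn_top hT₂ hA₂
  have hqA : ¬ q ∣ Nat.card A := h.not_dvd_of_mem_sigma hq
  obtain ⟨k, hk, hkQ⟩ := Cfsg.Agent.S1392.result hG A (h.transitivity hG hU hPL) q hqp hqA
    Q₁ Q₂ m₁ m₂ H hH hAH hH₁ hH₂
  have hkM : k ∈ M := h.centralizer_le (Cfsg.Agent.Helper31.piCoreOf_le _ _ hk)
  have hkQ' : Q₂ = cj k Q₁ := hkQ
  have hQ₂M : Q₂ ≤ M := by
    rw [hkQ', ← cj_eq_self_of_mem hkM]
    exact cj_mono h₁.1
  have hQ₂1 : Q₂ ≠ ⊥ := by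
    intro hb
    apply hH₂
    rw [hb, inf_bot_eq]
  have hN₂ : Subgroup.normalizer (Q₂ : Set G) ≤ M := by
    rw [hkQ', normalizer_cj, ← cj_eq_self_of_mem hkM]
    exact cj_mono hN₁
  have h3 : cj g⁻¹ Q₂ ≤ M := h₂'.1
  obtain ⟨m, hm, c, hc, hgmc⟩ := (thm_10_1 hG hU M h.hM hq Q₂ h₂.2.1 hQ₂1 hQ₂M).1 g⁻¹ h3
  have hcM : c ∈ M := hN₂ (Subgroup.centralizer_le_normalizer _ hc)
  apply hg
  have : g = (g⁻¹)⁻¹ := by simp
  rw [this, hgmc]
  exact M.inv_mem (M.mul_mem hm hcM)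

/-- **B-G Lemma 11.1** -/
theorem lemma_11_1 (hG : Cfsg.IsMinSimpleOddOrder G) (hU : UniquenessThm G)
    (hPL : ∀ (r : ℕ) [Fact r.Prime] (H : Subgroup G), H ≠ ⊤ → Cfsg.PLengthLE r 1 ↥H)
    (h : Exc p M A A₀) {g : G} (hg : g ∉ M) {q : ℕ} [Fact q.Prime] (hq : q ∈ Cfsg.sigma M)
    {Q₁ Q₂ : Subgroup G} (h₁ : IsSylowIn q Q₁ (Cfsg.sigmaCore M))
    (hA₁ : A ≤ Subgroup.normalizer (Q₁ : Set G))
    (h₂ : IsSylowIn q Q₂ (cj g (Cfsg.sigmaCore M)))
    (hA₂ : A ≤ Subgroup.normalizer (Q₂ : Set G)) :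
    Q₁ ⊓ Q₂ = ⊥ ∧ ∀ X : Subgroup G, X ≤ A → X ≠ ⊥ →
      Q₁ ⊓ Subgroup.centralizer (X : Set G) = ⊥ ∨ Q₂ ⊓ Subgroup.centralizer (X : Set G) = ⊥ := by
  haveI : IsSimpleGroup G := hG.2.1
  have h₁' : IsSylowIn q Q₁ M := (isSylowIn_sigmaCore_iff hG hU h.hM hq).1 h₁
  have h₂' : IsSylowIn q Q₂ (cj g M) := by
    have hq' : q ∈ Cfsg.sigma (cj g M) := by rw [sigma_cj]; exact hq
    have := (isSylowIn_sigmaCore_iff hG hU (isCoatom_cj h.hM g) hq' (Q := Q₂)).1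
    rw [sigmaCore_cj hG hU h.hM] at this
    exact this h₂
  constructor
  · by_contra hD
    have hDp : IsPGroup q ↥(Q₁ ⊓ Q₂) := h₁.2.1.to_le inf_le_left
    have hHtop : Subgroup.normalizer ((Q₁ ⊓ Q₂ : Subgroup G) : Set G) ≠ ⊤ :=
      Cfsg.Agent.Helper31.bgt_normalizer_ne_top_of_simple hD (isPGroup_ne_top hG hDp)
    have hAH : A ≤ Subgroup.normalizer ((Q₁ ⊓ Q₂ : Subgroup G) : Set G) :=
      (le_inf hA₁ hA₂).trans (Cfsg.Agent.Helper29.normalizer_inf_normalizer_le _ _)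
    refine key_11_1 hG hU hPL h hg hq h₁' hA₁ h₂' hA₂ _ hHtop hAH ?_ ?_
    · intro hb
      apply hD
      rw [eq_bot_iff, ← hb]
      exact le_inf Subgroup.le_normalizer inf_le_left
    · intro hb
      apply hD
      rw [eq_bot_iff, ← hb]
      exact le_inf Subgroup.le_normalizer inf_le_right
  · intro X hXA hX1
    by_contra hcon
    push Not at hcon
    have hHtop : Subgroup.centralizer (X : Set G) ≠ ⊤ := centralizer_ne_top hG hX1
    have hAH : A ≤ Subgroup.centralizer (X : Set G) :=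
      h.le_centralizer.trans (Subgroup.centralizer_le hXA)
    refine key_11_1 hG hU hPL h hg hq h₁' hA₁ h₂' hA₂ _ hHtop hAH ?_ ?_
    · rw [inf_comm]; exact hcon.1
    · rw [inf_comm]; exact hcon.2


/-- **B-G Lemma 11.2** -/
theorem lemma_11_2 (hG : Cfsg.IsMinSimpleOddOrder G) (hU : UniquenessThm G)
    (hPL : ∀ (r : ℕ) [Fact r.Prime] (H : Subgroup G), H ≠ ⊤ → Cfsg.PLengthLE r 1 ↥H)
    (h : Exc p M A A₀) {g : G} (hg : g ∉ M) (hAg : A ≤ cj g M) :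
    Cfsg.sigmaCore M ⊓ cj g M = ⊥ ∧
      Cfsg.sigmaCore M ⊓ Subgroup.centralizer ((cj g A₀ : Subgroup G) : Set G) = ⊥ := by
  have ha : Cfsg.sigmaCore M ⊓ cj g M = ⊥ := by
    by_contra hD
    set D : Subgroup G := Cfsg.sigmaCore M ⊓ cj g M with hDdef
    have hcard : Nat.card D ≠ 1 := fun h1 => hD (Subgroup.card_eq_one.1 h1)
    obtain ⟨q, hqp, hqD⟩ := Nat.exists_prime_and_dvd hcard
    haveI : Fact q.Prime := ⟨hqp⟩
    have hq : q ∈ Cfsg.sigma M :=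
      primes_sigmaCore M q hqp (hqD.trans (Subgroup.card_dvd_of_le inf_le_left))
    have hAD : A ≤ Subgroup.normalizer (D : Set G) :=
      (le_inf h.le_normalizer_sigmaCore (hAg.trans Subgroup.le_normalizer)).trans
        (Cfsg.Agent.Helper29.normalizer_inf_normalizer_le _ _)
    have hcopD : (Nat.card A).Coprime (Nat.card D) :=
      Nat.Coprime.coprime_dvd_right (Subgroup.card_dvd_of_le inf_le_left) h.coprime_sigmaCore
    have hbotN : A ≤ Subgroup.normalizer (((⊥ : Subgroup G) : Subgroup G) : Set G) := by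
      rw [Subgroup.normalizer_eq_top_iff.2 inferInstance]; exact le_top
    obtain ⟨Dq, -, hDqD, hDqp, hADq, hDqc⟩ := Cfsg.Agent.Helper29.exists_invariant_sylow_ge
      (q := q) h.isPGroup hAD hcopD (bot_le : (⊥ : Subgroup G) ≤ D) IsPGroup.of_bot hbotN
    have hDq1 : Dq ≠ ⊥ := by
      intro hb
      rw [hb, Subgroup.card_bot] at hDqc
      have hpos : 0 < (Nat.card D).factorization q :=
        hqp.factorization_pos_of_dvd Nat.card_pos.ne' hqD
      have : 1 < q ^ (Nat.card D).factorization q := Nat.one_lt_pow hpos.ne' hqp.one_lt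
      omega
    -- an `A`-invariant Sylow `q`-subgroup of `M_σ` containing `Dq`
    obtain ⟨Q₁, hDQ₁, hQ₁S, hQ₁p, hAQ₁, hQ₁c⟩ := Cfsg.Agent.Helper29.exists_invariant_sylow_ge
      h.isPGroup h.le_normalizer_sigmaCore h.coprime_sigmaCore (hDqD.trans inf_le_left) hDqp hADq
    have h₁ : IsSylowIn q Q₁ (Cfsg.sigmaCore M) := isSylowIn_of_card hQ₁S hQ₁p hQ₁c
    -- an `A`-invariant Sylow `q`-subgroup of `M_σ^g` containing `Dq`
    have hDqS' : Dq ≤ cj g (Cfsg.sigmaCore M) := by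
      have h1 : cj g⁻¹ Dq ≤ M := by
        rw [cj_le_iff, inv_inv]; exact hDqD.trans inf_le_right
      have h2 := le_sigmaCore_of_isPGroup hG hU h.hM hq (isPGroup_cj hDqp) h1
      rw [cj_le_iff, inv_inv] at h2
      exact h2
    have hA' : A ≤ Subgroup.normalizer ((cj g (Cfsg.sigmaCore M) : Subgroup G) : Set G) := by
      rw [normalizer_cj]
      exact hAg.trans (cj_mono (le_normalizer_sigmaCore M))
    have hcop' : (Nat.card A).Coprime (Nat.card (cj g (Cfsg.sigmaCore M))) := by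
      rw [card_cj]; exact h.coprime_sigmaCore
    obtain ⟨Q₂, hDQ₂, hQ₂S, hQ₂p, hAQ₂, hQ₂c⟩ := Cfsg.Agent.Helper29.exists_invariant_sylow_ge
      h.isPGroup hA' hcop' hDqS' hDqp hADq
    have h₂ : IsSylowIn q Q₂ (cj g (Cfsg.sigmaCore M)) := isSylowIn_of_card hQ₂S hQ₂p hQ₂c
    have h0 := (lemma_11_1 hG hU hPL h hg hq h₁ hAQ₁ h₂ hAQ₂).1
    apply hDq1
    rw [eq_bot_iff, ← h0]
    exact le_inf hDQ₁ hDQ₂
  refine ⟨ha, ?_⟩
  rw [eq_bot_iff, ← ha]
  refine inf_le_inf_left _ ?_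
  refine (Subgroup.centralizer_le_normalizer _).trans ?_
  rw [normalizer_cj]
  exact cj_mono h.hN

/-- **B-G Lemma 11.3**: `M_σ` is nilpotent. -/
theorem lemma_11_3 (hG : Cfsg.IsMinSimpleOddOrder G) (hU : UniquenessThm G)
    (hPL : ∀ (r : ℕ) [Fact r.Prime] (H : Subgroup G), H ≠ ⊤ → Cfsg.PLengthLE r 1 ↥H)
    (h : Exc p M A A₀) : Group.IsNilpotent ↥(Cfsg.sigmaCore M) := by
  obtain ⟨P, hAP, hP⟩ := exists_isSylowIn_ge h.hAM h.isPGroup
  have hpM : p ∣ Nat.card ↥M := by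
    have h1 : p ∣ Nat.card A := by rw [h.hA2]; exact dvd_pow_self p (by norm_num)
    exact h1.trans (Subgroup.card_dvd_of_le h.hAM)
  have hnot := not_normalizer_le_of_not_mem_sigma h.hp hpM hP
  obtain ⟨g, hgN, hgM⟩ := SetLike.not_le_iff_exists.1 hnot
  have hPg : cj g P = P := cj_eq_of_mem_normalizer hgN
  have hAg : A ≤ cj g M := by
    refine hAP.trans ?_
    rw [← hPg]
    exact cj_mono hP.1
  have h2 := (lemma_11_2 hG hU hPL h hgM hAg).2
  have hEM : cj g A₀ ≤ M := by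
    refine le_trans ?_ hP.1
    rw [← hPg]
    exact cj_mono (h.hA0.trans hAP)
  have hEc : Nat.card (cj g A₀) = p := by rw [card_cj]; exact h.hA0c
  apply Cfsg.Agent.Helper62.FrobAct.isNilpotent_of_fpf (Cfsg.sigmaCore M) (cj g A₀)
    (cj_ne_bot h.ne_bot₀)
  · intro e he u hu
    exact (Subgroup.mem_normalizer_iff.1 (le_normalizer_sigmaCore M (hEM he)) u).1 hu
  · intro e he he1 u hu hcomm
    have hmem : u ∈ Cfsg.sigmaCore M ⊓ Subgroup.centralizer ((cj g A₀ : Subgroup G) : Set G) := by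
      refine Subgroup.mem_inf.2 ⟨hu, ?_⟩
      rw [Subgroup.mem_centralizer_iff]
      intro y hy
      have he1' : (⟨e, he⟩ : ↥(cj g A₀)) ≠ 1 := fun hh => he1 (congrArg Subtype.val hh)
      have hy' : (⟨y, hy⟩ : ↥(cj g A₀)) ∈ Subgroup.zpowers (⟨e, he⟩ : ↥(cj g A₀)) :=
        mem_zpowers_of_prime_card hEc he1'
      obtain ⟨k, hk⟩ := hy'
      have hyk : y = e ^ k := by
        have := congrArg Subtype.val hk
        simpa using this.symm
      rw [hyk]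
      exact ((Commute.zpow_left (show Commute e u from hcomm) k)).eq
    rw [h2] at hmem
    exact Subgroup.mem_bot.1 hmem

/-- **B-G Lemma 11.4**: a maximal subgroup `H ≥ A` with `H_σ ∩ M_σ ≠ 1` equals `M`. -/
theorem lemma_11_4 (hG : Cfsg.IsMinSimpleOddOrder G) (hU : UniquenessThm G)
    (hPL : ∀ (r : ℕ) [Fact r.Prime] (H : Subgroup G), H ≠ ⊤ → Cfsg.PLengthLE r 1 ↥H)
    (h : Exc p M A A₀) {H : Subgroup G} (hH : IsCoatom H) (hAH : A ≤ H)
    (hne : Cfsg.sigmaCore H ⊓ Cfsg.sigmaCore M ≠ ⊥) : H = M := by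
  by_cases hc : ∃ g : G, cj g M = H
  · obtain ⟨g, hg⟩ := hc
    by_cases hgM : g ∈ M
    · rw [← hg, cj_eq_self_of_mem hgM]
    · exfalso
      apply hne
      have h1 := (lemma_11_2 hG hU hPL h hgM (by rw [hg]; exact hAH)).1
      rw [eq_bot_iff, ← h1, hg, inf_comm]
      exact inf_le_inf_left _ (sigmaCore_le H)
  · exfalso
    push Not at hc
    apply hne
    rw [inf_comm]
    exact ((sigma_disjoint hG hU h.hM hH hc).2.2 (lemma_11_3 hG hU hPL h)).2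

end Cfsg.Agent.Helper29.BG11
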