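import Cfsg.Agent.Helper29.BenderA
import Cfsg.Agent.Helper29.CoprimeCount
import Cfsg.Agent.Helper31.BenderMax
import Cfsg.Agent.Helper31.BGTrans3
import Cfsg.Agent.S0026
import Cfsg.Agent.S0028

/-!
# Bender's lemma on maximal local subgroups, part B (helper29)

The set-up `Setup H M R`: `H` a maximal local subgroup, `F = F(H)`, `M ≤ F` with `C_F(M) ≤ M`,
`R` a solvable subgroup normalized by `M` and by `C_H(F)`.
-/

set_option autoImplicit false

namespace Cfsg.Agent.Helper29.Bender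

open Cfsg

variable {G : Type*} [Group G]

/-- The hypotheses of Bender's lemma. -/
structure Setup (H M R : Subgroup G) : Prop where
  loc : IsLocalSubgroup H
  max : ∀ L : Subgroup G, IsLocalSubgroup L → H ≤ L → L = H
  hM : M ≤ fittingOf H
  hCM : fittingOf H ⊓ Subgroup.centralizer (M : Set G) ≤ M
  solv : Group.IsSolvable ↥R
  hMR : M ≤ Subgroup.normalizer (R : Set G)
  hXR : H ⊓ Subgroup.centralizer ((fittingOf H : Subgroup G) : Set G) ≤
    Subgroup.normalizer (R : Set G)

/-- `O_s(H)` as a subgroup of `G`. -/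
def Os (H : Subgroup G) (s : ℕ) : Subgroup G := (pCore s ↥H).map H.subtype

/-- `Z(F(H)) ∩ O_s(H)` as a subgroup of `G`. -/
def Zs (H : Subgroup G) (s : ℕ) : Subgroup G :=
  (fittingOf H ⊓ Subgroup.centralizer ((fittingOf H : Subgroup G) : Set G)) ⊓ Os H s

theorem Zs_le_fittingOf (H : Subgroup G) (s : ℕ) : Zs H s ≤ fittingOf H :=
  inf_le_left.trans inf_le_left

theorem Zs_le_centralizer (H : Subgroup G) (s : ℕ) :
    Zs H s ≤ Subgroup.centralizer ((fittingOf H : Subgroup G) : Set G) :=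
  inf_le_left.trans inf_le_right

theorem isPGroup_Zs (H : Subgroup G) (s : ℕ) : IsPGroup s ↥(Zs H s) :=
  ((Cfsg.Agent.Lib.isPGroup_pCore (G := ↥H) s).map H.subtype).to_le inf_le_right

theorem le_normalizer_Os [Finite G] (H : Subgroup G) (s : ℕ) :
    H ≤ Subgroup.normalizer ((Os H s : Subgroup G) : Set G) := by
  haveI : (pCore s ↥H).Normal := Cfsg.Agent.Helper71.pCore_normal s
  exact Cfsg.Agent.Helper31.le_normalizer_map_subtype_of_normal H (pCore s ↥H)

theorem le_normalizer_Zs [Finite G] (H : Subgroup G) (s : ℕ) :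
    H ≤ Subgroup.normalizer ((Zs H s : Subgroup G) : Set G) := by
  have h1 : H ≤ Subgroup.normalizer ((fittingOf H : Subgroup G) : Set G) := le_normalizer_fittingOf H
  have h2 : H ≤ Subgroup.normalizer
      ((Subgroup.centralizer ((fittingOf H : Subgroup G) : Set G) : Subgroup G) : Set G) :=
    h1.trans (Cfsg.Agent.Helper31.normalizer_le_normalizer_centralizer _)
  have h3 := le_normalizer_Os H s
  exact (le_inf ((le_inf h1 h2).trans (Cfsg.Agent.Helper29.normalizer_inf_normalizer_le _ _)) h3).trans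
    (Cfsg.Agent.Helper29.normalizer_inf_normalizer_le _ _)

theorem Os_le_fittingOf [Finite G] (H : Subgroup G) (s : ℕ) [Fact s.Prime] : Os H s ≤ fittingOf H :=
  Subgroup.map_mono (Cfsg.Agent.Lib.pCore_le_fittingSubgroup s)

theorem Zs_ne_bot [Finite G] (H : Subgroup G) {s : ℕ} [Fact s.Prime]
    (hs : s ∣ Nat.card ↥(fittingOf H)) : Zs H s ≠ ⊥ := by
  have hO : Os H s ≠ ⊥ := by
    have h1 : pCore s ↥H ≠ ⊥ :=
      Cfsg.Agent.Helper31.pCore_ne_bot_of_dvd_card_fittingSubgroup (by rwa [← card_fittingOf])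
    intro h
    exact h1 ((Subgroup.map_eq_bot_iff_of_injective _ H.subtype_injective).mp h)
  have hOF : Os H s ≤ fittingOf H := Os_le_fittingOf H s
  haveI : Group.IsNilpotent ↥(fittingOf H) := isNilpotent_fittingOf H
  haveI : ((Os H s).subgroupOf (fittingOf H)).Normal :=
    Subgroup.normal_subgroupOf_of_le_normalizer ((fittingOf_le H).trans (le_normalizer_Os H s))
  have hne : (Os H s).subgroupOf (fittingOf H) ≠ ⊥ := by
    intro h
    rw [Subgroup.subgroupOf_eq_bot, disjoint_iff, inf_eq_left.mpr hOF] at h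
    exact hO h
  have h2 := Cfsg.Agent.Lib.normal_inf_center_ne_bot ((Os H s).subgroupOf (fittingOf H)) hne
  obtain ⟨⟨z, hzmem⟩, hz1⟩ := (Subgroup.ne_bot_iff_exists_ne_one).mp h2
  have hzO : (z : G) ∈ Os H s := Subgroup.mem_subgroupOf.mp hzmem.1
  have hzc : ∀ y : ↥(fittingOf H), y * z = z * y := fun y => (Subgroup.mem_center_iff.mp hzmem.2 y)
  intro hbot
  have hzZ : (z : G) ∈ Zs H s := by
    refine Subgroup.mem_inf.mpr ⟨Subgroup.mem_inf.mpr ⟨z.2, ?_⟩, hzO⟩
    rw [Subgroup.mem_centralizer_iff]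
    intro y hy
    have := hzc ⟨y, hy⟩
    exact congrArg Subtype.val this
  rw [hbot, Subgroup.mem_bot] at hzZ
  apply hz1
  apply Subtype.ext
  apply Subtype.ext
  simpa using hzZ

section setup

variable [Finite G] {H M R : Subgroup G}

theorem Setup.M_le (h : Setup H M R) : M ≤ H := h.hM.trans (fittingOf_le H)

theorem Setup.normalizer_Zs_eq (h : Setup H M R) {s : ℕ} [hsp : Fact s.Prime]
    (hs : s ∣ Nat.card ↥(fittingOf H)) : Subgroup.normalizer ((Zs H s : Subgroup G) : Set G) = H :=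
  h.max _ ⟨s, Zs H s, hsp.out, isPGroup_Zs H s, Zs_ne_bot H hs, rfl⟩ (le_normalizer_Zs H s)

theorem Setup.Zs_le (h : Setup H M R) (s : ℕ) : Zs H s ≤ M := by
  intro z hz
  refine h.hCM ⟨Zs_le_fittingOf H s hz, ?_⟩
  exact Subgroup.centralizer_le (by exact_mod_cast h.hM) (Zs_le_centralizer H s hz)

/-- **Lemma A**: an `M`-invariant subgroup of order coprime to `|F|` centralizing some `Z_s` lies in
`C_H(F)`. -/
theorem Setup.le_of_le_centralizer_Zs (h : Setup H M R) {s : ℕ} [Fact s.Prime]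
    (hs : s ∣ Nat.card ↥(fittingOf H)) {D : Subgroup G}
    (hDM : M ≤ Subgroup.normalizer (D : Set G))
    (hcop : (Nat.card ↥D).Coprime (Nat.card ↥(fittingOf H)))
    (hDZ : D ≤ Subgroup.centralizer ((Zs H s : Subgroup G) : Set G)) :
    D ≤ H ⊓ Subgroup.centralizer ((fittingOf H : Subgroup G) : Set G) := by
  have hDH : D ≤ H := by
    intro d hd
    rw [← h.normalizer_Zs_eq hs]
    exact Subgroup.centralizer_le_normalizer _ (hDZ hd)
  have hDF : D ⊓ fittingOf H = ⊥ := disjoint_iff.mp (Subgroup.disjoint_of_coprime_natCard hcop)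
  intro d hd
  refine Subgroup.mem_inf.mpr ⟨hDH hd, ?_⟩
  have hdN : d ∈ Subgroup.normalizer ((fittingOf H : Subgroup G) : Set G) :=
    le_normalizer_fittingOf H (hDH hd)
  have haM : ∀ m ∈ M, d * m = m * d := by
    intro m hm
    have hc : d * m * d⁻¹ * m⁻¹ ∈ D ⊓ fittingOf H := by
      constructor
      · have h1 : m * d⁻¹ * m⁻¹ ∈ D :=
          (Subgroup.mem_normalizer_iff.mp (hDM hm) d⁻¹).mp (D.inv_mem hd)
        have e : d * m * d⁻¹ * m⁻¹ = d * (m * d⁻¹ * m⁻¹) := by group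
        rw [e]
        exact D.mul_mem hd h1
      · have h1 : d * m * d⁻¹ ∈ fittingOf H :=
          (Subgroup.mem_normalizer_iff.mp hdN m).mp (h.hM hm)
        exact (fittingOf H).mul_mem h1 ((fittingOf H).inv_mem (h.hM hm))
    rw [hDF, Subgroup.mem_bot] at hc
    calc d * m = (d * m * d⁻¹ * m⁻¹) * (m * d) := by group
      _ = m * d := by rw [hc, one_mul]
  have hod : orderOf d ∣ Nat.card ↥D := by
    have := orderOf_dvd_natCard (⟨d, hd⟩ : ↥D)
    rwa [Subgroup.orderOf_mk] at this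
  have key := commute_of_nilpotent_axb (isNilpotent_fittingOf H) h.hM h.hCM hdN haM
    (Nat.Coprime.coprime_dvd_left hod hcop)
  rw [Subgroup.mem_centralizer_iff]
  intro x hx
  exact (key x hx).symm

/-- `C_H(F) ∩ R ≤ F`. -/
theorem Setup.inf_le_fittingOf (h : Setup H M R) :
    (H ⊓ Subgroup.centralizer ((fittingOf H : Subgroup G) : Set G)) ⊓ R ≤ fittingOf H := by
  set X : Subgroup G := H ⊓ Subgroup.centralizer ((fittingOf H : Subgroup G) : Set G) with hX
  set W : Subgroup G := X ⊓ R with hW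
  have hXH : X ≤ H := inf_le_left
  have hHX : H ≤ Subgroup.normalizer (X : Set G) :=
    (le_inf Subgroup.le_normalizer ((le_normalizer_fittingOf H).trans
      (Cfsg.Agent.Helper31.normalizer_le_normalizer_centralizer _))).trans
      (Cfsg.Agent.Helper29.normalizer_inf_normalizer_le _ _)
  have hWX : W ≤ X := inf_le_left
  have hXW : X ≤ Subgroup.normalizer (W : Set G) :=
    (le_inf Subgroup.le_normalizer h.hXR).trans
      (Cfsg.Agent.Helper29.normalizer_inf_normalizer_le _ _)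
  have h1 : fittingOf W ≤ fittingOf X := fittingOf_le_fittingOf hWX hXW
  have h2 : fittingOf X ≤ fittingOf H := fittingOf_le_fittingOf hXH hHX
  have hWsolv : Group.IsSolvable ↥W := by
    haveI := h.solv
    exact Group.isSolvable_of_isSolvable_injective
      (Subgroup.inclusion_injective (inf_le_right : W ≤ R))
  have hc : W ≤ Subgroup.centralizer ((fittingOf W : Subgroup G) : Set G) := by
    intro w hw
    have hwc : w ∈ Subgroup.centralizer ((fittingOf H : Subgroup G) : Set G) := (hWX hw).2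
    exact Subgroup.centralizer_le (by exact_mod_cast h1.trans h2) hwc
  exact (le_fittingOf_of_isSolvable hWsolv hc).trans (h1.trans h2)

/-- An `M`-invariant subgroup of `R` of order coprime to `|F|` has no nontrivial fixed points
under `Z_s`. -/
theorem Setup.inf_centralizer_Zs_eq_bot (h : Setup H M R) {s : ℕ} [Fact s.Prime]
    (hs : s ∣ Nat.card ↥(fittingOf H)) {Y : Subgroup G} (hYR : Y ≤ R)
    (hYM : M ≤ Subgroup.normalizer (Y : Set G))
    (hcop : (Nat.card ↥Y).Coprime (Nat.card ↥(fittingOf H))) :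
    Y ⊓ Subgroup.centralizer ((Zs H s : Subgroup G) : Set G) = ⊥ := by
  set D : Subgroup G := Y ⊓ Subgroup.centralizer ((Zs H s : Subgroup G) : Set G) with hD
  have hDM : M ≤ Subgroup.normalizer (D : Set G) :=
    (le_inf hYM (h.M_le.trans ((le_normalizer_Zs H s).trans
      (Cfsg.Agent.Helper31.normalizer_le_normalizer_centralizer _)))).trans
      (Cfsg.Agent.Helper29.normalizer_inf_normalizer_le _ _)
  have hDcop : (Nat.card ↥D).Coprime (Nat.card ↥(fittingOf H)) :=
    Nat.Coprime.coprime_dvd_left (Subgroup.card_dvd_of_le inf_le_left) hcop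
  have h1 := h.le_of_le_centralizer_Zs hs hDM hDcop inf_le_right
  have h2 : D ≤ fittingOf H := (le_inf h1 (inf_le_left.trans hYR)).trans h.inf_le_fittingOf
  have h3 : D ⊓ fittingOf H = ⊥ := disjoint_iff.mp (Subgroup.disjoint_of_coprime_natCard hDcop)
  rw [← h3]
  exact (inf_eq_left.mpr h2).symm

/-- An `M`-invariant subgroup `Y` of `R` of order coprime to `|F|` satisfies `[Y, Z_s] = Y`. -/
theorem Setup.commutator_Zs_eq (h : Setup H M R) {s : ℕ} [Fact s.Prime]
    (hs : s ∣ Nat.card ↥(fittingOf H)) {Y : Subgroup G} (hYR : Y ≤ R)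
    (hYM : M ≤ Subgroup.normalizer (Y : Set G))
    (hcop : (Nat.card ↥Y).Coprime (Nat.card ↥(fittingOf H))) :
    ⁅Y, Zs H s⁆ = Y := by
  have hsolv : Group.IsSolvable ↥(Zs H s) := by
    haveI : Group.IsNilpotent ↥(Zs H s) := (isPGroup_Zs H s).isNilpotent
    infer_instance
  have h1 := Cfsg.Agent.S0026.result (Zs H s) Y ((h.Zs_le s).trans hYM)
    (Nat.Coprime.coprime_dvd_left (Subgroup.card_dvd_of_le (Zs_le_fittingOf H s)) hcop.symm)
    (Or.inl hsolv)
  rwa [h.inf_centralizer_Zs_eq_bot hs hYR hYM hcop, sup_bot_eq] at h1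

/-- **Lemma P**: a `p`-subgroup normalized by `Z_p` and `Z_s` (`s ≠ p`) is centralized by `Z_s`. -/
theorem Setup.Zs_le_centralizer_of_isPGroup (h : Setup H M R) {p s : ℕ} [hpp : Fact p.Prime]
    [hsp : Fact s.Prime] (hp : p ∣ Nat.card ↥(fittingOf H)) (hps : p ≠ s) {P₁ : Subgroup G}
    (hP₁ : IsPGroup p ↥P₁) (hZp : Zs H p ≤ Subgroup.normalizer (P₁ : Set G))
    (hZs : Zs H s ≤ Subgroup.normalizer (P₁ : Set G)) :
    Zs H s ≤ Subgroup.centralizer (P₁ : Set G) := by
  have hQ : (Nat.card ↥(Zs H s)).Coprime p := by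
    obtain ⟨k, hk⟩ := IsPGroup.iff_card.mp (isPGroup_Zs H s)
    rw [hk]
    exact Nat.Coprime.pow_left k ((Nat.coprime_primes hsp.out hpp.out).mpr hps.symm)
  have hPQ : Zs H p ≤ Subgroup.centralizer ((Zs H s : Subgroup G) : Set G) :=
    (Zs_le_centralizer H p).trans
      (Subgroup.centralizer_le (by exact_mod_cast Zs_le_fittingOf H s))
  have hdisj : Zs H s ⊓ P₁ = ⊥ :=
    disjoint_iff.mp (IsPGroup.disjoint_of_ne s p hps.symm _ _ (isPGroup_Zs H s) hP₁)
  refine Cfsg.Agent.S0028.result p (Zs H p) (Zs H s) P₁ (isPGroup_Zs H p) hQ hP₁ hPQ hZp hZs ?_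
  intro u hu
  obtain ⟨hu1, hu2⟩ := Subgroup.mem_inf.mp hu
  have huH : u ∈ H := by
    rw [← h.normalizer_Zs_eq hp]
    exact Subgroup.centralizer_le_normalizer _ hu2
  have huN := le_normalizer_Zs H s huH
  rw [Subgroup.mem_centralizer_iff]
  intro a ha
  have hc : a * u * a⁻¹ * u⁻¹ ∈ Zs H s ⊓ P₁ := by
    constructor
    · have h1 : u * a⁻¹ * u⁻¹ ∈ Zs H s :=
        (Subgroup.mem_normalizer_iff.mp huN a⁻¹).mp ((Zs H s).inv_mem ha)
      have e : a * u * a⁻¹ * u⁻¹ = a * (u * a⁻¹ * u⁻¹) := by group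
      rw [e]
      exact (Zs H s).mul_mem ha h1
    · have h1 : a * u * a⁻¹ ∈ P₁ := (Subgroup.mem_normalizer_iff.mp (hZs ha) u).mp hu1
      exact P₁.mul_mem h1 (P₁.inv_mem hu1)
  rw [hdisj, Subgroup.mem_bot] at hc
  calc a * u = (a * u * a⁻¹ * u⁻¹) * (u * a) := by group
    _ = u * a := by rw [hc, one_mul]

end setup

end Cfsg.Agent.Helper29.Bender
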