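-- (B-R3) for helper78's S4607: a local corner with cocenter of dimension ≤ 2 has dimension ≤ 2.
import Cfsg.Agent.Helper78.Brandt.Defs

set_option autoImplicit false

namespace Cfsg.Agent.Helper29.Brandt

open Module Cfsg.Agent.Helper78.Brandt

variable {k : Type*} [Field k] {A : Type*} [Ring A] [Algebra k A]

/-- elements of the corner are fixed by multiplication by `e` on both sides -/
theorem corner_mul (e : A) (he : IsIdempotentElem e) {u : A} (hu : u ∈ cornerSpace k e) :
    e * u = u ∧ u * e = u := by
  obtain ⟨a, rfl⟩ := mem_cornerSpace.1 hu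
  constructor
  · rw [← mul_assoc, he.eq]
  · rw [mul_assoc, mul_assoc, he.eq]

/-- every generator of `cornerCommSpan` is a commutator of two elements of `I` -/
theorem gen_eq_comm (e : A) (he : IsIdempotentElem e) (I : Submodule k A)
    (hI1 : I ≤ cornerSpace k e) (hspan : cornerSpace k e ≤ Submodule.span k {e} ⊔ I) (a b : A) :
    ∃ i ∈ I, ∃ j ∈ I,
      (e * a * e) * (e * b * e) - (e * b * e) * (e * a * e) = i * j - j * i := by
  have hu : e * a * e ∈ cornerSpace k e := mem_cornerSpace.2 ⟨a, by rw [mul_assoc]⟩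
  have hv : e * b * e ∈ cornerSpace k e := mem_cornerSpace.2 ⟨b, by rw [mul_assoc]⟩
  obtain ⟨y, hy, i, hi, hyi⟩ := Submodule.mem_sup.1 (hspan hu)
  obtain ⟨z, hz, j, hj, hzj⟩ := Submodule.mem_sup.1 (hspan hv)
  obtain ⟨α, rfl⟩ := Submodule.mem_span_singleton.1 hy
  obtain ⟨β, rfl⟩ := Submodule.mem_span_singleton.1 hz
  obtain ⟨hei, hie⟩ := corner_mul (k := k) e he (hI1 hi)
  obtain ⟨hej, hje⟩ := corner_mul (k := k) e he (hI1 hj)
  refine ⟨i, hi, j, hj, ?_⟩
  rw [← hyi, ← hzj]
  simp only [add_mul, mul_add, smul_mul_assoc, mul_smul_comm, he.eq, hei, hie, hej, hje]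
  module

/-- powers of a multiplicatively closed subspace decrease -/
theorem pow_succ_le (I : Submodule k A) (hI2 : I * I ≤ I) (n : ℕ) : I ^ (n + 2) ≤ I ^ (n + 1) := by
  rw [pow_succ I (n + 1), pow_succ I n, mul_assoc]
  exact mul_le_mul' le_rfl hI2

/-- the key step: `I^(n+1) ≤ k x^(n+1) + I^(n+2)` when `I = k x + I^2` -/
theorem pow_le_span_sup (I : Submodule k A) (hI2 : I * I ≤ I) (x : A) (hx : x ∈ I)
    (hI : I ≤ Submodule.span k {x} ⊔ I * I) (n : ℕ) :
    I ^ (n + 1) ≤ Submodule.span k {x ^ (n + 1)} ⊔ I ^ (n + 2) := by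
  induction n with
  | zero =>
    simpa [pow_two] using hI
  | succ n ih =>
    have hxn : Submodule.span k {x ^ (n + 1)} ≤ I ^ (n + 1) := by
      rw [Submodule.span_le, Set.singleton_subset_iff]
      exact Submodule.pow_mem_pow I hx (n + 1)
    have hx1 : Submodule.span k {x} ≤ I := by
      rw [Submodule.span_le, Set.singleton_subset_iff]
      exact hx
    calc I ^ (n + 1 + 1) = I ^ (n + 1) * I := pow_succ I (n + 1)
      _ ≤ (Submodule.span k {x ^ (n + 1)} ⊔ I ^ (n + 2)) * (Submodule.span k {x} ⊔ I * I) :=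
          mul_le_mul' ih hI
      _ = Submodule.span k {x ^ (n + 1)} * Submodule.span k {x} ⊔
            Submodule.span k {x ^ (n + 1)} * (I * I) ⊔
            (I ^ (n + 2) * Submodule.span k {x} ⊔ I ^ (n + 2) * (I * I)) := by
          rw [Submodule.sup_mul, Submodule.mul_sup, Submodule.mul_sup]
      _ ≤ Submodule.span k {x ^ (n + 1 + 1)} ⊔ I ^ (n + 1 + 2) := by
          refine sup_le (sup_le ?_ ?_) (sup_le ?_ ?_)
          · rw [Submodule.span_mul_span, Set.singleton_mul_singleton, ← pow_succ]
            exact le_sup_left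
          · refine le_trans (mul_le_mul' hxn le_rfl) ?_
            rw [← pow_two, ← pow_add]
            exact le_sup_right
          · refine le_trans (mul_le_mul' le_rfl hx1) ?_
            rw [← pow_succ]
            exact le_sup_right
          · refine le_trans ?_ le_sup_right
            rw [← pow_two, ← pow_add]
            exact pow_succ_le I hI2 (n + 2)

/-- (B-R3) a local corner with cocenter of dimension `≤ 2` has dimension `≤ 2`. -/
theorem finrank_cornerSpace_le_two [FiniteDimensional k A] (e : A) (he : IsIdempotentElem e)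
    (I : Submodule k A) (hI1 : I ≤ cornerSpace k e) (hI2 : I * I ≤ I) (hnil : ∃ N : ℕ, I ^ N = ⊥)
    (hspan : cornerSpace k e ≤ Submodule.span k {e} ⊔ I)
    (hdim : finrank k (cornerSpace k e) ≤ finrank k (cornerCommSpan k e) + 2) :
    finrank k (cornerSpace k e) ≤ 2 := by
  classical
  -- nilpotency with a positive exponent
  obtain ⟨N, hN⟩ := hnil
  have hN1 : I ^ (N + 1) = ⊥ := by rw [pow_succ, hN, Submodule.bot_mul]
  -- the case `e = 0`
  by_cases he0 : e = 0
  · have : cornerSpace k e = ⊥ := by
      rw [eq_bot_iff]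
      intro u hu
      obtain ⟨a, rfl⟩ := mem_cornerSpace.1 hu
      rw [he0, zero_mul]
      exact Submodule.zero_mem _
    rw [this, finrank_bot]
    exact Nat.zero_le 2
  -- `e ∉ I`
  have heI : e ∉ I := by
    intro h
    have h1 := Submodule.pow_mem_pow I h (N + 1)
    rw [hN1, Submodule.mem_bot, he.pow_succ_eq] at h1
    exact he0 h1
  have heC : e ∈ cornerSpace k e := mem_cornerSpace.2 ⟨e, by rw [he.eq, he.eq]⟩
  -- `1 + dim I ≤ dim C`
  have hdisj : Submodule.span k {e} ⊓ I = ⊥ := by
    rw [eq_bot_iff]
    intro y hy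
    obtain ⟨hy1, hy2⟩ := Submodule.mem_inf.1 hy
    obtain ⟨α, rfl⟩ := Submodule.mem_span_singleton.1 hy1
    by_cases hα : α = 0
    · rw [hα, zero_smul]; exact Submodule.zero_mem _
    · exfalso
      apply heI
      have := I.smul_mem α⁻¹ hy2
      rwa [smul_smul, inv_mul_cancel₀ hα, one_smul] at this
  have hle : Submodule.span k {e} ⊔ I ≤ cornerSpace k e := by
    refine sup_le ?_ hI1
    rw [Submodule.span_le, Set.singleton_subset_iff]
    exact heC
  have hCI : 1 + finrank k I ≤ finrank k (cornerSpace k e) := by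
    have h1 := Submodule.finrank_sup_add_finrank_inf_eq (Submodule.span k {e}) I
    rw [hdisj, finrank_bot, add_zero, finrank_span_singleton he0] at h1
    rw [← h1]
    exact Submodule.finrank_mono hle
  -- `cornerCommSpan ≤ I * I`
  have hCC : cornerCommSpan k e ≤ I * I := by
    unfold cornerCommSpan
    rw [Submodule.span_le]
    rintro z ⟨a, b, rfl⟩
    obtain ⟨i, hi, j, hj, h⟩ := gen_eq_comm e he I hI1 hspan a b
    rw [h]
    exact Submodule.sub_mem _ (Submodule.mul_mem_mul hi hj) (Submodule.mul_mem_mul hj hi)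
  have hII : finrank k I ≤ finrank k (I * I : Submodule k A) + 1 := by
    have := Submodule.finrank_mono hCC
    omega
  by_cases hEq : I * I = I
  · -- then `I = ⊥`
    have hpow : ∀ n : ℕ, I ^ (n + 1) = I := by
      intro n
      induction n with
      | zero => rw [zero_add, pow_one]
      | succ n ih => rw [pow_succ, ih, hEq]
    have hI0 : I = ⊥ := by rw [← hpow N, hN1]
    have h1 : finrank k (cornerSpace k e) ≤ finrank k (Submodule.span k {e} ⊔ I : Submodule k A) :=
      Submodule.finrank_mono hspan
    rw [hI0, sup_bot_eq, finrank_span_singleton he0] at h1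
    omega
  · -- pick `x ∈ I`, `x ∉ I * I`
    have hlt : I * I < I := lt_of_le_of_ne hI2 hEq
    obtain ⟨x, hxI, hxII⟩ := SetLike.exists_of_lt hlt
    have hsup_le : Submodule.span k {x} ⊔ I * I ≤ I := by
      refine sup_le ?_ hI2
      rw [Submodule.span_le, Set.singleton_subset_iff]
      exact hxI
    have hlt2 : I * I < Submodule.span k {x} ⊔ I * I := by
      refine lt_of_le_of_ne le_sup_right ?_
      intro h
      apply hxII
      rw [h]
      exact (le_sup_left : Submodule.span k {x} ≤ _) (Submodule.mem_span_singleton_self x)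
    have hfr := Submodule.finrank_lt_finrank_of_lt hlt2
    have hIeq : Submodule.span k {x} ⊔ I * I = I := by
      apply Submodule.eq_of_le_of_finrank_le hsup_le
      omega
    -- `I ≤ k[x]`
    set S : Submodule k A := Subalgebra.toSubmodule (Algebra.adjoin k {x}) with hS
    have hxS : ∀ n : ℕ, Submodule.span k {x ^ (n + 1)} ≤ S := by
      intro n
      rw [Submodule.span_le, Set.singleton_subset_iff]
      exact pow_mem (Algebra.self_mem_adjoin_singleton k x) (n + 1)
    have hkey : ∀ d n : ℕ, I ^ (n + 1 + d) = ⊥ → I ^ (n + 1) ≤ S := by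
      intro d
      induction d with
      | zero =>
        intro n hn
        rw [add_zero] at hn
        rw [hn]
        exact bot_le
      | succ d ih =>
        intro n hn
        have h1 : I ^ (n + 1 + 1) ≤ S := ih (n + 1) (by rw [← hn]; congr 1; omega)
        refine le_trans (pow_le_span_sup I hI2 x hxI hIeq.ge n) ?_
        exact sup_le (hxS n) h1
    have hIS : I ≤ S := by
      have := hkey N 0 (by rw [← hN1]; congr 1; omega)
      rwa [zero_add, pow_one] at this
    -- elements of `I` commute
    have hcomm : ∀ i ∈ I, ∀ j ∈ I, i * j = j * i := by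
      intro i hi j hj
      have hi' : i ∈ Algebra.adjoin k {x} := hIS hi
      have hj' : j ∈ Algebra.adjoin k {x} := hIS hj
      have h1 : Commute x i := Algebra.commute_of_mem_adjoin_self hi'
      exact (Algebra.commute_of_mem_adjoin_singleton_of_commute hj' h1.symm).eq
    have hCC0 : cornerCommSpan k e = ⊥ := by
      rw [eq_bot_iff]
      unfold cornerCommSpan
      rw [Submodule.span_le]
      rintro z ⟨a, b, rfl⟩
      obtain ⟨i, hi, j, hj, h⟩ := gen_eq_comm e he I hI1 hspan a b
      rw [h, hcomm i hi j hj, sub_self]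
      exact Submodule.zero_mem _
    rw [hCC0, finrank_bot] at hdim
    omega

end Cfsg.Agent.Helper29.Brandt
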