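import Mathlib
import Cfsg.Agent.Helper44.CT.Defs

/-!
helper29 for helper44's Curtis–Tits farm (#15082, S3351), leaf (P4i): a central quotient map of `SL₃(F)` is
injective on the two block copies of `SL₂(F)`.
-/

set_option autoImplicit false

namespace Cfsg.Agent.Helper29.CT

open Cfsg.Agent.Helper44.CT Cfsg.Agent.Helper96.StN Cfsg.Agent.Helper34.StNF
open scoped commutatorElement

universe u v

variable {F : Type u} [Field F] {G : Type v} [Group G]

/-- a central element of `SL₃(F)` in the image of `ul` is trivial -/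
theorem P4i_ul_center (x : SL2 F) (h : ul x ∈ Subgroup.center (SL3 F)) : x = 1 := by
  obtain ⟨r, _, hr⟩ := Matrix.SpecialLinearGroup.mem_center_iff.1 h
  have e : ∀ i j, (Matrix.scalar (Fin 3) r) i j = ulMat x.1 i j := fun i j => by rw [hr, coe_ul]
  have h22 := e 2 2
  have h00 := e 0 0
  have h01 := e 0 1
  have h10 := e 1 0
  have h11 := e 1 1
  simp [ulMat, Matrix.scalar_apply, Matrix.diagonal] at h22 h00 h01 h10 h11
  apply Subtype.ext
  ext i j
  fin_cases i <;> fin_cases j <;> simp [← h00, ← h01, ← h10, ← h11, h22]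

/-- a central element of `SL₃(F)` in the image of `lr` is trivial -/
theorem P4i_lr_center (x : SL2 F) (h : lr x ∈ Subgroup.center (SL3 F)) : x = 1 := by
  obtain ⟨r, _, hr⟩ := Matrix.SpecialLinearGroup.mem_center_iff.1 h
  have e : ∀ i j, (Matrix.scalar (Fin 3) r) i j = lrMat x.1 i j := fun i j => by rw [hr, coe_lr]
  have h00 := e 0 0
  have h11 := e 1 1
  have h12 := e 1 2
  have h21 := e 2 1
  have h22 := e 2 2
  simp [lrMat, Matrix.scalar_apply, Matrix.diagonal] at h22 h00 h12 h21 h11
  apply Subtype.ext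
  ext i j
  fin_cases i <;> fin_cases j <;> simp [← h11, ← h12, ← h21, ← h22, h00]

/-- (P4i) -/
theorem injective_comp_ul (θ : SL3 F →* G) (hker : θ.ker ≤ Subgroup.center (SL3 F)) :
    Function.Injective (θ.comp ul) := by
  rw [injective_iff_map_eq_one]
  intro x hx
  exact P4i_ul_center x (hker (θ.mem_ker.mpr hx))

/-- (P4i') as (P4i) with the entry `(0,0)`. -/
theorem injective_comp_lr (θ : SL3 F →* G) (hker : θ.ker ≤ Subgroup.center (SL3 F)) :
    Function.Injective (θ.comp lr) := by
  rw [injective_iff_map_eq_one]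
  intro x hx
  exact P4i_lr_center x (hker (θ.mem_ker.mpr hx))

end Cfsg.Agent.Helper29.CT
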