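import Cfsg.Agent.Helper19.CT.Iface
import Cfsg.Agent.Helper18.LongWord

/-!
helper29 for helper19's S1164 Curtis–Tits farm (#15616), pieces (PAIRS-*): the generic certificate checker.

Certificate for `PairsS D`: for every pair of roots `(r, s)`, `s ≠ ± r`, a byte `code r s` and a byte `dist r s`
(packed rows, base `256`):
* `code r s = 64 + 8 j + k`: the pair lies in the positive part of `Φ_{jk}` (checked directly);
* `code r s = i < 64`: the fundamental reflection `σ_i` moves the pair to a pair of smaller `dist`.
Strong induction on `dist` produces the word.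
-/

set_option autoImplicit false

namespace Cfsg.Agent.Helper29.CT

open Cfsg Cfsg.Lie Cfsg.Agent.Helper18 Cfsg.Agent.Helper19.CT

/-- Boolean test for `D.InRankTwoSub j k r` -/
def PAIRS_inSubB (D : ChevalleyDatum) (j k r : ℕ) : Bool :=
  decide (r < D.nroots) && decide (j < D.rank) && decide (k < D.rank) &&
    (List.range D.rank).all fun l =>
      (l == j) || (l == k) || decide ((D.coroot.getD r #[]).getD l 0 = 0)

theorem PAIRS_inSubB_spec (D : ChevalleyDatum) (j k r : ℕ) (h : PAIRS_inSubB D j k r = true) :
    D.InRankTwoSub j k r := by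
  unfold PAIRS_inSubB at h
  simp only [Bool.and_eq_true, decide_eq_true_eq, List.all_eq_true, List.mem_range, Bool.or_eq_true,
    beq_iff_eq] at h
  obtain ⟨⟨⟨h1, h2⟩, h3⟩, h4⟩ := h
  refine ⟨h1, h2, h3, fun l hl hlj hlk => ?_⟩
  rcases h4 l hl with (h5 | h5) | h5
  · exact absurd h5 hlj
  · exact absurd h5 hlk
  · exact h5

/-- the check of one pair -/
def PAIRS_pairOK (D : ChevalleyDatum) (tabs distT codeT : List ℕ) (r s : ℕ) : Bool :=
  let c := getB 256 (codeT.getD r 0) s
  if c < 64 then
    decide (c < D.rank) &&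
      decide (getB 256 (tabs.getD c 0) s ≠ getB 256 (tabs.getD c 0) r) &&
      decide (getB 256 (tabs.getD c 0) s ≠ D.neg (getB 256 (tabs.getD c 0) r)) &&
      decide (getB 256 (distT.getD (getB 256 (tabs.getD c 0) r) 0) (getB 256 (tabs.getD c 0) s) <
        getB 256 (distT.getD r 0) s)
  else
    PAIRS_inSubB D ((c - 64) / 8) ((c - 64) % 8) r && PAIRS_inSubB D ((c - 64) / 8) ((c - 64) % 8) s &&
      decide (hlfOf D ≤ r) && decide (hlfOf D ≤ s)

/-- the check of all pairs -/
def PAIRS_allOK (D : ChevalleyDatum) (tabs distT codeT : List ℕ) : Bool :=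
  (List.range D.nroots).all fun r => (List.range D.nroots).all fun s =>
    (s == r) || (s == D.neg r) || PAIRS_pairOK D tabs distT codeT r s

theorem PAIRS_rho_snoc (D : ChevalleyDatum) (w : List ℕ) (i s : ℕ) :
    rho D (w ++ [i]) s = rho D w (D.reflectRoot i s) := by
  unfold rho
  rw [List.foldr_append]
  rfl

/-- soundness of the certificate -/
theorem PAIRS_of_cert (D : ChevalleyDatum) (tabs distT codeT : List ℕ) (ht : tabsOK D tabs = true)
    (h : PAIRS_allOK D tabs distT codeT = true) : PairsS D := by
  have key : ∀ n r s, getB 256 (distT.getD r 0) s = n → r < D.nroots → s < D.nroots → s ≠ r →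
      s ≠ D.neg r → ∃ w : List ℕ, (∀ i ∈ w, i < D.rank) ∧ ∃ j k,
        D.InRankTwoSub j k (rho D w r) ∧ D.InRankTwoSub j k (rho D w s) ∧ hlfOf D ≤ rho D w r ∧
          hlfOf D ≤ rho D w s := by
    intro n
    induction n using Nat.strong_induction_on with
    | _ n ih =>
      intro r s hn hr hs hsr hsn
      unfold PAIRS_allOK at h
      rw [List.all_eq_true] at h
      have h1 := h r (List.mem_range.mpr hr)
      rw [List.all_eq_true] at h1
      have h2 := h1 s (List.mem_range.mpr hs)
      simp only [Bool.or_eq_true, beq_iff_eq] at h2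
      rcases h2 with (h2 | h2) | h2
      · exact absurd h2 hsr
      · exact absurd h2 hsn
      · unfold PAIRS_pairOK at h2
        simp only at h2
        split_ifs at h2 with hc
        · simp only [Bool.and_eq_true, decide_eq_true_eq] at h2
          obtain ⟨⟨⟨hi, hne⟩, hnn⟩, hlt⟩ := h2
          set i := getB 256 (codeT.getD r 0) s with hidef
          have er := tabsOK_spec D tabs ht i r hi hr
          have es := tabsOK_spec D tabs ht i s hi hs
          rw [er.1, es.1] at hne hnn hlt
          rw [hn] at hlt
          obtain ⟨w, hw, j, k, p1, p2, p3, p4⟩ :=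
            ih _ hlt (D.reflectRoot i r) (D.reflectRoot i s) rfl er.2 es.2 hne hnn
          refine ⟨w ++ [i], ?_, j, k, ?_, ?_, ?_, ?_⟩
          · intro x hx
            rcases List.mem_append.mp hx with hx | hx
            · exact hw x hx
            · rw [List.mem_singleton.mp hx]; exact hi
          · rw [PAIRS_rho_snoc]; exact p1
          · rw [PAIRS_rho_snoc]; exact p2
          · rw [PAIRS_rho_snoc]; exact p3
          · rw [PAIRS_rho_snoc]; exact p4
        · simp only [Bool.and_eq_true, decide_eq_true_eq] at h2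
          obtain ⟨⟨⟨q1, q2⟩, q3⟩, q4⟩ := h2
          exact ⟨[], by simp, _, _, PAIRS_inSubB_spec D _ _ r q1, PAIRS_inSubB_spec D _ _ s q2, q3, q4⟩
  intro r s hr hs hsr hsn
  exact key _ r s rfl hr hs hsr hsn

end Cfsg.Agent.Helper29.CT
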