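-- piece B for helper36's S2156: `N_G(U) = B` in a Chevalley group over a finite field.
import Cfsg.Agent.Helper36.ChevAutDefs
import Cfsg.Agent.Helper36.BNPair
import Cfsg.Agent.S0311
import Cfsg.Agent.S1036
import Cfsg.Agent.S1037
import Cfsg.Agent.S1024

set_option autoImplicit false

namespace Cfsg.Agent.Helper36.ChevAut

open Cfsg Cfsg.Lie Cfsg.Agent.Helper18

variable {F : Type*} [Field F] [Finite F] (D : ChevalleyDatum)
  (hD : D ∈ [chevG2, chevB2, chevD4, chevF4, chevE6, chevE7, chevE8])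

include hD in
/-- piece B: an element of the Chevalley group which conjugates `U` into `U` lies in `B`. -/
theorem pieceB (g : GL D.Idx F) (hg : g ∈ D.group F)
    (h : ∀ u ∈ D.posUnipotent F, g * u * g⁻¹ ∈ D.posUnipotent F) : g ∈ D.borelSubgroup F := by
  classical
  have htri := triOK_of_mem D hD
  have hs := simpleOK_of_mem D hD
  obtain ⟨P, hPB, -, hPS⟩ := Cfsg.Agent.Helper36.chev_bnPair (F := F) D hD
  obtain ⟨hBV, -⟩ := Cfsg.Agent.S1037.result (F := F) D hD
  -- `B` normalises `U`
  have hBN : D.borelSubgroup F ≤ Subgroup.normalizer (D.posUnipotent F : Set (GL D.Idx F)) := by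
    unfold ChevalleyDatum.borelSubgroup
    exact sup_le Subgroup.le_normalizer (Cfsg.Agent.S1036.result (F := F) D hD).1
  -- the normaliser of `U` inside the Chevalley group
  set M : Subgroup ↥(D.group F) :=
    (Subgroup.normalizer (D.posUnipotent F : Set (GL D.Idx F))).subgroupOf (D.group F) with hM
  have hBM : P.B ≤ M := by
    rw [hPB, hM]
    intro x hx
    rw [Subgroup.mem_subgroupOf] at hx ⊢
    exact hBN hx
  obtain ⟨J, hJS, hMJ⟩ := Cfsg.Agent.S0311.result P M hBM
  -- `J` is empty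
  have hJ : J = ∅ := by
    rw [Set.eq_empty_iff_forall_notMem]
    intro n hnJ
    have hnS := hJS hnJ
    rw [hPS] at hnS
    obtain ⟨i, hi, hn⟩ := hnS
    have hnM : n ∈ M := by
      rw [hMJ]
      unfold BNPair.parabolic
      exact (le_sup_right : Subgroup.closure J ≤ P.B ⊔ Subgroup.closure J) (Subgroup.subset_closure hnJ)
    rw [hM, Subgroup.mem_subgroupOf] at hnM
    have hpi := simple_lt D hs i hi
    have hppos := simple_pos D hD i hi
    have hxU : xGL D F (D.simple i) (1 : F) ∈ D.posUnipotent F :=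
      xGL_mem_posUnipotent D hD _ ⟨hppos, hpi⟩ 1
    have h1 : (n : GL D.Idx F) * xGL D F (D.simple i) (1 : F) * (n : GL D.Idx F)⁻¹ ∈ D.posUnipotent F :=
      (Subgroup.mem_normalizer_iff.mp hnM _).mp hxU
    rw [nG_unique D hD i _ hn] at h1
    obtain ⟨η, hη, hc⟩ := nGL_conj_xGL D hD (nConjHyp (F := F) D hD) i _ hi hpi
    rw [reflectRoot_simple D hD i] at hc
    rw [hc 1, mul_one, mul_inv_cancel_right] at h1
    have h2 : xGL D F (D.neg (D.simple i)) (η : F) ∈ D.borelSubgroup F :=
      posUnipotent_le_borel D hD h1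
    obtain ⟨hnp, -, -, h4⟩ := triOK_spec D _ htri _ hpi
    have h3 : xGL D F (D.neg (D.simple i)) (η : F) ∈ D.negUnipotent F := by
      apply Subgroup.subset_closure
      exact ⟨_, _, (isNegRoot_iff D _ (posOK_of_mem D hD) _).mpr ⟨h4 hppos, hnp⟩, xGL_val D _ htri _ _⟩
    have h5 : xGL D F (D.neg (D.simple i)) (η : F) ∈ D.borelSubgroup F ⊓ D.negUnipotent F :=
      Subgroup.mem_inf.mpr ⟨h2, h3⟩
    rw [hBV, Subgroup.mem_bot] at h5
    have h6 := congrArg (fun z : GL D.Idx F => (z : Matrix D.Idx D.Idx F)) h5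
    simp only [xGL_val D _ htri, Units.val_one] at h6
    have h7 := (Cfsg.Agent.S1024.result D hD _ hnp _).mp h6
    rcases hη with rfl | rfl <;> simp at h7
  -- so `M = B`
  have hMB : M = P.B := by
    rw [hMJ, hJ]
    unfold BNPair.parabolic
    rw [Subgroup.closure_empty, sup_bot_eq]
  -- `g` normalises `U`
  have hgN : g ∈ Subgroup.normalizer (D.posUnipotent F : Set (GL D.Idx F)) :=
    Subgroup.mem_normalizer_fintype (fun n hn => h n hn)
  have hgM : (⟨g, hg⟩ : ↥(D.group F)) ∈ M := by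
    rw [hM, Subgroup.mem_subgroupOf]
    exact hgN
  rw [hMB, hPB, Subgroup.mem_subgroupOf] at hgM
  exact hgM

end Cfsg.Agent.Helper36.ChevAut
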