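import Mathlib

/-!
# (C1M) for helper3's S2500 part (4) skeleton (helper29): an isometry with an isotropic eigenvector `u`
whose eigenvectors are all isotropic, and which has an eigenvector modulo `u` in a nondegenerate plane
`P ⊆ u^⊥`, stabilises a totally isotropic plane
-/

set_option autoImplicit false
set_option linter.unusedSectionVars false
set_option linter.unusedVariables false

namespace Cfsg.Agent.Helper29.Cov2P4

open Polynomial Module Matrix

variable {F V : Type*} [Field F] [Finite F] [AddCommGroup V] [Module F V] [FiniteDimensional F V]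
  {σ : F →+* F} (B : V →ₛₗ[σ] V →ₗ[F] F)

theorem C1M_sym_zero (hS : B.IsSymm) {x y : V} (h : B x y = 0) : B y x = 0 := by
  rw [← hS.eq x y, h, map_zero]

theorem C1M_range_pair {M : Type*} (x y : M) : Set.range ![x, y] = {x, y} := by
  ext z
  simp [eq_comm, or_comm]

/-- coordinates in a plane with respect to two independent vectors -/
theorem C1M_exists_coord (P : Submodule F V) (hP2 : finrank F P = 2) (w w₂ : P)
    (hli : ∀ s t : F, s • w + t • w₂ = 0 → s = 0 ∧ t = 0) (x : P) :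
    ∃ α β : F, x = α • w + β • w₂ := by
  have hli' : LinearIndependent F ![w, w₂] := LinearIndependent.pair_iff.2 hli
  have htop := hli'.span_eq_top_of_card_eq_finrank' (by rw [Fintype.card_fin, hP2])
  rw [C1M_range_pair] at htop
  have hx : x ∈ Submodule.span F {w, w₂} := by rw [htop]; exact Submodule.mem_top
  obtain ⟨α, β, h⟩ := Submodule.mem_span_pair.1 hx
  exact ⟨α, β, h.symm⟩

/-- the plane spanned by `u` and an isotropic `z ∈ P` with `T z ∈ ⟨u, z⟩` -/
theorem C1M_plane (hS : B.IsSymm) (T : V →ₗ[F] V) (u : V) (huu : B u u = 0) (c : F)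
    (hTu : T u = c • u) (P : Submodule F V) (hPu : ∀ x ∈ P, B u x = 0) (huP : u ∉ P)
    (z : V) (hzP : z ∈ P) (hz : z ≠ 0) (hzz : B z z = 0) (a μ : F) (hTz : T z = a • u + μ • z) :
    ∃ W : Submodule F V, finrank F W = 2 ∧ (∀ x ∈ W, ∀ y ∈ W, B x y = 0) ∧ ∀ x ∈ W, T x ∈ W := by
  have huz : B u z = 0 := hPu z hzP
  have hzu : B z u = 0 := C1M_sym_zero B hS huz
  have hli : LinearIndependent F ![u, z] := by
    rw [LinearIndependent.pair_iff]
    intro s t hst
    have hs : s = 0 := by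
      by_contra hs
      apply huP
      have : u = (-(s⁻¹ * t)) • z := by
        have h1 : s • u = -(t • z) := eq_neg_of_add_eq_zero_left hst
        calc u = s⁻¹ • (s • u) := by rw [smul_smul, inv_mul_cancel₀ hs, one_smul]
          _ = s⁻¹ • (-(t • z)) := by rw [h1]
          _ = (-(s⁻¹ * t)) • z := by rw [smul_neg, smul_smul, neg_smul]
      rw [this]
      exact P.smul_mem _ hzP
    refine ⟨hs, ?_⟩
    rw [hs, zero_smul, zero_add] at hst
    exact (smul_eq_zero.1 hst).resolve_right hz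
  refine ⟨Submodule.span F {u, z}, ?_, ?_, ?_⟩
  · have := finrank_span_eq_card hli
    rw [Fintype.card_fin, C1M_range_pair] at this
    exact this
  · intro x hx y hy
    obtain ⟨α, β, rfl⟩ := Submodule.mem_span_pair.1 hx
    obtain ⟨γ, δ, rfl⟩ := Submodule.mem_span_pair.1 hy
    simp only [map_add, map_smulₛₗ, LinearMap.add_apply, LinearMap.smul_apply, huu, huz,
      hzu, hzz, smul_zero, add_zero]
  · intro x hx
    obtain ⟨α, β, rfl⟩ := Submodule.mem_span_pair.1 hx
    rw [map_add, map_smul, map_smul, hTu, hTz]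
    apply Submodule.mem_span_pair.2
    refine ⟨α * c + β * a, β * μ, ?_⟩
    rw [add_smul, smul_add, smul_smul, smul_smul, smul_smul]
    abel

/-- a non-isotropic vector of `P` which is an eigenvector modulo `u` has eigenvalue `c` -/
theorem C1M_eigen_eq (hS : B.IsSymm) (T : V →ₗ[F] V) (u : V) (huu : B u u = 0) (c : F)
    (hTu : T u = c • u) (hall : ∀ v : V, v ≠ 0 → (∃ c : F, T v = c • v) → B v v = 0)
    (P : Submodule F V) (hPu : ∀ x ∈ P, B u x = 0)
    (x : V) (hxP : x ∈ P) (hxx : B x x ≠ 0) (a ν : F) (hTx : T x = a • u + ν • x) : ν = c := by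
  by_contra hne
  have hd : ν - c ≠ 0 := sub_ne_zero.2 hne
  have hux : B u x = 0 := hPu x hxP
  have hxu : B x u = 0 := C1M_sym_zero B hS hux
  set k : F := a / (ν - c) with hk
  have hka : k * (ν - c) = a := div_mul_cancel₀ a hd
  have hBv : B (x + k • u) (x + k • u) = B x x := by
    simp only [map_add, map_smulₛₗ, LinearMap.add_apply, LinearMap.smul_apply, huu, hux,
      hxu, smul_zero, add_zero]
  have hv0 : x + k • u ≠ 0 := by
    intro h0
    apply hxx
    rw [← hBv, h0]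
    simp
  have hTv : T (x + k • u) = ν • (x + k • u) := by
    rw [map_add, map_smul, hTu, hTx, smul_add, smul_smul, smul_smul]
    have e : a • u = (k * (ν - c)) • u := by rw [hka]
    rw [e, mul_sub, sub_smul, mul_comm ν k]
    abel
  exact hxx (hBv ▸ hall _ hv0 ⟨ν, hTv⟩)

/-- (C1M) -/
theorem case_eigen_main (hS : B.IsSymm) (T : V →ₗ[F] V) (hT : ∀ x y, B (T x) (T y) = B x y)
    (u : V) (hu : u ≠ 0) (huu : B u u = 0) (c : F) (hTu : T u = c • u)
    (hall : ∀ v : V, v ≠ 0 → (∃ c : F, T v = c • v) → B v v = 0)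
    (P : Submodule F V) (S : P →ₗ[F] P) (hP2 : finrank F P = 2)
    (hPnd : ∀ x ∈ P, (∀ y ∈ P, B x y = 0) → x = 0) (hPu : ∀ x ∈ P, B u x = 0) (huP : u ∉ P)
    (hSiso : ∀ x y : P, B (S x : V) (S y : V) = B (x : V) (y : V))
    (hTS : ∀ x : P, ∃ a : F, T (x : V) = a • u + (S x : V))
    (hv : ∃ v : P, v ≠ 0 ∧ ∃ μ : F, S v = μ • v) :
    ∃ W : Submodule F V, finrank F W = 2 ∧ (∀ x ∈ W, ∀ y ∈ W, B x y = 0) ∧ ∀ x ∈ W, T x ∈ W := by
  obtain ⟨w, hw0, μ, hSw⟩ := hv
  have hw0' : (w : V) ≠ 0 := fun h => hw0 (Subtype.ext h)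
  obtain ⟨a₁, hTw⟩ := hTS w
  rw [hSw, Submodule.coe_smul] at hTw
  by_cases hww : B (w : V) (w : V) = 0
  · exact C1M_plane B hS T u huu c hTu P hPu huP w w.2 hw0' hww a₁ μ hTw
  -- a second vector of `P`, orthogonal to `w`
  let φ : P →ₗ[F] F := (B (w : V)).comp P.subtype
  have hker : LinearMap.ker φ ≠ ⊥ :=
    LinearMap.ker_ne_bot_of_finrank_lt (by rw [finrank_self, hP2]; norm_num)
  obtain ⟨w₂, hw₂ker, hw₂0⟩ := Submodule.exists_mem_ne_zero_of_ne_bot hker
  have hw₂ : B (w : V) (w₂ : V) = 0 := LinearMap.mem_ker.1 hw₂ker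
  have hw₂' : B (w₂ : V) (w : V) = 0 := C1M_sym_zero B hS hw₂
  have hw₂0' : (w₂ : V) ≠ 0 := fun h => hw₂0 (Subtype.ext h)
  have hli : ∀ s t : F, s • w + t • w₂ = 0 → s = 0 ∧ t = 0 := by
    intro s t hst
    have h1 : B (w : V) ((s • w + t • w₂ : P) : V) = 0 := by rw [hst]; simp
    rw [Submodule.coe_add, Submodule.coe_smul, Submodule.coe_smul, map_add, map_smul, map_smul, hw₂,
      smul_zero, add_zero, smul_eq_mul] at h1
    have hs : s = 0 := (mul_eq_zero.1 h1).resolve_right hww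
    refine ⟨hs, ?_⟩
    rw [hs, zero_smul, zero_add] at hst
    exact (smul_eq_zero.1 hst).resolve_right hw₂0
  -- `μ ≠ 0`
  have hμ : μ ≠ 0 := by
    intro h0
    have h1 := hSiso w w
    rw [hSw, h0, zero_smul] at h1
    apply hww
    rw [← h1]
    simp
  -- `w₂` is an eigenvector of `S`
  obtain ⟨s, t, hSw₂⟩ := C1M_exists_coord P hP2 w w₂ hli (S w₂)
  have hs : s = 0 := by
    have h1 := hSiso w w₂
    rw [hSw, hSw₂, hw₂, Submodule.coe_add, Submodule.coe_smul, Submodule.coe_smul,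
      Submodule.coe_smul, map_smulₛₗ, LinearMap.smul_apply, map_add, map_smul, map_smul, hw₂,
      smul_zero, add_zero, smul_eq_mul, smul_eq_mul] at h1
    have h2 : σ μ ≠ 0 := (map_ne_zero σ).2 hμ
    exact (mul_eq_zero.1 ((mul_eq_zero.1 h1).resolve_left h2)).resolve_right hww
  rw [hs, zero_smul, zero_add] at hSw₂
  obtain ⟨a₂, hTw₂⟩ := hTS w₂
  rw [hSw₂, Submodule.coe_smul] at hTw₂
  -- `w₂` is not isotropic
  have hw₂w₂ : B (w₂ : V) (w₂ : V) ≠ 0 := by
    intro h0
    apply hw₂0'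
    apply hPnd _ w₂.2
    intro y hy
    obtain ⟨α, β, hαβ⟩ := C1M_exists_coord P hP2 w w₂ hli ⟨y, hy⟩
    have e : y = α • (w : V) + β • (w₂ : V) := by
      have := congrArg (fun x : P => (x : V)) hαβ
      simpa using this
    rw [e, map_add, map_smul, map_smul, hw₂', h0, smul_zero, smul_zero, add_zero]
  -- both eigenvalues are `c`
  have hμc : μ = c := C1M_eigen_eq B hS T u huu c hTu hall P hPu w w.2 hww a₁ μ hTw
  have htc : t = c := C1M_eigen_eq B hS T u huu c hTu hall P hPu w₂ w₂.2 hw₂w₂ a₂ t hTw₂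
  rw [hμc] at hTw
  rw [htc] at hTw₂
  -- `a₁ ≠ 0`
  have ha₁ : a₁ ≠ 0 := by
    intro h0
    rw [h0, zero_smul, zero_add] at hTw
    exact hww (hall _ hw0' ⟨c, hTw⟩)
  -- the isotropic eigenvector `z`
  set z : P := a₂ • w + (-a₁) • w₂ with hz
  have hz0 : z ≠ 0 := by
    intro h0
    exact ha₁ (neg_eq_zero.1 (hli _ _ h0).2)
  have hz0' : (z : V) ≠ 0 := fun h => hz0 (Subtype.ext h)
  have hzV : (z : V) = a₂ • (w : V) + (-a₁) • (w₂ : V) := by
    rw [hz, Submodule.coe_add, Submodule.coe_smul, Submodule.coe_smul]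
  have hTz : T (z : V) = c • (z : V) := by
    rw [hzV, map_add, map_smul, map_smul, hTw, hTw₂]
    module
  have hzz : B (z : V) (z : V) = 0 := hall _ hz0' ⟨c, hTz⟩
  exact C1M_plane B hS T u huu c hTu P hPu huP z z.2 hz0' hzz 0 c (by rw [zero_smul, zero_add, hTz])

end Cfsg.Agent.Helper29.Cov2P4
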