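import Cfsg.Agent.Helper43.Cov2.P6Defs

/-!
# S2500 part 6, piece (6A) for helper43: Dye's lemma.
Every element of `Sp_{2m}(q)`, `q` even, preserves one of the quadratic forms `Qa a` polarising to the
standard alternating form.
-/

set_option autoImplicit false

namespace Cfsg.Agent.Helper29.Cov2.P6

open Matrix Cfsg.Agent.Helper43.Cov2.P6 Cfsg.Agent.Helper13

variable {F : Type*} [Field F] [Fintype F] {m : ℕ}

theorem charP_two_of_not_odd (h : ¬ Odd (Fintype.card F)) : CharP F 2 := by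
  have h2 : Fintype.card F % 2 = 0 := Nat.even_iff.1 (Nat.not_odd_iff_even.1 h)
  have h3 : ringChar F = 2 := FiniteField.even_card_iff_char_two.2 h2
  exact ringChar.of_eq h3

omit [Fintype F] in
/-- polarisation of `Q₊` in characteristic two -/
theorem quadFormPlus_add (h2 : (2 : F) = 0) (x y : Fin m ⊕ Fin m → F) :
    Cfsg.quadFormPlus m F (x + y) =
      Cfsg.quadFormPlus m F x + Cfsg.quadFormPlus m F y + Cfsg.sympForm m F x y := by
  rw [sympForm_eq_sum]
  unfold Cfsg.quadFormPlus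
  rw [← Finset.sum_add_distrib, ← Finset.sum_add_distrib]
  apply Finset.sum_congr rfl
  intro i _
  simp only [Pi.add_apply]
  linear_combination (x (Sum.inl i) * y (Sum.inr i)) * h2

omit [Fintype F] in
theorem quadFormPlus_smul (c : F) (x : Fin m ⊕ Fin m → F) :
    Cfsg.quadFormPlus m F (c • x) = c ^ 2 * Cfsg.quadFormPlus m F x := by
  unfold Cfsg.quadFormPlus
  rw [Finset.mul_sum]
  apply Finset.sum_congr rfl
  intro i _
  simp only [Pi.smul_apply, smul_eq_mul]
  ring

omit [Fintype F] in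
/-- every linear functional is `f(a, ·)` -/
theorem exists_sympForm_repr (φ : (Fin m ⊕ Fin m → F) →ₗ[F] F) :
    ∃ a : Fin m ⊕ Fin m → F, ∀ x, φ x = Cfsg.sympForm m F a x := by
  classical
  let w : Fin m ⊕ Fin m → F := fun i => φ (fun j => if i = j then 1 else 0)
  refine ⟨Sum.elim (fun i => -w (Sum.inr i)) (fun i => w (Sum.inl i)), fun x => ?_⟩
  rw [LinearMap.pi_apply_eq_sum_univ φ x, sympForm_eq_sum, Fintype.sum_sum_type,
    ← Finset.sum_add_distrib]
  apply Finset.sum_congr rfl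
  intro i _
  simp only [Sum.elim_inl, Sum.elim_inr, smul_eq_mul]
  show x (Sum.inl i) * w (Sum.inl i) + x (Sum.inr i) * w (Sum.inr i) = _
  ring

/-- (6A) Dye's lemma. -/
theorem dye (heven : ¬ Odd (Fintype.card F)) (A : Matrix.symplecticGroup (Fin m) F) :
    ∃ a : Fin m ⊕ Fin m → F, A ∈ stab (Qa a) := by
  classical
  haveI : CharP F 2 := charP_two_of_not_odd heven
  have h2 : (2 : F) = 0 := CharTwo.two_eq_zero
  haveI : Fact (Nat.Prime 2) := ⟨Nat.prime_two⟩
  let sq : F ≃+* F := frobeniusEquiv F 2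
  have hsq : ∀ x, sq x = x ^ 2 := fun x => frobeniusEquiv_def F 2 x
  set M : Matrix (Fin m ⊕ Fin m) (Fin m ⊕ Fin m) F := (A : Matrix (Fin m ⊕ Fin m) (Fin m ⊕ Fin m) F)
    with hM
  have hAf : ∀ u v, Cfsg.sympForm m F (M *ᵥ u) (M *ᵥ v) = Cfsg.sympForm m F u v :=
    (mem_symplecticGroup_iff_preserves M).mp A.2
  let D : (Fin m ⊕ Fin m → F) → F := fun v => Cfsg.quadFormPlus m F (M *ᵥ v) + Cfsg.quadFormPlus m F v
  have hDadd : ∀ x y, D (x + y) = D x + D y := by
    intro x y
    show Cfsg.quadFormPlus m F (M *ᵥ (x + y)) + Cfsg.quadFormPlus m F (x + y) =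
      (Cfsg.quadFormPlus m F (M *ᵥ x) + Cfsg.quadFormPlus m F x) +
        (Cfsg.quadFormPlus m F (M *ᵥ y) + Cfsg.quadFormPlus m F y)
    rw [Matrix.mulVec_add, quadFormPlus_add h2, quadFormPlus_add h2, hAf]
    linear_combination (Cfsg.sympForm m F x y) * h2
  have hDsmul : ∀ (c : F) x, D (c • x) = c ^ 2 * D x := by
    intro c x
    show Cfsg.quadFormPlus m F (M *ᵥ (c • x)) + Cfsg.quadFormPlus m F (c • x) =
      c ^ 2 * (Cfsg.quadFormPlus m F (M *ᵥ x) + Cfsg.quadFormPlus m F x)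
    rw [Matrix.mulVec_smul, quadFormPlus_smul, quadFormPlus_smul]
    ring
  let s : (Fin m ⊕ Fin m → F) →ₗ[F] F :=
    { toFun := fun v => sq.symm (D v)
      map_add' := fun x y => by
        show sq.symm (D (x + y)) = sq.symm (D x) + sq.symm (D y)
        rw [hDadd, map_add]
      map_smul' := fun c x => by
        show sq.symm (D (c • x)) = c • sq.symm (D x)
        rw [hDsmul, map_mul, ← hsq, RingEquiv.symm_apply_apply, smul_eq_mul] }
  have hs : ∀ v, s v = sq.symm (D v) := fun v => rfl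
  let T : (Fin m ⊕ Fin m → F) →ₗ[F] (Fin m ⊕ Fin m → F) := Matrix.toLin' (M + 1)
  have hT : ∀ v, T v = M *ᵥ v + v := by
    intro v
    show Matrix.toLin' (M + 1) v = _
    rw [Matrix.toLin'_apply, Matrix.add_mulVec, Matrix.one_mulVec]
  have hker : s ∈ (LinearMap.ker T).dualAnnihilator := by
    rw [Submodule.mem_dualAnnihilator]
    intro v hv
    have hv' : M *ᵥ v + v = 0 := by rw [← hT]; exact LinearMap.mem_ker.mp hv
    have hMv : M *ᵥ v = v := by
      have h3 : M *ᵥ v = -v := eq_neg_of_add_eq_zero_left hv'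
      rw [h3]
      funext i
      simp only [Pi.neg_apply]
      linear_combination (-v i) * h2
    have hD0 : D v = 0 := by
      show Cfsg.quadFormPlus m F (M *ᵥ v) + Cfsg.quadFormPlus m F v = 0
      rw [hMv]
      linear_combination (Cfsg.quadFormPlus m F v) * h2
    rw [hs, hD0, map_zero]
  rw [← LinearMap.range_dualMap_eq_dualAnnihilator_ker] at hker
  obtain ⟨φ, hφ⟩ := hker
  obtain ⟨a, ha⟩ := exists_sympForm_repr φ
  refine ⟨a, ?_⟩
  rw [mem_stab]
  intro v
  have h1 : Cfsg.sympForm m F a (M *ᵥ v + v) = s v := by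
    rw [← ha, ← hφ, LinearMap.dualMap_apply, hT]
  have h3 : (s v) ^ 2 = D v := by
    rw [hs, ← hsq, RingEquiv.apply_symm_apply]
  rw [sympForm_add_right] at h1
  have h4 : (Cfsg.sympForm m F a (M *ᵥ v) + Cfsg.sympForm m F a v) ^ 2 =
      Cfsg.quadFormPlus m F (M *ᵥ v) + Cfsg.quadFormPlus m F v := by
    rw [h1, h3]
  unfold Qa
  linear_combination h4 + (Cfsg.quadFormPlus m F (M *ᵥ v) - (Cfsg.sympForm m F a v) ^ 2 -
    Cfsg.sympForm m F a (M *ᵥ v) * Cfsg.sympForm m F a v) * h2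

end Cfsg.Agent.Helper29.Cov2.P6
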