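import Cfsg.Agent.Helper43.Cov2.P6Defs
import Cfsg.Agent.Helper13.SympTrans
import Cfsg.Agent.Helper44.StdForms
import Cfsg.Agent.Helper44.QTypeClassify
import Cfsg.Agent.Helper44.QTypeAniso
import Cfsg.Agent.Helper44.QTypeCount
import Cfsg.Agent.Helper29.Cov2P66A

/-!
# S2500 part 6, piece (6B) for helper43: at most two isometry classes among the forms `Qa a`.
-/

set_option autoImplicit false

namespace Cfsg.Agent.Helper29.Cov2.P6

open Matrix Cfsg.Agent.Helper43.Cov2.P6 Cfsg.Agent.Helper13 Cfsg.Agent.Helper44 Cfsg.Agent.Helper44.QType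

variable {F : Type*} [Field F] [Fintype F] {m : ℕ}

omit [Fintype F] in
/-- the linear functional `f(a, ·)` -/
def sympLin (a : Fin m ⊕ Fin m → F) : (Fin m ⊕ Fin m → F) →ₗ[F] F where
  toFun := fun x => Cfsg.sympForm m F a x
  map_add' := fun x y => sympForm_add_right a x y
  map_smul' := fun c x => by
    rw [sympForm_smul_right, RingHom.id_apply, smul_eq_mul]

/-- `Qa a` as a quadratic form -/
def QaForm (a : Fin m ⊕ Fin m → F) : QuadraticForm F (Fin m ⊕ Fin m → F) :=
  plusForm m F + QuadraticMap.linMulLin (sympLin a) (sympLin a)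

omit [Fintype F] in
theorem QaForm_coe (a : Fin m ⊕ Fin m → F) : ⇑(QaForm a) = Qa a := by
  funext x
  show plusForm m F x + sympLin a x * sympLin a x = Qa a x
  unfold Qa
  rw [pow_two]
  rfl

omit [Fintype F] in
theorem Qa_zero : Qa (0 : Fin m ⊕ Fin m → F) = Cfsg.quadFormPlus m F := by
  funext x
  unfold Qa
  rw [sympForm_zero_left]
  simp

omit [Fintype F] in
theorem polar_Qa (h2 : (2 : F) = 0) (a x y : Fin m ⊕ Fin m → F) :
    QuadraticMap.polar (Qa a) x y = Cfsg.sympForm m F x y := by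
  unfold QuadraticMap.polar Qa
  rw [quadFormPlus_add h2, sympForm_add_right]
  linear_combination (Cfsg.sympForm m F a x * Cfsg.sympForm m F a y) * h2

omit [Fintype F] in
theorem nondeg_QaForm (h2 : (2 : F) = 0) (a : Fin m ⊕ Fin m → F) :
    ∀ x : Fin m ⊕ Fin m → F, (∀ y, QuadraticMap.polar (QaForm a) x y = 0) → x = 0 := by
  intro x hx
  by_contra hne
  obtain ⟨y, hy⟩ := sympForm_nondeg_left hne
  apply hy
  have h := hx y
  rw [QaForm_coe, polar_Qa h2] at h
  rw [sympForm_swap, h, neg_zero]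

/-- (6B) at most two isometry classes among the `Qa a`. -/
theorem two_classes (hm : 1 ≤ m) (heven : ¬ Odd (Fintype.card F)) :
    ∃ a₀ : Fin m ⊕ Fin m → F, ∀ a : Fin m ⊕ Fin m → F,
      ∃ C : (Fin m ⊕ Fin m → F) ≃ₗ[F] (Fin m ⊕ Fin m → F),
        (∀ w, Qa (0 : Fin m ⊕ Fin m → F) (C w) = Qa a w) ∨ (∀ w, Qa a₀ (C w) = Qa a w) := by
  classical
  haveI : CharP F 2 := charP_two_of_not_odd heven
  have h2 : (2 : F) = 0 := CharTwo.two_eq_zero
  have hV : Module.finrank F (Fin m ⊕ Fin m → F) = 2 * m := by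
    rw [Module.finrank_fintype_fun_eq_card, Fintype.card_sum, Fintype.card_fin, two_mul]
  have hT0 : HasType (⇑(QaForm (0 : Fin m ⊕ Fin m → F))) m 1 := by
    rw [QaForm_coe, Qa_zero]
    exact hasType_plus m
  by_cases hex : ∃ a₀ : Fin m ⊕ Fin m → F, HasType (⇑(QaForm a₀)) m (-1)
  · obtain ⟨a₀, ha₀⟩ := hex
    refine ⟨a₀, fun a => ?_⟩
    obtain ⟨ε, hε, hT⟩ := exists_hasType (QaForm a) hV (nondeg_QaForm h2 a)
    rcases hε with rfl | rfl
    · obtain ⟨C, hC⟩ := exists_isometry_of_hasType (QaForm a) (QaForm 0) hV hV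
        (nondeg_QaForm h2 a) (nondeg_QaForm h2 0) hT hT0
      refine ⟨C, Or.inl fun w => ?_⟩
      have := hC w
      rw [QaForm_coe, QaForm_coe] at this
      exact this
    · obtain ⟨C, hC⟩ := exists_isometry_of_hasType (QaForm a) (QaForm a₀) hV hV
        (nondeg_QaForm h2 a) (nondeg_QaForm h2 a₀) hT ha₀
      refine ⟨C, Or.inr fun w => ?_⟩
      have := hC w
      rw [QaForm_coe, QaForm_coe] at this
      exact this
  · refine ⟨0, fun a => ?_⟩
    obtain ⟨ε, hε, hT⟩ := exists_hasType (QaForm a) hV (nondeg_QaForm h2 a)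
    rcases hε with rfl | rfl
    · obtain ⟨C, hC⟩ := exists_isometry_of_hasType (QaForm a) (QaForm 0) hV hV
        (nondeg_QaForm h2 a) (nondeg_QaForm h2 0) hT hT0
      refine ⟨C, Or.inl fun w => ?_⟩
      have := hC w
      rw [QaForm_coe, QaForm_coe] at this
      exact this
    · exact absurd ⟨a, hT⟩ hex

end Cfsg.Agent.Helper29.Cov2.P6
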