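import Mathlib
import Cfsg.Agent.S0082
import Cfsg.Agent.Lib.Cores

set_option autoImplicit false

/-!
# Cyclic Sylow subgroups and perfect normal subgroups
-/

namespace Cfsg.Agent.Helper29

open Subgroup
open scoped Pointwise

/-- A normal subgroup of order divisible by `p` contains an element of order `p` of any given
Sylow `p`-subgroup. -/
theorem exists_mem_sylow_mem_normal_orderOf {G : Type*} [Group G] [Finite G] {p : ℕ} [Fact p.Prime]
    (P : Sylow p G) (N : Subgroup G) [hN : N.Normal] (h : p ∣ Nat.card N) :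
    ∃ y ∈ (P : Subgroup G), y ∈ N ∧ orderOf y = p := by
  obtain ⟨x, hx⟩ := exists_prime_orderOf_dvd_card' p h
  have hx' : orderOf (x : G) = p := by rw [Subgroup.orderOf_coe]; exact hx
  have hZ : IsPGroup p (Subgroup.zpowers (x : G)) :=
    IsPGroup.of_card (n := 1) (by rw [Nat.card_zpowers, hx', pow_one])
  obtain ⟨Q, hQ⟩ := hZ.exists_le_sylow
  obtain ⟨g, hg⟩ := MulAction.exists_smul_eq G Q P
  refine ⟨g * x * g⁻¹, ?_, hN.conj_mem _ x.2 g, ?_⟩
  · rw [← hg, Sylow.coe_subgroup_smul, Subgroup.mem_pointwise_smul_iff_inv_smul_mem]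
    have : (MulAut.conj g)⁻¹ • (g * (x : G) * g⁻¹) = (x : G) := by
      rw [← map_inv, MulAut.smul_def, MulAut.conj_apply]
      group
    rw [this]
    exact hQ (Subgroup.mem_zpowers _)
  · have := orderOf_injective (MulAut.conj g).toMonoidHom (MulAut.conj g).injective (x : G)
    rw [← hx', ← this]
    rfl

/-- A cyclic Sylow `p`-subgroup `P` and a perfect normal subgroup `L` with `G = LP` and
`P ∩ L ≠ 1`: then `L = G`. -/
theorem eq_top_of_cyclic_sylow_of_perfect_normal {G : Type*} [Group G] [Finite G] {p : ℕ}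
    [Fact p.Prime] (P : Sylow p G) (hP : IsCyclic ↥(P : Subgroup G)) (L : Subgroup G) [L.Normal]
    (hL : L ≤ ⁅L, L⁆) (hLP : L ⊔ (P : Subgroup G) = ⊤) (hne : (P : Subgroup G) ⊓ L ≠ ⊥) :
    L = ⊤ := by
  rcases Cfsg.Agent.S0082.result P hP with h | h
  · exfalso
    obtain ⟨N, hNn, hN⟩ := (Cfsg.Agent.Helper2.hasNormalPComplement_iff P).mp h
    have hc : IsMulCommutative (P : Subgroup G) := IsCyclic.isMulCommutative
    have h1 : commutator G ≤ N :=
      Subgroup.Normal.commutator_le_of_self_sup_commutative_eq_top hN.sup_eq_top hc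
    have h2 : L ≤ N := by
      refine hL.trans ((Subgroup.commutator_mono le_top le_top).trans ?_)
      rw [← commutator_def]
      exact h1
    apply hne
    rw [eq_bot_iff]
    intro x hx
    exact hN.disjoint.le_bot ⟨h2 hx.2, hx.1⟩
  · have hsurj : Function.Surjective ((QuotientGroup.mk' L).comp (P : Subgroup G).subtype) := by
      rw [← MonoidHom.range_eq_top, MonoidHom.range_comp, Subgroup.range_subtype]
      have h1 : (L ⊔ (P : Subgroup G)).map (QuotientGroup.mk' L) = ⊤ := by
        rw [hLP, ← MonoidHom.range_eq_map, MonoidHom.range_eq_top]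
        exact QuotientGroup.mk'_surjective L
      rw [Subgroup.map_sup, QuotientGroup.map_mk'_self, bot_sup_eq] at h1
      exact h1
    have hq : IsPGroup p (G ⧸ L) := IsPGroup.of_surjective P.2 _ hsurj
    have := Cfsg.Agent.Lib.pResidual_le_of_isPGroup_quotient L hq
    rw [h] at this
    exact top_le_iff.mp this

/-- A cyclic Sylow `p`-subgroup meeting a perfect normal subgroup nontrivially lies inside it. -/
theorem sylow_le_of_cyclic_of_perfect_normal {G : Type*} [Group G] [Finite G] {p : ℕ}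
    [Fact p.Prime] (P : Sylow p G) (hP : IsCyclic ↥(P : Subgroup G)) (L : Subgroup G) [L.Normal]
    (hL : L ≤ ⁅L, L⁆) (hne : (P : Subgroup G) ⊓ L ≠ ⊥) : (P : Subgroup G) ≤ L := by
  set K1 : Subgroup G := L ⊔ (P : Subgroup G) with hK1
  have hLK : L ≤ K1 := le_sup_left
  have hPK : (P : Subgroup G) ≤ K1 := le_sup_right
  let P1 : Sylow p K1 := P.subtype hPK
  have hP1 : (P1 : Subgroup K1) = (P : Subgroup G).subgroupOf K1 := Sylow.coe_subtype P hPK
  have hP1c : IsCyclic ↥(P1 : Subgroup K1) := by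
    rw [hP1]
    haveI := hP
    exact isCyclic_of_surjective (Subgroup.subgroupOfEquivOfLe hPK).symm (MulEquiv.surjective _)
  have hperf : L.subgroupOf K1 ≤ ⁅L.subgroupOf K1, L.subgroupOf K1⁆ := by
    rw [← Subgroup.map_le_map_iff_of_injective (Subgroup.subtype_injective K1),
      Subgroup.map_commutator, Subgroup.subgroupOf_map_subtype, inf_eq_left.mpr hLK]
    exact hL
  have hsup : L.subgroupOf K1 ⊔ (P1 : Subgroup K1) = ⊤ := by
    rw [hP1, ← Subgroup.subgroupOf_sup hLK hPK]
    exact Subgroup.subgroupOf_self K1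
  have hne1 : (P1 : Subgroup K1) ⊓ L.subgroupOf K1 ≠ ⊥ := by
    intro hbot
    apply hne
    rw [eq_bot_iff]
    intro x hx
    have : (⟨x, hPK hx.1⟩ : K1) ∈ (P1 : Subgroup K1) ⊓ L.subgroupOf K1 := by
      rw [hP1]
      exact ⟨Subgroup.mem_subgroupOf.mpr hx.1, Subgroup.mem_subgroupOf.mpr hx.2⟩
    rw [hbot, Subgroup.mem_bot] at this
    rw [Subgroup.mem_bot]
    exact congrArg Subtype.val this
  have h := eq_top_of_cyclic_sylow_of_perfect_normal P1 hP1c (L.subgroupOf K1) hperf hsup hne1
  rw [Subgroup.subgroupOf_eq_top] at h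
  exact hPK.trans h

end Cfsg.Agent.Helper29
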