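import Mathlib

/-!
# S0679 (helper54), pieces (CT2), (CT2'), (CT11): supports of elements of order 2 and 11 on 11 points
-/

set_option autoImplicit false

namespace Cfsg.Agent.Helper29.D11

open Equiv MulAction

variable {α : Type*} [Fintype α] [DecidableEq α]

/-- the cycle type of an element of prime order -/
theorem cycleType_of_prime_order {g : Perm α} {p : ℕ} (hp : p.Prime) (ho : orderOf g = p) :
    ∃ n : ℕ, g.cycleType = Multiset.replicate (n + 1) p ∧ g.support.card = (n + 1) * p ∧
      Perm.sign g = (-1 : ℤˣ) ^ ((n + 1) * p + (n + 1)) := by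
  obtain ⟨n, hn⟩ := Perm.cycleType_prime_order (σ := g) (by rw [ho]; exact hp)
  rw [ho] at hn
  refine ⟨n, hn, ?_, ?_⟩
  · rw [← Perm.sum_cycleType, hn, Multiset.sum_replicate, smul_eq_mul]
  · rw [Perm.sign_of_cycleType, hn, Multiset.sum_replicate, Multiset.card_replicate, smul_eq_mul]

/-- (CT2) an even involution moves 4 or 8 points (no group needed) -/
theorem support_of_order_two (hα : Fintype.card α = 11) {g : Perm α}
    (hs : Perm.sign g = 1) (ho : orderOf g = 2) : g.support.card = 4 ∨ g.support.card = 8 := by
  obtain ⟨n, -, hcard, hsign⟩ := cycleType_of_prime_order Nat.prime_two ho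
  have hle : g.support.card ≤ 11 := hα ▸ Finset.card_le_univ _
  rw [hs] at hsign
  have hn : n + 1 ≤ 5 := by omega
  have hcases : n + 1 = 1 ∨ n + 1 = 2 ∨ n + 1 = 3 ∨ n + 1 = 4 ∨ n + 1 = 5 := by omega
  rcases hcases with h | h | h | h | h <;> rw [h] at hsign hcard
  · exact absurd hsign (by decide)
  · left; omega
  · exact absurd hsign (by decide)
  · right; omega
  · exact absurd hsign (by decide)

/-- (CT2') an odd involution moves 2, 6 or 10 points -/
theorem support_of_order_two_odd (hα : Fintype.card α = 11) {g : Perm α}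
    (hs : Perm.sign g = -1) (ho : orderOf g = 2) :
    g.support.card = 2 ∨ g.support.card = 6 ∨ g.support.card = 10 := by
  obtain ⟨n, -, hcard, hsign⟩ := cycleType_of_prime_order Nat.prime_two ho
  have hle : g.support.card ≤ 11 := hα ▸ Finset.card_le_univ _
  rw [hs] at hsign
  have hcases : n + 1 = 1 ∨ n + 1 = 2 ∨ n + 1 = 3 ∨ n + 1 = 4 ∨ n + 1 = 5 := by omega
  rcases hcases with h | h | h | h | h <;> rw [h] at hsign hcard
  · left; omega
  · exact absurd hsign (by decide)
  · right; left; omega
  · exact absurd hsign (by decide)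
  · right; right; omega

/-- (CT11) -/
theorem support_of_order_eleven (hα : Fintype.card α = 11) {g : Perm α}
    (ho : orderOf g = 11) : g.support.card = 11 := by
  obtain ⟨n, -, hcard, -⟩ := cycleType_of_prime_order (by norm_num : Nat.Prime 11) ho
  have hle : g.support.card ≤ 11 := hα ▸ Finset.card_le_univ _
  have hn : n = 0 := by omega
  rw [hcard, hn]

end Cfsg.Agent.Helper29.D11
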