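import Mathlib
import Cfsg.Agent.Helper29.D11CT2

/-!
# S0679 (helper54), piece (CT3): supports of elements of order 3
-/

set_option autoImplicit false

namespace Cfsg.Agent.Helper29.D11

open Equiv MulAction

variable {α : Type*} [Fintype α] [DecidableEq α]

/-- (CT3) -/
theorem support_of_order_three (hα : Fintype.card α = 11) (G : Subgroup (Perm α))
    [IsPretransitive G α] (hA : ¬ alternatingGroup α ≤ G) {g : Perm α} (hg : g ∈ G)
    (ho : orderOf g = 3) : g.support.card = 6 ∨ g.support.card = 9 := by
  obtain ⟨n, hct, hcard, -⟩ := cycleType_of_prime_order Nat.prime_three ho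
  have hle : g.support.card ≤ 11 := hα ▸ Finset.card_le_univ _
  have hcases : n + 1 = 1 ∨ n + 1 = 2 ∨ n + 1 = 3 := by omega
  rcases hcases with h | h | h
  · exfalso
    apply hA
    have hprim : IsPreprimitive G α := by
      apply IsPreprimitive.of_prime_card
      rw [Nat.card_eq_fintype_card, hα]
      norm_num
    have h3 : Perm.IsThreeCycle g := by
      unfold Perm.IsThreeCycle
      rw [hct, h]
      rfl
    exact Perm.alternatingGroup_le_of_isPreprimitive_of_isThreeCycle_mem hprim h3 hg
  · left; rw [hcard, h]
  · right; rw [hcard, h]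

end Cfsg.Agent.Helper29.D11
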