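import Mathlib
import Cfsg.Agent.Helper16.DT.Defs

set_option autoImplicit false
set_option linter.unusedSectionVars false
set_option linter.unusedVariables false

/-!
# (LA1) of helper16's DT farm: the local ring at a maximal ideal of the algebraic integers is a
valuation ring of the field of algebraic numbers (Kaplansky's `u`-lemma)
-/

namespace Cfsg.Agent.Helper29.DT

open Cfsg Cfsg.Agent.Helper16 Cfsg.Agent.Helper16.DT Polynomial

variable {M : Ideal AlgInt} [M.IsMaximal]

omit [M.IsMaximal] in
theorem LA1_prod_not_mem [hM : M.IsPrime] {ι : Type*} (s : Finset ι) (β : ι → AlgInt)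
    (h : ∀ i ∈ s, β i ∉ M) : ∏ i ∈ s, β i ∉ M := by
  classical
  induction s using Finset.induction_on with
  | empty => simpa using one_not_mem
  | insert a s ha ih =>
    rw [Finset.prod_insert ha]
    intro hmem
    rcases hM.mem_or_mem hmem with h1 | h1
    · exact h a (Finset.mem_insert_self a s) h1
    · exact ih (fun i hi => h i (Finset.mem_insert_of_mem hi)) h1

omit [M.IsMaximal] in
/-- the local ring is integrally closed in `ℂ` (hands-on form) -/
theorem LA1_int [hM : M.IsPrime] (n : ℕ) (c : ℕ → ℂ) (hc : ∀ i, MemLocalRing M (c i)) (w : ℂ)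
    (h : w ^ n + ∑ i ∈ Finset.range n, c i * w ^ i = 0) : MemLocalRing M w := by
  classical
  choose α β hβ hαβ using hc
  set B : AlgInt := ∏ i ∈ Finset.range n, β i with hB
  have hBM : B ∉ M := LA1_prod_not_mem _ _ (fun i _ => hβ i)
  have hB0 : (B : ℂ) ≠ 0 := coe_ne_zero_of_not_mem hBM
  let d : ℕ → AlgInt := fun i => α i * (∏ j ∈ (Finset.range n).erase i, β j) * B ^ (n - 1 - i)
  have hd : ∀ i ∈ Finset.range n, ((d i : AlgInt) : ℂ) = c i * (B : ℂ) ^ (n - i) := by
    intro i hi
    have hin : i < n := Finset.mem_range.mp hi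
    have hβi : (β i : ℂ) ≠ 0 := coe_ne_zero_of_not_mem (hβ i)
    have h1 : (B : ℂ) = (β i : ℂ) * ((∏ j ∈ (Finset.range n).erase i, β j : AlgInt) : ℂ) := by
      rw [hB, ← Finset.mul_prod_erase _ _ hi]; push_cast; rfl
    have h2 : n - i = (n - 1 - i) + 1 := by omega
    have h3 : ((d i : AlgInt) : ℂ) = (α i : ℂ) *
        ((∏ j ∈ (Finset.range n).erase i, β j : AlgInt) : ℂ) * (B : ℂ) ^ (n - 1 - i) := by
      simp only [d]; push_cast; rfl
    rw [h3, h2, pow_succ, ← hαβ i]
    have h4 : (α i : ℂ) / (β i : ℂ) * ((B : ℂ) ^ (n - 1 - i) * (B : ℂ)) =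
        (α i : ℂ) / (β i : ℂ) * ((B : ℂ) ^ (n - 1 - i) *
          ((β i : ℂ) * ((∏ j ∈ (Finset.range n).erase i, β j : AlgInt) : ℂ))) := by
      rw [← h1]
    rw [h4]
    field_simp
  let q : AlgInt[X] := X ^ n + ∑ i : Fin n, C (d i) * X ^ (i : ℕ)
  have hq : q.Monic := monic_X_pow_add (degree_sum_fin_lt (fun i : Fin n => d i))
  set u : ℂ := (B : ℂ) * w with hu
  have hval : aeval u q = 0 := by
    have e1 : aeval u q = u ^ n + ∑ i : Fin n, ((d i : AlgInt) : ℂ) * u ^ (i : ℕ) := by
      simp only [q, map_add, map_pow, aeval_X, map_sum, map_mul, aeval_C]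
      rfl
    rw [e1, Fin.sum_univ_eq_sum_range (fun i => ((d i : AlgInt) : ℂ) * u ^ i) n]
    have e2 : ∑ i ∈ Finset.range n, ((d i : AlgInt) : ℂ) * u ^ i =
        (B : ℂ) ^ n * ∑ i ∈ Finset.range n, c i * w ^ i := by
      rw [Finset.mul_sum]
      apply Finset.sum_congr rfl
      intro i hi
      have hin : i < n := Finset.mem_range.mp hi
      rw [hd i hi, hu, mul_pow]
      have : (B : ℂ) ^ n = (B : ℂ) ^ (n - i) * (B : ℂ) ^ i := by
        rw [← pow_add, Nat.sub_add_cancel hin.le]
      rw [this]; ring
    rw [e2, hu, mul_pow, ← mul_add, h, mul_zero]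
  have hint : IsIntegral AlgInt u := ⟨q, hq, by rw [← aeval_def]; exact hval⟩
  have hintZ : IsIntegral ℤ u := isIntegral_trans u hint
  refine ⟨⟨u, hintZ⟩, B, hBM, ?_⟩
  change u / (B : ℂ) = w
  rw [hu]; field_simp

omit [M.IsMaximal] in
/-- Kaplansky's `u`-lemma for the local ring -/
theorem LA1_u [hM : M.IsPrime] (n : ℕ) : ∀ (a : ℕ → ℂ) (z : ℂ), z ≠ 0 → (∀ i, MemLocalRing M (a i)) →
    (∃ i, i ≤ n ∧ ¬ MemLocalIdeal M (a i)) → ∑ i ∈ Finset.range (n + 1), a i * z ^ i = 0 →
    MemLocalRing M z ∨ MemLocalRing M z⁻¹ := by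
  induction n with
  | zero =>
    intro a z hz ha hu hsum
    exfalso
    obtain ⟨i, hi, hui⟩ := hu
    have hi0 : i = 0 := by omega
    subst hi0
    apply hui
    simp only [zero_add, Finset.range_one, Finset.sum_singleton, pow_zero, mul_one] at hsum
    rw [hsum]; exact memLocalIdeal_zero
  | succ n ih =>
    intro a z hz ha hu hsum
    rw [Finset.sum_range_succ] at hsum
    by_cases htop : MemLocalIdeal M (a (n + 1))
    · -- leading coefficient in the ideal
      set w : ℂ := a (n + 1) * z with hw
      have hwR : MemLocalRing M w := by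
        apply LA1_int (n + 1) (fun i => a i * a (n + 1) ^ (n - i))
          (fun i => memLocalRing_mul (ha i) (memLocalRing_pow (ha (n + 1)) _)) w
        have e : ∑ i ∈ Finset.range (n + 1), a i * a (n + 1) ^ (n - i) * w ^ i =
            a (n + 1) ^ n * ∑ i ∈ Finset.range (n + 1), a i * z ^ i := by
          rw [Finset.mul_sum]
          apply Finset.sum_congr rfl
          intro i hi
          have hin : i ≤ n := Nat.lt_succ_iff.mp (Finset.mem_range.mp hi)
          rw [hw, mul_pow]
          have : a (n + 1) ^ n = a (n + 1) ^ (n - i) * a (n + 1) ^ i := by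
            rw [← pow_add, Nat.sub_add_cancel hin]
          rw [this]; ring
        rw [e]
        have e2 : w ^ (n + 1) = a (n + 1) ^ n * (a (n + 1) * z ^ (n + 1)) := by
          rw [hw, mul_pow, pow_succ (a (n + 1)) n]; ring
        rw [e2, ← mul_add, add_comm (a (n + 1) * z ^ (n + 1)), hsum, mul_zero]
      let b : ℕ → ℂ := fun i => if i = n then w + a n else a i
      have hbR : ∀ i, MemLocalRing M (b i) := by
        intro i
        simp only [b]
        split_ifs with h
        · exact memLocalRing_add hwR (ha n)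
        · exact ha i
      have hbsum : ∑ i ∈ Finset.range (n + 1), b i * z ^ i = 0 := by
        rw [Finset.sum_range_succ]
        have e : ∑ i ∈ Finset.range n, b i * z ^ i = ∑ i ∈ Finset.range n, a i * z ^ i := by
          apply Finset.sum_congr rfl
          intro i hi
          have : i ≠ n := (Finset.mem_range.mp hi).ne
          simp only [b, if_neg this]
        rw [e]
        simp only [b, if_pos rfl]
        rw [Finset.sum_range_succ] at hsum
        rw [← hsum, hw, pow_succ]; ring
      by_cases hb : ∃ i, i ≤ n ∧ ¬ MemLocalIdeal M (b i)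
      · exact ih b z hz hbR hb hbsum
      · right
        have hb' : ∀ i, i ≤ n → MemLocalIdeal M (b i) := by
          intro i hi
          by_contra hcon
          exact hb ⟨i, hi, hcon⟩
        obtain ⟨i, hi, hui⟩ := hu
        have hin : i = n := by
          by_contra hne
          rcases Nat.lt_or_ge i n with h1 | h1
          · have := hb' i h1.le
            simp only [b, if_neg hne] at this
            exact hui this
          · have : i = n + 1 := by omega
            subst this
            exact hui htop
        subst hin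
        have hbn : MemLocalIdeal M (w + a i) := by
          have := hb' i le_rfl
          simpa only [b, if_pos rfl] using this
        have hwu : ¬ MemLocalIdeal M w := by
          intro hwI
          apply hui
          have := memLocalIdeal_sub hbn hwI
          simpa using this
        have hw0 : w ≠ 0 := by
          intro h0
          apply hwu
          rw [h0]; exact memLocalIdeal_zero
        have ha0 : a (i + 1) ≠ 0 := by
          intro h0
          apply hw0
          rw [hw, h0, zero_mul]
        have hzinv : z⁻¹ = a (i + 1) * w⁻¹ := by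
          rw [hw]; field_simp
        rw [hzinv]
        exact memLocalRing_mul (ha (i + 1)) (memLocalRing_inv hwR hwu)
    · -- leading coefficient a unit: `z` is integral
      left
      have hinvR : MemLocalRing M (a (n + 1))⁻¹ := memLocalRing_inv (ha (n + 1)) htop
      have ha0 : a (n + 1) ≠ 0 := by
        intro h0
        apply htop
        rw [h0]; exact memLocalIdeal_zero
      apply LA1_int (n + 1) (fun i => a i * (a (n + 1))⁻¹)
        (fun i => memLocalRing_mul (ha i) hinvR) z
      have e : ∑ i ∈ Finset.range (n + 1), a i * (a (n + 1))⁻¹ * z ^ i =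
          (a (n + 1))⁻¹ * ∑ i ∈ Finset.range (n + 1), a i * z ^ i := by
        rw [Finset.mul_sum]
        apply Finset.sum_congr rfl
        intro i hi
        ring
      rw [e]
      have e2 : z ^ (n + 1) = (a (n + 1))⁻¹ * (a (n + 1) * z ^ (n + 1)) := by
        field_simp
      rw [e2, ← mul_add, add_comm (a (n + 1) * z ^ (n + 1)), hsum, mul_zero]

omit [M.IsMaximal] in
/-- a primitive integer polynomial has a coefficient outside `M` -/
theorem LA1_prim [hM : M.IsPrime] {g : ℤ[X]} (hg : g.IsPrimitive) :
    ∃ i, i ≤ g.natDegree ∧ ¬ MemLocalIdeal M ((g.coeff i : ℤ) : ℂ) := by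
  by_contra hcon
  have hall : ∀ i, ((g.coeff i : ℤ) : AlgInt) ∈ M := by
    intro i
    by_cases hi : i ≤ g.natDegree
    · have : MemLocalIdeal M ((g.coeff i : ℤ) : ℂ) := by
        by_contra h
        exact hcon ⟨i, hi, h⟩
      have h2 : MemLocalIdeal M ((((g.coeff i : ℤ) : AlgInt)) : ℂ) := by
        simpa using this
      exact (memLocalIdeal_algInt_iff _).mp h2
    · have : g.coeff i = 0 := coeff_eq_zero_of_natDegree_lt (not_le.mp hi)
      rw [this]; simp
  let I : Ideal ℤ := Ideal.comap (Int.castRingHom AlgInt) M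
  have hI : ∀ i, g.coeff i ∈ I := fun i => by
    rw [Ideal.mem_comap]; exact hall i
  have hgen : I = Ideal.span {Submodule.IsPrincipal.generator I} :=
    (Ideal.span_singleton_generator I).symm
  have hdvd : C (Submodule.IsPrincipal.generator I) ∣ g := by
    rw [C_dvd_iff_dvd_coeff]
    intro i
    have := hI i
    rw [hgen, Ideal.mem_span_singleton] at this
    exact this
  have hunit : IsUnit (Submodule.IsPrincipal.generator I) := hg _ hdvd
  have htop : I = ⊤ := by
    rw [hgen]; exact Ideal.span_singleton_eq_top.mpr hunit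
  have h1 : (1 : ℤ) ∈ I := by rw [htop]; trivial
  rw [Ideal.mem_comap] at h1
  apply one_not_mem (M := M)
  simpa using h1

/-- (LA1) the local ring is a valuation ring of the field of algebraic numbers -/
theorem memLocalRing_or_inv {z : ℂ} (hz : IsAlgebraic ℚ z) (hz0 : z ≠ 0) :
    MemLocalRing M z ∨ MemLocalRing M z⁻¹ := by
  have hMp : M.IsPrime := Ideal.IsMaximal.isPrime inferInstance
  have hzZ : IsAlgebraic ℤ z := (IsFractionRing.isAlgebraic_iff ℤ ℚ ℂ).mpr hz
  obtain ⟨f, hf0, hfz⟩ := hzZ
  have hg : f.primPart.IsPrimitive := f.isPrimitive_primPart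
  have hgz : aeval z f.primPart = 0 := by
    have h1 : aeval z f = aeval z (C f.content) * aeval z f.primPart := by
      conv_lhs => rw [f.eq_C_content_mul_primPart]
      rw [map_mul]
    rw [hfz, aeval_C] at h1
    have hc : (algebraMap ℤ ℂ) f.content ≠ 0 := by
      simpa using (content_eq_zero_iff.not.mpr hf0)
    rcases mul_eq_zero.mp h1.symm with h | h
    · exact absurd h hc
    · exact h
  obtain ⟨i, hi, hui⟩ := LA1_prim (M := M) hg
  apply LA1_u (M := M) f.primPart.natDegree (fun i => ((f.primPart.coeff i : ℤ) : ℂ)) z hz0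
    (fun i => memLocalRing_intCast _) ⟨i, hi, hui⟩
  rw [aeval_eq_sum_range] at hgz
  rw [← hgz]
  apply Finset.sum_congr rfl
  intro j hj
  rw [zsmul_eq_mul]

end Cfsg.Agent.Helper29.DT
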