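import Cfsg.Agent.Helper36.TorD.Defs
import Cfsg.Agent.Helper18.TorusCert

/-!
helper29 for helper40's S2373 farm (#14814), piece (ZEXP): the kernel of the torus parametrisation of `E₆`
has exponent `3`.
-/

set_option autoImplicit false
set_option linter.unusedVariables false

namespace Cfsg.Agent.Helper29.E6Tor

open Cfsg Cfsg.Lie Cfsg.Agent.Helper18 Cfsg.Agent.Helper19.Cox Cfsg.Agent.Helper19.Poinc
  Cfsg.Agent.Helper80.Tor Cfsg.Agent.Helper36.TorD
open Polynomial

/-- three times the inverse of the Cartan matrix of `E₆` (in the numbering of `chevE6`) -/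
def ZEXP_adj : Matrix (Fin chevE6.rank) (Fin chevE6.rank) ℤ :=
  mOf chevE6.rank [[4, 3, 5, 6, 4, 2], [3, 6, 6, 9, 6, 3], [5, 6, 10, 12, 8, 4], [6, 9, 12, 18, 12, 6],
    [4, 6, 8, 12, 10, 5], [2, 3, 4, 6, 5, 4]]

set_option maxRecDepth 100000 in
theorem ZEXP_mul : cartanSimple chevE6 * ZEXP_adj = Matrix.diagonal (fun _ => (3 : ℤ)) := by
  decide +kernel

/-- the kernel of `torusHom` is the kernel of the Cartan matrix acting on tuples -/
theorem ZEXP_zact {K : Type*} [Field K] (k : Fin chevE6.rank → Kˣ) (hk : torusHom chevE6 K k = 1) :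
    zact (cartanSimple chevE6) k = 1 := by
  have h1 : k ∈ (torusHom chevE6 K).ker := hk
  rw [torusHom_ker, torusChar_ker_eq chevE6 (simpleOK_of_mem chevE6 (by simp [allData])) certE6
    certOK_E6.2.2.2] at h1
  exact h1

theorem ZEXP_pow {K : Type*} [Field K] (k : Fin chevE6.rank → Kˣ) (hk : torusHom chevE6 K k = 1)
    (j : Fin chevE6.rank) : k j ^ 3 = 1 := by
  have h1 : zact (cartanSimple chevE6) k = 1 := ZEXP_zact k hk
  have h2 : zact (cartanSimple chevE6 * ZEXP_adj) k = 1 := by
    rw [zact_mul, h1, map_one]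
  rw [ZEXP_mul] at h2
  have h3 := congrFun h2 j
  rw [zact_diagonal] at h3
  simpa using h3

/-- (ZEXP) the kernel of the torus parametrisation has exponent `3` -/
theorem ker_tau_pow_three {K : Type*} [Field K] (k : Fin 6 → Kˣ) (hk : torusHom chevE6 K k = 1) :
    k ^ 3 = 1 := by
  funext j
  exact ZEXP_pow k hk j

end Cfsg.Agent.Helper29.E6Tor
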