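import Mathlib
import Cfsg.Agent.Helper96.E7.Data

/-!
# S2093 (helper96 #7993), piece (Γ)+(Γ'): the Artin-type group `Gam` of type `E_7` with central
squares has a derived subgroup of order at most `|W(E_7)| / 2`.
-/

set_option autoImplicit false

namespace Cfsg.Agent.Helper29.E7Gam

open Cfsg.Agent.Helper96.E7

/-- the Coxeter group `W(E_7)` -/
abbrev W : Type := CoxeterMatrix.E₇.Group

/-- its Coxeter system -/
noncomputable abbrev cs : CoxeterSystem CoxeterMatrix.E₇ W := CoxeterMatrix.E₇.toCoxeterSystem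

/-! ## (K) kernel lemma (local copy) -/

/-- (K) If `Γ = ⟨g i⟩` maps to `W` by `g i ↦ s i`, and a normal subgroup `Z ≤ ker τ` contains all the
Coxeter relators `(g i * g j) ^ M i j`, then `ker τ = Z`. -/
theorem ker_eq_of_relators {Γ : Type*} [Group Γ] (g : Fin 7 → Γ)
    (hgen : Subgroup.closure (Set.range g) = ⊤) (τ : Γ →* W) (hτ : ∀ i, τ (g i) = cs.simple i)
    (Z : Subgroup Γ) [Z.Normal] (hZ : Z ≤ τ.ker) (hrel : ∀ i j, (g i * g j) ^ cm i j ∈ Z) :
    τ.ker = Z := by
  apply le_antisymm _ hZ
  have hlift : CoxeterMatrix.IsLiftable CoxeterMatrix.E₇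
      (fun i => (QuotientGroup.mk (g i) : Γ ⧸ Z)) := by
    intro i j
    rw [cm_eq, ← QuotientGroup.mk_mul, ← QuotientGroup.mk_pow, QuotientGroup.eq_one_iff]
    exact hrel i j
  let σ : W →* Γ ⧸ Z := cs.lift ⟨_, hlift⟩
  have hσ : ∀ i, σ (cs.simple i) = QuotientGroup.mk (g i) := fun i =>
    cs.lift_apply_simple hlift i
  have key : ∀ x : Γ, σ (τ x) = QuotientGroup.mk x := by
    intro x
    have hx : x ∈ Subgroup.closure (Set.range g) := by rw [hgen]; trivial
    induction hx using Subgroup.closure_induction with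
    | mem y hy =>
      obtain ⟨i, rfl⟩ := hy
      rw [hτ, hσ]
    | one => rw [map_one, map_one]; rfl
    | mul a b _ _ ha hb => rw [map_mul, map_mul, ha, hb]; rfl
    | inv a _ ha => rw [map_inv, map_inv, ha]; rfl
  intro x hx
  rw [MonoidHom.mem_ker] at hx
  have h1 := key x
  rw [hx, map_one] at h1
  exact (QuotientGroup.eq_one_iff x).mp h1.symm

/-! ## (Γ) the Artin-type group -/

/-- relators of `Gam`: braid relations, commutation relations, and `g i ^ 2` central -/
def gRels : Set (FreeGroup (Fin 7)) :=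
  {r | ∃ i j, cm i j = 3 ∧ r = FreeGroup.of i * FreeGroup.of j * FreeGroup.of i *
      (FreeGroup.of j * FreeGroup.of i * FreeGroup.of j)⁻¹} ∪
  {r | ∃ i j, cm i j = 2 ∧ r = FreeGroup.of i * FreeGroup.of j *
      (FreeGroup.of j * FreeGroup.of i)⁻¹} ∪
  {r | ∃ i j, r = FreeGroup.of i * FreeGroup.of i * FreeGroup.of j *
      (FreeGroup.of j * (FreeGroup.of i * FreeGroup.of i))⁻¹}

/-- the group generated by `g 0, …, g 6` subject to the braid relations of `E_7` and
`g i ^ 2` central -/
abbrev Gam : Type := PresentedGroup gRels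

/-- the generators of `Gam` -/
def gg (i : Fin 7) : Gam := PresentedGroup.of i

theorem gg_braid (i j : Fin 7) (h : cm i j = 3) : gg i * gg j * gg i = gg j * gg i * gg j := by
  have h1 : PresentedGroup.mk gRels (FreeGroup.of i * FreeGroup.of j * FreeGroup.of i *
      (FreeGroup.of j * FreeGroup.of i * FreeGroup.of j)⁻¹) = 1 :=
    PresentedGroup.one_of_mem (Or.inl (Or.inl ⟨i, j, h, rfl⟩))
  rw [map_mul, map_inv] at h1
  have h2 := mul_inv_eq_one.mp h1
  simp only [map_mul] at h2
  exact h2

theorem gg_comm (i j : Fin 7) (h : cm i j = 2) : gg i * gg j = gg j * gg i := by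
  have h1 : PresentedGroup.mk gRels (FreeGroup.of i * FreeGroup.of j *
      (FreeGroup.of j * FreeGroup.of i)⁻¹) = 1 :=
    PresentedGroup.one_of_mem (Or.inl (Or.inr ⟨i, j, h, rfl⟩))
  rw [map_mul, map_inv] at h1
  have h2 := mul_inv_eq_one.mp h1
  simp only [map_mul] at h2
  exact h2

theorem gg_sq_central (i j : Fin 7) : gg i * gg i * gg j = gg j * (gg i * gg i) := by
  have h1 : PresentedGroup.mk gRels (FreeGroup.of i * FreeGroup.of i * FreeGroup.of j *
      (FreeGroup.of j * (FreeGroup.of i * FreeGroup.of i))⁻¹) = 1 :=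
    PresentedGroup.one_of_mem (Or.inr ⟨i, j, rfl⟩)
  rw [map_mul, map_inv] at h1
  have h2 := mul_inv_eq_one.mp h1
  simp only [map_mul] at h2
  exact h2

/-- a map of the generators satisfying the relations extends to `Gam` -/
theorem gRels_lift {H : Type*} [Group H] (x : Fin 7 → H)
    (hb : ∀ i j, cm i j = 3 → x i * x j * x i = x j * x i * x j)
    (hc : ∀ i j, cm i j = 2 → x i * x j = x j * x i)
    (hz : ∀ i j, x i * x i * x j = x j * (x i * x i)) :
    ∀ r ∈ gRels, FreeGroup.lift x r = 1 := by
  rintro r ((⟨i, j, h, rfl⟩ | ⟨i, j, h, rfl⟩) | ⟨i, j, rfl⟩)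
  · simp only [map_mul, map_inv, FreeGroup.lift_apply_of]
    rw [hb i j h, mul_inv_cancel]
  · simp only [map_mul, map_inv, FreeGroup.lift_apply_of]
    rw [hc i j h, mul_inv_cancel]
  · simp only [map_mul, map_inv, FreeGroup.lift_apply_of]
    rw [hz i j, mul_inv_cancel]

/-- the degree homomorphism `Gam → ℤ` -/
noncomputable def deg : Gam →* Multiplicative ℤ :=
  PresentedGroup.toGroup (f := fun _ : Fin 7 => Multiplicative.ofAdd (1 : ℤ))
    (gRels_lift _ (fun _ _ _ => rfl) (fun _ _ _ => rfl) (fun _ _ => rfl))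

theorem deg_gg (i : Fin 7) : deg (gg i) = Multiplicative.ofAdd (1 : ℤ) :=
  PresentedGroup.toGroup.of _

/-- braid relation in `W` -/
theorem simple_braid (i j : Fin 7) (h : cm i j = 3) :
    cs.simple i * cs.simple j * cs.simple i = cs.simple j * cs.simple i * cs.simple j := by
  have h1 := cs.simple_mul_simple_pow i j
  rw [cm_eq, h] at h1
  have hi := cs.simple_mul_simple_self i
  have hj := cs.simple_mul_simple_self j
  -- (ab)^3 = 1, a² = b² = 1 ⇒ aba = bab
  have e : ∀ a b : W, a * a = 1 → b * b = 1 → (a * b) ^ 3 = 1 → a * b * a = b * a * b := by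
    intro a b ha hb hab
    have ha' : a⁻¹ = a := inv_eq_of_mul_eq_one_right ha
    have hb' : b⁻¹ = b := inv_eq_of_mul_eq_one_right hb
    have h3 : a * b * a * (b * a * b) = 1 := by
      rw [← hab]; simp only [pow_succ, pow_zero, one_mul, mul_assoc]
    have h4 : (b * a * b)⁻¹ = b * a * b := by
      rw [mul_inv_rev, mul_inv_rev, ha', hb', mul_assoc]
    rw [← h4]
    exact eq_inv_of_mul_eq_one_left h3
  exact e _ _ hi hj h1

theorem simple_comm (i j : Fin 7) (h : cm i j = 2) :
    cs.simple i * cs.simple j = cs.simple j * cs.simple i := by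
  have h1 := cs.simple_mul_simple_pow i j
  rw [cm_eq, h] at h1
  have hi := cs.simple_mul_simple_self i
  have hj := cs.simple_mul_simple_self j
  have e : ∀ a b : W, a * a = 1 → b * b = 1 → (a * b) ^ 2 = 1 → a * b = b * a := by
    intro a b ha hb hab
    have ha' : a⁻¹ = a := inv_eq_of_mul_eq_one_right ha
    have hb' : b⁻¹ = b := inv_eq_of_mul_eq_one_right hb
    have h3 : a * b * (a * b) = 1 := by rw [← hab, pow_two]
    have h4 : (a * b)⁻¹ = b * a := by rw [mul_inv_rev, ha', hb']
    rw [← h4]
    exact eq_inv_of_mul_eq_one_left h3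
  exact e _ _ hi hj h1

/-- the homomorphism `Gam → W(E_7)` -/
noncomputable def tau : Gam →* W :=
  PresentedGroup.toGroup (f := fun i : Fin 7 => cs.simple i)
    (gRels_lift _ simple_braid simple_comm (fun i j => by
      rw [cs.simple_mul_simple_self, one_mul, mul_one]))

theorem tau_gg (i : Fin 7) : tau (gg i) = cs.simple i :=
  PresentedGroup.toGroup.of _

/-- the common square of the generators -/
def zz : Gam := gg 0 * gg 0

theorem sq_eq_of_edge (i j : Fin 7) (h : cm i j = 3) : gg j * gg j = gg i * gg i := by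
  have hb := gg_braid i j h
  -- `b = (ab) a (ab)⁻¹`
  have h1 : gg j = (gg i * gg j) * gg i * (gg i * gg j)⁻¹ := by
    rw [hb]; group
  have hc1 : gg i * gg i * (gg i * gg j) = (gg i * gg j) * (gg i * gg i) := by
    rw [mul_assoc (gg i) (gg j), ← gg_sq_central i j]; group
  calc gg j * gg j
      = ((gg i * gg j) * gg i * (gg i * gg j)⁻¹) * ((gg i * gg j) * gg i * (gg i * gg j)⁻¹) := by
        rw [← h1]
    _ = (gg i * gg j) * (gg i * gg i) * (gg i * gg j)⁻¹ := by group
    _ = gg i * gg i := by rw [← hc1]; group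

theorem sq_eq_zz (i : Fin 7) : gg i * gg i = zz := by
  have h2 : gg 2 * gg 2 = zz := sq_eq_of_edge 0 2 (by decide)
  have h3 : gg 3 * gg 3 = zz := (sq_eq_of_edge 2 3 (by decide)).trans h2
  have h1 : gg 1 * gg 1 = zz := (sq_eq_of_edge 3 1 (by decide)).trans h3
  have h4 : gg 4 * gg 4 = zz := (sq_eq_of_edge 3 4 (by decide)).trans h3
  have h5 : gg 5 * gg 5 = zz := (sq_eq_of_edge 4 5 (by decide)).trans h4
  have h6 : gg 6 * gg 6 = zz := (sq_eq_of_edge 5 6 (by decide)).trans h5
  fin_cases i
  · rfl
  · exact h1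
  · exact h2
  · exact h3
  · exact h4
  · exact h5
  · exact h6

theorem zz_central (x : Gam) : zz * x = x * zz := by
  have hx : x ∈ Subgroup.closure (Set.range gg) := by
    have : Subgroup.closure (Set.range gg) = ⊤ := PresentedGroup.closure_range_of gRels
    rw [this]; trivial
  induction hx using Subgroup.closure_induction with
  | mem y hy =>
    obtain ⟨i, rfl⟩ := hy
    exact gg_sq_central 0 i
  | one => rw [mul_one, one_mul]
  | mul a b _ _ ha hb => rw [← mul_assoc, ha, mul_assoc, hb, mul_assoc]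
  | inv a _ ha =>
    have : a⁻¹ * (zz * a) * a⁻¹ = a⁻¹ * (a * zz) * a⁻¹ := by rw [ha]
    simpa [mul_assoc] using this.symm

/-- the central subgroup generated by the common square -/
def ZZ : Subgroup Gam := Subgroup.zpowers zz

theorem mem_ZZ_central {n : Gam} (hn : n ∈ ZZ) (x : Gam) : n * x = x * n := by
  obtain ⟨k, rfl⟩ := Subgroup.mem_zpowers_iff.mp hn
  have hc : Commute zz x := zz_central x
  exact (hc.zpow_left k).eq

instance ZZ_normal : ZZ.Normal := by
  constructor
  intro n hn x
  rw [← mem_ZZ_central hn x, mul_inv_cancel_right]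
  exact hn

theorem zz_mem_ZZ : zz ∈ ZZ := Subgroup.mem_zpowers zz

theorem tau_zz : tau zz = 1 := by
  unfold zz
  rw [map_mul, tau_gg, cs.simple_mul_simple_self]

theorem ZZ_le_ker : ZZ ≤ tau.ker := by
  unfold ZZ
  rw [Subgroup.zpowers_le]
  exact MonoidHom.mem_ker.mpr tau_zz

theorem cm_cases (i j : Fin 7) : (i = j ∧ cm i j = 1) ∨ cm i j = 2 ∨ cm i j = 3 := by
  revert i j; decide

theorem relator_mem_ZZ (i j : Fin 7) : (gg i * gg j) ^ cm i j ∈ ZZ := by
  rcases cm_cases i j with ⟨rfl, h⟩ | h | h
  · rw [h, pow_one, sq_eq_zz]; exact zz_mem_ZZ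
  · rw [h, pow_two]
    have e : gg i * gg j * (gg i * gg j) = zz * zz := by
      calc gg i * gg j * (gg i * gg j) = gg i * (gg j * gg i) * gg j := by group
        _ = gg i * (gg i * gg j) * gg j := by rw [gg_comm i j h]
        _ = (gg i * gg i) * (gg j * gg j) := by group
        _ = zz * zz := by rw [sq_eq_zz, sq_eq_zz]
    rw [e]
    exact ZZ.mul_mem zz_mem_ZZ zz_mem_ZZ
  · rw [h]
    have hb := gg_braid i j h
    have e : (gg i * gg j) ^ 3 = zz * zz * zz := by
      calc (gg i * gg j) ^ 3 = (gg i * gg j * gg i) * (gg j * gg i * gg j) := by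
            simp only [pow_succ, pow_zero, one_mul, mul_assoc]
        _ = (gg i * gg j * gg i) * (gg i * gg j * gg i) := by rw [← hb]
        _ = gg i * gg j * (gg i * gg i) * gg j * gg i := by group
        _ = gg i * gg j * zz * gg j * gg i := by rw [sq_eq_zz]
        _ = zz * (gg i * (gg j * gg j) * gg i) := by
            rw [mul_assoc (gg i) (gg j) zz, ← zz_central (gg j), ← mul_assoc (gg i) zz,
              ← zz_central (gg i)]; group
        _ = zz * (gg i * zz * gg i) := by rw [sq_eq_zz]
        _ = zz * (zz * (gg i * gg i)) := by rw [← zz_central (gg i)]; group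
        _ = zz * zz * zz := by rw [sq_eq_zz]; group
    rw [e]
    exact ZZ.mul_mem (ZZ.mul_mem zz_mem_ZZ zz_mem_ZZ) zz_mem_ZZ

theorem ker_tau : tau.ker = ZZ :=
  ker_eq_of_relators gg (PresentedGroup.closure_range_of gRels) tau tau_gg ZZ ZZ_le_ker
    relator_mem_ZZ

theorem deg_zz : deg zz = Multiplicative.ofAdd (2 : ℤ) := by
  unfold zz
  rw [map_mul, deg_gg, ← ofAdd_add]
  rfl

/-- `τ` is injective on the derived subgroup -/
theorem eq_one_of_mem_commutator_of_tau_eq_one {x : Gam} (hx : x ∈ commutator Gam)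
    (hτ : tau x = 1) : x = 1 := by
  have h1 : x ∈ ZZ := by rw [← ker_tau]; exact MonoidHom.mem_ker.mpr hτ
  obtain ⟨k, rfl⟩ := Subgroup.mem_zpowers_iff.mp h1
  have h2 : deg (zz ^ k) = 1 :=
    MonoidHom.mem_ker.mp (Abelianization.commutator_subset_ker deg hx)
  rw [map_zpow, deg_zz, ← ofAdd_zsmul] at h2
  have h3 : k • (2 : ℤ) = 0 := by
    have := congrArg Multiplicative.toAdd h2
    simpa using this
  have hk : k = 0 := by
    rw [smul_eq_mul] at h3
    omega
  rw [hk, zpow_zero]

/-- the even subgroup of `W` has index `2` -/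
theorem two_mul_card_ker_lengthParity [Finite W] :
    2 * Nat.card (cs.lengthParity).ker = Nat.card W := by
  have hsurj : Function.Surjective cs.lengthParity := by
    intro y
    have hy : ∀ a : ZMod 2, ∃ w : W, cs.lengthParity w = Multiplicative.ofAdd a := by
      intro a
      fin_cases a
      · exact ⟨1, by rw [map_one]; rfl⟩
      · exact ⟨cs.simple 0, by rw [cs.lengthParity_simple]; rfl⟩
    obtain ⟨w, hw⟩ := hy (Multiplicative.toAdd y)
    exact ⟨w, by rw [hw]; rfl⟩
  have h1 : (cs.lengthParity).ker.index = 2 := by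
    rw [Subgroup.index_ker, MonoidHom.range_eq_top.mpr hsurj, Subgroup.card_top]
    rw [Nat.card_eq_fintype_card]
    rfl
  have h2 := Subgroup.card_mul_index (cs.lengthParity).ker
  rw [h1] at h2
  omega

/-- the injection of the derived subgroup of `Gam` into the even subgroup of `W` -/
noncomputable def commToEven : commutator Gam → (cs.lengthParity).ker := fun x =>
  ⟨tau x.1, by
    have h1 : tau x.1 ∈ commutator W := by
      have h0 : (commutator Gam).map tau ≤ commutator W := by
        rw [commutator_def, Subgroup.map_commutator, commutator_def]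
        exact Subgroup.commutator_mono le_top le_top
      exact h0 (Subgroup.mem_map_of_mem tau x.2)
    exact Abelianization.commutator_subset_ker cs.lengthParity h1⟩

theorem commToEven_injective : Function.Injective commToEven := by
  intro x y hxy
  have h1 : tau x.1 = tau y.1 := congrArg Subtype.val hxy
  have h2 : x.1 * y.1⁻¹ = 1 := by
    apply eq_one_of_mem_commutator_of_tau_eq_one ((commutator Gam).mul_mem x.2
      ((commutator Gam).inv_mem y.2))
    rw [map_mul, map_inv, h1, mul_inv_cancel]
  apply Subtype.ext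
  exact mul_inv_eq_one.mp h2

/-- (Γ) the derived subgroup of `Gam` has at most `|W| / 2` elements -/
theorem two_mul_card_commutator_Gam_le [Finite W] :
    Finite (commutator Gam) ∧ 2 * Nat.card (commutator Gam) ≤ Nat.card W := by
  have hfin : Finite (commutator Gam) := Finite.of_injective _ commToEven_injective
  refine ⟨hfin, ?_⟩
  have h1 : Nat.card (commutator Gam) ≤ Nat.card (cs.lengthParity).ker :=
    Nat.card_le_card_of_injective _ commToEven_injective
  have h2 := two_mul_card_ker_lengthParity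
  omega

/-- (Γ') A finite perfect group generated by `x 0, …, x 6` with the braid relations of `E_7`,
commuting non-adjacent generators and central squares has at most `|W| / 2` elements. -/
theorem two_mul_card_le_of_relations [Finite W] {H : Type*} [Group H] [Finite H] (x : Fin 7 → H)
    (hb : ∀ i j, cm i j = 3 → x i * x j * x i = x j * x i * x j)
    (hc : ∀ i j, cm i j = 2 → x i * x j = x j * x i)
    (hz : ∀ i j, x i * x i * x j = x j * (x i * x i))
    (hgen : Subgroup.closure (Set.range x) = ⊤) (hperf : commutator H = ⊤) :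
    2 * Nat.card H ≤ Nat.card W := by
  obtain ⟨hfin, hle⟩ := two_mul_card_commutator_Gam_le
  let φ : Gam →* H := PresentedGroup.toGroup (f := x) (gRels_lift x hb hc hz)
  have hφ : ∀ i, φ (gg i) = x i := fun i => PresentedGroup.toGroup.of _
  have hsurj : Function.Surjective φ := by
    rw [← MonoidHom.range_eq_top, eq_top_iff, ← hgen, Subgroup.closure_le]
    rintro _ ⟨i, rfl⟩
    exact ⟨gg i, hφ i⟩
  have hmap : (commutator Gam).map φ = ⊤ := by
    rw [commutator_def, Subgroup.map_commutator, ← MonoidHom.range_eq_map,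
      MonoidHom.range_eq_top.mpr hsurj, ← commutator_def, hperf]
  have hsurj' : Function.Surjective (fun y : commutator Gam => φ y.1) := by
    intro h
    have hh : h ∈ (commutator Gam).map φ := by rw [hmap]; trivial
    obtain ⟨y, hy, rfl⟩ := hh
    exact ⟨⟨y, hy⟩, rfl⟩
  have h1 : Nat.card H ≤ Nat.card (commutator Gam) := Nat.card_le_card_of_surjective _ hsurj'
  omega

end Cfsg.Agent.Helper29.E7Gam
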