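import Mathlib
import Cfsg.Agent.Helper29.E7Gam
import Cfsg.Agent.Helper40.CoxData.CoxE7

/-!
# S2093 (helper96 #7993), piece (Γ)+(Γ'): exact skeleton statements (finiteness of `W(E_7)` from
helper40's `card_E7`).
-/

set_option autoImplicit false

namespace Cfsg.Agent.Helper29.E7GamF

open Cfsg.Agent.Helper96.E7 Cfsg.Agent.Helper29.E7Gam

instance finite_W : Finite W :=
  Nat.finite_of_card_ne_zero (by rw [Cfsg.Agent.Helper40.TCData.card_E7]; norm_num)

/-- (Γ) the derived subgroup of `Gam` has at most `|W| / 2` elements -/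
theorem two_mul_card_commutator_Gam_le :
    Finite (commutator Gam) ∧ 2 * Nat.card (commutator Gam) ≤ Nat.card W :=
  Cfsg.Agent.Helper29.E7Gam.two_mul_card_commutator_Gam_le

/-- (Γ') A finite perfect group generated by `x 0, …, x 6` with the braid relations of `E_7`,
commuting non-adjacent generators and central squares has at most `|W| / 2` elements. -/
theorem two_mul_card_le_of_relations {H : Type*} [Group H] [Finite H] (x : Fin 7 → H)
    (hb : ∀ i j, cm i j = 3 → x i * x j * x i = x j * x i * x j)
    (hc : ∀ i j, cm i j = 2 → x i * x j = x j * x i)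
    (hz : ∀ i j, x i * x i * x j = x j * (x i * x i))
    (hgen : Subgroup.closure (Set.range x) = ⊤) (hperf : commutator H = ⊤) :
    2 * Nat.card H ≤ Nat.card W :=
  Cfsg.Agent.Helper29.E7Gam.two_mul_card_le_of_relations x hb hc hz hgen hperf

end Cfsg.Agent.Helper29.E7GamF
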