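import Mathlib
import Cfsg.Agent.Helper1.CoprimeSylow

set_option autoImplicit false

/-!
# Invariant Sylow subgroups for external coprime actions
-/

namespace Cfsg.Agent.Helper29

open Subgroup

/-- Coprime action (`A` or `G` solvable) of `A` on `G` by automorphisms: there is an `A`-invariant
Sylow `p`-subgroup of `G`. -/
theorem exists_invariant_sylow_ext {A G : Type*} [Group A] [Finite A] [Group G] [Finite G]
    [MulDistribMulAction A G] (hcop : (Nat.card A).Coprime (Nat.card G))
    (hsol : Group.IsSolvable A ∨ Group.IsSolvable G) (p : ℕ) [Fact p.Prime] :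
    ∃ P : Sylow p G, ∀ a : A, ∀ x ∈ (P : Subgroup G), a • x ∈ (P : Subgroup G) := by
  classical
  let φ : A →* MulAut G := MulDistribMulAction.toMulAut A G
  let Γ := G ⋊[φ] A
  haveI : Finite Γ := Finite.of_equiv _ (SemidirectProduct.equivProd (φ := φ)).symm
  let i : G →* Γ := SemidirectProduct.inl
  let j : A →* Γ := SemidirectProduct.inr
  have hi : Function.Injective i := SemidirectProduct.inl_injective
  have hj : Function.Injective j := SemidirectProduct.inr_injective
  let K : Subgroup Γ := i.range
  let A' : Subgroup Γ := j.range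
  haveI hKn : K.Normal := by
    show (SemidirectProduct.inl : G →* G ⋊[φ] A).range.Normal
    rw [SemidirectProduct.range_inl_eq_ker_rightHom]
    infer_instance
  have hAK : A' ≤ Subgroup.normalizer (K : Set Γ) := by
    rw [Subgroup.normalizer_eq_top]
    exact le_top
  have hcardK : Nat.card K = Nat.card G := Nat.card_congr (MonoidHom.ofInjective hi).symm.toEquiv
  have hcardA : Nat.card A' = Nat.card A := Nat.card_congr (MonoidHom.ofInjective hj).symm.toEquiv
  have hcop' : (Nat.card A').Coprime (Nat.card K) := by rw [hcardK, hcardA]; exact hcop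
  have hsol' : Group.IsSolvable A' ∨ Group.IsSolvable K := by
    rcases hsol with h | h
    · left
      exact solvable_of_surjective (f := (MonoidHom.ofInjective hj).toMonoidHom)
        (MonoidHom.ofInjective hj).surjective
    · right
      exact solvable_of_surjective (f := (MonoidHom.ofInjective hi).toMonoidHom)
        (MonoidHom.ofInjective hi).surjective
  obtain ⟨P, hP⟩ := Cfsg.Agent.Helper1.exists_invariant_sylow A' K hAK hcop' hsol' p
  set Q : Subgroup Γ := (P : Subgroup K).map K.subtype with hQ
  have hQK : Q ≤ K := by
    rintro _ ⟨y, -, rfl⟩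
    exact y.2
  have hcardQ : Nat.card Q = p ^ (Nat.card G).factorization p := by
    rw [hQ, Subgroup.card_map_of_injective (Subgroup.subtype_injective K), P.card_eq_multiplicity,
      hcardK]
  let P' : Subgroup G := Q.comap i
  have hmap : P'.map i = Q := by
    rw [Subgroup.map_comap_eq, inf_eq_right]
    exact hQK
  have hcardP' : Nat.card P' = p ^ (Nat.card G).factorization p := by
    rw [← hcardQ, ← hmap, Subgroup.card_map_of_injective hi]
  refine ⟨Sylow.ofCard P' hcardP', ?_⟩
  intro a x hx
  rw [Sylow.coe_ofCard] at hx ⊢
  show i (a • x) ∈ Q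
  have h1 : i (a • x) = j a * i x * j a⁻¹ := SemidirectProduct.inl_aut (φ := φ) a x
  rw [h1, map_inv]
  have hja : j a ∈ Subgroup.normalizer (Q : Set Γ) := hP ⟨a, rfl⟩
  exact (Subgroup.mem_normalizer_iff.mp hja (i x)).mp hx

end Cfsg.Agent.Helper29
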