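import Cfsg.Agent.Helper36.F4Odd.Defs2

/-!
# (HC) for helper36's S4280 skeleton II (helper29): the fifteen involutions of the torus of `F₄(F)` are
conjugate to `tor (sv 1)` or to `tor (sv 8)`.  The pieces (TC) `nW_tor_conj_iff` and (CS) `chr_sv` are taken as
explicit hypotheses, with the exact skeleton statements.
-/

set_option autoImplicit false
set_option linter.unusedVariables false
set_option maxRecDepth 100000

namespace Cfsg.Agent.Helper29.F4Odd

open Cfsg Cfsg.Lie Cfsg.Agent.Helper18 Cfsg.Agent.Helper36.F4Odd Cfsg.Agent.Helper19.Twist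
  Cfsg.Agent.Helper36.FieldFix

variable {F : Type*} [Field F]

/-- the conjugating words -/
def HC_word (b : ℕ) : List ℕ :=
  [[], [], [1, 0], [1], [2, 3], [2, 1, 2, 0, 1, 2, 3], [2, 3, 1], [2, 3, 1, 0], [], [2, 1, 2, 0, 1],
    [2, 1, 2], [2, 1, 2, 0], [2], [2, 1, 2, 0, 1, 2], [2, 1], [2, 1, 0]].getD b []

/-- the targets -/
def HC_tgt (b : ℕ) : ℕ := if b < 4 then 1 else 8

theorem HC_table : ∀ b < 16, 0 < b →
    (∀ i ∈ HC_word b, i < 4) ∧ ∀ s < 48, par (HC_tgt b) (aW (HC_word b) s) = par b s := by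
  decide +kernel

/-- (HC) -/
theorem sv_conj
    (hTC : ∀ (w : List ℕ) (hw : ∀ i ∈ w, i < 4) (c d : Fin chevF4.rank → Fˣ),
      nW w * tor c * (nW w)⁻¹ = tor (F := F) d ↔ ∀ s < 48, chr (aW w s) d = chr s c)
    (hCS : ∀ (b s : ℕ) (hb : b < 16) (hs : s < 48),
      chr s (sv (F := F) b) = if par b s then -1 else 1)
    (b : ℕ) (hb0 : 0 < b) (hb : b < 16) :
    ConjG (tor (F := F) (sv b)) (tor (sv 1)) ∨ ConjG (tor (F := F) (sv b)) (tor (sv 8)) := by
  obtain ⟨hw, hpar⟩ := HC_table b hb hb0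
  have htgt : HC_tgt b < 16 := by
    unfold HC_tgt
    split_ifs <;> norm_num
  have hconj : ConjG (tor (F := F) (sv b)) (tor (sv (HC_tgt b))) := by
    refine ⟨nW (HC_word b), monomial_le_group (nW_mem _ hw), ?_⟩
    rw [hTC _ hw]
    intro s hs
    rw [hCS _ _ htgt (aW_lt _ hw s hs), hCS _ _ hb hs, hpar s hs]
  unfold HC_tgt at hconj
  split_ifs at hconj with h
  · exact Or.inl hconj
  · exact Or.inr hconj

end Cfsg.Agent.Helper29.F4Odd
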