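-- helper29 for helper80 (S2332), piece (A5): restriction to the Levi factor stays irreducible.
import Mathlib
import Cfsg.Prelude.Def_Blocks
import Cfsg.Agent.Helper80.Degree
import Cfsg.Agent.Helper80.OneChar
import Cfsg.Agent.Helper80.Induced
import Cfsg.Agent.Helper80.Integrality
import Cfsg.Agent.Helper80.Irr

set_option autoImplicit false
set_option linter.unusedSectionVars false
set_option linter.unusedVariables false

namespace Cfsg.Agent.Helper29.LS

open Cfsg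

universe u

variable {G : Type u} [Group G] [Fintype G]

/-- (A5) `G = N·C·L` with `N ≤ ker θ`, `C` abelian and centralising `L`: `θ|_L` is irreducible. -/
theorem A5_restrict_irr (N C L : Subgroup G)
    (hCL : ∀ c ∈ C, ∀ l ∈ L, c * l = l * c) (hCC : ∀ c ∈ C, ∀ d ∈ C, c * d = d * c)
    (hfac : ∀ p : G, ∃ x ∈ N, ∃ c ∈ C, ∃ l ∈ L, p = x * c * l)
    {θ : G → ℂ} (hθ : IsIrrCharacter G θ) (hθN : ∀ x ∈ N, θ x = θ 1) :
    IsIrrCharacter L (fun l : L => θ l) := by
  obtain ⟨n, ρ, hirr, rfl⟩ := hθ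
  have hN : ∀ x ∈ N, ρ x = 1 := by
    intro x hx
    have h := hθN x hx
    rw [Representation.char_one] at h
    exact (Cfsg.Agent.Helper80.char_eq_finrank_iff ρ x (isOfFinOrder_of_finite x)).mp h
  have hdecomp : ∀ g : G, ∃ c ∈ C, ∃ l ∈ L, ρ g = ρ c * ρ l := by
    intro g
    obtain ⟨x, hx, c, hc, l, hl, rfl⟩ := hfac g
    exact ⟨c, hc, l, hl, by rw [map_mul, map_mul, hN x hx, one_mul]⟩
  have hcomm : ∀ c ∈ C, ∀ g : G, ρ c * ρ g = ρ g * ρ c := by
    intro c hc g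
    obtain ⟨c', hc', l, hl, hg⟩ := hdecomp g
    rw [hg, ← map_mul, ← map_mul, ← map_mul]
    congr 1
    calc c * (c' * l) = (c * c') * l := (mul_assoc _ _ _).symm
      _ = (c' * c) * l := by rw [hCC c hc c' hc']
      _ = c' * (c * l) := mul_assoc _ _ _
      _ = c' * (l * c) := by rw [hCL c hc l hl]
      _ = c' * l * c := (mul_assoc _ _ _).symm
  have hscal : ∀ c ∈ C, ∃ a : ℂ, ρ c = a • (1 : Module.End ℂ (Fin n → ℂ)) := fun c hc =>
    Cfsg.Agent.Helper80.exists_scalar_of_commute ρ hirr (ρ c) (hcomm c hc)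
  refine ⟨n, ρ.comp L.subtype, ?_, ?_⟩
  · rw [Cfsg.Agent.Helper80.isIrreducible_iff] at hirr ⊢
    obtain ⟨hV, hW⟩ := hirr
    refine ⟨hV, fun W hWL => hW W ?_⟩
    intro g v hv
    obtain ⟨c, hc, l, hl, hg⟩ := hdecomp g
    obtain ⟨a, ha⟩ := hscal c hc
    rw [hg, ha, Module.End.mul_apply, LinearMap.smul_apply, Module.End.one_apply]
    exact W.smul_mem a (hWL ⟨l, hl⟩ v hv)
  · funext l
    rfl

end Cfsg.Agent.Helper29.LS
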