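-- helper29 for helper80 (S2332), piece (MC): every transvection of `G` is conjugate to `t0`.
import Mathlib
import Cfsg.Agent.Helper80.LS.Defs

set_option autoImplicit false
set_option linter.unusedSectionVars false
set_option linter.unusedVariables false

namespace Cfsg.Agent.Helper29.LS

open Matrix Cfsg.Agent.Helper80.LS

section matrices

variable {F : Type*} [Field F] {m : ℕ}

/-- flag transitivity at the level of matrices: an invertible matrix with first column `u` and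
`ψ ᵥ* A = e1`. -/
theorem exists_matrix_flag (u ψ : Fin (m + 2) → F) (hu : u ≠ 0) (hψ : ψ ≠ 0) (h0 : ψ ⬝ᵥ u = 0) :
    ∃ A : Matrix (Fin (m + 2)) (Fin (m + 2)) F, A.det ≠ 0 ∧ A *ᵥ e0 F m = u ∧ ψ ᵥ* A = e1 F m := by
  classical
  let f : (Fin (m + 2) → F) →ₗ[F] F :=
    { toFun := fun v => ψ ⬝ᵥ v
      map_add' := fun v w => dotProduct_add ψ v w
      map_smul' := fun c v => by simp [dotProduct_smul] }
  have hfv : f u = 0 := h0
  have hf : f ≠ 0 := by
    intro hf0
    apply hψ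
    funext i
    have := LinearMap.congr_fun hf0 (Pi.single i 1)
    simpa [f, dotProduct_single] using this
  obtain ⟨n, b, i, j, hij, hbi, hfj⟩ := exists_basis_of_pairing_eq_zero hfv hf hu
  let : Fintype n := FiniteDimensional.fintypeBasisIndex b
  have hcard : Fintype.card n = m + 2 := by
    rw [← Module.finrank_eq_card_basis b, Module.finrank_fin_fun]
  let e₀ : n ≃ Fin (m + 2) := Fintype.equivFinOfCardEq hcard
  let σ1 : Equiv.Perm (Fin (m + 2)) := Equiv.swap (e₀ i) 0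
  let σ2 : Equiv.Perm (Fin (m + 2)) := Equiv.swap (σ1 (e₀ j)) 1
  let e : n ≃ Fin (m + 2) := (e₀.trans σ1).trans σ2
  have h01 : (0 : Fin (m + 2)) ≠ 1 := fin_zero_ne_one
  have hσ1i : σ1 (e₀ i) = 0 := Equiv.swap_apply_left _ _
  have hσ1j : σ1 (e₀ j) ≠ 0 := by
    intro h
    rw [← hσ1i] at h
    exact hij (e₀.injective (σ1.injective h)).symm
  have hei : e i = 0 := by
    show σ2 (σ1 (e₀ i)) = 0
    rw [hσ1i]
    exact Equiv.swap_apply_of_ne_of_ne hσ1j.symm h01
  have hej : e j = 1 := by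
    show σ2 (σ1 (e₀ j)) = 1
    exact Equiv.swap_apply_left _ _
  let b' : Module.Basis (Fin (m + 2)) F (Fin (m + 2) → F) := b.reindex e
  have hb'0 : b' 0 = u := by
    show b.reindex e 0 = u
    rw [Module.Basis.reindex_apply, ← hei, Equiv.symm_apply_apply, ← hbi]
  have hb'f : ∀ k, ψ ⬝ᵥ b' k = if k = 1 then 1 else 0 := by
    intro k
    have h1 : ψ ⬝ᵥ b' k = f (b' k) := rfl
    rw [h1, hfj]
    show b.coord j (b.reindex e k) = _
    rw [Module.Basis.reindex_apply, Module.Basis.coord_apply, Module.Basis.repr_self]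
    by_cases hk : k = 1
    · rw [if_pos hk, hk, ← hej, Equiv.symm_apply_apply, Finsupp.single_eq_same]
    · rw [if_neg hk, Finsupp.single_eq_of_ne]
      intro h
      apply hk
      rw [← hej, h, Equiv.apply_symm_apply]
  refine ⟨(Pi.basisFun F (Fin (m + 2))).toMatrix b', ?_, ?_, ?_⟩
  · have := (Pi.basisFun F (Fin (m + 2))).isUnit_det b'
    rw [Module.Basis.det_apply] at this
    exact this.ne_zero
  · unfold e0
    rw [Matrix.mulVec_single_one]
    funext r
    rw [Matrix.col_apply, Module.Basis.toMatrix_apply, Pi.basisFun_repr, hb'0]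
  · funext k
    have : (ψ ᵥ* (Pi.basisFun F (Fin (m + 2))).toMatrix b') k = ψ ⬝ᵥ b' k := by
      simp only [Matrix.vecMul, dotProduct, Module.Basis.toMatrix_apply, Pi.basisFun_repr]
    rw [this, hb'f k]
    unfold e1
    rw [Pi.single_apply]

/-- scaling one column (different from the columns `0` and `1`) of the matrix to get determinant `1` -/
theorem exists_matrix_flag_det_one (hm : 1 ≤ m) (u ψ : Fin (m + 2) → F) (hu : u ≠ 0) (hψ : ψ ≠ 0)
    (h0 : ψ ⬝ᵥ u = 0) :
    ∃ A : Matrix (Fin (m + 2)) (Fin (m + 2)) F, A.det = 1 ∧ A *ᵥ e0 F m = u ∧ ψ ᵥ* A = e1 F m := by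
  classical
  obtain ⟨A, hA, hAu, hAψ⟩ := exists_matrix_flag u ψ hu hψ h0
  let k2 : Fin (m + 2) := ⟨2, by omega⟩
  have h02 : (0 : Fin (m + 2)) ≠ k2 := by
    intro h; have := congrArg Fin.val h; simp [k2] at this
  have h12 : (1 : Fin (m + 2)) ≠ k2 := by
    intro h
    have := congrArg Fin.val h
    rw [Fin.val_one m] at this
    simp [k2] at this
  let d : Fin (m + 2) → F := Function.update (fun _ => 1) k2 (A.det)⁻¹
  have hd0 : d 0 = 1 := Function.update_of_ne h02 _ _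
  have hd1 : d 1 = 1 := Function.update_of_ne h12 _ _
  have hdet : (Matrix.diagonal d).det = (A.det)⁻¹ := by
    rw [Matrix.det_diagonal, Finset.prod_update_of_mem (Finset.mem_univ k2)]
    simp
  refine ⟨A * Matrix.diagonal d, ?_, ?_, ?_⟩
  · rw [Matrix.det_mul, hdet, mul_inv_cancel₀ hA]
  · rw [← Matrix.mulVec_mulVec]
    unfold e0
    rw [Matrix.diagonal_mulVec_single, hd0, one_mul]
    exact hAu
  · rw [← Matrix.vecMul_vecMul, hAψ]
    funext k
    rw [Matrix.vecMul_diagonal]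
    unfold e1
    rw [Pi.single_apply]
    by_cases hk : k = 1
    · rw [if_pos hk, hk, hd1, one_mul]
    · rw [if_neg hk, zero_mul]

end matrices

variable {F : Type*} [Field F] [Fintype F] [DecidableEq F] {m : ℕ} {G : Type*} [Group G] [Fintype G]
  (D : MatGrp F (m + 2) G)

/-- an element of `G` mapping the flag of `t0` to the flag of the transvection conjugates `t0` to it -/
theorem conj_t0_eq_tv (g : G) (u ψ : Fin (m + 2) → F) (h0 : ψ ⬝ᵥ u = 0)
    (hgu : D.φ g *ᵥ e0 F m = u) (hgψ : ψ ᵥ* D.φ g = e1 F m) : g * D.t0 * g⁻¹ = D.tv u ψ h0 := by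
  apply D.inj
  rw [map_mul, map_mul, D.φ_t0, D.φ_tv, mul_one_add_vecMulVec (D.φ g) (e0 F m) (e1 F m) ψ hgψ, hgu,
    Matrix.mul_assoc, D.φ_mul_inv, Matrix.mul_one]

/-- (M0) every transvection of `G` is conjugate to `t0` (`n ≥ 3`, or `G = GL_n`). -/
theorem exists_conj_tv (h : 1 ≤ m ∨ D.Full) (u ψ : Fin (m + 2) → F) (hu : u ≠ 0) (hψ : ψ ≠ 0)
    (h0 : ψ ⬝ᵥ u = 0) : ∃ g : G, g * D.t0 * g⁻¹ = D.tv u ψ h0 := by
  rcases h with hm | hfull
  · obtain ⟨A, hA, hAu, hAψ⟩ := exists_matrix_flag_det_one hm u ψ hu hψ h0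
    obtain ⟨g, hg⟩ := D.surj A hA
    exact ⟨g, conj_t0_eq_tv D g u ψ h0 (by rw [hg]; exact hAu) (by rw [hg]; exact hAψ)⟩
  · obtain ⟨A, hA, hAu, hAψ⟩ := exists_matrix_flag u ψ hu hψ h0
    obtain ⟨g, hg⟩ := hfull A hA
    exact ⟨g, conj_t0_eq_tv D g u ψ h0 (by rw [hg]; exact hAu) (by rw [hg]; exact hAψ)⟩

end Cfsg.Agent.Helper29.LS
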