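-- helper29 for helper80 (S2332), piece (MF): the index of `P` and the number of fixed cosets of `t0`.
import Mathlib
import Cfsg.Agent.Helper80.LS.Defs
import Cfsg.Agent.Helper29.LS_MC

set_option autoImplicit false
set_option linter.unusedSectionVars false
set_option linter.unusedVariables false

namespace Cfsg.Agent.Helper29.LS

open Matrix Cfsg.Agent.Helper80.LS

section matrices

variable {F : Type*} [Field F] {m : ℕ}

/-- `SL_{m+2}(F)` is transitive on the non-zero vectors. -/
theorem exists_matrix_det_one_mulVec (w : Fin (m + 2) → F) (hw : w ≠ 0) :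
    ∃ A : Matrix (Fin (m + 2)) (Fin (m + 2)) F, A.det = 1 ∧ A *ᵥ e0 F m = w := by
  classical
  obtain ⟨ψ, hψ, h0⟩ : ∃ ψ : Fin (m + 2) → F, ψ ≠ 0 ∧ ψ ⬝ᵥ w = 0 := by
    by_cases hw0 : w 0 = 0
    · exact ⟨e0 F m, e0_ne_zero, by rw [e0_dot, hw0]⟩
    · refine ⟨w 1 • e0 F m - w 0 • e1 F m, ?_, ?_⟩
      · intro h
        have h1 := congrFun h 1
        have h10 : (1 : Fin (m + 2)) ≠ 0 := Ne.symm fin_zero_ne_one
        simp [e0, e1, h10] at h1
        exact hw0 h1
      · rw [sub_dotProduct, smul_dotProduct, smul_dotProduct, e0_dot, e1_dot, smul_eq_mul,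
          smul_eq_mul]
        ring
  obtain ⟨A, hA, hAu, hAψ⟩ := exists_matrix_flag w ψ hw hψ h0
  let d : Fin (m + 2) → F := Function.update (fun _ => 1) 1 (A.det)⁻¹
  have hd0 : d 0 = 1 := Function.update_of_ne fin_zero_ne_one _ _
  have hdet : (Matrix.diagonal d).det = (A.det)⁻¹ := by
    rw [Matrix.det_diagonal, Finset.prod_update_of_mem (Finset.mem_univ _)]
    simp
  refine ⟨A * Matrix.diagonal d, ?_, ?_⟩
  · rw [Matrix.det_mul, hdet, mul_inv_cancel₀ hA]
  · rw [← Matrix.mulVec_mulVec]
    unfold e0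
    rw [Matrix.diagonal_mulVec_single, hd0, one_mul]
    exact hAu

end matrices

variable {F : Type*} [Field F] [Fintype F] [DecidableEq F] {m : ℕ} {G : Type*} [Group G] [Fintype G]
  (D : MatGrp F (m + 2) G)

/-- the orbit map `g ↦ g e₀` -/
def orb (g : G) : Fin (m + 2) → F := D.φ g *ᵥ e0 F m

theorem orb_mul (g h : G) : orb D (g * h) = D.φ g *ᵥ orb D h := by
  unfold orb
  rw [map_mul, Matrix.mulVec_mulVec]

theorem orb_one : orb D (1 : G) = e0 F m := by
  unfold orb
  rw [map_one, Matrix.one_mulVec]

theorem orb_ne_zero (g : G) : orb D g ≠ 0 := by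
  intro h
  have := D.mulVec_inv_mulVec g (e0 F m)
  unfold orb at h
  rw [h, Matrix.mulVec_zero] at this
  exact e0_ne_zero this.symm

theorem exists_orb_eq (w : Fin (m + 2) → F) (hw : w ≠ 0) : ∃ g : G, orb D g = w := by
  obtain ⟨A, hA, hAw⟩ := exists_matrix_det_one_mulVec w hw
  obtain ⟨g, hg⟩ := D.surj A hA
  exact ⟨g, by unfold orb; rw [hg]; exact hAw⟩

/-- all fibres of the orbit map over non-zero vectors have the same number of elements -/
theorem card_fiber (w : Fin (m + 2) → F) (hw : w ≠ 0) :
    (Finset.univ.filter (fun g : G => orb D g = w)).card =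
      (Finset.univ.filter (fun g : G => orb D g = e0 F m)).card := by
  obtain ⟨k, hk⟩ := exists_orb_eq D w hw
  symm
  apply Finset.card_bij (fun g _ => k * g)
  · intro g hg
    simp only [Finset.mem_filter, Finset.mem_univ, true_and] at hg ⊢
    rw [orb_mul, hg]
    exact hk
  · intro g _ g' _ h
    exact mul_left_cancel h
  · intro g hg
    simp only [Finset.mem_filter, Finset.mem_univ, true_and] at hg
    refine ⟨k⁻¹ * g, ?_, mul_inv_cancel_left k g⟩
    simp only [Finset.mem_filter, Finset.mem_univ, true_and]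
    rw [orb_mul, hg, ← hk]
    exact D.mulVec_inv_mulVec k _

/-- counting a union of fibres -/
theorem card_preimage (T : Finset (Fin (m + 2) → F)) (hT : ∀ w ∈ T, w ≠ 0) :
    (Finset.univ.filter (fun g : G => orb D g ∈ T)).card =
      T.card * (Finset.univ.filter (fun g : G => orb D g = e0 F m)).card := by
  rw [Finset.card_eq_sum_card_fiberwise (f := orb D)
    (s := Finset.univ.filter (fun g : G => orb D g ∈ T)) (t := T)
    (fun g hg => (Finset.mem_filter.mp (Finset.mem_coe.mp hg)).2)]
  have h1 : ∀ w ∈ T, ((Finset.univ.filter (fun g : G => orb D g ∈ T)).filter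
      (fun g => orb D g = w)).card = (Finset.univ.filter (fun g : G => orb D g = e0 F m)).card := by
    intro w hw
    rw [← card_fiber D w (hT w hw)]
    congr 1
    ext g
    simp only [Finset.mem_filter, Finset.mem_univ, true_and]
    constructor
    · rintro ⟨_, h⟩
      exact h
    · intro h
      exact ⟨h ▸ hw, h⟩
  rw [Finset.sum_congr rfl h1, Finset.sum_const, smul_eq_mul]

theorem card_nonzero_vec (k : ℕ) :
    (Finset.univ.filter (fun w : Fin k → F => w ≠ 0)).card = Fintype.card F ^ k - 1 := by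
  rw [Finset.filter_ne', Finset.card_erase_of_mem (Finset.mem_univ _), Finset.card_univ,
    Fintype.card_pi_const]

theorem card_nonzero_scalar :
    (Finset.univ.filter (fun c : F => c ≠ 0)).card = Fintype.card F - 1 := by
  rw [Finset.filter_ne', Finset.card_erase_of_mem (Finset.mem_univ _), Finset.card_univ]

/-- the non-zero multiples of `e₀` -/
def lineSet : Finset (Fin (m + 2) → F) :=
  (Finset.univ.filter (fun c : F => c ≠ 0)).image (fun c => c • e0 F m)

theorem card_lineSet : (lineSet (F := F) (m := m)).card = Fintype.card F - 1 := by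
  unfold lineSet
  rw [Finset.card_image_of_injective, card_nonzero_scalar]
  intro c c' h
  have := congrFun h 0
  simpa [e0] using this

theorem mem_P_iff_orb (g : G) : g ∈ D.P ↔ orb D g ∈ lineSet (F := F) (m := m) := by
  unfold lineSet
  rw [Finset.mem_image]
  constructor
  · rintro ⟨c, hc⟩
    refine ⟨c, ?_, hc.symm⟩
    rw [Finset.mem_filter]
    refine ⟨Finset.mem_univ _, ?_⟩
    rintro rfl
    rw [zero_smul] at hc
    exact orb_ne_zero D g hc
  · rintro ⟨c, _, hc⟩
    exact ⟨c, hc.symm⟩

/-- the non-zero vectors with vanishing coordinate `1` -/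
def hypSet : Finset (Fin (m + 2) → F) :=
  (Finset.univ.filter (fun v : Fin (m + 1) → F => v ≠ 0)).image
    (fun v => Fin.insertNth (α := fun _ => F) 1 0 v)

theorem card_hypSet : (hypSet (F := F) (m := m)).card = Fintype.card F ^ (m + 1) - 1 := by
  unfold hypSet
  rw [Finset.card_image_of_injective, card_nonzero_vec]
  intro v v' h
  funext j
  have := congrFun h (Fin.succAbove 1 j)
  simpa using this

theorem mem_hypSet_iff (w : Fin (m + 2) → F) (hw : w ≠ 0) :
    w ∈ hypSet (F := F) (m := m) ↔ w 1 = 0 := by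
  unfold hypSet
  rw [Finset.mem_image]
  constructor
  · rintro ⟨v, _, rfl⟩
    simp
  · intro h1
    refine ⟨Fin.removeNth 1 w, ?_, ?_⟩
    · rw [Finset.mem_filter]
      refine ⟨Finset.mem_univ _, ?_⟩
      intro hv
      apply hw
      funext i
      by_cases hi : i = 1
      · rw [hi, h1]; rfl
      · obtain ⟨j, rfl⟩ := Fin.exists_succAbove_eq hi
        have := congrFun hv j
        simpa [Fin.removeNth] using this
    · have := Fin.insertNth_self_removeNth (α := fun _ => F) 1 w
      rw [h1] at this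
      exact this

theorem orb_conj (y : G) :
    orb D (y⁻¹ * D.t0 * y) = e0 F m + (orb D y 1) • (D.φ y⁻¹ *ᵥ e0 F m) := by
  unfold orb
  rw [map_mul, map_mul, D.φ_t0, ← Matrix.mulVec_mulVec, ← Matrix.mulVec_mulVec,
    one_add_vecMulVec_mulVec, e1_dot, Matrix.mulVec_add, Matrix.mulVec_smul, D.mulVec_inv_mulVec]

theorem conj_t0_mem_P_iff (y : G) : y⁻¹ * D.t0 * y ∈ D.P ↔ orb D y 1 = 0 := by
  constructor
  · rintro ⟨c, hc⟩
    by_contra h1
    have hc' : orb D (y⁻¹ * D.t0 * y) = c • e0 F m := hc
    rw [orb_conj] at hc'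
    have hyinv : y⁻¹ ∈ D.P := by
      refine ⟨(orb D y 1)⁻¹ * (c - 1), ?_⟩
      have h2 : (orb D y 1) • (D.φ y⁻¹ *ᵥ e0 F m) = (c - 1) • e0 F m := by
        rw [sub_smul, one_smul, ← hc']
        abel
      rw [mul_smul, ← h2, smul_smul, inv_mul_cancel₀ h1, one_smul]
    have hy : y ∈ D.P := by
      have := D.P.inv_mem hyinv
      rwa [inv_inv] at this
    obtain ⟨d, hd⟩ := hy
    apply h1
    unfold orb
    rw [hd, Pi.smul_apply, smul_eq_mul, e0, Pi.single_apply, if_neg (Ne.symm fin_zero_ne_one),
      mul_zero]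
  · intro h1
    refine ⟨1, ?_⟩
    have := orb_conj D y
    rw [h1, zero_smul, add_zero] at this
    rw [one_smul]
    exact this

theorem card_univ_eq :
    Nat.card G = (Fintype.card F ^ (m + 2) - 1) *
      (Finset.univ.filter (fun g : G => orb D g = e0 F m)).card := by
  classical
  rw [← card_nonzero_vec (F := F) (m + 2), ← card_preimage D _ (fun w hw => (Finset.mem_filter.mp hw).2),
    Nat.card_eq_fintype_card, ← Finset.card_univ]
  congr 1
  ext g
  simp only [Finset.mem_filter, Finset.mem_univ, true_and]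
  exact (true_iff _).mpr (orb_ne_zero D g)

theorem card_P_eq :
    Nat.card D.P = (Fintype.card F - 1) *
      (Finset.univ.filter (fun g : G => orb D g = e0 F m)).card := by
  classical
  rw [← card_lineSet (F := F) (m := m), ← card_preimage D _ (fun w hw => ?_),
    Nat.card_eq_fintype_card, Fintype.card_subtype]
  · congr 1
    ext g
    simp only [Finset.mem_filter, Finset.mem_univ, true_and]
    exact mem_P_iff_orb D g
  · unfold lineSet at hw
    rw [Finset.mem_image] at hw
    obtain ⟨c, hc, rfl⟩ := hw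
    rw [Finset.mem_filter] at hc
    intro h
    have := congrFun h 0
    simp [e0] at this
    exact hc.2 this

theorem card_fix_eq :
    Nat.card {y : G // y⁻¹ * D.t0 * y ∈ D.P} = (Fintype.card F ^ (m + 1) - 1) *
      (Finset.univ.filter (fun g : G => orb D g = e0 F m)).card := by
  classical
  rw [← card_hypSet (F := F) (m := m), ← card_preimage D _ (fun w hw => ?_),
    Nat.card_eq_fintype_card, Fintype.card_subtype]
  · congr 1
    ext g
    simp only [Finset.mem_filter, Finset.mem_univ, true_and]
    rw [conj_t0_mem_P_iff, mem_hypSet_iff _ (orb_ne_zero D g)]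
  · unfold hypSet at hw
    rw [Finset.mem_image] at hw
    obtain ⟨v, hv, rfl⟩ := hw
    rw [Finset.mem_filter] at hv
    intro h
    apply hv.2
    funext j
    have := congrFun h (Fin.succAbove 1 j)
    simpa using this

theorem card_stab_pos : 0 < (Finset.univ.filter (fun g : G => orb D g = e0 F m)).card :=
  Finset.card_pos.mpr ⟨1, by
    rw [Finset.mem_filter]
    exact ⟨Finset.mem_univ _, orb_one D⟩⟩

/-- (M6) `[G:P] (q-1) = q^(m+2) - 1` -/
theorem index_P : D.P.index * (Fintype.card F - 1) = Fintype.card F ^ (m + 2) - 1 := by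
  have h := D.P.index_mul_card
  rw [card_univ_eq D, card_P_eq D, ← mul_assoc] at h
  exact Nat.eq_of_mul_eq_mul_right (card_stab_pos D) h

/-- (M7) the number of `y` with `y⁻¹ t0 y ∈ P` -/
theorem card_fix :
    Nat.card {y : G // y⁻¹ * D.t0 * y ∈ D.P} * (Fintype.card F - 1) =
      Nat.card D.P * (Fintype.card F ^ (m + 1) - 1) := by
  rw [card_fix_eq D, card_P_eq D]
  ring

end Cfsg.Agent.Helper29.LS
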