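import Cfsg.Agent.Helper47.Large
import Cfsg.Agent.Helper46.SylowIn
import Cfsg.Agent.Helper46.Amalgam
import Cfsg.Agent.Helper63.PGroup

set_option autoImplicit false

namespace Cfsg.Agent.Helper29.LargeSub

open Cfsg Cfsg.Agent.Helper47 Cfsg.Agent.Helper48 Cfsg.Agent.Helper46 Cfsg.Agent.Helper51
open scoped commutatorElement

variable {H : Type*} [Group H] [Finite H] {p : ℕ} [Fact p.Prime]

/-- If `Q` is a nontrivial large `p`-subgroup, `P` a `p`-subgroup containing both `Q` and `gQg⁻¹`,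
then `g ∈ N(Q)`. -/
theorem mem_normalizer_of_conj_le_pgroup {Q : Subgroup H} (hQp : IsPGroup p Q) (hQ1 : Q ≠ ⊥)
    (hL : Cfsg.IsLarge Q) {P : Subgroup H} (hP : IsPGroup p P) (hQP : Q ≤ P) {g : H}
    (hg : conjSub g Q ≤ P) : g ∈ Subgroup.normalizer (Q : Set H) := by
  apply mem_normalizer_of_large hQp hQ1 hL
  have hP1 : P ≠ ⊥ := fun h => hQ1 (le_bot_iff.mp (h ▸ hQP))
  have hZ := inf_centralizer_ne_bot hP hP1
  intro hbot
  apply hZ
  rw [eq_bot_iff, ← hbot]
  exact le_inf (inf_le_right.trans (Subgroup.centralizer_le hQP))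
    (inf_le_right.trans (Subgroup.centralizer_le hg))

/-- A `p`-subgroup containing the large `p`-subgroup `Q` normalizes `Q`. -/
theorem pgroup_le_normalizer {Q : Subgroup H} (hQp : IsPGroup p Q) (hQ1 : Q ≠ ⊥)
    (hL : Cfsg.IsLarge Q) {P : Subgroup H} (hP : IsPGroup p P) (hQP : Q ≤ P) :
    P ≤ Subgroup.normalizer (Q : Set H) := by
  intro x hx
  exact mem_normalizer_of_conj_le_pgroup hQp hQ1 hL hP hQP (conjSub_le_of_mem hQP hx)

/-- Key lemma: a subgroup `C ≤ N(Q)` normalized by the large `p`-subgroup `Q` with `C ∩ Q` central in `C`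
is a `p`-group. -/
theorem isPGroup_of_large {Q : Subgroup H} (hQp : IsPGroup p Q) (hL : Cfsg.IsLarge Q)
    {C : Subgroup H} (hCN : C ≤ Subgroup.normalizer (Q : Set H))
    (hQC : Q ≤ Subgroup.normalizer (C : Set H))
    (hZ : ∀ z ∈ C ⊓ Q, ∀ c ∈ C, Commute z c) : IsPGroup p C := by
  apply isPGroup_of_forall_coprime_eq_one (fun y => isOfFinOrder_of_finite y)
  intro y hy
  have hy' : (orderOf (y : H)).Coprime p := by rwa [Subgroup.orderOf_coe]
  have hcomm : ∀ s ∈ Q, Commute s (y : H) := by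
    apply commute_of_commutator_mem (T := C ⊓ Q) (hQp.to_le inf_le_right) hy'
    · intro s hs
      rw [commutatorElement_def]
      refine ⟨?_, ?_⟩
      · have h1 : s * y * s⁻¹ ∈ C := (Subgroup.mem_normalizer_iff.mp (hQC hs) y).mp y.2
        exact C.mul_mem h1 (C.inv_mem y.2)
      · have h1 : (y : H) * s⁻¹ * (y : H)⁻¹ ∈ Q :=
          (Subgroup.mem_normalizer_iff.mp (hCN y.2) s⁻¹).mp (Q.inv_mem hs)
        have : s * y * s⁻¹ * (y : H)⁻¹ = s * (y * s⁻¹ * (y : H)⁻¹) := by group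
        rw [this]; exact Q.mul_mem hs h1
    · intro t ht; exact hZ t ht y y.2
  have hyQ : (y : H) ∈ Q :=
    hL.1 (Subgroup.mem_centralizer_iff.mpr (fun s hs => (hcomm s hs).eq))
  have := eq_one_of_mem_isPGroup_of_coprime hQp hyQ hy'
  exact Subtype.ext this

/-- A nontrivial `p`-subgroup `O` normalized by a `p`-subgroup `Q` contains nontrivial fixed points of `Q`. -/
theorem inf_centralizer_ne_bot_of_normalizes {O Q : Subgroup H} (hO : IsPGroup p O) (hO1 : O ≠ ⊥)
    (hQ : IsPGroup p Q) (hQO : Q ≤ Subgroup.normalizer (O : Set H)) :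
    O ⊓ Subgroup.centralizer (Q : Set H) ≠ ⊥ := by
  have hP : IsPGroup p ↥(Q ⊔ O) := hQ.to_sup_of_normal_right' hO hQO
  have hOP : O ≤ Q ⊔ O := le_sup_right
  have hPN : Q ⊔ O ≤ Subgroup.normalizer (O : Set H) := sup_le hQO Subgroup.le_normalizer
  haveI hn : (O.subgroupOf (Q ⊔ O)).Normal :=
    (Subgroup.normal_subgroupOf_iff_le_normalizer hOP).mpr hPN
  have hN1 : O.subgroupOf (Q ⊔ O) ≠ ⊥ := by
    obtain ⟨⟨o, ho⟩, ho1⟩ := (Subgroup.ne_bot_iff_exists_ne_one).mp hO1
    intro hbot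
    apply ho1
    have hmem : (⟨o, hOP ho⟩ : ↥(Q ⊔ O)) ∈ O.subgroupOf (Q ⊔ O) := by
      rw [Subgroup.mem_subgroupOf]; exact ho
    rw [hbot, Subgroup.mem_bot] at hmem
    have := congrArg Subtype.val hmem
    exact Subtype.ext this
  have h1 := Cfsg.Agent.Helper63.normal_inf_center_ne_bot hP (O.subgroupOf (Q ⊔ O)) hN1
  obtain ⟨⟨z, hz⟩, hz1⟩ := (Subgroup.ne_bot_iff_exists_ne_one).mp h1
  intro hbot
  apply hz1
  have hzO : (z : H) ∈ O := by
    have := (Subgroup.mem_inf.mp hz).1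
    rwa [Subgroup.mem_subgroupOf] at this
  have hzC : (z : H) ∈ Subgroup.centralizer (Q : Set H) := by
    rw [Subgroup.mem_centralizer_iff]
    intro q hq
    have := (Subgroup.mem_center_iff.mp (Subgroup.mem_inf.mp hz).2) ⟨q, (le_sup_left : Q ≤ Q ⊔ O) hq⟩
    exact congrArg Subtype.val this
  have hmem : (z : H) ∈ O ⊓ Subgroup.centralizer (Q : Set H) := Subgroup.mem_inf.mpr ⟨hzO, hzC⟩
  rw [hbot, Subgroup.mem_bot] at hmem
  exact Subtype.ext (Subtype.ext hmem)

/-- `O_p` of a subgroup normalized by `L` lies in `O_p(L)`. -/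
theorem pCoreOf_le_pCoreOf_of_normalized {N L : Subgroup H} (hNL : N ≤ L)
    (hLN : L ≤ Subgroup.normalizer (N : Set H)) : pCoreOf p N ≤ pCoreOf p L := by
  apply le_pCoreOf ((pCoreOf_le N).trans hNL) (pCoreOf_isPGroup N)
  intro l hl
  apply mem_normalizer_of_conjSub_le
  have h1 : N.map (MulAut.conj l).toMonoidHom = N := cj_eq_self_of_mem_normalizer (hLN hl)
  have h2 := pCoreOf_map_equiv (p := p) (MulAut.conj l) N
  have h3 : conjSub l (pCoreOf p N) = pCoreOf p (N.map (MulAut.conj l).toMonoidHom) := h2.symm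
  rw [h3]
  have : ∀ M : Subgroup H, M = N → pCoreOf p M ≤ pCoreOf p N := by
    rintro M rfl; exact le_rfl
  exact this _ h1

/-- Translate `L ∩ C_H(O_p(L)) ≤ O_p(L)` (in the ambient group) into the statement inside `↥L`. -/
theorem charp_of_inf_centralizer_le {L : Subgroup H}
    (h : L ⊓ Subgroup.centralizer (pCoreOf p L : Set H) ≤ pCoreOf p L) :
    Subgroup.centralizer (Cfsg.pCore p ↥L : Set ↥L) ≤ Cfsg.pCore p ↥L := by
  intro x hx
  have hx' : (x : H) ∈ L ⊓ Subgroup.centralizer (pCoreOf p L : Set H) := by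
    refine Subgroup.mem_inf.mpr ⟨x.2, ?_⟩
    rw [Subgroup.mem_centralizer_iff]
    rintro _ ⟨y, hy, rfl⟩
    have := (Subgroup.mem_centralizer_iff.mp hx) y hy
    exact congrArg Subtype.val this
  obtain ⟨y, hy, hyx⟩ := h hx'
  have : y = x := Subtype.ext hyx
  rw [← this]; exact hy

theorem pCoreOf_ne_bot {L : Subgroup H} (h : Cfsg.pCore p ↥L ≠ ⊥) : pCoreOf p L ≠ ⊥ := by
  intro hbot
  apply h
  unfold pCoreOf at hbot
  exact (Subgroup.map_eq_bot_iff_of_injective _ L.subtype_injective).mp hbot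

section main

variable {Q : Subgroup H} (hQp : IsPGroup p Q) (hQ1 : Q ≠ ⊥) (hL : Cfsg.IsLarge Q)
include hQp hQ1 hL

/-- `C_H(O_p(L)) ≤ N(Q)` for `Q ≤ L` with `O_p(L) ≠ 1`. -/
theorem centralizer_pCoreOf_le_normalizer {L : Subgroup H} (hQL : Q ≤ L)
    (hcore : pCoreOf p L ≠ ⊥) :
    Subgroup.centralizer (pCoreOf p L : Set H) ≤ Subgroup.normalizer (Q : Set H) := by
  have hO : IsPGroup p (pCoreOf p L) := pCoreOf_isPGroup L
  have hLO : L ≤ Subgroup.normalizer (pCoreOf p L : Set H) := pCoreOf_normalized L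
  have hU := inf_centralizer_ne_bot_of_normalizes hO hcore hQp (hQL.trans hLO)
  have hNU := hL.2 _ inf_le_right hU
  refine le_trans ?_ hNU
  refine le_trans ?_ (Subgroup.centralizer_le_normalizer _)
  exact Subgroup.centralizer_le inf_le_left

/-- `C_L(O_p(L)) ≤ O_p(L)`. -/
theorem inf_centralizer_pCoreOf_le {L : Subgroup H} (hQL : Q ≤ L) (hcore : pCoreOf p L ≠ ⊥) :
    L ⊓ Subgroup.centralizer (pCoreOf p L : Set H) ≤ pCoreOf p L := by
  set O := pCoreOf p L with hOdef
  set C := Subgroup.centralizer (O : Set H) with hCdef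
  have hLO : L ≤ Subgroup.normalizer (O : Set H) := pCoreOf_normalized L
  have hLC : L ≤ Subgroup.normalizer (C : Set H) :=
    hLO.trans (Cfsg.Agent.Helper49.normalizer_le_normalizer_centralizer O)
  have hCNQ : C ≤ Subgroup.normalizer (Q : Set H) :=
    centralizer_pCoreOf_le_normalizer hQp hQ1 hL hQL hcore
  have hLCL : L ≤ Subgroup.normalizer ((L ⊓ C : Subgroup H) : Set H) :=
    (le_inf Subgroup.le_normalizer hLC).trans Subgroup.inf_normalizer_le_normalizer_inf
  have hCLp : IsPGroup p ↥(L ⊓ C) := by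
    apply isPGroup_of_large hQp hL (inf_le_right.trans hCNQ) (hQL.trans hLCL)
    intro z hz c hc
    have hD : (L ⊓ C) ⊓ Q ≤ pCoreOf p (L ⊓ C) := by
      apply le_pCoreOf inf_le_left (hQp.to_le inf_le_right)
      refine le_trans ?_ Subgroup.inf_normalizer_le_normalizer_inf
      exact le_inf Subgroup.le_normalizer (inf_le_right.trans hCNQ)
    have hzO : z ∈ O := pCoreOf_le_pCoreOf_of_normalized inf_le_left hLCL (hD hz)
    exact ((Subgroup.mem_centralizer_iff.mp hc.2) z hzO)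
  exact le_pCoreOf inf_le_left hCLp hLCL

/-- `C_H(O_p(L))` is a `p`-group. -/
theorem isPGroup_centralizer_pCoreOf {L : Subgroup H} (hQL : Q ≤ L) (hcore : pCoreOf p L ≠ ⊥) :
    IsPGroup p ↥(Subgroup.centralizer (pCoreOf p L : Set H)) := by
  set O := pCoreOf p L with hOdef
  set C := Subgroup.centralizer (O : Set H) with hCdef
  have hLO : L ≤ Subgroup.normalizer (O : Set H) := pCoreOf_normalized L
  have hLC : L ≤ Subgroup.normalizer (C : Set H) :=
    hLO.trans (Cfsg.Agent.Helper49.normalizer_le_normalizer_centralizer O)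
  have hCNQ : C ≤ Subgroup.normalizer (Q : Set H) :=
    centralizer_pCoreOf_le_normalizer hQp hQ1 hL hQL hcore
  apply isPGroup_of_large hQp hL hCNQ (hQL.trans hLC)
  intro z hz c hc
  have hzO : z ∈ O :=
    inf_centralizer_pCoreOf_le hQp hQ1 hL hQL hcore
      (Subgroup.mem_inf.mpr ⟨hQL (Subgroup.mem_inf.mp hz).2, (Subgroup.mem_inf.mp hz).1⟩)
  exact ((Subgroup.mem_centralizer_iff.mp hc) z hzO)

/-- The weak closure alternative. -/
theorem weakClosure_eq_or {L : Subgroup H} (hQL : Q ≤ L) :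
    Cfsg.weakClosure Q L = Q ∨
      Subgroup.centralizer ((Cfsg.weakClosure Q L : Subgroup H) : Set H) = ⊥ := by
  by_cases hD : Subgroup.centralizer ((Cfsg.weakClosure Q L : Subgroup H) : Set H) = ⊥
  · exact Or.inr hD
  left
  have hQW : Q ≤ Cfsg.weakClosure Q L := by
    have h1 : Q.map (MulAut.conj (1 : H)).toMonoidHom ≤ L := by
      rw [show Q.map (MulAut.conj (1 : H)).toMonoidHom = Q from conjSub_one Q]; exact hQL
    have h2 : Q.map (MulAut.conj (1 : H)).toMonoidHom ≤ Cfsg.weakClosure Q L :=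
      le_iSup (fun g : {g : H // Q.map (MulAut.conj g).toMonoidHom ≤ L} =>
        Q.map (MulAut.conj (g : H)).toMonoidHom) ⟨1, h1⟩
    rwa [show Q.map (MulAut.conj (1 : H)).toMonoidHom = Q from conjSub_one Q] at h2
  have hDQ : Subgroup.centralizer ((Cfsg.weakClosure Q L : Subgroup H) : Set H) ≤
      Subgroup.centralizer (Q : Set H) := Subgroup.centralizer_le hQW
  have hN := hL.2 _ hDQ hD
  have hWN : Cfsg.weakClosure Q L ≤ Subgroup.normalizer (Q : Set H) :=
    Subgroup.le_normalizer.trans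
      ((Cfsg.Agent.Helper49.normalizer_le_normalizer_centralizer _).trans hN)
  apply le_antisymm _ hQW
  have hle : ∀ g : {g : H // Q.map (MulAut.conj g).toMonoidHom ≤ L},
      Q.map (MulAut.conj (g : H)).toMonoidHom ≤ Q := by
    rintro ⟨g, hg⟩
    have h1 : conjSub g Q ≤ Cfsg.weakClosure Q L :=
      le_iSup (fun g : {g : H // Q.map (MulAut.conj g).toMonoidHom ≤ L} =>
        Q.map (MulAut.conj (g : H)).toMonoidHom) ⟨g, hg⟩
    have hP : IsPGroup p ↥(conjSub g Q ⊔ Q) :=
      (isPGroup_conjSub hQp).to_sup_of_normal_right' hQp (h1.trans hWN)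
    have hgN := mem_normalizer_of_conj_le_pgroup hQp hQ1 hL hP le_sup_right le_sup_left
    have : conjSub g Q = Q := cj_eq_self_of_mem_normalizer hgN
    exact this.le
  exact iSup_le hle

end main

end Cfsg.Agent.Helper29.LargeSub
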