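import Mathlib
import Cfsg.Agent.Helper1.MinDeg.Defs
import Cfsg.Agent.Helper1.MinDeg.CaseADefs
import Cfsg.Agent.Helper14.MinDegM2

/-!
# Piece (A3) of #7352 (helper1, S2140): `SRel` is preserved by the elementary matrices of the
middle block.  Also the common lemmas for (A4): `SL = Qc e0 * K`, conjugating `hel` by `Qc e0`.
-/

set_option autoImplicit false
set_option linter.unusedSectionVars false
set_option linter.unusedVariables false
set_option linter.unusedSimpArgs false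

namespace Cfsg.Agent.Helper29.MinDeg

open Matrix Cfsg.Agent.Helper14.AutPSL Cfsg.Agent.Helper1.MinDeg

variable {F : Type*} [Field F] {n : ℕ}

theorem tv_congr' {a a' φ φ' : Fin n → F} (h : φ ⬝ᵥ a = 0) (h' : φ' ⬝ᵥ a' = 0) (ha : a = a')
    (hφ : φ = φ') : tv a φ h = tv a' φ' h' := by
  subst ha; subst hφ; rfl

/-- abstract counting: a subgroup `Q` with `|Q| = |G : K|` and `K ∩ Q = 1` satisfies `G = Q K`. -/
theorem exists_mul_of_card_eq_index {G : Type*} [Group G] [Finite G] (K Q : Subgroup G)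
    (hcard : Nat.card Q = K.index) (hKQ : K ⊓ Q = ⊥) (g : G) :
    ∃ u ∈ Q, ∃ k ∈ K, g = u * k := by
  classical
  let f : Q → G ⧸ K := fun u => QuotientGroup.mk (u : G)
  have hinj : Function.Injective f := by
    intro u u' h
    have h1 : (u : G)⁻¹ * (u' : G) ∈ K := QuotientGroup.eq.mp h
    have h2 : (u : G)⁻¹ * (u' : G) ∈ K ⊓ Q := ⟨h1, Q.mul_mem (Q.inv_mem u.2) u'.2⟩
    rw [hKQ, Subgroup.mem_bot] at h2
    apply Subtype.ext
    exact (inv_mul_eq_one.mp h2)
  have hc : Nat.card Q = Nat.card (G ⧸ K) := by rw [hcard]; rfl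
  have hbij : Function.Bijective f := (Nat.bijective_iff_injective_and_card f).mpr ⟨hinj, hc⟩
  obtain ⟨u, hu⟩ := hbij.2 (QuotientGroup.mk g)
  have h1 : (u : G)⁻¹ * g ∈ K := QuotientGroup.eq.mp hu
  exact ⟨u, u.2, _, h1, by group⟩

section caseA

variable [Fintype F]

theorem single_ne_zero' (i0 : Fin n) : (Pi.single i0 1 : Fin n → F) ≠ 0 := by
  intro h
  have := congrFun h i0
  simp at this

/-- `SL = Qc e0 * K` -/
theorem exists_Qc_mul (K : Subgroup (SpecialLinearGroup (Fin n) F)) (hn : 3 ≤ n)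
    (hidx : K.index = Fintype.card F ^ (n - 1))
    (hK : ∀ x : Fin n → F, x ≠ 0 → K ⊓ Qc x = ⊥) (i0 : Fin n)
    (g : SpecialLinearGroup (Fin n) F) :
    ∃ u ∈ Qc (Pi.single i0 1 : Fin n → F), ∃ k ∈ K, g = u * k := by
  have hx : (Pi.single i0 1 : Fin n → F) ≠ 0 := single_ne_zero' i0
  have hc := Cfsg.Agent.Helper14.MinDeg.card_Qc (F := F) (n := n) (by omega) hx
  exact exists_mul_of_card_eq_index K _ (by rw [hc, hidx]) (hK _ hx) g

end caseA

/-- conjugating `hel a b c` by an element of `Qc e0` changes only `c` -/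
theorem conj_Qc_hel (i0 il : Fin n) (h0l : i0 ≠ il) {a b : Fin n → F} (c : F)
    (ha : IsMid i0 il a) (hb : IsMid i0 il b) {u : SpecialLinearGroup (Fin n) F}
    (hu : u ∈ Qc (Pi.single i0 1 : Fin n → F)) :
    ∃ c' : F, u⁻¹ * hel i0 il h0l a b c ha hb * u = hel i0 il h0l a b c' ha hb := by
  obtain ⟨φ, hφ, rfl⟩ := hu
  have hφ0 : φ i0 = 0 := by
    rw [dotProduct_single, mul_one] at hφ; exact hφ
  refine ⟨c - φ ⬝ᵥ b, ?_⟩
  have hinv : (tv (Pi.single i0 1) φ hφ)⁻¹ = tv (Pi.single i0 1) (-φ) (by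
      rw [neg_dotProduct, hφ, neg_zero]) := tv_inv _ _ _
  -- write the conjugation as `g * _ * g⁻¹` with `g = u⁻¹`
  have key : ∀ (g x y : SpecialLinearGroup (Fin n) F), g * (x * y) * g⁻¹ =
      (g * x * g⁻¹) * (g * y * g⁻¹) := by intro g x y; group
  have h1 : (tv (Pi.single i0 1) φ hφ)⁻¹ * hel i0 il h0l a b c ha hb * tv (Pi.single i0 1) φ hφ =
      (tv (Pi.single i0 1) φ hφ)⁻¹ * hel i0 il h0l a b c ha hb *
        ((tv (Pi.single i0 1) φ hφ)⁻¹)⁻¹ := by rw [inv_inv]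
  rw [h1]
  unfold hel
  rw [key, conj_tv, conj_tv]
  -- the first factor
  have e1 : ((tv (Pi.single i0 1) φ hφ)⁻¹).1 *ᵥ (Pi.single i0 1 : Fin n → F) = Pi.single i0 1 := by
    rw [hinv, tv_mulVec, neg_dotProduct, hφ, neg_zero, zero_smul, add_zero]
  have e2 : (a + c • (Pi.single il 1 : Fin n → F)) ᵥ* ((tv (Pi.single i0 1) φ hφ)⁻¹⁻¹).1 =
      a + c • (Pi.single il 1 : Fin n → F) := by
    rw [inv_inv, vecMul_tv, hel_aux1 h0l ha c, zero_smul, add_zero]
  have e3 : ((tv (Pi.single i0 1) φ hφ)⁻¹).1 *ᵥ b = b - (φ ⬝ᵥ b) • (Pi.single i0 1 : Fin n → F) := by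
    rw [hinv, tv_mulVec, neg_dotProduct, neg_smul, sub_eq_add_neg]
  have e4 : (Pi.single il 1 : Fin n → F) ᵥ* ((tv (Pi.single i0 1) φ hφ)⁻¹⁻¹).1 =
      Pi.single il 1 := by
    rw [inv_inv, vecMul_tv, single_dotProduct, one_mul, Pi.single_eq_of_ne h0l.symm, zero_smul, add_zero]
  -- compare matrices
  apply Subtype.ext
  simp only [Matrix.SpecialLinearGroup.coe_mul, tv_coe, e1, e2, e3, e4]
  have hA0 : a ⬝ᵥ (Pi.single i0 1 : Fin n → F) = 0 := by rw [dotProduct_single, mul_one, ha.1]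
  have hL0 : (Pi.single il 1 : Fin n → F) ⬝ᵥ (Pi.single i0 1 : Fin n → F) = 0 := by
    rw [dotProduct_single, mul_one, Pi.single_eq_of_ne h0l]
  have hLb : (Pi.single il 1 : Fin n → F) ⬝ᵥ b = 0 := hel_aux2 hb
  simp only [Matrix.mul_add, Matrix.add_mul, Matrix.mul_one, Matrix.one_mul, Matrix.mul_sub,
    Matrix.sub_mul, Matrix.smul_mul, Matrix.mul_smul,
    vecMulVec_mul_vecMulVec, vecMulVec_add, add_vecMulVec, sub_vecMulVec, vecMulVec_sub,
    smul_vecMulVec, vecMulVec_smul, hA0, hL0, hLb, zero_smul, smul_zero, add_zero, sub_zero,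
    vecMulVec_zero, zero_vecMulVec]
  module


section caseA2

variable [Fintype F]

/-- if a conjugate of an element `hel a b c` of `K` is of the form `hel a' b' c'`, then
`SRel K a' b'` -/
theorem SRel_of_conj (K : Subgroup (SpecialLinearGroup (Fin n) F)) (hn : 3 ≤ n)
    (hidx : K.index = Fintype.card F ^ (n - 1))
    (hK : ∀ x : Fin n → F, x ≠ 0 → K ⊓ Qc x = ⊥) (i0 il : Fin n) (h0l : i0 ≠ il)
    {a b a' b' : Fin n → F} {c c' : F} (ha : IsMid i0 il a) (hb : IsMid i0 il b)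
    (ha' : IsMid i0 il a') (hb' : IsMid i0 il b') (g : SpecialLinearGroup (Fin n) F)
    (hmem : hel i0 il h0l a b c ha hb ∈ K)
    (hg : g * hel i0 il h0l a b c ha hb * g⁻¹ = hel i0 il h0l a' b' c' ha' hb') :
    SRel K i0 il h0l a' b' := by
  obtain ⟨u, hu, k, hk, rfl⟩ := exists_Qc_mul K hn hidx hK i0 g
  obtain ⟨c'', hc''⟩ := conj_Qc_hel i0 il h0l c' ha' hb' hu
  refine ⟨ha', hb', c'', ?_⟩
  rw [← hc'', ← hg]
  have h1 : u⁻¹ * (u * k * hel i0 il h0l a b c ha hb * (u * k)⁻¹) * u =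
      k * hel i0 il h0l a b c ha hb * k⁻¹ := by group
  rw [h1]
  exact K.mul_mem (K.mul_mem hk hmem) (K.inv_mem hk)

theorem conj_mul_eq (g x y : SpecialLinearGroup (Fin n) F) :
    g * (x * y) * g⁻¹ = (g * x * g⁻¹) * (g * y * g⁻¹) := by group

/-- (A3) equivariance under the elementary matrices of the middle block. -/
theorem SRel_elem (K : Subgroup (SpecialLinearGroup (Fin n) F)) (hn : 3 ≤ n) (hidx : K.index = Fintype.card F ^ (n - 1))
    (hK : ∀ x : Fin n → F, x ≠ 0 → K ⊓ Qc x = ⊥) (i0 il : Fin n) (h0l : i0 ≠ il)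
    {i j : Fin n} (hij : i ≠ j) (hi0 : i ≠ i0) (hil : i ≠ il) (hj0 : j ≠ i0) (hjl : j ≠ il)
    (s : F) {a b : Fin n → F} (h : SRel K i0 il h0l a b) :
    SRel K i0 il h0l (a - (s * a i) • Pi.single j 1) (b + (s * b j) • Pi.single i 1) := by
  obtain ⟨ha, hb, c, hmem⟩ := h
  have ha' : IsMid i0 il (a - (s * a i) • (Pi.single j 1 : Fin n → F)) := by
    rw [sub_eq_add_neg]
    exact ha.add ((IsMid.single hj0 hjl (1 : F)).smul _).neg
  have hb' : IsMid i0 il (b + (s * b j) • (Pi.single i 1 : Fin n → F)) :=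
    hb.add ((IsMid.single hi0 hil (1 : F)).smul _)
  have hg0 : (Pi.single j 1 : Fin n → F) ⬝ᵥ (s • (Pi.single i 1 : Fin n → F)) = 0 := by
    rw [dotProduct_smul, dotProduct_single, mul_one, Pi.single_eq_of_ne hij, smul_zero]
  set g : SpecialLinearGroup (Fin n) F := tv (s • (Pi.single i 1 : Fin n → F)) (Pi.single j 1) hg0
    with hgdef
  have hginv : (g⁻¹).1 = (tv (s • (Pi.single i 1 : Fin n → F)) (-(Pi.single j 1 : Fin n → F)) (by
      rw [neg_dotProduct, hg0, neg_zero])).1 := by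
    rw [hgdef, tv_inv]
  have e1 : g.1 *ᵥ (Pi.single i0 1 : Fin n → F) = Pi.single i0 1 := by
    rw [hgdef, tv_mulVec, single_dotProduct, one_mul, Pi.single_eq_of_ne hj0, zero_smul, add_zero]
  have e2 : (a + c • (Pi.single il 1 : Fin n → F)) ᵥ* (g⁻¹).1 =
      (a - (s * a i) • (Pi.single j 1 : Fin n → F)) + c • (Pi.single il 1 : Fin n → F) := by
    rw [hginv, vecMul_tv, dotProduct_smul, dotProduct_single, mul_one, Pi.add_apply,
      Pi.smul_apply, Pi.single_eq_of_ne hil, smul_zero, add_zero, smul_neg, smul_eq_mul]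
    abel
  have e3 : g.1 *ᵥ b = b + (s * b j) • (Pi.single i 1 : Fin n → F) := by
    rw [hgdef, tv_mulVec, single_dotProduct, one_mul, smul_smul, mul_comm]
  have e4 : (Pi.single il 1 : Fin n → F) ᵥ* (g⁻¹).1 = Pi.single il 1 := by
    rw [hginv, vecMul_tv, dotProduct_smul, single_dotProduct, one_mul,
      Pi.single_eq_of_ne hil.symm, smul_zero, zero_smul, add_zero]
  refine SRel_of_conj K hn hidx hK i0 il h0l ha hb ha' hb' g hmem (c' := c) ?_
  unfold hel
  rw [conj_mul_eq, conj_tv, conj_tv]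
  exact congrArg₂ (· * ·) (tv_congr' _ _ e1 e2) (tv_congr' _ _ e3 e4)

end caseA2

end Cfsg.Agent.Helper29.MinDeg
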