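import Mathlib
import Cfsg.Agent.Helper29.MinDegA3

/-!
# Piece (A4) of #7352 (helper1, S2140): `SRel` is preserved by the diagonal matrices of
determinant one.
-/

set_option autoImplicit false
set_option linter.unusedSectionVars false
set_option linter.unusedVariables false
set_option linter.unusedSimpArgs false

namespace Cfsg.Agent.Helper29.MinDeg

open Matrix Cfsg.Agent.Helper14.AutPSL Cfsg.Agent.Helper1.MinDeg

variable {F : Type*} [Field F] {n : ℕ}

section caseA

variable [Fintype F]

/-- (A4) equivariance under the diagonal matrices of determinant one. -/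
theorem SRel_diag (K : Subgroup (SpecialLinearGroup (Fin n) F)) (hn : 3 ≤ n) (hidx : K.index = Fintype.card F ^ (n - 1))
    (hK : ∀ x : Fin n → F, x ≠ 0 → K ⊓ Qc x = ⊥) (i0 il : Fin n) (h0l : i0 ≠ il)
    (d : Fin n → F) (hd : ∏ k, d k = 1)
    {a b : Fin n → F} (h : SRel K i0 il h0l a b) :
    SRel K i0 il h0l (fun k => d i0 * a k / d k) (fun k => d k * b k / d il) := by
  obtain ⟨ha, hb, c, hmem⟩ := h
  have hdk : ∀ k, d k ≠ 0 := by
    intro k hk
    have h0 : ∏ k, d k = 0 := Finset.prod_eq_zero (Finset.mem_univ k) hk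
    rw [hd] at h0; exact one_ne_zero h0
  have ha' : IsMid i0 il (fun k => d i0 * a k / d k) := by
    constructor
    · show d i0 * a i0 / d i0 = 0
      rw [ha.1, mul_zero, zero_div]
    · show d i0 * a il / d il = 0
      rw [ha.2, mul_zero, zero_div]
  have hb' : IsMid i0 il (fun k => d k * b k / d il) := by
    constructor
    · show d i0 * b i0 / d il = 0
      rw [hb.1, mul_zero, zero_div]
    · show d il * b il / d il = 0
      rw [hb.2, mul_zero, zero_div]
  set g : SpecialLinearGroup (Fin n) F := ⟨diagonal d, by rw [det_diagonal, hd]⟩ with hgdef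
  have hginv : (g⁻¹).1 = diagonal (fun k => (d k)⁻¹) := by
    have h1 : g⁻¹ = ⟨diagonal (fun k => (d k)⁻¹), by
        rw [det_diagonal, Finset.prod_inv_distrib, hd, inv_one]⟩ := by
      apply inv_eq_of_mul_eq_one_right
      apply Subtype.ext
      show diagonal d * diagonal (fun k => (d k)⁻¹) = 1
      rw [diagonal_mul_diagonal]
      have : (fun k => d k * (d k)⁻¹) = fun _ => (1 : F) := by
        funext k; exact mul_inv_cancel₀ (hdk k)
      rw [this, diagonal_one]
    rw [h1]
  have e1 : g.1 *ᵥ (Pi.single i0 1 : Fin n → F) = d i0 • (Pi.single i0 1 : Fin n → F) := by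
    funext k
    rw [hgdef]
    show (diagonal d *ᵥ (Pi.single i0 1 : Fin n → F)) k = _
    rw [mulVec_diagonal, Pi.smul_apply, smul_eq_mul]
    by_cases hk : k = i0
    · subst hk; simp
    · rw [Pi.single_eq_of_ne hk, mul_zero, mul_zero]
  have e2 : (a + c • (Pi.single il 1 : Fin n → F)) ᵥ* (g⁻¹).1 =
      fun k => (a k + c * (Pi.single il 1 : Fin n → F) k) * (d k)⁻¹ := by
    funext k
    rw [hginv, vecMul_diagonal, Pi.add_apply, Pi.smul_apply, smul_eq_mul]
  have e3 : g.1 *ᵥ b = fun k => d k * b k := by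
    funext k
    rw [hgdef]
    show (diagonal d *ᵥ b) k = _
    rw [mulVec_diagonal]
  have e4 : (Pi.single il 1 : Fin n → F) ᵥ* (g⁻¹).1 = (d il)⁻¹ • (Pi.single il 1 : Fin n → F) := by
    funext k
    rw [hginv, vecMul_diagonal, Pi.smul_apply, smul_eq_mul]
    by_cases hk : k = il
    · subst hk; simp
    · rw [Pi.single_eq_of_ne hk, mul_zero, zero_mul]
  refine SRel_of_conj K hn hidx hK i0 il h0l ha hb ha' hb' g hmem (c' := c * d i0 / d il) ?_
  unfold hel
  rw [conj_mul_eq, conj_tv, conj_tv]
  refine congrArg₂ (· * ·) (tv_eq_of_vecMulVec_eq _ _ ?_) (tv_eq_of_vecMulVec_eq _ _ ?_)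
  · rw [e1, e2, smul_vecMulVec, ← vecMulVec_smul]
    congr 1
    funext k
    simp only [Pi.smul_apply, Pi.add_apply, smul_eq_mul]
    by_cases hk : k = il
    · subst hk
      rw [Pi.single_eq_same]
      have := hdk k
      field_simp
    · rw [Pi.single_eq_of_ne hk, mul_zero, mul_zero, add_zero, add_zero]
      have := hdk k
      field_simp
  · rw [e3, e4, vecMulVec_smul, ← smul_vecMulVec]
    congr 1
    funext k
    simp only [Pi.smul_apply, smul_eq_mul]
    have := hdk il
    field_simp

end caseA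

end Cfsg.Agent.Helper29.MinDeg
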