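import Mathlib
import Cfsg.Agent.Helper79.Mult.Defs
import Cfsg.Agent.Helper74.CharBasic
import Cfsg.Agent.S0134
import Cfsg.Agent.S0154

/-!
# S4756 farm (helper79): leaf (NL)
-/

set_option autoImplicit false

universe u

namespace Cfsg.Agent.Helper29.Mult

open Cfsg Cfsg.Agent.Helper79.Mult
open scoped commutatorElement

variable {G : Type u} [Group G] [Finite G]

/-- (NL) a nonabelian group has a nonlinear irreducible character -/
theorem exists_nonlinear (h : ¬ ∀ a b : G, a * b = b * a) :
    ∃ χ : IrrCharacter G, (χ : G → ℂ) 1 ≠ 1 := by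
  classical
  by_contra hcon
  have hall : ∀ χ : IrrCharacter G, (χ : G → ℂ) 1 = 1 := by
    intro χ; by_contra h1; exact hcon ⟨χ, h1⟩
  have : Finite (IrrCharacter G) := Cfsg.Agent.Helper74.irr_finite
  have : Fintype (IrrCharacter G) := Fintype.ofFinite _
  have hsum := Cfsg.Agent.S0134.result (G := G)
  rw [finsum_eq_sum_of_fintype] at hsum
  have h1 : (Fintype.card (IrrCharacter G) : ℂ) = (Nat.card G : ℂ) := by
    rw [← hsum]; simp [hall]
  have h1' : Nat.card (IrrCharacter G) = Nat.card G := by
    rw [Nat.card_eq_fintype_card]; exact_mod_cast h1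
  have h2 := Cfsg.Agent.S0154.result (G := G)
  have h3 : Nat.card {χ : IrrCharacter G // (χ : G → ℂ) 1 = 1} = Nat.card (IrrCharacter G) :=
    Nat.card_congr (Equiv.subtypeUnivEquiv hall)
  have hidx : (commutator G).index = Nat.card G := by rw [← h2, h3, h1']
  have hcard : Nat.card (commutator G) = 1 := by
    have hm := (commutator G).card_mul_index
    rw [hidx] at hm
    have hpos : 0 < Nat.card G := Nat.card_pos
    nlinarith
  have hbot : commutator G = ⊥ := Subgroup.card_eq_one.mp hcard
  apply h
  intro a b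
  have hab : ⁅a, b⁆ ∈ commutator G :=
    Subgroup.commutator_mem_commutator (Subgroup.mem_top a) (Subgroup.mem_top b)
  rw [hbot, Subgroup.mem_bot] at hab
  exact commutatorElement_eq_one_iff_mul_comm.mp hab

end Cfsg.Agent.Helper29.Mult
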