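import Mathlib
import Cfsg.Agent.Helper79.Mult.Defs
import Cfsg.Agent.Helper74.CharBasic
import Cfsg.Agent.S0134
import Cfsg.Agent.S0154

/-!
# S4756 farm (helper79): leaves (SQ) and (NL)
-/

set_option autoImplicit false

universe u

namespace Cfsg.Agent.Helper29.Mult

open Cfsg Cfsg.Agent.Helper79.Mult

variable {G : Type u} [Group G] [Finite G]

/-- the sum of the squares of the degrees, in `ℕ` -/
theorem SQ_sum_nat [Fintype (IrrCharacter G)] :
    ∑ φ : IrrCharacter G, Cfsg.charDegree (φ : G → ℂ) ^ 2 = Nat.card G := by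
  have hsum := Cfsg.Agent.S0134.result (G := G)
  rw [finsum_eq_sum_of_fintype] at hsum
  have : ((∑ φ : IrrCharacter G, Cfsg.charDegree (φ : G → ℂ) ^ 2 : ℕ) : ℂ) = (Nat.card G : ℂ) := by
    rw [← hsum]; push_cast
    apply Finset.sum_congr rfl; intro φ _
    rw [Cfsg.Agent.Helper74.charDegree_cast (Cfsg.Agent.Helper74.irr_isCharacter φ)]
  exact_mod_cast this

/-- (SQ) `χ(1)^2 < |G|` for nonlinear `χ` -/
theorem degree_sq_lt_card (χ : IrrCharacter G) (hχ : (χ : G → ℂ) 1 ≠ 1) :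
    Cfsg.charDegree (χ : G → ℂ) ^ 2 < Nat.card G := by
  classical
  have : Finite (IrrCharacter G) := Cfsg.Agent.Helper74.irr_finite
  have : Fintype (IrrCharacter G) := Fintype.ofFinite _
  have hlin : Nonempty {ψ : IrrCharacter G // (ψ : G → ℂ) 1 = 1} := by
    have h := Cfsg.Agent.S0154.result (G := G)
    have hpos : 0 < (commutator G).index := Nat.pos_of_ne_zero Subgroup.index_ne_zero_of_finite
    rw [← h] at hpos
    exact (Nat.card_pos_iff.mp hpos).1
  obtain ⟨⟨ψ, hψ⟩⟩ := hlin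
  have hne : ψ ≠ χ := by rintro rfl; exact hχ hψ
  have hnat := SQ_sum_nat (G := G)
  have h2 : Cfsg.charDegree (χ : G → ℂ) ^ 2 + Cfsg.charDegree (ψ : G → ℂ) ^ 2 ≤
      ∑ φ : IrrCharacter G, Cfsg.charDegree (φ : G → ℂ) ^ 2 := by
    have : ∑ φ ∈ ({χ, ψ} : Finset (IrrCharacter G)), Cfsg.charDegree (φ : G → ℂ) ^ 2 ≤
        ∑ φ : IrrCharacter G, Cfsg.charDegree (φ : G → ℂ) ^ 2 :=
      Finset.sum_le_sum_of_subset (Finset.subset_univ _)
    rwa [Finset.sum_pair hne.symm] at this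
  have hψd : Cfsg.charDegree (ψ : G → ℂ) = 1 := by
    have := Cfsg.Agent.Helper74.charDegree_cast (Cfsg.Agent.Helper74.irr_isCharacter ψ)
    rw [hψ] at this; exact_mod_cast this
  rw [hψd, hnat] at h2
  omega

end Cfsg.Agent.Helper29.Mult
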