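import Mathlib
import Cfsg.Prelude.Def_Perm
import Cfsg.Agent.Helper61.NeuDefs
import Cfsg.Agent.Helper61.N2Defs
import Cfsg.Agent.Helper61.N2Lab

set_option autoImplicit false

/-! S3612 (helper61), piece (ESTAB). -/

namespace Cfsg.Agent.Helper29.N2

open MulAction Cfsg.Agent.Helper61.Neu Cfsg.Agent.Helper61.N2

/-- (ESTAB) an affine map fixing `e j0` and a set with non-zero centred moment is trivial -/
theorem eq_one_of_image_eq {G : Type*} [Group G] {Ω : Type*} [Fintype Ω] [DecidableEq Ω]
    [MulAction G Ω] [FaithfulSMul G Ω] {p : ℕ} [Fact p.Prime] (e : ZMod p ≃ Ω) (n : G)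
    (k c : ZMod p) (hn : ∀ j, n • e j = e (k * j + c)) (j0 : ZMod p) (hfix : n • e j0 = e j0)
    (S : Finset Ω) (hS : S.image (fun x => n • x) = S)
    (hσ : ∑ x ∈ S, (e.symm x - j0) ≠ 0) : n = 1 := by
  have hj0 : k * j0 + c = j0 := by
    have h := hn j0
    rw [hfix] at h
    exact (e.injective h).symm
  have hsymm : ∀ x : Ω, e.symm (n • x) = k * e.symm x + c := by
    intro x
    have h := hn (e.symm x)
    rw [Equiv.apply_symm_apply] at h
    rw [h, Equiv.symm_apply_apply]
  have hinj : Set.InjOn (fun x : Ω => n • x) (S : Set Ω) :=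
    fun x _ y _ h => MulAction.injective n h
  have hsum : ∑ x ∈ S, (e.symm x - j0) = k * ∑ x ∈ S, (e.symm x - j0) := by
    conv_lhs => rw [← hS]
    rw [Finset.sum_image hinj, Finset.mul_sum]
    apply Finset.sum_congr rfl
    intro x _
    rw [hsymm x]
    calc k * e.symm x + c - j0 = k * e.symm x + c - (k * j0 + c) := by rw [hj0]
      _ = k * (e.symm x - j0) := by ring
  have hk : k = 1 := by
    have h1 : (k - 1) * ∑ x ∈ S, (e.symm x - j0) = 0 := by
      rw [sub_mul, one_mul, ← hsum, sub_self]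
    rcases mul_eq_zero.mp h1 with h | h
    · exact sub_eq_zero.mp h
    · exact absurd h hσ
  have hc : c = 0 := by
    rw [hk, one_mul] at hj0
    exact add_eq_left.mp hj0
  apply FaithfulSMul.eq_of_smul_eq_smul (α := Ω)
  intro ω
  rw [one_smul]
  have h := hn (e.symm ω)
  rw [Equiv.apply_symm_apply, hk, hc, one_mul, add_zero, Equiv.apply_symm_apply] at h
  exact h

end Cfsg.Agent.Helper29.N2
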