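import Mathlib
import Cfsg.Prelude.Def_Perm
import Cfsg.Agent.Helper61.NeuDefs
import Cfsg.Agent.Helper61.N2Defs
import Cfsg.Agent.Helper61.N2Lab

set_option autoImplicit false

/-! S3612 (helper61), piece (MOMB). -/

namespace Cfsg.Agent.Helper29.N2

open MulAction Cfsg.Agent.Helper61.Neu Cfsg.Agent.Helper61.N2

/-- (MOMB) if the heart is irreducible, `G = N A`, and `L` is a functional as in (KEY), then for
every non-constant sum-zero function `u` some `A`-translate of `u` is not killed by `L` -/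
theorem exists_moment_ne {G : Type*} [Group G] {Ω : Type*} [Fintype Ω] [MulAction G Ω]
    {K : Type*} [Field K]
    (hirr : ∀ W : Submodule K (Ω → K), (∀ g : G, ∀ f ∈ W, Cfsg.permRep K G Ω g f ∈ W) →
      (Cfsg.permConstants K G Ω).toSubmodule ≤ W →
      W ≤ (Cfsg.permSumZero K G Ω).toSubmodule →
      W = (Cfsg.permConstants K G Ω).toSubmodule ∨ W = (Cfsg.permSumZero K G Ω).toSubmodule)
    (hconst : (Cfsg.permConstants K G Ω).toSubmodule ≤ (Cfsg.permSumZero K G Ω).toSubmodule)
    (L : (Ω → K) →ₗ[K] K) (hL1 : L (fun _ => 1) = 0)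
    (hL0 : ∃ f ∈ (Cfsg.permSumZero K G Ω).toSubmodule, L f ≠ 0)
    (N A : Subgroup G)
    (hLN : ∀ n ∈ N, ∀ f ∈ (Cfsg.permSumZero K G Ω).toSubmodule, L f = 0 →
      L (Cfsg.permRep K G Ω n f) = 0)
    (hcov : ∀ g : G, ∃ n ∈ N, ∃ x ∈ A, g = n * x)
    (u : Ω → K) (hu : u ∈ (Cfsg.permSumZero K G Ω).toSubmodule)
    (hu' : u ∉ (Cfsg.permConstants K G Ω).toSubmodule) :
    ∃ x ∈ A, L (Cfsg.permRep K G Ω x u) ≠ 0 := by
  classical
  by_contra hcon
  push Not at hcon
  set C : Submodule K (Ω → K) := (Cfsg.permConstants K G Ω).toSubmodule with hC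
  set Z : Submodule K (Ω → K) := (Cfsg.permSumZero K G Ω).toSubmodule with hZ
  have hCL : C ≤ LinearMap.ker L := by
    rw [hC]
    change Submodule.span K {fun _ => (1 : K)} ≤ LinearMap.ker L
    rw [Submodule.span_le, Set.singleton_subset_iff]
    exact hL1
  have hall : ∀ g : G, L (Cfsg.permRep K G Ω g u) = 0 := by
    intro g
    obtain ⟨n, hn, x, hx, hg⟩ := hcov g
    rw [hg, map_mul, Module.End.mul_apply]
    exact hLN n hn _ ((Cfsg.permSumZero K G Ω).apply_mem_toSubmodule x hu) (hcon x hx)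
  set R : Set (Ω → K) := Set.range (fun g : G => Cfsg.permRep K G Ω g u) with hR
  set W : Submodule K (Ω → K) := Submodule.span K R ⊔ C with hW
  have hWinv : ∀ g : G, ∀ f' ∈ W, Cfsg.permRep K G Ω g f' ∈ W := by
    intro g f' hf'
    obtain ⟨a, ha, b, hb, rfl⟩ := Submodule.mem_sup.1 hf'
    rw [map_add]
    apply Submodule.add_mem
    · apply le_sup_left (a := Submodule.span K R) (b := C)
      have h3 : Cfsg.permRep K G Ω g a ∈ (Submodule.span K R).map (Cfsg.permRep K G Ω g) :=
        Submodule.mem_map_of_mem ha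
      rw [Submodule.map_span] at h3
      refine Submodule.span_mono ?_ h3
      rintro _ ⟨_, ⟨g', rfl⟩, rfl⟩
      refine ⟨g * g', ?_⟩
      change Cfsg.permRep K G Ω (g * g') u = _
      rw [map_mul, Module.End.mul_apply]
    · apply le_sup_right (a := Submodule.span K R) (b := C)
      exact (Cfsg.permConstants K G Ω).apply_mem_toSubmodule g hb
  have hCW : C ≤ W := le_sup_right
  have hWZ : W ≤ Z := by
    refine sup_le (Submodule.span_le.2 ?_) hconst
    rintro _ ⟨g, rfl⟩
    exact (Cfsg.permSumZero K G Ω).apply_mem_toSubmodule g hu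
  have hWL : W ≤ LinearMap.ker L := by
    refine sup_le (Submodule.span_le.2 ?_) hCL
    rintro _ ⟨g, rfl⟩
    exact hall g
  have hfW : u ∈ W := by
    apply le_sup_left (a := Submodule.span K R) (b := C)
    apply Submodule.subset_span
    refine ⟨1, ?_⟩
    change Cfsg.permRep K G Ω 1 u = u
    rw [map_one, Module.End.one_apply]
  rcases hirr W hWinv hCW hWZ with h | h
  · apply hu'
    rw [← h]
    exact hfW
  · obtain ⟨f₀, hf₀, hL⟩ := hL0
    apply hL
    have : f₀ ∈ W := by rw [h]; exact hf₀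
    exact hWL this

end Cfsg.Agent.Helper29.N2
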