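import Mathlib
import Cfsg.Prelude.Def_Perm
import Cfsg.Agent.Helper61.NeuDefs
import Cfsg.Agent.Helper61.N2Defs
import Cfsg.Agent.Helper61.N2Lab

set_option autoImplicit false
set_option linter.style.haveILetI false

/-! S3612 (helper61), piece (WRAP). -/

namespace Cfsg.Agent.Helper29.N2

open MulAction Cfsg.Agent.Helper61.Neu Cfsg.Agent.Helper61.N2
open scoped Pointwise

/-- (WRAP) primitivity of a point stabiliser from a statement about blocks in `Ω` -/
theorem isPreprimitive_of_blocks {G : Type*} [Group G] {Ω : Type*} [Fintype Ω] [DecidableEq Ω]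
    [MulAction G Ω]
    (h2 : ∀ a b c d : Ω, a ≠ b → c ≠ d → ∃ g : G, g • a = c ∧ g • b = d) (α : Ω)
    (h : ∀ B : Finset Ω, α ∉ B → (∃ β ∈ B, ∃ γ ∈ B, β ≠ γ) → (∃ δ, δ ≠ α ∧ δ ∉ B) →
      (∀ g : G, g • α = α → B.image (fun x => g • x) = B ∨
        Disjoint (B.image (fun x => g • x)) B) → False) :
    IsPreprimitive ↥(stabilizer G α) ↥(SubMulAction.ofStabilizer G α) := by
  classical
  haveI : IsPretransitive ↥(stabilizer G α) ↥(SubMulAction.ofStabilizer G α) := by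
    refine ⟨fun x y => ?_⟩
    obtain ⟨g, hgα, hgx⟩ := h2 α x.1 α y.1 (Ne.symm x.2) (Ne.symm y.2)
    refine ⟨⟨g, mem_stabilizer_iff.mpr hgα⟩, ?_⟩
    apply Subtype.ext
    exact hgx
  refine ⟨fun {B0} hB0 => ?_⟩
  by_contra hnt
  unfold IsTrivialBlock at hnt
  push Not at hnt
  obtain ⟨hns, hnu⟩ := hnt
  -- the finset in `Ω`
  set S0 : Set Ω := Subtype.val '' B0 with hS0
  set B : Finset Ω := (Set.toFinite S0).toFinset with hB
  have hmem : ∀ x, x ∈ B ↔ x ∈ S0 := fun x => Set.Finite.mem_toFinset _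
  have hcoe : (B : Set Ω) = S0 := Set.Finite.coe_toFinset _
  apply h B
  · rw [hmem]
    exact SubMulAction.notMem_val_image (G := G) B0
  · obtain ⟨x, hx, y, hy, hxy⟩ := hns
    refine ⟨x.1, (hmem _).mpr ⟨x, hx, rfl⟩, y.1, (hmem _).mpr ⟨y, hy, rfl⟩, ?_⟩
    exact fun e => hxy (Subtype.ext e)
  · obtain ⟨d, hd⟩ := (Set.ne_univ_iff_exists_notMem B0).mp hnu
    refine ⟨d.1, d.2, ?_⟩
    rw [hmem]
    rintro ⟨d', hd', e⟩
    exact hd (Subtype.ext e ▸ hd')
  · intro g hg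
    set g' : ↥(stabilizer G α) := ⟨g, mem_stabilizer_iff.mpr hg⟩ with hg'
    have himg : ((B.image (fun x => g • x) : Finset Ω) : Set Ω) = Subtype.val '' (g' • B0) := by
      rw [Finset.coe_image, hcoe, hS0]
      ext x
      constructor
      · rintro ⟨_, ⟨y, hy, rfl⟩, rfl⟩
        exact ⟨g' • y, Set.smul_mem_smul_set hy, rfl⟩
      · rintro ⟨_, ⟨y, hy, rfl⟩, rfl⟩
        exact ⟨y.1, ⟨y, hy, rfl⟩, rfl⟩
    rcases hB0.smul_eq_or_disjoint g' with h1 | h1
    · left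
      apply Finset.coe_injective
      rw [himg, h1, hcoe]
    · right
      rw [← Finset.disjoint_coe, himg, hcoe, hS0]
      exact (Set.disjoint_image_iff Subtype.val_injective).mpr h1

end Cfsg.Agent.Helper29.N2
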