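import Mathlib
import Cfsg.Agent.Helper99.O9.C7Defs

set_option autoImplicit false
set_option linter.unusedSectionVars false
set_option linter.unusedVariables false
set_option linter.unusedSimpArgs false

/-!
# (ARO4) for helper99's S2517 (C7) skeleton (helper29): closure of the exponent lists, top level (pure ℕ)

`q = 2 h + 1`; every quantity is a product of the atoms `2, 3, p, h, h + 1, 2h²+2h+1 = (q²+1)/2, 4h²+6h+3 = q²+q+1,
4h²+2h+1 = q²-q+1`; the witnesses of the divisibilities were computed by a small script (multiset difference).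
-/

namespace Cfsg.Agent.Helper29.O9

open Cfsg.Agent.Helper99.O9

/-- (ARO4) the top level; the block `(k, μ) = (4, 1)` is excluded. -/
theorem arO4 (q p : ℕ) (hq : Odd q) (hq3 : 3 ≤ q) (hp : p.Prime) (hp2 : p ≠ 2) (k μ e N' : ℕ)
    (hk : 1 ≤ k) (hμ : 1 ≤ μ) (hkμ : k * μ ≤ 4) (hne : ¬ (k = 4 ∧ μ = 1))
    (he : e = q ^ k + 1 ∨ e = q ^ k - 1) (hN' : N' ∈ LrO (4 - k * μ) q p) :
    ∃ N ∈ D9 q p, Nat.lcm (e * p ^ Nat.clog p μ) N' ∣ N := by
  obtain ⟨h, rfl⟩ := hq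
  have hp3 : 3 ≤ p := by
    have := hp.two_le
    omega
  have s1 : 2 * h + 1 - 1 = 2 * h := by omega
  have s1' : 2 * h + 1 + 1 = 2 * (h + 1) := by ring
  have s2 : (2 * h + 1) ^ 2 - 1 = 2 * 2 * h * (h + 1) := Nat.sub_eq_of_eq_add (by ring)
  have s2' : (2 * h + 1) ^ 2 + 1 = 2 * (2 * h ^ 2 + 2 * h + 1) := by ring
  have s3 : (2 * h + 1) ^ 3 - 1 = 2 * h * (4 * h ^ 2 + 6 * h + 3) := Nat.sub_eq_of_eq_add (by ring)
  have s3' : (2 * h + 1) ^ 3 + 1 = 2 * (h + 1) * (4 * h ^ 2 + 2 * h + 1) := by ring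
  have s4 : ((2 * h + 1) ^ 4 - 1) / 2 = 2 * 2 * h * (h + 1) * (2 * h ^ 2 + 2 * h + 1) := by
    have h4 : (2 * h + 1) ^ 4 - 1 = (2 * 2 * h * (h + 1) * (2 * h ^ 2 + 2 * h + 1)) * 2 :=
      Nat.sub_eq_of_eq_add (by ring)
    rw [h4, Nat.mul_div_cancel _ (by norm_num)]
  have t1 : 2 * (2 * h ^ 2 + 2 * h + 1) * (2 * h) / 2 = 2 * (2 * h ^ 2 + 2 * h + 1) * h := by
    have h4 : 2 * (2 * h ^ 2 + 2 * h + 1) * (2 * h) = (2 * (2 * h ^ 2 + 2 * h + 1) * h) * 2 := by ring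
    rw [h4, Nat.mul_div_cancel _ (by norm_num)]
  have t2 : 2 * (2 * h ^ 2 + 2 * h + 1) * (2 * (h + 1)) / 2 =
      2 * (2 * h ^ 2 + 2 * h + 1) * (h + 1) := by
    have h4 : 2 * (2 * h ^ 2 + 2 * h + 1) * (2 * (h + 1)) =
        (2 * (2 * h ^ 2 + 2 * h + 1) * (h + 1)) * 2 := by ring
    rw [h4, Nat.mul_div_cancel _ (by norm_num)]
  have u : 2 * 2 * h * (h + 1) / 2 = 2 * h * (h + 1) := by
    have h4 : 2 * 2 * h * (h + 1) = (2 * h * (h + 1)) * 2 := by ring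
    rw [h4, Nat.mul_div_cancel _ (by norm_num)]
  have c1 : Nat.clog p 1 = 0 := Nat.clog_one_right p
  have c2 : Nat.clog p 2 = 1 := Nat.clog_eq_one (by norm_num) (by omega)
  have c3 : Nat.clog p 3 = 1 := Nat.clog_eq_one (by norm_num) hp3
  have mA : 2 * 2 * h * (h + 1) * (2 * h ^ 2 + 2 * h + 1) ∈ D9 (2 * h + 1) p := by
    rw [mem_D9, s4]
    exact Or.inl rfl
  have mB : 2 * h * (4 * h ^ 2 + 6 * h + 3) * (h + 1) ∈ D9 (2 * h + 1) p := by
    rw [mem_D9, s3, s1']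
    right; left
    exact (Nat.div_eq_of_eq_mul_left (by norm_num) (by ring)).symm
  have mC : 2 * (h + 1) * (4 * h ^ 2 + 2 * h + 1) * h ∈ D9 (2 * h + 1) p := by
    rw [mem_D9, s3', s1]
    right; right; left
    exact (Nat.div_eq_of_eq_mul_left (by norm_num) (by ring)).symm
  have mD : p * (2 * (2 * h ^ 2 + 2 * h + 1) * (h + 1)) ∈ D9 (2 * h + 1) p := by
    rw [mem_D9, s2', s1', t2]
    right; right; right; left
    rfl
  have mE : p * (2 * (2 * h ^ 2 + 2 * h + 1) * h) ∈ D9 (2 * h + 1) p := by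
    rw [mem_D9, s2', s1, t1]
    right; right; right; right; left
    rfl
  have mG : p * (2 * 2 * h * (h + 1)) ∈ D9 (2 * h + 1) p := by
    rw [mem_D9, s2]
    right; right; right; right; right; left
    rfl
  have hcases : (k = 1 ∧ μ = 1) ∨ (k = 1 ∧ μ = 2) ∨ (k = 1 ∧ μ = 3) ∨ (k = 1 ∧ μ = 4) ∨
      (k = 2 ∧ μ = 1) ∨ (k = 2 ∧ μ = 2) ∨ (k = 3 ∧ μ = 1) := by
    have hk4 : k ≤ 4 := by nlinarith
    have hμ4 : μ ≤ 4 := by nlinarith
    interval_cases k <;> interval_cases μ <;> omega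
  rcases hcases with ⟨rfl, rfl⟩ | ⟨rfl, rfl⟩ | ⟨rfl, rfl⟩ | ⟨rfl, rfl⟩ | ⟨rfl, rfl⟩ | ⟨rfl, rfl⟩ | ⟨rfl, rfl⟩
  · -- k = 1, μ = 1
    have hN'' : N' ∈ LrO 3 (2 * h + 1) p := hN'
    rw [LrO_three] at hN''
    simp only [List.mem_cons, List.mem_singleton, List.not_mem_nil, or_false] at hN''
    rcases he with rfl | rfl
    · rcases hN'' with rfl | rfl | rfl | rfl | rfl
      · simp only [pow_one, pow_zero, mul_one, s1, s1', s2, s2', s3, s3', t1, t2, c1, c2, c3]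
        exact ⟨_, mB, Nat.lcm_dvd ⟨h * (4 * h ^ 2 + 6 * h + 3), by ring⟩ ⟨(h + 1), by ring⟩⟩
      · simp only [pow_one, pow_zero, mul_one, s1, s1', s2, s2', s3, s3', t1, t2, c1, c2, c3]
        exact ⟨_, mC, Nat.lcm_dvd ⟨h * (4 * h ^ 2 + 2 * h + 1), by ring⟩ ⟨h, by ring⟩⟩
      · simp only [pow_one, pow_zero, mul_one, s1, s1', s2, s2', s3, s3', t1, t2, c1, c2, c3]
        exact ⟨_, mA, Nat.lcm_dvd ⟨2 * h * (2 * h ^ 2 + 2 * h + 1), by ring⟩ ⟨2 * (h + 1), by ring⟩⟩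
      · simp only [pow_one, pow_zero, mul_one, s1, s1', s2, s2', s3, s3', t1, t2, c1, c2, c3]
        exact ⟨_, mA, Nat.lcm_dvd ⟨2 * h * (2 * h ^ 2 + 2 * h + 1), by ring⟩ ⟨2 * h, by ring⟩⟩
      · simp only [pow_one, pow_zero, mul_one, s1, s1', s2, s2', s3, s3', t1, t2, c1, c2, c3]
        exact ⟨_, mG, Nat.lcm_dvd ⟨2 * p * h, by ring⟩ ⟨1, by ring⟩⟩
    · rcases hN'' with rfl | rfl | rfl | rfl | rfl
      · simp only [pow_one, pow_zero, mul_one, s1, s1', s2, s2', s3, s3', t1, t2, c1, c2, c3]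
        exact ⟨_, mB, Nat.lcm_dvd ⟨(h + 1) * (4 * h ^ 2 + 6 * h + 3), by ring⟩ ⟨(h + 1), by ring⟩⟩
      · simp only [pow_one, pow_zero, mul_one, s1, s1', s2, s2', s3, s3', t1, t2, c1, c2, c3]
        exact ⟨_, mC, Nat.lcm_dvd ⟨(h + 1) * (4 * h ^ 2 + 2 * h + 1), by ring⟩ ⟨h, by ring⟩⟩
      · simp only [pow_one, pow_zero, mul_one, s1, s1', s2, s2', s3, s3', t1, t2, c1, c2, c3]
        exact ⟨_, mA, Nat.lcm_dvd ⟨2 * (h + 1) * (2 * h ^ 2 + 2 * h + 1), by ring⟩ ⟨2 * (h + 1), by ring⟩⟩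
      · simp only [pow_one, pow_zero, mul_one, s1, s1', s2, s2', s3, s3', t1, t2, c1, c2, c3]
        exact ⟨_, mA, Nat.lcm_dvd ⟨2 * (h + 1) * (2 * h ^ 2 + 2 * h + 1), by ring⟩ ⟨2 * h, by ring⟩⟩
      · simp only [pow_one, pow_zero, mul_one, s1, s1', s2, s2', s3, s3', t1, t2, c1, c2, c3]
        exact ⟨_, mG, Nat.lcm_dvd ⟨2 * p * (h + 1), by ring⟩ ⟨1, by ring⟩⟩
  · -- k = 1, μ = 2
    have hN'' : N' ∈ LrO 2 (2 * h + 1) p := hN'
    rw [LrO_two] at hN''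
    simp only [List.mem_cons, List.mem_singleton, List.not_mem_nil, or_false] at hN''
    rcases he with rfl | rfl
    · rcases hN'' with rfl | rfl | rfl | rfl
      · simp only [pow_one, pow_zero, mul_one, s1, s1', s2, s2', s3, s3', t1, t2, c1, c2, c3]
        exact ⟨_, mG, Nat.lcm_dvd ⟨2 * h, by ring⟩ ⟨p, by ring⟩⟩
      · simp only [pow_one, pow_zero, mul_one, s1, s1', s2, s2', s3, s3', t1, t2, c1, c2, c3]
        exact ⟨_, mD, Nat.lcm_dvd ⟨(2 * h ^ 2 + 2 * h + 1), by ring⟩ ⟨p * (h + 1), by ring⟩⟩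
      · simp only [pow_one, pow_zero, mul_one, s1, s1', s2, s2', s3, s3', t1, t2, c1, c2, c3]
        exact ⟨_, mG, Nat.lcm_dvd ⟨2 * h, by ring⟩ ⟨2 * (h + 1), by ring⟩⟩
      · simp only [pow_one, pow_zero, mul_one, s1, s1', s2, s2', s3, s3', t1, t2, c1, c2, c3]
        exact ⟨_, mD, Nat.lcm_dvd ⟨(2 * h ^ 2 + 2 * h + 1), by ring⟩ ⟨(2 * h ^ 2 + 2 * h + 1), by ring⟩⟩
    · rcases hN'' with rfl | rfl | rfl | rfl
      · simp only [pow_one, pow_zero, mul_one, s1, s1', s2, s2', s3, s3', t1, t2, c1, c2, c3]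
        exact ⟨_, mG, Nat.lcm_dvd ⟨2 * (h + 1), by ring⟩ ⟨p, by ring⟩⟩
      · simp only [pow_one, pow_zero, mul_one, s1, s1', s2, s2', s3, s3', t1, t2, c1, c2, c3]
        exact ⟨_, mE, Nat.lcm_dvd ⟨(2 * h ^ 2 + 2 * h + 1), by ring⟩ ⟨p * h, by ring⟩⟩
      · simp only [pow_one, pow_zero, mul_one, s1, s1', s2, s2', s3, s3', t1, t2, c1, c2, c3]
        exact ⟨_, mE, Nat.lcm_dvd ⟨(2 * h ^ 2 + 2 * h + 1), by ring⟩ ⟨(2 * h ^ 2 + 2 * h + 1), by ring⟩⟩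
      · simp only [pow_one, pow_zero, mul_one, s1, s1', s2, s2', s3, s3', t1, t2, c1, c2, c3]
        exact ⟨_, mG, Nat.lcm_dvd ⟨2 * (h + 1), by ring⟩ ⟨2 * h, by ring⟩⟩
  · -- k = 1, μ = 3
    have hN'' : N' ∈ LrO 1 (2 * h + 1) p := hN'
    rw [LrO_one] at hN''
    simp only [List.mem_cons, List.mem_singleton, List.not_mem_nil, or_false] at hN''
    rcases he with rfl | rfl
    · rcases hN'' with rfl | rfl
      · simp only [pow_one, pow_zero, mul_one, s1, s1', s2, s2', s3, s3', t1, t2, c1, c2, c3]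
        exact ⟨_, mG, Nat.lcm_dvd ⟨2 * h, by ring⟩ ⟨2 * p * (h + 1), by ring⟩⟩
      · simp only [pow_one, pow_zero, mul_one, s1, s1', s2, s2', s3, s3', t1, t2, c1, c2, c3]
        exact ⟨_, mD, Nat.lcm_dvd ⟨(2 * h ^ 2 + 2 * h + 1), by ring⟩ ⟨p * (2 * h ^ 2 + 2 * h + 1), by ring⟩⟩
    · rcases hN'' with rfl | rfl
      · simp only [pow_one, pow_zero, mul_one, s1, s1', s2, s2', s3, s3', t1, t2, c1, c2, c3]
        exact ⟨_, mE, Nat.lcm_dvd ⟨(2 * h ^ 2 + 2 * h + 1), by ring⟩ ⟨p * (2 * h ^ 2 + 2 * h + 1), by ring⟩⟩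
      · simp only [pow_one, pow_zero, mul_one, s1, s1', s2, s2', s3, s3', t1, t2, c1, c2, c3]
        exact ⟨_, mG, Nat.lcm_dvd ⟨2 * (h + 1), by ring⟩ ⟨2 * p * h, by ring⟩⟩
  · -- k = 1, μ = 4
    have hN'' : N' ∈ LrO 0 (2 * h + 1) p := hN'
    rw [LrO_zero] at hN''
    simp only [List.mem_cons, List.mem_singleton, List.not_mem_nil, or_false] at hN''
    rcases he with rfl | rfl
    · rcases hN'' with rfl
      rcases eq_or_ne p 3 with rfl | hp3'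
      · have c4 : Nat.clog 3 4 = 2 := by decide
        have mH : 3 * 3 * 2 * h * (h + 1) ∈ D9 (2 * h + 1) 3 := by
          rw [mem_D9]; right; right; right; right; right; right
          refine ⟨rfl, ?_⟩
          rw [s2, u]; ring
        simp only [pow_one, pow_zero, mul_one, s1, s1', c4]
        exact ⟨_, mH, Nat.lcm_dvd ⟨h, by ring⟩ ⟨2 * 3 * 3 * h * (h + 1), by ring⟩⟩
      · have c4 : Nat.clog p 4 = 1 := Nat.clog_eq_one (by norm_num) (by omega)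
        simp only [pow_one, pow_zero, mul_one, s1, s1', c4]
        exact ⟨_, mD, Nat.lcm_dvd ⟨(2 * h ^ 2 + 2 * h + 1), by ring⟩ ⟨2 * p * (h + 1) * (2 * h ^ 2 + 2 * h + 1), by ring⟩⟩
    · rcases hN'' with rfl
      rcases eq_or_ne p 3 with rfl | hp3'
      · have c4 : Nat.clog 3 4 = 2 := by decide
        have mH : 3 * 3 * 2 * h * (h + 1) ∈ D9 (2 * h + 1) 3 := by
          rw [mem_D9]; right; right; right; right; right; right
          refine ⟨rfl, ?_⟩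
          rw [s2, u]; ring
        simp only [pow_one, pow_zero, mul_one, s1, s1', c4]
        exact ⟨_, mH, Nat.lcm_dvd ⟨(h + 1), by ring⟩ ⟨2 * 3 * 3 * h * (h + 1), by ring⟩⟩
      · have c4 : Nat.clog p 4 = 1 := Nat.clog_eq_one (by norm_num) (by omega)
        simp only [pow_one, pow_zero, mul_one, s1, s1', c4]
        exact ⟨_, mE, Nat.lcm_dvd ⟨(2 * h ^ 2 + 2 * h + 1), by ring⟩ ⟨2 * p * h * (2 * h ^ 2 + 2 * h + 1), by ring⟩⟩
  · -- k = 2, μ = 1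
    have hN'' : N' ∈ LrO 2 (2 * h + 1) p := hN'
    rw [LrO_two] at hN''
    simp only [List.mem_cons, List.mem_singleton, List.not_mem_nil, or_false] at hN''
    rcases he with rfl | rfl
    · rcases hN'' with rfl | rfl | rfl | rfl
      · simp only [pow_one, pow_zero, mul_one, s1, s1', s2, s2', s3, s3', t1, t2, c1, c2, c3]
        exact ⟨_, mA, Nat.lcm_dvd ⟨2 * h * (h + 1), by ring⟩ ⟨(2 * h ^ 2 + 2 * h + 1), by ring⟩⟩
      · simp only [pow_one, pow_zero, mul_one, s1, s1', s2, s2', s3, s3', t1, t2, c1, c2, c3]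
        exact ⟨_, mA, Nat.lcm_dvd ⟨2 * h * (h + 1), by ring⟩ ⟨2 * h * (h + 1), by ring⟩⟩
      · simp only [pow_one, pow_zero, mul_one, s1, s1', s2, s2', s3, s3', t1, t2, c1, c2, c3]
        exact ⟨_, mE, Nat.lcm_dvd ⟨p * h, by ring⟩ ⟨(2 * h ^ 2 + 2 * h + 1), by ring⟩⟩
      · simp only [pow_one, pow_zero, mul_one, s1, s1', s2, s2', s3, s3', t1, t2, c1, c2, c3]
        exact ⟨_, mD, Nat.lcm_dvd ⟨p * (h + 1), by ring⟩ ⟨(2 * h ^ 2 + 2 * h + 1), by ring⟩⟩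
    · rcases hN'' with rfl | rfl | rfl | rfl
      · simp only [pow_one, pow_zero, mul_one, s1, s1', s2, s2', s3, s3', t1, t2, c1, c2, c3]
        exact ⟨_, mA, Nat.lcm_dvd ⟨(2 * h ^ 2 + 2 * h + 1), by ring⟩ ⟨(2 * h ^ 2 + 2 * h + 1), by ring⟩⟩
      · simp only [pow_one, pow_zero, mul_one, s1, s1', s2, s2', s3, s3', t1, t2, c1, c2, c3]
        exact ⟨_, mA, Nat.lcm_dvd ⟨(2 * h ^ 2 + 2 * h + 1), by ring⟩ ⟨2 * h * (h + 1), by ring⟩⟩
      · simp only [pow_one, pow_zero, mul_one, s1, s1', s2, s2', s3, s3', t1, t2, c1, c2, c3]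
        exact ⟨_, mG, Nat.lcm_dvd ⟨p, by ring⟩ ⟨2 * (h + 1), by ring⟩⟩
      · simp only [pow_one, pow_zero, mul_one, s1, s1', s2, s2', s3, s3', t1, t2, c1, c2, c3]
        exact ⟨_, mG, Nat.lcm_dvd ⟨p, by ring⟩ ⟨2 * h, by ring⟩⟩
  · -- k = 2, μ = 2
    have hN'' : N' ∈ LrO 0 (2 * h + 1) p := hN'
    rw [LrO_zero] at hN''
    simp only [List.mem_cons, List.mem_singleton, List.not_mem_nil, or_false] at hN''
    rcases he with rfl | rfl
    · rcases hN'' with rfl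
      · simp only [pow_one, pow_zero, mul_one, s1, s1', s2, s2', s3, s3', t1, t2, c1, c2, c3]
        exact ⟨_, mD, Nat.lcm_dvd ⟨(h + 1), by ring⟩ ⟨2 * p * (h + 1) * (2 * h ^ 2 + 2 * h + 1), by ring⟩⟩
    · rcases hN'' with rfl
      · simp only [pow_one, pow_zero, mul_one, s1, s1', s2, s2', s3, s3', t1, t2, c1, c2, c3]
        exact ⟨_, mG, Nat.lcm_dvd ⟨1, by ring⟩ ⟨2 * 2 * p * h * (h + 1), by ring⟩⟩
  · -- k = 3, μ = 1
    have hN'' : N' ∈ LrO 1 (2 * h + 1) p := hN'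
    rw [LrO_one] at hN''
    simp only [List.mem_cons, List.mem_singleton, List.not_mem_nil, or_false] at hN''
    rcases he with rfl | rfl
    · rcases hN'' with rfl | rfl
      · simp only [pow_one, pow_zero, mul_one, s1, s1', s2, s2', s3, s3', t1, t2, c1, c2, c3]
        exact ⟨_, mC, Nat.lcm_dvd ⟨h, by ring⟩ ⟨(h + 1) * (4 * h ^ 2 + 2 * h + 1), by ring⟩⟩
      · simp only [pow_one, pow_zero, mul_one, s1, s1', s2, s2', s3, s3', t1, t2, c1, c2, c3]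
        exact ⟨_, mC, Nat.lcm_dvd ⟨h, by ring⟩ ⟨h * (4 * h ^ 2 + 2 * h + 1), by ring⟩⟩
    · rcases hN'' with rfl | rfl
      · simp only [pow_one, pow_zero, mul_one, s1, s1', s2, s2', s3, s3', t1, t2, c1, c2, c3]
        exact ⟨_, mB, Nat.lcm_dvd ⟨(h + 1), by ring⟩ ⟨(h + 1) * (4 * h ^ 2 + 6 * h + 3), by ring⟩⟩
      · simp only [pow_one, pow_zero, mul_one, s1, s1', s2, s2', s3, s3', t1, t2, c1, c2, c3]
        exact ⟨_, mB, Nat.lcm_dvd ⟨(h + 1), by ring⟩ ⟨h * (4 * h ^ 2 + 6 * h + 3), by ring⟩⟩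

end Cfsg.Agent.Helper29.O9
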