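import Mathlib
import Cfsg.Agent.Helper99.O9.Defs
import Cfsg.Agent.Helper99.O9.C7Defs

set_option autoImplicit false
set_option linter.unusedSectionVars false
set_option linter.unusedVariables false

/-!
# (SEMIP) for helper99's S2517 case (C7): a semiregular isometry has order prime to the characteristic
-/

namespace Cfsg.Agent.Helper29.O9

open Matrix Polynomial Cfsg.Agent.Helper99.O9

universe u

variable {F : Type u} [Field F] [Fintype F]

/-- powers of the matrix of `g` are the matrices of the powers -/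
theorem SEMIP_M_pow (P : OPair F) (j : ℕ) :
    P.M ^ j = (((P.g ^ j : ↥(Cfsg.isometryGroup F ⇑P.Q)) : GL P.ι F) : Matrix P.ι P.ι F) := by
  rw [OPair.M_def]
  simp

/-- (SEMIP) an element of order `p` is unipotent -/
theorem not_dvd_ord_of_semi {P : OPair F} (h : P.Semi) (hd : 1 ≤ P.dim) : ¬ ringChar F ∣ P.ord := by
  classical
  intro hdvd
  have : Fact (ringChar F).Prime := ⟨CharP.char_is_prime F (ringChar F)⟩
  have hp : (ringChar F).Prime := Fact.out
  obtain ⟨j, hj⟩ := hdvd
  rw [OPair.dim_def] at hd
  have : Nonempty P.ι := Fintype.card_pos_iff.mp hd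
  have : CharP (Matrix P.ι P.ι F) (ringChar F) := inferInstance
  have : Finite ↥(Cfsg.isometryGroup F ⇑P.Q) := inferInstance
  have hordpos : 0 < P.ord := by
    rw [OPair.ord_def]; exact orderOf_pos _
  have hjpos : 0 < j := by
    rcases Nat.eq_zero_or_pos j with h0 | h0
    · rw [h0, Nat.mul_zero] at hj; omega
    · exact h0
  -- `M ^ ord = 1`
  have hMord : P.M ^ P.ord = 1 := by
    rw [SEMIP_M_pow, OPair.ord_def, pow_orderOf_eq_one]; rfl
  -- `M ^ j ≠ 1`
  have hMj : P.M ^ j ≠ 1 := by
    intro h1
    rw [SEMIP_M_pow] at h1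
    have hg : P.g ^ j = 1 := by
      apply Subtype.ext
      apply Units.ext
      exact h1
    have hdv : P.ord ∣ j := by
      rw [OPair.ord_def]; exact orderOf_dvd_of_pow_eq_one hg
    have hle : P.ord ≤ j := Nat.le_of_dvd hjpos hdv
    have h2 : 2 ≤ ringChar F := hp.two_le
    have : 2 * j ≤ ringChar F * j := Nat.mul_le_mul_right j h2
    omega
  have hunit : IsUnit (P.M ^ j - 1) := by
    rcases (OPair.semi_def P).mp h j with h1 | h1
    · exact absurd h1 hMj
    · exact h1
  have hpow : (P.M ^ j - 1) ^ ringChar F = 0 := by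
    rw [sub_pow_char_of_commute (ringChar F) (Commute.one_right _), one_pow, ← pow_mul, Nat.mul_comm, ← hj, hMord,
      sub_self]
  have h0 : IsUnit (0 : Matrix P.ι P.ι F) := by
    rw [← hpow]; exact hunit.pow _
  exact not_isUnit_zero h0

end Cfsg.Agent.Helper29.O9
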