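import Mathlib
import Cfsg.Agent.Helper62.Ore.Defs

/-!
# (DET) for helper62's S2444 skeleton (helper29): the relation polynomial of a cyclic vector is the
characteristic polynomial; in particular its constant term is `± det`
-/

set_option autoImplicit false

namespace Cfsg.Agent.Helper29.Ore

open Polynomial Module Cfsg.Agent.Helper62.Ore

variable {F : Type*} [Field F] {V : Type*} [AddCommGroup V] [Module F V]

/-- a polynomial of degree `< n` killing a vector with `n` independent Krylov vectors vanishes -/
theorem DET_eq_zero_of_aeval {n : ℕ} {M : Module.End F V} {v : V} (hM : Cyc n M v) (d : F[X])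
    (hd : d.degree < n) (h0 : (aeval M d) v = 0) : d = 0 := by
  by_contra hne
  have hnat : d.natDegree < n := (Polynomial.natDegree_lt_iff_degree_lt hne).2 hd
  rw [Polynomial.aeval_eq_sum_range' hnat, LinearMap.sum_apply] at h0
  simp only [LinearMap.smul_apply] at h0
  have h1 : ∑ i : Fin n, d.coeff (i : ℕ) • (M ^ (i : ℕ)) v = 0 := by
    rw [Fin.sum_univ_eq_sum_range (fun i => d.coeff i • (M ^ i) v) n]
    exact h0
  have hM0 : LinearIndependent F (fun i : Fin n => (M ^ (i : ℕ)) v) := hM
  have h2 := Fintype.linearIndependent_iff.1 hM0 (fun i => d.coeff (i : ℕ)) h1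
  apply hne
  ext i
  rw [Polynomial.coeff_zero]
  by_cases hi : i < n
  · exact h2 ⟨i, hi⟩
  · exact Polynomial.coeff_eq_zero_of_natDegree_lt (by omega)

/-- (DET) the relation polynomial of a cyclic vector is the characteristic polynomial; in
particular its constant term is `± det`. -/
theorem det_of_rel [FiniteDimensional F V] {n : ℕ} (hn : finrank F V = n)
    {M : Module.End F V} {v : V} {f : F[X]} (hM : Cyc n M v) (hf : Rel n M v f) :
    LinearMap.det M = (-1) ^ n * f.coeff 0 := by
  obtain ⟨hmon, hdeg, h0⟩ := hf
  have hcm : M.charpoly.Monic := LinearMap.charpoly_monic M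
  have hcd : M.charpoly.natDegree = n := by rw [LinearMap.charpoly_natDegree, hn]
  have hc0 : (aeval M M.charpoly) v = 0 := by
    rw [LinearMap.aeval_self_charpoly, LinearMap.zero_apply]
  have hdlt : (M.charpoly - f).degree < n := by
    have hdd : M.charpoly.degree = f.degree := by
      rw [Polynomial.degree_eq_natDegree hcm.ne_zero, Polynomial.degree_eq_natDegree hmon.ne_zero,
        hcd, hdeg]
    have h1 := Polynomial.degree_sub_lt_left hdd hcm.ne_zero (by rw [hcm.leadingCoeff, hmon.leadingCoeff])
    rwa [Polynomial.degree_eq_natDegree hcm.ne_zero, hcd] at h1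
  have hd0 : (aeval M (M.charpoly - f)) v = 0 := by
    rw [map_sub, LinearMap.sub_apply, hc0, h0, sub_zero]
  have heq : M.charpoly = f := sub_eq_zero.1 (DET_eq_zero_of_aeval hM _ hdlt hd0)
  rw [LinearMap.det_eq_sign_charpoly_coeff, hn, heq]

end Cfsg.Agent.Helper29.Ore
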