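import Mathlib
import Cfsg.Agent.Helper62.Ore.Defs

/-!
# (DUAL) for helper62's S2444 skeleton (helper29): if `ker ε` contains no nonzero `B`-invariant subspace,
there is a cyclic vector `ζ` whose Krylov basis has `ε` as last coordinate functional
-/

set_option autoImplicit false

namespace Cfsg.Agent.Helper29.Ore

open Polynomial Module Cfsg.Agent.Helper62.Ore

variable {F : Type*} [Field F] {V : Type*} [AddCommGroup V] [Module F V]

/-- the top power in terms of the lower ones -/
theorem DUAL_rel_top {n : ℕ} {M : Module.End F V} {v : V} {f : F[X]} (hf : Rel n M v f) :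
    (M ^ n) v = - ∑ j ∈ Finset.range n, f.coeff j • (M ^ j) v := by
  obtain ⟨hmon, hdeg, h0⟩ := hf
  rw [Polynomial.aeval_eq_sum_range, hdeg, Finset.sum_range_succ] at h0
  have hlead : f.coeff n = 1 := by
    rw [← hdeg]
    exact hmon.coeff_natDegree
  rw [hlead, one_smul, LinearMap.add_apply, LinearMap.sum_apply] at h0
  simp only [LinearMap.smul_apply] at h0
  exact eq_neg_of_add_eq_zero_right h0

/-- (DUAL) if `ker ε` contains no nonzero `B`-invariant subspace, there is a cyclic vector `ζ`
whose Krylov basis has `ε` as last coordinate functional. -/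
theorem exists_dual_cyc [FiniteDimensional F V] {n : ℕ} (hn : finrank F V = n) (hn1 : 1 ≤ n)
    (B : Module.End F V) (ε : Module.Dual F V)
    (h : ∀ W : Submodule F V, W ≤ LinearMap.ker ε → (∀ x ∈ W, B x ∈ W) → W = ⊥) :
    ∃ ζ : V, Cyc n B ζ ∧ (∀ k, k + 1 < n → ε ((B ^ k) ζ) = 0) ∧ ε ((B ^ (n - 1)) ζ) = 1 := by
  classical
  let Φ : V →ₗ[F] (Fin n → F) := LinearMap.pi (fun k : Fin n => ε ∘ₗ (B ^ (k : ℕ)))
  have hΦ : ∀ (x : V) (k : Fin n), Φ x k = ε ((B ^ (k : ℕ)) x) := fun x k => rfl
  have hrel : ∀ x : V, (B ^ n) x = - ∑ j ∈ Finset.range n, B.charpoly.coeff j • (B ^ j) x := by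
    intro x
    apply DUAL_rel_top
    refine ⟨LinearMap.charpoly_monic B, by rw [LinearMap.charpoly_natDegree, hn], ?_⟩
    rw [LinearMap.aeval_self_charpoly, LinearMap.zero_apply]
  have hker : LinearMap.ker Φ = ⊥ := by
    apply h
    · intro x hx
      rw [LinearMap.mem_ker] at hx ⊢
      have h0 := congrFun hx ⟨0, hn1⟩
      rw [hΦ] at h0
      simpa using h0
    · intro x hx
      rw [LinearMap.mem_ker] at hx ⊢
      have hx' : ∀ k, k < n → ε ((B ^ k) x) = 0 := fun k hk => congrFun hx ⟨k, hk⟩
      funext k
      show ε ((B ^ (k : ℕ)) (B x)) = 0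
      have e : (B ^ (k : ℕ)) (B x) = (B ^ ((k : ℕ) + 1)) x := by
        rw [pow_succ, Module.End.mul_apply]
      rw [e]
      by_cases hk : (k : ℕ) + 1 < n
      · exact hx' _ hk
      · have hkn : (k : ℕ) + 1 = n := by
          have := k.2
          omega
        rw [hkn, hrel x, map_neg, map_sum, neg_eq_zero]
        apply Finset.sum_eq_zero
        intro j hj
        rw [map_smul, hx' j (Finset.mem_range.1 hj), smul_zero]
  have hinj : Function.Injective Φ := LinearMap.ker_eq_bot.1 hker
  have hsurj : Function.Surjective Φ :=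
    (LinearMap.injective_iff_surjective_of_finrank_eq_finrank
      (by rw [hn, Module.finrank_fin_fun])).1 hinj
  obtain ⟨ζ, hζ⟩ := hsurj (Pi.single ⟨n - 1, by omega⟩ 1)
  have hε : ∀ k, k < n → ε ((B ^ k) ζ) = if k = n - 1 then 1 else 0 := by
    intro k hk
    have h1 := congrFun hζ ⟨k, hk⟩
    rw [hΦ] at h1
    rw [h1, Pi.single_apply]
    simp [Fin.ext_iff]
  refine ⟨ζ, ?_, ?_, ?_⟩
  · show LinearIndependent F (fun i : Fin n => (B ^ (i : ℕ)) ζ)
    rw [Fintype.linearIndependent_iff]
    intro c hc
    have Q : ∀ s : ℕ, ∀ j : Fin n, n ≤ (j : ℕ) + s → c j = 0 := by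
      intro s
      induction s with
      | zero =>
        intro j hj
        have := j.2
        omega
      | succ s ih =>
        intro j hj
        by_cases hj' : n ≤ (j : ℕ) + s
        · exact ih j hj'
        · have hjs : s + (j : ℕ) = n - 1 := by omega
          have h1 : ε ((B ^ s) (∑ i, c i • (B ^ (i : ℕ)) ζ)) = 0 := by
            rw [hc, map_zero, map_zero]
          rw [map_sum, map_sum, Finset.sum_eq_single j] at h1
          · rw [map_smul, map_smul, ← Module.End.mul_apply, ← pow_add, hjs, hε _ (by omega),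
              if_pos rfl, smul_eq_mul, mul_one] at h1
            exact h1
          · intro i _ hij
            rw [map_smul, map_smul, ← Module.End.mul_apply, ← pow_add]
            by_cases hi : n ≤ (i : ℕ) + s
            · rw [ih i hi, zero_smul]
            · rw [hε _ (by omega), if_neg, smul_zero]
              intro he
              apply hij
              apply Fin.ext
              omega
          · intro hh
            exact absurd (Finset.mem_univ _) hh
    intro i
    exact Q n i (by omega)
  · intro k hk
    rw [hε k (by omega), if_neg (by omega)]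
  · rw [hε (n - 1) (by omega), if_pos rfl]

end Cfsg.Agent.Helper29.Ore
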