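import Mathlib
import Cfsg.Agent.Helper62.Ore.Defs

/-!
# (SIM) for helper62's S2444 skeleton (helper29): two operators with cyclic vectors and the same relation
polynomial are conjugate
-/

set_option autoImplicit false

namespace Cfsg.Agent.Helper29.Ore

open Polynomial Module Cfsg.Agent.Helper62.Ore

variable {F : Type*} [Field F] {V : Type*} [AddCommGroup V] [Module F V]

/-- the top power in terms of the lower ones -/
theorem SIM_rel_top {n : ℕ} {M : Module.End F V} {v : V} {f : F[X]} (hf : Rel n M v f) :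
    (M ^ n) v = - ∑ j ∈ Finset.range n, f.coeff j • (M ^ j) v := by
  obtain ⟨hmon, hdeg, h0⟩ := hf
  rw [Polynomial.aeval_eq_sum_range, hdeg, Finset.sum_range_succ] at h0
  have hlead : f.coeff n = 1 := by
    rw [← hdeg]
    exact hmon.coeff_natDegree
  rw [hlead, one_smul, LinearMap.add_apply, LinearMap.sum_apply] at h0
  simp only [LinearMap.smul_apply] at h0
  exact eq_neg_of_add_eq_zero_right h0

/-- (SIM) two operators with cyclic vectors and the same relation polynomial are conjugate. -/
theorem exists_conj_of_cyc [FiniteDimensional F V] {n : ℕ} (hn : finrank F V = n)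
    {M M' : Module.End F V} {v v' : V} {f : F[X]}
    (hM : Cyc n M v) (hf : Rel n M v f) (hM' : Cyc n M' v') (hf' : Rel n M' v' f) :
    ∃ X : V ≃ₗ[F] V, ∀ x, X (M x) = M' (X x) := by
  classical
  have hcard : Fintype.card (Fin n) = finrank F V := by rw [Fintype.card_fin, hn]
  have hM0 : LinearIndependent F (fun i : Fin n => (M ^ (i : ℕ)) v) := hM
  have hM0' : LinearIndependent F (fun i : Fin n => (M' ^ (i : ℕ)) v') := hM'
  let b : Basis (Fin n) F V := basisOfLinearIndependentOfCardEqFinrank' _ hM0 hcard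
  let b' : Basis (Fin n) F V := basisOfLinearIndependentOfCardEqFinrank' _ hM0' hcard
  have hb : ∀ i : Fin n, b i = (M ^ (i : ℕ)) v := fun i =>
    congrFun (coe_basisOfLinearIndependentOfCardEqFinrank' _ hM0 hcard) i
  have hb' : ∀ i : Fin n, b' i = (M' ^ (i : ℕ)) v' := fun i =>
    congrFun (coe_basisOfLinearIndependentOfCardEqFinrank' _ hM0' hcard) i
  let X : V ≃ₗ[F] V := b.equiv b' (Equiv.refl _)
  have hX : ∀ i : Fin n, X (b i) = b' i := by
    intro i
    show (b.equiv b' (Equiv.refl _)) (b i) = b' i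
    rw [Basis.equiv_apply]
    rfl
  have hXpow : ∀ j : ℕ, j < n → X ((M ^ j) v) = (M' ^ j) v' := by
    intro j hj
    have h1 := hX ⟨j, hj⟩
    rw [hb, hb'] at h1
    exact h1
  refine ⟨X, ?_⟩
  have hlin : (X : V →ₗ[F] V) ∘ₗ M = M' ∘ₗ (X : V →ₗ[F] V) := by
    apply b.ext
    intro i
    show X (M (b i)) = M' (X (b i))
    rw [hX, hb, hb']
    have e1 : M ((M ^ (i : ℕ)) v) = (M ^ ((i : ℕ) + 1)) v := by
      rw [pow_succ', Module.End.mul_apply]
    have e2 : M' ((M' ^ (i : ℕ)) v') = (M' ^ ((i : ℕ) + 1)) v' := by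
      rw [pow_succ', Module.End.mul_apply]
    rw [e1, e2]
    by_cases hi : (i : ℕ) + 1 < n
    · exact hXpow _ hi
    · have hin : (i : ℕ) + 1 = n := by
        have := i.2
        omega
      rw [hin, SIM_rel_top hf, SIM_rel_top hf', map_neg, map_sum]
      congr 1
      apply Finset.sum_congr rfl
      intro j hj
      rw [map_smul, hXpow j (Finset.mem_range.1 hj)]
  intro x
  exact LinearMap.congr_fun hlin x

end Cfsg.Agent.Helper29.Ore
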