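-- (XE) for helper5's S2607+S2608: recognition of `S₃ × C_f`.
import Mathlib

set_option autoImplicit false

namespace Cfsg.Agent.Helper29.OutD4

/-- (XE) recognition of `S₃ × C_f` -/
theorem nonempty_mulEquiv_S3_prod {O 𝔉 : Type*} [Group O] [Group 𝔉]
    (γ : Equiv.Perm (Fin 3) →* O) (φ : 𝔉 →* O)
    (hsurj : ∀ o : O, ∃ π σ, o = γ π * φ σ)
    (hinj : ∀ π σ, γ π * φ σ = 1 → π = 1 ∧ σ = 1)
    (hφγ : ∀ σ π, φ σ * γ π = γ π * φ σ)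
    {f : ℕ} (e : 𝔉 ≃* Multiplicative (ZMod f)) :
    Nonempty (O ≃* Equiv.Perm (Fin 3) × Multiplicative (ZMod f)) := by
  let Ψ : Equiv.Perm (Fin 3) × 𝔉 →* O :=
    MonoidHom.noncommCoprod γ φ (fun π σ => (hφγ σ π).symm)
  have hΨ : ∀ x : Equiv.Perm (Fin 3) × 𝔉, Ψ x = γ x.1 * φ x.2 := fun x => rfl
  have hinjΨ : Function.Injective Ψ := by
    rw [injective_iff_map_eq_one]
    rintro ⟨π, σ⟩ h
    rw [hΨ] at h
    obtain ⟨h1, h2⟩ := hinj π σ h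
    rw [h1, h2]
    rfl
  have hsurjΨ : Function.Surjective Ψ := by
    intro o
    obtain ⟨π, σ, rfl⟩ := hsurj o
    exact ⟨(π, σ), rfl⟩
  exact ⟨(MulEquiv.ofBijective Ψ ⟨hinjΨ, hsurjΨ⟩).symm.trans
    (MulEquiv.prodCongr (MulEquiv.refl _) e)⟩

end Cfsg.Agent.Helper29.OutD4
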