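-- (XO) for helper5's S2607+S2608: recognition of `S₄ × C_f`.
import Mathlib

set_option autoImplicit false

namespace Cfsg.Agent.Helper29.OutD4

/-- `|M ⊔ P| = |M| |P|` for `P` normal and `M ⊓ P = ⊥` (no finiteness needed) -/
theorem card_sup_of_normal_of_inf_eq_bot' {X : Type*} [Group X] (M P : Subgroup X) [P.Normal]
    (h : M ⊓ P = ⊥) : Nat.card (M ⊔ P : Subgroup X) = Nat.card M * Nat.card P := by
  have h1 : Nat.card (M ⊔ P : Subgroup X) = Nat.card P * P.relIndex M := by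
    rw [← Subgroup.relIndex_sup_right M P, ← Subgroup.relIndex_bot_left, ← Subgroup.relIndex_bot_left,
      Subgroup.relIndex_mul_relIndex _ _ _ bot_le le_sup_right]
  have h2 : P.relIndex M = Nat.card M := by
    rw [← Subgroup.inf_relIndex_left, h, Subgroup.relIndex_bot_left]
  rw [h1, h2, mul_comm]

/-- (XO) recognition of `S₄ × C_f` -/
theorem nonempty_mulEquiv_S4_prod {O 𝔇 𝔉 : Type*} [Group O] [CommGroup 𝔇] [Group 𝔉]
    (δ : 𝔇 →* O) (γ : Equiv.Perm (Fin 3) →* O) (φ : 𝔉 →* O)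
    (hsurj : ∀ o : O, ∃ c π σ, o = δ c * γ π * φ σ)
    (hinj : ∀ c π σ, δ c * γ π * φ σ = 1 → π = 1 ∧ σ = 1)
    (hφδ : ∀ σ c, φ σ * δ c = δ c * φ σ)
    (hφγ : ∀ σ π, φ σ * γ π = γ π * φ σ)
    (hγδ : ∀ π c, ∃ c', γ π * δ c * (γ π)⁻¹ = δ c')
    (κ : 𝔇 →* ℤˣ × ℤˣ) (hκ : Function.Surjective κ) (hκδ : ∀ c, δ c = 1 ↔ κ c = 1)
    (hfaith : ∀ π, (∀ c, γ π * δ c = δ c * γ π) → π = 1)
    {f : ℕ} (e : 𝔉 ≃* Multiplicative (ZMod f)) :
    Nonempty (O ≃* Equiv.Perm (Fin 4) × Multiplicative (ZMod f)) := by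
  classical
  -- injectivity of γ
  have hγinj : Function.Injective γ := by
    rw [injective_iff_map_eq_one]
    intro π h
    exact (hinj 1 π 1 (by rw [map_one, map_one, one_mul, mul_one, h])).1
  set D : Subgroup O := δ.range with hD
  set Γ : Subgroup O := γ.range with hΓ
  -- `D` is normal
  have hDn : D.Normal := by
    constructor
    rintro d ⟨c₀, rfl⟩ o
    obtain ⟨c, π, σ, rfl⟩ := hsurj o
    obtain ⟨c', hc'⟩ := hγδ π c₀
    have h1 : φ σ * δ c₀ = δ c₀ * φ σ := hφδ σ c₀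
    have : δ c * γ π * φ σ * δ c₀ * (δ c * γ π * φ σ)⁻¹ =
        δ c * (γ π * δ c₀ * (γ π)⁻¹) * (δ c)⁻¹ := by
      calc δ c * γ π * φ σ * δ c₀ * (δ c * γ π * φ σ)⁻¹
          = δ c * γ π * (φ σ * δ c₀) * (φ σ)⁻¹ * (γ π)⁻¹ * (δ c)⁻¹ := by group
        _ = δ c * γ π * (δ c₀ * φ σ) * (φ σ)⁻¹ * (γ π)⁻¹ * (δ c)⁻¹ := by rw [h1]
        _ = δ c * (γ π * δ c₀ * (γ π)⁻¹) * (δ c)⁻¹ := by group
    rw [this, hc']
    exact ⟨c * c' * c⁻¹, by rw [map_mul, map_mul, map_inv]⟩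
  -- `D ⊓ Γ = ⊥`
  have hDΓ : Γ ⊓ D = ⊥ := by
    rw [eq_bot_iff]
    rintro x ⟨⟨π, hπ⟩, ⟨c, hc⟩⟩
    rw [Subgroup.mem_bot]
    have h1 : δ c⁻¹ * γ π * φ 1 = 1 := by
      rw [map_one, mul_one, map_inv, hc, hπ, inv_mul_cancel]
    have h2 := (hinj c⁻¹ π 1 h1).1
    rw [← hπ, h2, map_one]
  -- cardinalities
  have hcardΓ : Nat.card Γ = 6 := by
    rw [← Nat.card_congr (MonoidHom.ofInjective hγinj).toEquiv, Nat.card_perm, Nat.card_fin]
    rfl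
  have hker : δ.ker = κ.ker := by
    ext c
    rw [MonoidHom.mem_ker, MonoidHom.mem_ker]
    exact hκδ c
  have hcardD : Nat.card D = 4 := by
    have e1 : 𝔇 ⧸ δ.ker ≃* D := QuotientGroup.quotientKerEquivRange δ
    have e2 : 𝔇 ⧸ δ.ker ≃* 𝔇 ⧸ κ.ker := QuotientGroup.quotientMulEquivOfEq hker
    have e3 : 𝔇 ⧸ κ.ker ≃* ℤˣ × ℤˣ := QuotientGroup.quotientKerEquivOfSurjective κ hκ
    rw [← Nat.card_congr e1.toEquiv, Nat.card_congr e2.toEquiv, Nat.card_congr e3.toEquiv,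
      Nat.card_eq_fintype_card]
    rfl
  set E : Subgroup O := Γ ⊔ D with hE
  have hcardE : Nat.card E = 24 := by
    rw [hE, card_sup_of_normal_of_inf_eq_bot' Γ D hDΓ, hcardΓ, hcardD]
  have hfinE : Finite E := Nat.finite_of_card_ne_zero (by rw [hcardE]; norm_num)
  have hΓE : Γ ≤ E := le_sup_left
  have hDE : D ≤ E := le_sup_right
  -- elements of `E`
  have hEmem : ∀ x : O, x ∈ E ↔ ∃ c π, x = δ c * γ π := by
    intro x
    rw [hE, sup_comm, Subgroup.mem_sup_of_normal_left]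
    constructor
    · rintro ⟨y, ⟨c, rfl⟩, z, ⟨π, rfl⟩, rfl⟩
      exact ⟨c, π, rfl⟩
    · rintro ⟨c, π, rfl⟩
      exact ⟨δ c, ⟨c, rfl⟩, γ π, ⟨π, rfl⟩, rfl⟩
  -- `O ≃* E × 𝔉`
  have hcomm : ∀ (x : E) (σ : 𝔉), Commute (E.subtype x) (φ σ) := by
    intro x σ
    obtain ⟨c, π, hx⟩ := (hEmem x).1 x.2
    show (x : O) * φ σ = φ σ * (x : O)
    rw [hx]
    calc δ c * γ π * φ σ = δ c * (γ π * φ σ) := mul_assoc _ _ _
      _ = δ c * (φ σ * γ π) := by rw [hφγ σ π]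
      _ = δ c * φ σ * γ π := (mul_assoc _ _ _).symm
      _ = φ σ * δ c * γ π := by rw [hφδ σ c]
      _ = φ σ * (δ c * γ π) := mul_assoc _ _ _
  let Ψ : ↥E × 𝔉 →* O := MonoidHom.noncommCoprod E.subtype φ hcomm
  have hΨ : ∀ x : ↥E × 𝔉, Ψ x = (x.1 : O) * φ x.2 := fun x => rfl
  have hinjΨ : Function.Injective Ψ := by
    rw [injective_iff_map_eq_one]
    rintro ⟨x, σ⟩ h
    rw [hΨ] at h
    obtain ⟨c, π, hx⟩ := (hEmem x).1 x.2
    simp only at h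
    rw [hx] at h
    obtain ⟨h1, h2⟩ := hinj c π σ h
    rw [h2, map_one, mul_one] at h
    have hx1 : x = 1 := Subtype.ext (by rw [hx, h]; rfl)
    rw [hx1, h2]
    rfl
  have hsurjΨ : Function.Surjective Ψ := by
    intro o
    obtain ⟨c, π, σ, rfl⟩ := hsurj o
    exact ⟨(⟨δ c * γ π, (hEmem _).2 ⟨c, π, rfl⟩⟩, σ), rfl⟩
  -- `E ≃* S₄`
  set S' : Subgroup ↥E := Γ.subgroupOf E with hS'
  have hcardS' : Nat.card S' = 6 := by
    rw [← hcardΓ]
    exact Nat.card_congr (Subgroup.subgroupOfEquivOfLe hΓE).toEquiv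
  have hidx : S'.index = 4 := by
    have := Subgroup.card_mul_index S'
    rw [hcardS', hcardE] at this
    omega
  have hcore : S'.normalCore = ⊥ := by
    rw [eq_bot_iff]
    intro n hn
    rw [Subgroup.mem_bot]
    have hnS : n ∈ S' := Subgroup.normalCore_le S' hn
    rw [hS', Subgroup.mem_subgroupOf] at hnS
    obtain ⟨π, hπ⟩ := hnS
    have hπ1 : π = 1 := by
      apply hfaith
      intro c
      let d : ↥E := ⟨δ c, hDE ⟨c, rfl⟩⟩
      have h1 : d * n * d⁻¹ * n⁻¹ ∈ S'.normalCore :=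
        Subgroup.mul_mem _ (Subgroup.Normal.conj_mem inferInstance n hn d) (Subgroup.inv_mem _ hn)
      have h2 : d * n * d⁻¹ * n⁻¹ ∈ S' := Subgroup.normalCore_le S' h1
      rw [hS', Subgroup.mem_subgroupOf] at h2
      have h3 : ((d * n * d⁻¹ * n⁻¹ : ↥E) : O) = δ c * γ π * (δ c)⁻¹ * (γ π)⁻¹ := by
        simp only [Subgroup.coe_mul, Subgroup.coe_inv, ← hπ]
        rfl
      rw [h3] at h2
      have h4 : δ c * γ π * (δ c)⁻¹ * (γ π)⁻¹ ∈ D := by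
        have : δ c * γ π * (δ c)⁻¹ * (γ π)⁻¹ = δ c * (γ π * (δ c)⁻¹ * (γ π)⁻¹) := by group
        rw [this]
        exact Subgroup.mul_mem _ ⟨c, rfl⟩
          (hDn.conj_mem _ (Subgroup.inv_mem _ ⟨c, rfl⟩) _)
      have h5 : δ c * γ π * (δ c)⁻¹ * (γ π)⁻¹ ∈ Γ ⊓ D := ⟨h2, h4⟩
      rw [hDΓ, Subgroup.mem_bot] at h5
      have h6 : δ c * γ π = γ π * δ c := by
        have := congrArg (fun z => z * γ π * δ c) h5
        simpa [mul_assoc] using this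
      exact h6.symm
    apply Subtype.ext
    rw [← hπ, hπ1, map_one]
    rfl
  let τ : ↥E →* Equiv.Perm (↥E ⧸ S') := MulAction.toPermHom ↥E (↥E ⧸ S')
  have hτinj : Function.Injective τ := by
    rw [← MonoidHom.ker_eq_bot_iff, ← Subgroup.normalCore_eq_ker, hcore]
  have hcardQ : Nat.card (↥E ⧸ S') = 4 := hidx
  let eq4 : (↥E ⧸ S') ≃ Fin 4 := Finite.equivFinOfCardEq hcardQ
  let τ' : ↥E →* Equiv.Perm (Fin 4) := (Equiv.permCongrHom eq4).toMonoidHom.comp τ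
  have hτ'inj : Function.Injective τ' := (Equiv.permCongrHom eq4).injective.comp hτinj
  have hτ'bij : Function.Bijective τ' := by
    apply hτ'inj.bijective_of_nat_card_le
    rw [hcardE, Nat.card_perm, Nat.card_fin]
    rfl
  let eE : ↥E ≃* Equiv.Perm (Fin 4) := MulEquiv.ofBijective τ' hτ'bij
  exact ⟨(MulEquiv.ofBijective Ψ ⟨hinjΨ, hsurjΨ⟩).symm.trans (MulEquiv.prodCongr eE e)⟩

end Cfsg.Agent.Helper29.OutD4
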