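import Mathlib

/-!
# (EV) for helper38's S2500 part (5) skeleton (helper29): a `3 × 3` matrix with reducible characteristic
polynomial has an eigenvector
-/

set_option autoImplicit false
set_option linter.unusedSectionVars false

namespace Cfsg.Agent.Helper29.P5

open Matrix Polynomial Module

variable {F : Type*} [Field F] [Fintype F] {q : ℕ}

/-- a root of the characteristic polynomial gives an eigenvector -/
theorem EV_exists_eigenvector_of_isRoot {n : ℕ} (A : Matrix (Fin n) (Fin n) F) (a : F)
    (ha : A.charpoly.IsRoot a) : ∃ v : Fin n → F, v ≠ 0 ∧ A *ᵥ v = a • v := by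
  have hdet : (Matrix.scalar (Fin n) a - A).det = 0 := by
    have h := Matrix.eval_charpoly A a
    rw [← h]
    exact ha
  obtain ⟨v, hv, hmv⟩ := Matrix.exists_mulVec_eq_zero_iff.mpr hdet
  refine ⟨v, hv, ?_⟩
  rw [Matrix.sub_mulVec, sub_eq_zero] at hmv
  rw [← hmv, Matrix.scalar_apply, ← Matrix.smul_one_eq_diagonal, Matrix.smul_mulVec,
    Matrix.one_mulVec]

/-- (EV) a `3 × 3` matrix with reducible characteristic polynomial has an eigenvector -/
theorem exists_eigen_of_not_irreducible (A : Matrix (Fin 3) (Fin 3) F)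
    (h : ¬ Irreducible A.charpoly) :
    ∃ (v : Fin 3 → F) (μ : F), v ≠ 0 ∧ A *ᵥ v = μ • v := by
  have hdeg : A.charpoly.natDegree = 3 := by
    rw [Matrix.charpoly_natDegree_eq_dim, Fintype.card_fin]
  have hroot : ∃ μ : F, A.charpoly.IsRoot μ := by
    by_contra hno
    apply h
    apply Polynomial.irreducible_of_degree_le_three_of_not_isRoot
    · rw [hdeg]
      simp
    · intro x hx
      exact hno ⟨x, hx⟩
  obtain ⟨μ, hμ⟩ := hroot
  obtain ⟨v, hv, hAv⟩ := EV_exists_eigenvector_of_isRoot A μ hμ
  exact ⟨v, μ, hv, hAv⟩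

end Cfsg.Agent.Helper29.P5
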