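import Mathlib

/-!
# (NS) for helper38's S2500 part (5) skeleton (helper29): a scalar `3 × 3` matrix does not have an
irreducible characteristic polynomial
-/

set_option autoImplicit false
set_option linter.unusedSectionVars false

namespace Cfsg.Agent.Helper29.P5

open Matrix Polynomial Module

variable {F : Type*} [Field F] [Fintype F] {q : ℕ}

/-- (NS) a scalar matrix does not have an irreducible characteristic polynomial -/
theorem not_irreducible_charpoly_smul_one (μ : F) :
    ¬ Irreducible ((μ • (1 : Matrix (Fin 3) (Fin 3) F)).charpoly) := by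
  have hU : (μ • (1 : Matrix (Fin 3) (Fin 3) F)).IsUpperTriangular := by
    intro i j hij
    have hne : i ≠ j := fun h => by
      rw [h] at hij
      exact lt_irrefl _ hij
    rw [Matrix.smul_apply, Matrix.one_apply_ne hne, smul_zero]
  rw [Matrix.charpoly_of_isUpperTriangular _ hU]
  have e : ∏ i : Fin 3, (X - C ((μ • (1 : Matrix (Fin 3) (Fin 3) F)) i i)) = (X - C μ) ^ 3 := by
    rw [Fin.prod_univ_three]
    simp only [Matrix.smul_apply, Matrix.one_apply_eq, smul_eq_mul, mul_one]
    ring
  rw [e]
  exact not_irreducible_pow (by norm_num)

end Cfsg.Agent.Helper29.P5
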