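import Mathlib
import Cfsg.Agent.Helper38.Cov2P5.Defs

/-!
# (PS) for helper38's S2500 part (5) skeleton (helper29): an element with eigenvector `v` is conjugated
into the point stabiliser by an element mapping `v` to a multiple of `e₀`
-/

set_option autoImplicit false
set_option linter.unusedSectionVars false

namespace Cfsg.Agent.Helper29.P5

open Matrix Polynomial Module Cfsg.Agent.S2587 Cfsg.Agent.S2578 Cfsg.Agent.Helper45.GU
  Cfsg.Agent.Helper43.Cov2 Cfsg.Agent.Helper38.Cov2

variable {F : Type*} [Field F] [Fintype F] {q : ℕ}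

/-- (PS) an element with eigenvector `v` is conjugated into the point stabiliser by an element
mapping `v` to a multiple of `e₀` -/
theorem ptStab_of_eigen (x g : ↥(Cfsg.SU 3 F q)) (v : Fin 3 → F) (lam c : F) (hc : c ≠ 0)
    (hx : mat x *ᵥ v = c • (Pi.single 0 1 : Fin 3 → F)) (hg : mat g *ᵥ v = lam • v) :
    x * g * x⁻¹ ∈ ptStab F q := by
  rw [mem_ptStab]
  intro i hi
  have he0 : (Pi.single 0 1 : Fin 3 → F) = c⁻¹ • (mat x *ᵥ v) := by
    rw [hx, smul_smul, inv_mul_cancel₀ hc, one_smul]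
  have h1 : mat x⁻¹ *ᵥ (Pi.single 0 1 : Fin 3 → F) = c⁻¹ • v := by
    rw [he0, Matrix.mulVec_smul, Matrix.mulVec_mulVec, mat_inv_mul, Matrix.one_mulVec]
  have h2 : mat (x * g * x⁻¹) *ᵥ (Pi.single 0 1 : Fin 3 → F) =
      lam • (Pi.single 0 1 : Fin 3 → F) := by
    rw [mat_conj, ← Matrix.mulVec_mulVec, ← Matrix.mulVec_mulVec, h1, Matrix.mulVec_smul, hg,
      Matrix.mulVec_smul, Matrix.mulVec_smul, hx, smul_smul, smul_smul]
    congr 1
    field_simp
  have h3 := congrFun h2 i
  rw [Matrix.mulVec_single_one] at h3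
  simpa [hi] using h3

end Cfsg.Agent.Helper29.P5
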