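import Mathlib

set_option autoImplicit false
set_option linter.unusedSectionVars false
set_option linter.unusedVariables false

/-!
# S4712 farm (helper82): leaf (GEN) — a generator of the `p`-part of the units modulo `n`, `p` odd
-/

namespace Cfsg.Agent.Helper29.PRB

/-- (GEN) a generator of the `p`-part of the units modulo `n`, `p` odd. -/
theorem exists_pGalois_generator (n p : ℕ) (hn : 0 < n) (hp : p.Prime) (hodd : p ≠ 2) :
    ∃ m : ℕ, m.Coprime n ∧ m ≡ 1 [MOD n / p ^ n.factorization p] ∧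
      ∀ k : ℕ, k.Coprime n → k ≡ 1 [MOD n / p ^ n.factorization p] →
        ∃ j : ℕ, k ≡ m ^ j [MOD n] := by
  classical
  set P : ℕ := p ^ n.factorization p with hP
  set n' : ℕ := n / p ^ n.factorization p with hn'
  have hPn : P * n' = n := Nat.ordProj_mul_ordCompl_eq_self n p
  have hcop : Nat.Coprime P n' := (Nat.coprime_ordCompl hp hn.ne').pow_left _
  have hPpos : 0 < P := pow_pos hp.pos _
  have : NeZero P := ⟨hPpos.ne'⟩
  -- a generator of the cyclic group of units modulo `P`
  have : IsCyclic (ZMod P)ˣ := ZMod.isCyclic_units_of_prime_pow p hp hodd _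
  obtain ⟨u, hu⟩ := IsCyclic.exists_generator (α := (ZMod P)ˣ)
  set r : ℕ := ((u : ZMod P)).val with hr
  have hrcast : ((r : ℕ) : ZMod P) = (u : ZMod P) := ZMod.natCast_zmod_val _
  -- the Chinese remainder theorem
  obtain ⟨m, hmP, hmn'⟩ := Nat.chineseRemainder hcop r 1
  have hmcast : ((m : ℕ) : ZMod P) = (u : ZMod P) := by
    rw [← hrcast]; exact (ZMod.natCast_eq_natCast_iff _ _ _).mpr hmP
  have hmcopP : Nat.Coprime m P := by
    rw [← ZMod.isUnit_iff_coprime, hmcast]; exact u.isUnit
  have hmcopn' : Nat.Coprime m n' := by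
    have := hmn'.gcd_eq
    rw [Nat.Coprime, this]; simp
  refine ⟨m, ?_, hmn', ?_⟩
  · rw [← hPn]; exact Nat.Coprime.mul_right hmcopP hmcopn'
  · intro k hk hk1
    have hkP : Nat.Coprime k P := by
      rw [← hPn] at hk; exact Nat.Coprime.coprime_mul_right_right hk
    -- `k` as a unit modulo `P` is a power of `u`
    obtain ⟨j, hj⟩ : ∃ j : ℕ, u ^ j = ZMod.unitOfCoprime k hkP := by
      have hmem : ZMod.unitOfCoprime k hkP ∈ Subgroup.zpowers u := hu _
      rw [← mem_powers_iff_mem_zpowers] at hmem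
      obtain ⟨j, hj⟩ := hmem
      exact ⟨j, hj⟩
    refine ⟨j, ?_⟩
    have h1 : k ≡ m ^ j [MOD P] := by
      rw [← ZMod.natCast_eq_natCast_iff]
      push_cast
      rw [hmcast]
      have := congrArg (fun x : (ZMod P)ˣ => (x : ZMod P)) hj
      simp only [Units.val_pow_eq_pow_val, ZMod.coe_unitOfCoprime] at this
      exact this.symm
    have h2 : k ≡ m ^ j [MOD n'] := by
      have : m ^ j ≡ 1 ^ j [MOD n'] := hmn'.pow j
      rw [one_pow] at this
      exact hk1.trans this.symm
    rw [← hPn]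
    exact (Nat.modEq_and_modEq_iff_modEq_mul hcop).mp ⟨h1, h2⟩

end Cfsg.Agent.Helper29.PRB
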