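import Cfsg.Agent.Helper82.PRB.Defs
import Cfsg.Agent.Helper16.DT.Defs
import Cfsg.Agent.Helper77.BlockRank

set_option autoImplicit false
set_option linter.unusedSectionVars false
set_option linter.unusedVariables false

/-!
# S4712 farm (helper82): leaf (POW)
-/

namespace Cfsg.Agent.Helper29.PRB

open Cfsg Cfsg.Agent.Helper16 Cfsg.Agent.Helper16.DT Cfsg.Agent.Helper82.PRB
open scoped ComplexConjugate

universe u

variable {G : Type u} [Group G] [Fintype G] {M : Ideal AlgInt} {p : ℕ}

/-- (POW) for `y` `p`-regular commuting with `z` and `m = 1` modulo the `p'`-part of `|G|`: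
`(z y)^m = z^m y`. -/
theorem mul_pow_of_pRegular [Fact p.Prime] (m : ℕ)
    (hm1 : m ≡ 1 [MOD Nat.card G / p ^ (Nat.card G).factorization p]) (z y : G)
    (hzy : Commute z y) (hy : ¬ p ∣ orderOf y) : (z * y) ^ m = z ^ m * y := by
  have hp : p.Prime := Fact.out
  have hdvd : orderOf y ∣ Nat.card G := orderOf_dvd_natCard y
  have hcop : Nat.Coprime (orderOf y) (p ^ (Nat.card G).factorization p) :=
    Nat.Coprime.pow_right _ ((Nat.Prime.coprime_iff_not_dvd hp).mpr hy).symm
  have hdvd2 : orderOf y ∣ Nat.card G / p ^ (Nat.card G).factorization p := by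
    have h1 : orderOf y ∣ (Nat.card G / p ^ (Nat.card G).factorization p) *
        p ^ (Nat.card G).factorization p := by
      rw [mul_comm, Nat.ordProj_mul_ordCompl_eq_self]; exact hdvd
    exact Nat.Coprime.dvd_of_dvd_mul_right hcop h1
  have hmod : m ≡ 1 [MOD orderOf y] := Nat.ModEq.of_dvd hdvd2 hm1
  have hym : y ^ m = y := by
    have := (pow_eq_pow_iff_modEq (x := y) (n := m) (m := 1)).mpr hmod
    rwa [pow_one] at this
  rw [hzy.mul_pow, hym]

end Cfsg.Agent.Helper29.PRB
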