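-- (ADS) for helper82's S4892: Alperin–Dade on a subgroup `S ≥ N` of `p'`-index over `N`.
import Cfsg.Agent.Helper82.PRat.Defs
import Cfsg.Agent.S4551
import Cfsg.Agent.Helper78.IrrTransport

set_option autoImplicit false

namespace Cfsg.Agent.Helper29.PRat

open Cfsg Cfsg.Agent.Helper82.PRat

variable {G : Type*} [Group G] [Finite G] (p : ℕ) [Fact p.Prime] (M : Ideal AlgInt)
  (N : Subgroup G) [N.Normal]

/-- (ADS) Alperin–Dade on a subgroup `S ≥ N` of `p'`-index over `N`. -/
theorem ad_unique (hM : IsPModular p M) (Q : Sylow p ↥N)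
    (hcov : N ⊔ Subgroup.centralizer (((Q : Subgroup ↥N).map N.subtype : Subgroup G) : Set G) = ⊤)
    (S : Subgroup G) (hNS : N ≤ S) (hidx : ¬ p ∣ N.relIndex S)
    (θ : IrrCharacter ↥N) (hθ : θ ∈ principalBlock M ↥N) :
    ∃! η : IrrCharacter ↥S, η ∈ principalBlock M ↥S ∧
      ∀ n : ↥N, (η : ↥S → ℂ) ⟨(n : G), hNS n.2⟩ = (θ : ↥N → ℂ) n := by
  classical
  have hp : p.Prime := Fact.out
  -- the normal subgroup of `↥S`
  set N' : Subgroup ↥S := N.subgroupOf S with hN'
  have hidx' : ¬ p ∣ N'.index := hidx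
  -- the isomorphism `N' ≃* N`
  let e : ↥N' ≃* ↥N := Subgroup.subgroupOfEquivOfLe hNS
  have he : ∀ n : ↥N', ((e n : ↥N) : G) = ((n : ↥S) : G) := fun n => rfl
  -- the Sylow subgroup of `↥S`
  set P0 : Subgroup ↥S := (Q : Subgroup ↥N).map (Subgroup.inclusion hNS) with hP0
  have hinj : Function.Injective (Subgroup.inclusion hNS) := Subgroup.inclusion_injective hNS
  have hcardP0 : Nat.card P0 = Nat.card (Q : Subgroup ↥N) :=
    Subgroup.card_map_of_injective hinj
  have hcardS : Nat.card ↥S = Nat.card ↥N * N.relIndex S := by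
    have h1 := Subgroup.relIndex_mul_relIndex (⊥ : Subgroup G) N S bot_le hNS
    rw [Subgroup.relIndex_bot_left, Subgroup.relIndex_bot_left] at h1
    exact h1.symm
  have hfac : (Nat.card ↥S).factorization p = (Nat.card ↥N).factorization p := by
    rw [hcardS, Nat.factorization_mul Nat.card_pos.ne']
    · rw [Finsupp.add_apply, Nat.factorization_eq_zero_of_not_dvd hidx, add_zero]
    · intro h0
      apply hidx
      rw [h0]
      exact dvd_zero p
  have hcardP0' : Nat.card P0 = p ^ (Nat.card ↥S).factorization p := by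
    rw [hcardP0, hfac]
    exact Sylow.card_eq_multiplicity Q
  let P : Sylow p ↥S := Sylow.ofCard P0 hcardP0'
  have hPcoe : (P : Subgroup ↥S) = P0 := rfl
  -- the supplement condition
  have hsup : N' ⊔ Subgroup.centralizer ((P : Subgroup ↥S) : Set ↥S) = ⊤ := by
    rw [eq_top_iff]
    intro s _
    have hs : (s : G) ∈ N ⊔ Subgroup.centralizer
        (((Q : Subgroup ↥N).map N.subtype : Subgroup G) : Set G) := by
      rw [hcov]; trivial
    obtain ⟨n, hn, c, hc, hnc⟩ := Subgroup.mem_sup_of_normal_left.1 hs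
    have hcS : c ∈ S := by
      have : c = n⁻¹ * (s : G) := by rw [← hnc, inv_mul_cancel_left]
      rw [this]
      exact S.mul_mem (S.inv_mem (hNS hn)) s.2
    have hs' : s = (⟨n, hNS hn⟩ : ↥S) * ⟨c, hcS⟩ := Subtype.ext hnc.symm
    rw [hs']
    apply Subgroup.mul_mem
    · apply (le_sup_left : N' ≤ N' ⊔ _)
      rw [hN', Subgroup.mem_subgroupOf]
      exact hn
    · apply (le_sup_right : _ ≤ N' ⊔ Subgroup.centralizer ((P : Subgroup ↥S) : Set ↥S))
      rw [Subgroup.mem_centralizer_iff]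
      intro x hx
      rw [SetLike.mem_coe, hPcoe, hP0, Subgroup.mem_map] at hx
      obtain ⟨y, hy, rfl⟩ := hx
      apply Subtype.ext
      rw [Subgroup.mem_centralizer_iff] at hc
      have := hc (y : G) (by
        rw [SetLike.mem_coe, Subgroup.mem_map]
        exact ⟨y, hy, rfl⟩)
      simpa using this
  obtain ⟨-, hAD⟩ := Cfsg.Agent.S4551.result p M hM N' hidx' P hsup
  -- transport θ
  set θ' : IrrCharacter ↥N' := Cfsg.Agent.Helper78.irrMap e.symm θ with hθ'
  have hθ'B : θ' ∈ principalBlock M ↥N' :=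
    (Cfsg.Agent.Helper78.irrMap_mem_principalBlock_iff M e.symm θ).2 hθ
  have hθ'app : ∀ n : ↥N', (θ' : ↥N' → ℂ) n = (θ : ↥N → ℂ) (e n) := by
    intro n
    rw [hθ', Cfsg.Agent.Helper78.irrMap_apply, MulEquiv.symm_symm]
  obtain ⟨η, ⟨hηB, hηN⟩, hηu⟩ := hAD θ' hθ'B
  refine ⟨η, ⟨hηB, ?_⟩, ?_⟩
  · intro n
    have := hηN (e.symm n)
    rw [hθ'app, MulEquiv.apply_symm_apply] at this
    rw [← this]
    congr 1
  · rintro η' ⟨hη'B, hη'N⟩
    apply hηu
    refine ⟨hη'B, ?_⟩
    intro n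
    rw [hθ'app, ← hη'N (e n)]
    congr 1

end Cfsg.Agent.Helper29.PRat
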