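-- (S1) for helper88's S5318: an explicit semidihedral Sylow 2-subgroup of GL₂(F), q ≡ 3 mod 4, with generators.
import Cfsg.Agent.Helper88.PSL3Fus

set_option autoImplicit false

open Matrix Cfsg.Agent.Helper37.PSL3Inv Cfsg.Agent.Helper37.SU3Inv Cfsg.Agent.Helper37.GL2S2
  Cfsg.Agent.Helper85 Cfsg.Agent.Helper88.PSL3F

namespace Cfsg.Agent.Helper29.PSL3S

variable {F : Type*} [Field F] [Fintype F]

/-- in a group, if `y x y⁻¹ = x^(2^b - 1)`, `x` has order `2^(b+1)` and `b ≥ 2`, then `y ∉ ⟨x⟩` -/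
lemma not_mem_zpowers_of_rel {G : Type*} [Group G] (x y : G) (b : ℕ) (hb : 2 ≤ b)
    (hx : orderOf x = 2 ^ (b + 1)) (hr : y * x * y⁻¹ = x ^ (2 ^ b - 1)) :
    y ∉ Subgroup.zpowers x := by
  intro hmem
  obtain ⟨n, rfl⟩ := Subgroup.mem_zpowers_iff.1 hmem
  have hcomm : x ^ n * x * (x ^ n)⁻¹ = x := by
    rw [← _root_.zpow_add_one, ← _root_.zpow_neg, ← _root_.zpow_add]
    simp
  rw [hcomm] at hr
  have h4 : 4 ≤ 2 ^ b := by
    calc 4 = 2 ^ 2 := by norm_num
      _ ≤ 2 ^ b := Nat.pow_le_pow_right (by norm_num) hb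
  have h5 : x ^ (2 ^ b - 2) = 1 := by
    have : x ^ (2 ^ b - 1) = x ^ (2 ^ b - 2) * x := by
      rw [← pow_succ]; congr 1; omega
    rw [this] at hr
    exact mul_right_cancel (hr.symm.trans (one_mul x).symm)
  have h6 := orderOf_dvd_of_pow_eq_one h5
  rw [hx] at h6
  have h7 := Nat.le_of_dvd (by omega) h6
  have : 2 ^ (b + 1) = 2 * 2 ^ b := by ring
  omega

theorem exists_sdData (h3 : Fintype.card F % 4 = 3) :
    ∃ (P : Sylow 2 (GL (Fin 2) F)) (x y : GL (Fin 2) F) (b : ℕ),
      SdData (P : Subgroup (GL (Fin 2) F)) x y b := by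
  classical
  obtain ⟨b, m, hm, hq⟩ := Nat.exists_eq_two_pow_mul_odd (n := Fintype.card F + 1) (by omega)
  obtain ⟨k, rfl⟩ := hm
  have hb : 2 ≤ b := by
    rcases b with _ | _ | b
    · simp at hq; omega
    · simp at hq; omega
    · omega
  obtain ⟨H, x, y, hH, hxH, hyH, hx, hy, hr⟩ := exists_qd_data b k hb hq
  obtain ⟨Q, hQ⟩ := hH.exists_le_sylow
  obtain ⟨m', hm', hcard⟩ := card_GL2_three (F := F) b k hb hq
  have hcQ : Nat.card Q = 2 ^ (b + 2) := card_sylow_of_card_eq Q (b + 2) m' hcard hm'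
  have hyy : y * y = 1 := by
    have := pow_orderOf_eq_one y
    rw [hy, pow_two] at this
    exact this
  have hyinv : y⁻¹ = y := inv_eq_of_mul_eq_one_right hyy
  have hxQ : x ∈ (Q : Subgroup (GL (Fin 2) F)) := hQ hxH
  have hyQ : y ∈ (Q : Subgroup (GL (Fin 2) F)) := hQ hyH
  have hynot : y ∉ Subgroup.zpowers x := not_mem_zpowers_of_rel x y b hb hx hr
  -- 2 ≠ 0 in F
  have h2F : (2 : F) ≠ 0 := by
    intro h20
    obtain ⟨p, hp⟩ := CharP.exists F
    have hpp : p.Prime := CharP.char_is_prime F p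
    have : Fact p.Prime := ⟨hpp⟩
    have h2 : ((2 : ℕ) : F) = 0 := by exact_mod_cast h20
    have hp2 : p ∣ 2 := (CharP.cast_eq_zero_iff F p 2).1 h2
    have hp2' : p = 2 := (Nat.prime_dvd_prime_iff_eq hpp Nat.prime_two).1 hp2
    subst hp2'
    obtain ⟨n, hn⟩ := FiniteField.card F 2
    have hn' := hn.2
    have : (2 : ℕ) ∣ Fintype.card F := by
      rw [hn']; exact dvd_pow_self 2 n.ne_zero
    omega
  refine ⟨Q, x, y, b, hb, hx, hyy, hr, ?_, ?_⟩
  · -- x^(2^b) = -1
    set t : GL (Fin 2) F := x ^ (2 ^ b) with ht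
    have htt : t * t = 1 := by
      rw [ht, ← pow_add, ← two_mul, ← pow_succ', ← hx]
      exact pow_orderOf_eq_one x
    have ht1 : t ≠ 1 := by
      intro h1
      have h6 := orderOf_dvd_of_pow_eq_one h1
      rw [hx] at h6
      have h7 := Nat.le_of_dvd (by positivity) h6
      have : 2 ^ (b + 1) = 2 * 2 ^ b := by ring
      have : 0 < 2 ^ b := by positivity
      omega
    -- det
    set d : Fˣ := Matrix.GeneralLinearGroup.det x with hd
    have hd1 : d ^ (2 ^ (b + 1)) = 1 := by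
      rw [hd, ← map_pow, ← hx, pow_orderOf_eq_one, map_one]
    have hd2 : d ^ (Fintype.card F - 1) = 1 := by
      rw [← Fintype.card_units]; exact pow_card_eq_one
    have hgcd : Nat.gcd (2 ^ (b + 1)) (Fintype.card F - 1) = 2 := by
      obtain ⟨c, rfl⟩ : ∃ c, b = c + 2 := ⟨b - 2, by omega⟩
      have h2c : 0 < 2 ^ c := pow_pos (by norm_num) c
      obtain ⟨s, hs⟩ : ∃ s, 2 ^ c * (2 * k + 1) = s + 1 := ⟨2 ^ c * (2 * k + 1) - 1, by
        have : 0 < 2 ^ c * (2 * k + 1) := Nat.mul_pos h2c (by omega)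
        omega⟩
      have hq' : Fintype.card F = 4 * s + 3 := by
        have : 2 ^ (c + 2) * (2 * k + 1) = 4 * (2 ^ c * (2 * k + 1)) := by ring
        omega
      have e1 : Fintype.card F - 1 = 2 * (2 * s + 1) := by omega
      have e2 : 2 ^ (c + 2 + 1) = 2 * 2 ^ (c + 2) := by ring
      rw [e1, e2, Nat.gcd_mul_left]
      have : Nat.Coprime (2 ^ (c + 2)) (2 * s + 1) :=
        Nat.Coprime.pow_left _ (Nat.coprime_two_left.2 ⟨s, rfl⟩)
      rw [this.gcd_eq_one]
    have hd3 : d ^ 2 = 1 := by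
      have := (pow_gcd_eq_one (a := d)).2 ⟨hd1, hd2⟩
      rwa [hgcd] at this
    have hdt : Matrix.GeneralLinearGroup.det t = 1 := by
      rw [ht, map_pow, ← hd]
      obtain ⟨c, rfl⟩ : ∃ c, b = c + 1 := ⟨b - 1, by omega⟩
      rw [pow_succ', pow_mul, hd3, one_pow]
    have hdt' : (t : Matrix (Fin 2) (Fin 2) F).det = 1 := by
      have := congrArg Units.val hdt
      simpa using this
    have htt' : (t : Matrix (Fin 2) (Fin 2) F) * (t : Matrix (Fin 2) (Fin 2) F) = 1 := by
      have := congrArg Units.val htt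
      simpa using this
    rcases two_by_two_inv h2F _ htt' hdt' with h | h
    · exfalso; apply ht1; apply Units.ext; simpa using h
    · apply Units.ext; simpa using h
  · -- membership
    intro g
    constructor
    · intro hg
      have hle : Subgroup.zpowers x ≤ (Q : Subgroup (GL (Fin 2) F)) := by
        rw [Subgroup.zpowers_le]; exact hxQ
      have hrel : (Subgroup.zpowers x).relIndex (Q : Subgroup (GL (Fin 2) F)) = 2 := by
        have h1 := Subgroup.relIndex_mul_relIndex (⊥ : Subgroup (GL (Fin 2) F)) (Subgroup.zpowers x)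
          (Q : Subgroup (GL (Fin 2) F)) bot_le hle
        rw [Subgroup.relIndex_bot_left, Subgroup.relIndex_bot_left, Nat.card_zpowers, hx] at h1
        have hcQ' : Nat.card (Q : Subgroup (GL (Fin 2) F)) = 2 ^ (b + 2) := hcQ
        rw [hcQ'] at h1
        have e : 2 ^ (b + 2) = 2 ^ (b + 1) * 2 := by ring
        rw [e] at h1
        exact Nat.eq_of_mul_eq_mul_left (by positivity) h1
      have hidx : ((Subgroup.zpowers x).subgroupOf (Q : Subgroup (GL (Fin 2) F))).index = 2 := hrel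
      by_cases hgx : g ∈ Subgroup.zpowers x
      · obtain ⟨n, hn⟩ := (Subgroup.mem_zpowers_iff.1 hgx)
        -- convert integer power to natural power
        have : g ∈ Submonoid.powers x := by
          rw [mem_powers_iff_mem_zpowers]
          exact hgx
        obtain ⟨i, hi⟩ := this
        exact ⟨i, Or.inl hi.symm⟩
      · have key := Subgroup.mul_mem_iff_of_index_two hidx
          (a := (⟨g, hg⟩ : (Q : Subgroup (GL (Fin 2) F)))) (b := ⟨y, hyQ⟩)
        have h1 : (⟨g, hg⟩ : (Q : Subgroup (GL (Fin 2) F))) ∉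
            (Subgroup.zpowers x).subgroupOf (Q : Subgroup (GL (Fin 2) F)) := by
          rw [Subgroup.mem_subgroupOf]; exact hgx
        have h2 : (⟨y, hyQ⟩ : (Q : Subgroup (GL (Fin 2) F))) ∉
            (Subgroup.zpowers x).subgroupOf (Q : Subgroup (GL (Fin 2) F)) := by
          rw [Subgroup.mem_subgroupOf]; exact hynot
        have h3 := key.2 (iff_of_false h1 h2)
        rw [Subgroup.mem_subgroupOf] at h3
        have h4 : g * y ∈ Subgroup.zpowers x := h3
        have : g * y ∈ Submonoid.powers x := by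
          rw [mem_powers_iff_mem_zpowers]
          exact h4
        obtain ⟨i, hi⟩ := this
        refine ⟨i, Or.inr ?_⟩
        have hi' : x ^ i = g * y := hi
        rw [hi', mul_assoc, hyy, mul_one]
    · rintro ⟨i, rfl | rfl⟩
      · exact Subgroup.pow_mem _ hxQ i
      · exact Subgroup.mul_mem _ (Subgroup.pow_mem _ hxQ i) hyQ

end Cfsg.Agent.Helper29.PSL3S
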