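import Cfsg.Agent.Helper58.PsuIo.OdDefs
import Cfsg.Agent.Helper55.PsuIo_OQ

/-!
helper29 for helper58's S2089 block I-odd MODEL farm (#15378), piece (OQS): the subgroup `Qsub`.
Built on helper55's landed (OMAT), (OQ).
-/

set_option autoImplicit false
set_option linter.unusedSimpArgs false
set_option linter.unusedVariables false

namespace Cfsg.Agent.Helper29.PsuIo

open Matrix
open scoped commutatorElement
open Cfsg.Agent.Helper43.PsuM
open Cfsg.Agent.Helper58.PsuIo.Od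

universe u

variable {F : Type*} [Field F] {m : ℕ} {σ : F →+* F}

/-- `qO σ y B` is trivial when `QP σ y B` fails -/
theorem OQS_qO_of_not (hσ : ∀ x, σ (σ x) = x) {y : Fin m → F} {B : Matrix (Fin m) (Fin m) F}
    (h : ¬ QP σ y B) : qO σ y B = 1 := by
  unfold qO ofMat
  rw [dif_neg]
  rintro ⟨-, hU⟩
  exact h ((Cfsg.Agent.Helper55.PsuIo.isUo_qM_iff hσ y B).mp hU)

/-- (OQS1) -/
theorem mem_Qsub_iff (hσ : ∀ x, σ (σ x) = x) (g : SUo m σ) :
    g ∈ Qsub m σ ↔ ∃ (y : Fin m → F) (B : Matrix (Fin m) (Fin m) F), QP σ y B ∧ g = qO σ y B := by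
  constructor
  · intro hg
    unfold Qsub at hg
    induction hg using Subgroup.closure_induction with
    | mem x hx =>
      obtain ⟨y, B, rfl⟩ := hx
      by_cases h : QP σ y B
      · exact ⟨y, B, h, rfl⟩
      · refine ⟨0, 0, Cfsg.Agent.Helper55.PsuIo.QP_zero, ?_⟩
        rw [OQS_qO_of_not hσ h, Cfsg.Agent.Helper55.PsuIo.qO_zero hσ]
    | one =>
      exact ⟨0, 0, Cfsg.Agent.Helper55.PsuIo.QP_zero, (Cfsg.Agent.Helper55.PsuIo.qO_zero hσ).symm⟩
    | mul a b _ _ iha ihb =>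
      obtain ⟨y, B, h, rfl⟩ := iha
      obtain ⟨y', B', h', rfl⟩ := ihb
      exact ⟨_, _, Cfsg.Agent.Helper55.PsuIo.QP_mul hσ h h', Cfsg.Agent.Helper55.PsuIo.qO_mul hσ h h'⟩
    | inv a _ iha =>
      obtain ⟨y, B, h, rfl⟩ := iha
      exact ⟨_, _, Cfsg.Agent.Helper55.PsuIo.QP_inv hσ h, Cfsg.Agent.Helper55.PsuIo.qO_inv hσ h⟩
  · rintro ⟨y, B, -, rfl⟩
    exact Subgroup.subset_closure ⟨y, B, rfl⟩

/-- (OQS2) two elements of `Qsub` with the same `y` differ by an element of `Zsub` -/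
theorem qO_eq_mul_Z (hσ : ∀ x, σ (σ x) = x) {y : Fin m → F} {B B' : Matrix (Fin m) (Fin m) F}
    (h : QP σ y B) (h' : QP σ y B') :
    B - B' ∈ Ev.SkewH m σ ∧ qO σ y B = qO σ y B' * qO σ 0 (B - B') := by
  have hskew : (B - B').map σ + (B - B')ᵀ = 0 := by
    ext i j
    have h1 := Cfsg.Agent.Helper55.PsuIo.OQ_QP_entry h i j
    have h2 := Cfsg.Agent.Helper55.PsuIo.OQ_QP_entry h' i j
    simp only [Matrix.add_apply, Matrix.map_apply, Matrix.transpose_apply, Matrix.sub_apply,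
      Matrix.zero_apply, map_sub]
    linear_combination h1 - h2
  have hQ0 : QP σ (0 : Fin m → F) (B - B') := by
    apply Cfsg.Agent.Helper55.PsuIo.OQ_QP_of_entry
    intro i j
    have := congrFun (congrFun hskew i) j
    simp only [Matrix.add_apply, Matrix.map_apply, Matrix.transpose_apply, Matrix.zero_apply] at this
    simp only [Pi.zero_apply, map_zero, mul_zero, add_zero]
    exact this
  refine ⟨hskew, ?_⟩
  rw [Cfsg.Agent.Helper55.PsuIo.qO_mul hσ h' hQ0]
  congr 1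
  · rw [add_zero]
  · ext i j
    simp [vecMulVec_apply]

/-- (OQS3) every `y` occurs -/
theorem exists_QP (hσ : ∀ x, σ (σ x) = x) {θ : F} (hθ : θ + σ θ = 1) (y : Fin m → F) :
    QP σ y (-(θ • (Matrix.vecMulVec (fun i => σ (y i)) y)ᵀ)) := by
  apply Cfsg.Agent.Helper55.PsuIo.OQ_QP_of_entry
  intro i j
  simp only [Matrix.neg_apply, Matrix.smul_apply, Matrix.transpose_apply, vecMulVec_apply, smul_eq_mul,
    map_neg, map_mul, hσ]
  linear_combination (-(y j * σ (y i))) * hθ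

end Cfsg.Agent.Helper29.PsuIo
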