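import Cfsg.Agent.Helper43.PsuM.RDefs

/-!
# S2089 block R, round 2 (helper43): (TR1), (TR2), (TR3) — transport of `NoStem`, `NoStemP`, `NoStemP'`
along an isomorphism
-/

set_option autoImplicit false

namespace Cfsg.Agent.Helper29.PsuM

open scoped commutatorElement
open Cfsg.Agent.Helper43.PsuM

universe u

/-- composing a stem extension with an isomorphism of the base gives a stem extension with the same kernel -/
theorem TR_stem_comp {Γ G H : Type u} [Group Γ] [Group G] [Group H] (e : G ≃* H) (τ : Γ →* H)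
    (hτ : Cfsg.IsStemExtension τ) :
    Cfsg.IsStemExtension (e.symm.toMonoidHom.comp τ) ∧ (e.symm.toMonoidHom.comp τ).ker = τ.ker := by
  have hker : (e.symm.toMonoidHom.comp τ).ker = τ.ker := by
    ext x
    simp only [MonoidHom.mem_ker, MonoidHom.comp_apply, MulEquiv.coe_toMonoidHom]
    constructor
    · intro h
      have := congrArg e h
      simpa using this
    · intro h
      rw [h, map_one]
  refine ⟨⟨?_, ?_, ?_⟩, hker⟩
  · exact e.symm.surjective.comp hτ.1
  · rw [hker]; exact hτ.2.1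
  · rw [hker]; exact hτ.2.2

/-- (TR1) transport along an isomorphism. -/
theorem noStem_congr {G H : Type u} [Group G] [Group H] (e : G ≃* H) (h : NoStem G) : NoStem H := by
  intro Γ _ _ τ hτ
  obtain ⟨h1, h2⟩ := TR_stem_comp e τ hτ
  rw [← h2]
  exact h Γ _ h1

/-- (TR2) -/
theorem noStemP_congr {G H : Type u} [Group G] [Group H] (e : G ≃* H) (p : ℕ) (h : NoStemP G p) :
    NoStemP H p := by
  intro Γ _ _ τ hτ hcard
  obtain ⟨h1, h2⟩ := TR_stem_comp e τ hτ
  exact h Γ _ h1 (by rw [h2]; exact hcard)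

/-- (TR3) -/
theorem noStemP'_congr {G H : Type u} [Group G] [Group H] (e : G ≃* H) (p : ℕ) (h : NoStemP' G p) :
    NoStemP' H p := by
  intro Γ _ _ τ hτ hcop
  obtain ⟨h1, h2⟩ := TR_stem_comp e τ hτ
  rw [← h2]
  exact h Γ _ h1 (by rw [h2]; exact hcop)

end Cfsg.Agent.Helper29.PsuM
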