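import Cfsg.Agent.Helper29.QSimDGb

/-!
helper29, piece (DGa) of #6920 for helper44 (S5981): `diag(ζ, ζ, ζ⁻², 1, …, 1)`, `ζ` of prime order
`r ≥ 5`, is a similarity of no non-degenerate quadratic form when `n ≥ 3`, unless `n = r = 5`.
-/

set_option autoImplicit false
open scoped MatrixGroups

namespace Cfsg.Agent.Helper29.QSim

open Matrix Cfsg.Geo QuadraticMap Polynomial Cfsg.Agent.Helper44.QType Cfsg.Agent.Helper44.QSim

universe u

variable {F : Type u} [Field F] [Fintype F] {n : ℕ}

/-- (DGa) -/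
theorem exists_diag_noSim_ge_five {q : ℕ} (hq : Fintype.card F = q) (hn : 3 ≤ n) (r : ℕ)
    (hr : r.Prime) (hr5 : 5 ≤ r) (hrq : r ∣ q - 1) (hnr : ¬ (n = 5 ∧ r = 5)) :
    ∃ x : GL (Fin n) F, IsPrimeElt r x ∧ NoSim (x : Matrix (Fin n) (Fin n) F) := by
  classical
  obtain ⟨ζu, hζu⟩ := exists_orderOf_eq hq r hr hrq
  set ζ : F := (ζu : F) with hζ
  have hζ0 : ζ ≠ 0 := ζu.ne_zero
  have hζr : ζ ^ r = 1 := by
    have := pow_orderOf_eq_one ζu
    rw [hζu] at this
    have h := congrArg (fun u : Fˣ => (u : F)) this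
    simpa using h
  -- `ζ ^ k = 1` forces `r ∣ k`
  have hdvd : ∀ k : ℕ, ζ ^ k = 1 → r ∣ k := by
    intro k hk
    rw [← hζu]
    apply orderOf_dvd_of_pow_eq_one
    apply Units.ext
    simpa using hk
  have hk_ne : ∀ k : ℕ, 0 < k → k < r → ζ ^ k ≠ 1 := by
    intro k hk0 hkr h
    have := Nat.le_of_dvd hk0 (hdvd k h)
    omega
  have hζ1 : ζ ≠ 1 := by
    have := hk_ne 1 (by omega) (by omega)
    simpa using this
  set w : F := (ζ⁻¹) ^ 2 with hw
  have hw0 : w ≠ 0 := pow_ne_zero _ (inv_ne_zero hζ0)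
  have hwζ2 : w * ζ ^ 2 = 1 := by
    rw [hw, inv_pow, inv_mul_cancel₀ (pow_ne_zero _ hζ0)]
  -- `w ≠ ζ`, `w ≠ 1`
  have hwζ : w ≠ ζ := by
    intro h
    have : ζ ^ 3 = 1 := by
      have := hwζ2
      rw [h] at this
      rw [← this]; ring
    exact hk_ne 3 (by omega) (by omega) this
  have hw1 : w ≠ 1 := by
    intro h
    have : ζ ^ 2 = 1 := by
      have := hwζ2
      rw [h, one_mul] at this
      exact this
    exact hk_ne 2 (by omega) (by omega) this
  set μ : Fin n → F := fun i => if (i : ℕ) < 2 then ζ else if (i : ℕ) = 2 then w else 1 with hμ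
  have hμlt : ∀ i : Fin n, (i : ℕ) < 2 → μ i = ζ := fun i hi => if_pos hi
  have hμ2 : ∀ i : Fin n, (i : ℕ) = 2 → μ i = w := fun i hi => by
    show (if (i : ℕ) < 2 then ζ else if (i : ℕ) = 2 then w else 1) = w
    rw [if_neg (by omega), if_pos hi]
  have hμge : ∀ i : Fin n, 3 ≤ (i : ℕ) → μ i = 1 := fun i hi => by
    show (if (i : ℕ) < 2 then ζ else if (i : ℕ) = 2 then w else 1) = 1
    rw [if_neg (by omega), if_neg (by omega)]
  have hμ0 : ∀ i, μ i ≠ 0 := by
    intro i
    by_cases hi : (i : ℕ) < 2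
    · rw [hμlt i hi]; exact hζ0
    · by_cases hi2 : (i : ℕ) = 2
      · rw [hμ2 i hi2]; exact hw0
      · rw [hμge i (by omega)]; exact one_ne_zero
  obtain ⟨x, hx⟩ := exists_gl_diagonal μ hμ0
  refine ⟨x, ⟨?_, ⟨1, ?_⟩, ?_⟩, ?_⟩
  · -- determinant
    rw [mem_specialLinear_iff, hx, Matrix.det_diagonal]
    rw [Fin.prod_univ_eq_prod_range (fun i => if i < 2 then ζ else if i = 2 then w else 1) n]
    obtain ⟨k, rfl⟩ : ∃ k, n = 3 + k := ⟨n - 3, by omega⟩
    rw [Finset.prod_range_add]
    have h1 : ∏ i ∈ Finset.range 3, (if i < 2 then ζ else if i = 2 then w else 1) = w * ζ ^ 2 := by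
      simp [Finset.prod_range_succ]
      ring
    have h2 : ∏ i ∈ Finset.range k, (if 3 + i < 2 then ζ else if 3 + i = 2 then w else 1) = 1 := by
      apply Finset.prod_eq_one
      intro i _
      have h3 : ¬ 3 + i < 2 := by omega
      have h4 : ¬ 3 + i = 2 := by omega
      simp [h3, h4]
    rw [h1, h2, hwζ2, mul_one]
  · rw [Units.val_pow_eq_pow_val, hx, Matrix.diagonal_pow, one_smul, ← Matrix.diagonal_one]
    congr 1
    funext i
    by_cases hi : (i : ℕ) < 2
    · simp only [Pi.pow_apply, hμlt i hi, hζr]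
    · by_cases hi2 : (i : ℕ) = 2
      · simp only [Pi.pow_apply, hμ2 i hi2]
        rw [hw, ← pow_mul, mul_comm, pow_mul, inv_pow, hζr, inv_one, one_pow]
      · simp only [Pi.pow_apply, hμge i (by omega), one_pow]
  · intro z hz
    rw [hx] at hz
    have e0 := congrFun (congrFun hz (⟨0, by omega⟩ : Fin n)) (⟨0, by omega⟩ : Fin n)
    have e2 := congrFun (congrFun hz (⟨2, by omega⟩ : Fin n)) (⟨2, by omega⟩ : Fin n)
    rw [Matrix.diagonal_apply_eq, Matrix.smul_apply, Matrix.one_apply_eq, smul_eq_mul, mul_one] at e0 e2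
    rw [hμlt _ (by simp)] at e0
    rw [hμ2 _ (by simp)] at e2
    exact hwζ (e2.trans e0.symm)
  · intro Q' hQ' c hc hsim
    rw [hx] at hsim
    obtain ⟨σ, hσ⟩ := exists_perm_of_simWith_diagonal Q' hQ' μ c hsim
    have hval : ∀ j : Fin n, μ j = ζ ∨ μ j = w ∨ μ j = 1 := by
      intro j
      by_cases hj : (j : ℕ) < 2
      · left; exact hμlt j hj
      · by_cases hj2 : (j : ℕ) = 2
        · right; left; exact hμ2 j hj2
        · right; right; exact hμge j (by omega)
    have hlt_of : ∀ j : Fin n, μ j = ζ → (j : ℕ) < 2 := by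
      intro j hj
      by_contra h
      by_cases hj2 : (j : ℕ) = 2
      · rw [hμ2 j hj2] at hj; exact hwζ hj
      · rw [hμge j (by omega)] at hj; exact hζ1 hj.symm
    have heq2_of : ∀ j : Fin n, μ j = w → (j : ℕ) = 2 := by
      intro j hj
      by_contra h
      by_cases hj2 : (j : ℕ) < 2
      · rw [hμlt j hj2] at hj; exact hwζ hj.symm
      · rw [hμge j (by omega)] at hj; exact hw1 hj.symm
    set j0 : Fin n := ⟨0, by omega⟩ with hj0
    set j1 : Fin n := ⟨1, by omega⟩ with hj1
    set j2 : Fin n := ⟨2, by omega⟩ with hj2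
    have hinj : ∀ a b : Fin n, (a : ℕ) ≠ (b : ℕ) → ((σ a : Fin n) : ℕ) ≠ ((σ b : Fin n) : ℕ) := by
      intro a b hab h
      apply hab
      have := σ.injective (Fin.ext h)
      rw [this]
    have h0 := hσ j0
    have h1 := hσ j1
    have h2 := hσ j2
    rw [hμlt j0 (by simp [hj0])] at h0
    rw [hμlt j1 (by simp [hj1])] at h1
    rw [hμ2 j2 (by simp [hj2])] at h2
    -- `μ (σ j0) = μ (σ j1)`
    have h01 : μ (σ j0) = μ (σ j1) := by
      have : μ (σ j0) * ζ = μ (σ j1) * ζ := by rw [h0, h1]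
      exact mul_right_cancel₀ hζ0 this
    -- `μ (σ j2) = c * ζ ^ 2`
    have h2' : μ (σ j2) = c * ζ ^ 2 := by
      rw [← h2, mul_assoc, hwζ2, mul_one]
    rcases hval (σ j0) with ha | ha | ha
    · -- `c = ζ ^ 2`, `μ (σ j2) = ζ ^ 4`
      rw [ha] at h0
      have hc2 : c = ζ ^ 2 := by rw [← h0, _root_.sq]
      rw [hc2] at h2'
      rcases hval (σ j2) with hb | hb | hb
      · rw [hb] at h2'
        have : ζ ^ 3 = 1 := by
          have h5 : ζ * 1 = ζ * ζ ^ 3 := by linear_combination h2'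
          exact (mul_left_cancel₀ hζ0 h5).symm
        exact hk_ne 3 (by omega) (by omega) this
      · rw [hb] at h2'
        have : ζ ^ 6 = 1 := by
          calc ζ ^ 6 = (ζ ^ 2 * ζ ^ 2) * ζ ^ 2 := by ring
            _ = w * ζ ^ 2 := by rw [← h2']
            _ = 1 := hwζ2
        have h6 := hdvd 6 this
        have : r ∣ 2 ∨ r ∣ 3 := (Nat.Prime.dvd_mul hr).mp (by norm_num at h6 ⊢; exact h6)
        rcases this with h7 | h7
        · have := Nat.le_of_dvd (by omega) h7; omega
        · have := Nat.le_of_dvd (by omega) h7; omega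
      · rw [hb] at h2'
        have : ζ ^ 4 = 1 := by rw [h2']; ring
        have h4 := hdvd 4 this
        have := Nat.le_of_dvd (by omega) h4
        omega
    · -- impossible: the value `w` occurs once
      have e0 := heq2_of _ ha
      have e1 := heq2_of _ (h01 ▸ ha)
      exact hinj j0 j1 (by simp [hj0, hj1]) (e0.trans e1.symm)
    · -- `c = ζ`
      rw [ha, one_mul] at h0
      have hc' : ∀ j : Fin n, 3 ≤ (j : ℕ) → ((σ j : Fin n) : ℕ) < 2 := by
        intro j hj
        apply hlt_of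
        have := hσ j
        rw [hμge j hj, mul_one, ← h0] at this
        exact this
      have hc'' : ∀ j : Fin n, (j : ℕ) < 2 → 3 ≤ ((σ j : Fin n) : ℕ) := by
        intro j hj
        have := hσ j
        rw [hμlt j hj, ← h0] at this
        have h5 : μ (σ j) * ζ = 1 * ζ := by rw [this, one_mul]
        have h6 := mul_right_cancel₀ hζ0 h5
        by_contra h
        by_cases hj2 : ((σ j : Fin n) : ℕ) < 2
        · rw [hμlt _ hj2] at h6; exact hζ1 h6
        · rw [hμ2 _ (by omega)] at h6; exact hw1 h6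
      -- `n = 5`
      have hn5 : n = 5 := by
        by_contra hne
        by_cases hn6 : 6 ≤ n
        · set j3 : Fin n := ⟨3, by omega⟩ with hj3
          set j4 : Fin n := ⟨4, by omega⟩ with hj4
          set j5 : Fin n := ⟨5, by omega⟩ with hj5
          have a3 := hc' j3 (by simp [hj3])
          have a4 := hc' j4 (by simp [hj4])
          have a5 := hc' j5 (by simp [hj5])
          have d34 := hinj j3 j4 (by simp [hj3, hj4])
          have d35 := hinj j3 j5 (by simp [hj3, hj5])
          have d45 := hinj j4 j5 (by simp [hj4, hj5])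
          omega
        · have a0 := hc'' j0 (by simp [hj0])
          have a1 := hc'' j1 (by simp [hj1])
          have b0 := (σ j0).2
          have b1 := (σ j1).2
          have d01 := hinj j0 j1 (by simp [hj0, hj1])
          omega
      have hr5' : r ≠ 5 := fun h => hnr ⟨hn5, h⟩
      rw [← h0] at h2'
      -- `μ (σ j2) = ζ ^ 3`
      rcases hval (σ j2) with hb | hb | hb
      · rw [hb] at h2'
        have : ζ ^ 2 = 1 := by
          have h5 : ζ * 1 = ζ * ζ ^ 2 := by linear_combination h2'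
          exact (mul_left_cancel₀ hζ0 h5).symm
        exact hk_ne 2 (by omega) (by omega) this
      · rw [hb] at h2'
        have : ζ ^ 5 = 1 := by
          calc ζ ^ 5 = (ζ * ζ ^ 2) * ζ ^ 2 := by ring
            _ = w * ζ ^ 2 := by rw [← h2']
            _ = 1 := hwζ2
        have h5 := hdvd 5 this
        have := (Nat.prime_dvd_prime_iff_eq hr (by norm_num)).mp h5
        exact hr5' this
      · rw [hb] at h2'
        have : ζ ^ 3 = 1 := by rw [h2']; ring
        exact hk_ne 3 (by omega) (by omega) this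

end Cfsg.Agent.Helper29.QSim
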