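import Cfsg.Agent.Helper44.QSimDefs
import Cfsg.Agent.Helper44.QSimDiag

/-!
helper29, piece (DGb) of #6920 for helper44 (S5981): `diag(ζ, ζ, ζ, 1, …, 1)`, `ζ` of order `3`, is a
similarity of no non-degenerate quadratic form when `n ≥ 4`, `n ≠ 6`.
-/

set_option autoImplicit false
open scoped MatrixGroups

namespace Cfsg.Agent.Helper29.QSim

open Matrix Cfsg.Geo QuadraticMap Polynomial Cfsg.Agent.Helper44.QType Cfsg.Agent.Helper44.QSim

universe u

variable {F : Type u} [Field F] [Fintype F] {n : ℕ}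

/-- an element of prime order `r` of the multiplicative group when `r ∣ q - 1` -/
theorem exists_orderOf_eq {q : ℕ} (hq : Fintype.card F = q) (r : ℕ) (hr : r.Prime)
    (hrq : r ∣ q - 1) : ∃ ζ : Fˣ, orderOf ζ = r := by
  classical
  have : Fact r.Prime := ⟨hr⟩
  apply exists_prime_orderOf_dvd_card' r
  rw [Nat.card_eq_fintype_card, Fintype.card_units, hq]
  exact hrq

omit [Fintype F] in
/-- a diagonal matrix with nonzero entries as an element of `GL` -/
theorem exists_gl_diagonal (μ : Fin n → F) (hμ : ∀ i, μ i ≠ 0) :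
    ∃ x : GL (Fin n) F, (x : Matrix (Fin n) (Fin n) F) = Matrix.diagonal μ := by
  refine ⟨⟨Matrix.diagonal μ, Matrix.diagonal (fun i => (μ i)⁻¹), ?_, ?_⟩, rfl⟩
  · rw [Matrix.diagonal_mul_diagonal, ← Matrix.diagonal_one]
    congr 1
    funext i
    exact mul_inv_cancel₀ (hμ i)
  · rw [Matrix.diagonal_mul_diagonal, ← Matrix.diagonal_one]
    congr 1
    funext i
    exact inv_mul_cancel₀ (hμ i)

/-- (DGb) -/
theorem exists_diag_noSim_three {q : ℕ} (hq : Fintype.card F = q) (hn : 4 ≤ n) (hn6 : n ≠ 6)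
    (h3 : 3 ∣ q - 1) :
    ∃ x : GL (Fin n) F, IsPrimeElt 3 x ∧ NoSim (x : Matrix (Fin n) (Fin n) F) := by
  classical
  obtain ⟨ζu, hζu⟩ := exists_orderOf_eq hq 3 Nat.prime_three h3
  set ζ : F := (ζu : F) with hζ
  have hζ0 : ζ ≠ 0 := ζu.ne_zero
  have hζ3 : ζ ^ 3 = 1 := by
    have := pow_orderOf_eq_one ζu
    rw [hζu] at this
    have h := congrArg (fun u : Fˣ => (u : F)) this
    simpa using h
  have hζ1 : ζ ≠ 1 := by
    intro h
    have : ζu = 1 := Units.ext h
    rw [this, orderOf_one] at hζu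
    omega
  have hζ2 : ζ ^ 2 ≠ 1 := by
    intro h
    apply hζ1
    have : ζ ^ 3 = ζ := by rw [pow_succ, h, one_mul]
    rw [← this, hζ3]
  have hζζ : ζ ^ 2 ≠ ζ := by
    intro h
    apply hζ1
    have h1 : ζ * ζ = ζ * 1 := by rw [mul_one, ← _root_.sq, h]
    exact mul_left_cancel₀ hζ0 h1
  set μ : Fin n → F := fun i => if (i : ℕ) < 3 then ζ else 1 with hμ
  have hμlt : ∀ i : Fin n, (i : ℕ) < 3 → μ i = ζ := fun i hi => by simp [hμ, hi]
  have hμge : ∀ i : Fin n, 3 ≤ (i : ℕ) → μ i = 1 := fun i hi => by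
    have : ¬ (i : ℕ) < 3 := by omega
    simp [hμ, this]
  have hμ0 : ∀ i, μ i ≠ 0 := by
    intro i
    by_cases hi : (i : ℕ) < 3
    · rw [hμlt i hi]; exact hζ0
    · rw [hμge i (by omega)]; exact one_ne_zero
  obtain ⟨x, hx⟩ := exists_gl_diagonal μ hμ0
  refine ⟨x, ⟨?_, ⟨1, ?_⟩, ?_⟩, ?_⟩
  · -- determinant
    rw [mem_specialLinear_iff, hx, Matrix.det_diagonal]
    have e : ∀ i : Fin n, μ i = if (i : ℕ) < 3 then ζ else 1 := fun i => rfl
    rw [Fin.prod_univ_eq_prod_range (fun i => if i < 3 then ζ else 1) n]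
    obtain ⟨k, rfl⟩ : ∃ k, n = 3 + k := ⟨n - 3, by omega⟩
    rw [Finset.prod_range_add]
    have h1 : ∏ i ∈ Finset.range 3, (if i < 3 then ζ else 1) = ζ ^ 3 := by
      simp [Finset.prod_range_succ]
      ring
    have h2 : ∏ i ∈ Finset.range k, (if 3 + i < 3 then ζ else 1) = 1 := by
      apply Finset.prod_eq_one
      intro i _
      have : ¬ 3 + i < 3 := by omega
      simp [this]
    rw [h1, h2, hζ3, mul_one]
  · rw [Units.val_pow_eq_pow_val, hx, Matrix.diagonal_pow, one_smul, ← Matrix.diagonal_one]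
    congr 1
    funext i
    by_cases hi : (i : ℕ) < 3
    · simp only [Pi.pow_apply, hμlt i hi, hζ3]
    · simp only [Pi.pow_apply, hμge i (by omega), one_pow]
  · intro z hz
    rw [hx] at hz
    have e0 := congrFun (congrFun hz (⟨0, by omega⟩ : Fin n)) (⟨0, by omega⟩ : Fin n)
    have e3 := congrFun (congrFun hz (⟨3, by omega⟩ : Fin n)) (⟨3, by omega⟩ : Fin n)
    rw [Matrix.diagonal_apply_eq, Matrix.smul_apply, Matrix.one_apply_eq, smul_eq_mul, mul_one] at e0 e3
    rw [hμlt _ (by simp)] at e0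
    rw [hμge _ (by simp)] at e3
    exact hζ1 (e0.trans e3.symm)
  · intro Q' hQ' c hc hsim
    rw [hx] at hsim
    obtain ⟨σ, hσ⟩ := exists_perm_of_simWith_diagonal Q' hQ' μ c hsim
    -- values of `μ`
    have hval : ∀ j : Fin n, μ j = ζ ∨ μ j = 1 := by
      intro j
      by_cases hj : (j : ℕ) < 3
      · left; exact hμlt j hj
      · right; exact hμge j (by omega)
    have hlt_of : ∀ j : Fin n, μ j = ζ → (j : ℕ) < 3 := by
      intro j hj
      by_contra h
      rw [hμge j (by omega)] at hj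
      exact hζ1 hj.symm
    have hge_of : ∀ j : Fin n, μ j = 1 → 3 ≤ (j : ℕ) := by
      intro j hj
      by_contra h
      rw [hμlt j (by omega)] at hj
      exact hζ1 hj
    set j0 : Fin n := ⟨0, by omega⟩ with hj0
    set j1 : Fin n := ⟨1, by omega⟩ with hj1
    set j2 : Fin n := ⟨2, by omega⟩ with hj2
    set j3 : Fin n := ⟨3, by omega⟩ with hj3
    have hinj : ∀ a b : Fin n, (a : ℕ) ≠ (b : ℕ) → ((σ a : Fin n) : ℕ) ≠ ((σ b : Fin n) : ℕ) := by
      intro a b hab h
      apply hab
      have := σ.injective (Fin.ext h)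
      rw [this]
    have h0 := hσ j0
    have h1 := hσ j1
    have h2 := hσ j2
    have h3 := hσ j3
    rw [hμlt j0 (by simp [hj0])] at h0
    rw [hμlt j1 (by simp [hj1])] at h1
    rw [hμlt j2 (by simp [hj2])] at h2
    rw [hμge j3 (by simp [hj3]), mul_one] at h3
    rcases hval (σ j0) with ha | ha
    · -- `c = ζ ^ 2`
      rw [ha] at h0
      rw [← h0, ← _root_.sq] at h3
      rcases hval (σ j3) with hb | hb
      · rw [hb] at h3; exact hζζ h3.symm
      · rw [hb] at h3; exact hζ2 h3.symm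
    · -- `c = ζ`
      rw [ha, one_mul] at h0
      have hc' : ∀ j : Fin n, 3 ≤ (j : ℕ) → ((σ j : Fin n) : ℕ) < 3 := by
        intro j hj
        apply hlt_of
        have := hσ j
        rw [hμge j hj, mul_one, ← h0] at this
        exact this
      have hc'' : ∀ j : Fin n, (j : ℕ) < 3 → 3 ≤ ((σ j : Fin n) : ℕ) := by
        intro j hj
        apply hge_of
        have := hσ j
        rw [hμlt j hj, ← h0] at this
        have h5 : μ (σ j) * ζ = 1 * ζ := by rw [this, one_mul]
        exact mul_right_cancel₀ hζ0 h5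
      by_cases hn7 : 7 ≤ n
      · set j4 : Fin n := ⟨4, by omega⟩ with hj4
        set j5 : Fin n := ⟨5, by omega⟩ with hj5
        set j6 : Fin n := ⟨6, by omega⟩ with hj6
        have a3 := hc' j3 (by simp [hj3])
        have a4 := hc' j4 (by simp [hj4])
        have a5 := hc' j5 (by simp [hj5])
        have a6 := hc' j6 (by simp [hj6])
        have d34 := hinj j3 j4 (by simp [hj3, hj4])
        have d35 := hinj j3 j5 (by simp [hj3, hj5])
        have d36 := hinj j3 j6 (by simp [hj3, hj6])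
        have d45 := hinj j4 j5 (by simp [hj4, hj5])
        have d46 := hinj j4 j6 (by simp [hj4, hj6])
        have d56 := hinj j5 j6 (by simp [hj5, hj6])
        omega
      · have a0 := hc'' j0 (by simp [hj0])
        have a1 := hc'' j1 (by simp [hj1])
        have a2 := hc'' j2 (by simp [hj2])
        have b0 := (σ j0).2
        have b1 := (σ j1).2
        have b2 := (σ j2).2
        have d01 := hinj j0 j1 (by simp [hj0, hj1])
        have d02 := hinj j0 j2 (by simp [hj0, hj2])
        have d12 := hinj j1 j2 (by simp [hj1, hj2])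
        omega

end Cfsg.Agent.Helper29.QSim
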