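import Cfsg.Agent.Helper44.QSimDefs
import Cfsg.Agent.Helper44.QSimDiag

/-!
helper29, piece (U) of #6920 for helper44 (S5981): a unipotent element of order `p` which is a
similarity of no non-degenerate quadratic form (`p` odd).
-/

set_option autoImplicit false
open scoped MatrixGroups

namespace Cfsg.Agent.Helper29.QSim

open Matrix Cfsg.Geo QuadraticMap Polynomial Cfsg.Agent.Helper44.QType Cfsg.Agent.Helper44.QSim

universe u

variable {F : Type u} [Field F] [Fintype F] {n : ℕ}

omit [Fintype F] in
theorem simWith_pow {Q : (Fin n → F) → F} {M : Matrix (Fin n) (Fin n) F} {c : F}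
    (h : SimWith Q M c) (k : ℕ) : SimWith Q (M ^ k) (c ^ k) := by
  induction k with
  | zero => intro v; simp
  | succ k ih =>
    intro v
    rw [pow_succ, ← Matrix.mulVec_mulVec, ih, h, pow_succ, mul_assoc]

/-- (U) -/
theorem exists_unipotent_noSim (p : ℕ) [Fact p.Prime] [CharP F p] (hp2 : p ≠ 2) (hn : 2 ≤ n) :
    ∃ x : GL (Fin n) F, IsPrimeElt p x ∧ NoSim (x : Matrix (Fin n) (Fin n) F) := by
  classical
  have hp : p.Prime := Fact.out
  have : Nonempty (Fin n) := ⟨⟨0, by omega⟩⟩
  have : CharP (Matrix (Fin n) (Fin n) F) p := Matrix.charP p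
  have h2F : (2 : F) ≠ 0 := by
    intro h
    have h2 : ((2 : ℕ) : F) = 0 := by exact_mod_cast h
    have := (CharP.cast_eq_zero_iff F p 2).mp h2
    have := (Nat.prime_dvd_prime_iff_eq hp Nat.prime_two).mp this
    exact hp2 this
  set i0 : Fin n := ⟨0, by omega⟩ with hi0
  set i1 : Fin n := ⟨1, by omega⟩ with hi1
  have h01 : i0 ≠ i1 := by
    intro h
    have := congrArg Fin.val h
    simp [hi0, hi1] at this
  set N : Matrix (Fin n) (Fin n) F := Matrix.single i0 i1 1 with hN
  have hNN : N * N = 0 := by
    rw [hN, Matrix.single_mul_single_of_ne _ _ _ _ (Ne.symm h01)]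
  have hNv : ∀ v : Fin n → F, N *ᵥ v = v i1 • (Pi.single i0 1 : Fin n → F) := by
    intro v
    rw [hN, Matrix.single_mulVec, one_mul]
    funext k
    by_cases hk : k = i0
    · subst hk; simp
    · simp [hk]
  have hinv1 : (1 + N) * (1 - N) = 1 := by
    rw [mul_sub, mul_one, add_mul, one_mul, hNN]; abel
  have hinv2 : (1 - N) * (1 + N) = 1 := by
    rw [mul_add, mul_one, sub_mul, one_mul, hNN]; abel
  set x : GL (Fin n) F := ⟨1 + N, 1 - N, hinv1, hinv2⟩ with hx
  have hxval : (x : Matrix (Fin n) (Fin n) F) = 1 + N := rfl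
  have hpow : (1 + N) ^ p = 1 := by
    have hNp : N ^ p = 0 := by
      obtain ⟨j, rfl⟩ : ∃ j, p = 2 + j := ⟨p - 2, by have := hp.two_le; omega⟩
      rw [pow_add, pow_two, hNN, zero_mul]
    rw [add_pow_char_of_commute p (Commute.one_left _), one_pow, hNp, add_zero]
  have hdet : (1 + N).det = 1 := by
    have h1 : (1 + N).det ^ p = 1 := by
      rw [← Matrix.det_pow, hpow, Matrix.det_one]
    have h2 : ((1 + N).det - 1) ^ p = 0 := by
      rw [sub_pow_char, h1, one_pow, sub_self]
    exact sub_eq_zero.mp (pow_eq_zero_iff hp.ne_zero |>.mp h2)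
  refine ⟨x, ⟨?_, ⟨1, ?_⟩, ?_⟩, ?_⟩
  · rw [mem_specialLinear_iff, hxval]
    exact hdet
  · rw [Units.val_pow_eq_pow_val, hxval, hpow, one_smul]
  · intro z hz
    rw [hxval] at hz
    have := congrFun (congrFun hz i0) i1
    simp [hN, Matrix.smul_apply, Matrix.one_apply_ne h01] at this
  · intro Q' hQ' c hc hsim
    rw [hxval] at hsim
    -- `c = 1`
    have hcp : c ^ p = 1 := by
      have h1 := simWith_pow hsim p
      rw [hpow] at h1
      -- some vector has nonzero value
      by_contra hne
      have hQ0 : ∀ v, Q' v = 0 := by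
        intro v
        have := h1 v
        rw [Matrix.one_mulVec] at this
        have h3 : (c ^ p - 1) * Q' v = 0 := by rw [sub_mul, ← this, one_mul, sub_self]
        rcases mul_eq_zero.mp h3 with h4 | h4
        · exact absurd (sub_eq_zero.mp h4) hne
        · exact h4
      have h0 : (Pi.single i0 1 : Fin n → F) = 0 := by
        apply hQ'.1
        intro y
        rw [polarBilin_apply_apply]
        unfold QuadraticMap.polar
        rw [hQ0, hQ0, hQ0]; simp
      have := congrFun h0 i0
      simp at this
    have hc1 : c = 1 := by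
      have h2 : (c - 1) ^ p = 0 := by rw [sub_pow_char, hcp, one_pow, sub_self]
      exact sub_eq_zero.mp (pow_eq_zero_iff hp.ne_zero |>.mp h2)
    subst hc1
    -- the bilinear identity
    set B := polar (⇑Q') with hB
    set e0 : Fin n → F := Pi.single i0 1 with he0
    set e1 : Fin n → F := Pi.single i1 1 with he1
    have key : ∀ u v : Fin n → F, B (N *ᵥ u) v + B u (N *ᵥ v) + B (N *ᵥ u) (N *ᵥ v) = 0 := by
      intro u v
      have := hsim.polar u v
      rw [Matrix.add_mulVec, Matrix.add_mulVec, Matrix.one_mulVec, Matrix.one_mulVec, one_mul,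
        polar_add_left, polar_add_right, polar_add_right] at this
      rw [hB]
      linear_combination this
    have hNe1 : N *ᵥ e1 = e0 := by
      rw [hNv, he1]; simp
    have hNe0 : N *ᵥ e0 = 0 := by
      rw [hNv, he0]; simp [h01.symm]
    have hB00 : B e0 e0 = 0 := by
      have := key e1 e0
      rw [hNe1, hNe0] at this
      simpa [hB] using this
    have hB01 : B e0 e1 = 0 := by
      have := key e1 e1
      rw [hNe1, hB00] at this
      have hcomm : B e1 e0 = B e0 e1 := by rw [hB]; exact polar_comm _ _ _
      rw [hcomm] at this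
      have h3 : (2 : F) * B e0 e1 = 0 := by linear_combination this
      rcases mul_eq_zero.mp h3 with h4 | h4
      · exact absurd h4 h2F
      · exact h4
    have hzero : e0 = 0 := by
      apply hQ'.1
      intro v
      rw [polarBilin_apply_apply]
      have := key e1 v
      rw [hNe1, hNv v] at this
      have hcomm : B e1 e0 = B e0 e1 := by rw [hB]; exact polar_comm _ _ _
      have e2 : B e1 (v i1 • e0) = v i1 * B e1 e0 := by
        rw [hB, polar_smul_right, smul_eq_mul]
      have e3 : B e0 (v i1 • e0) = v i1 * B e0 e0 := by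
        rw [hB, polar_smul_right, smul_eq_mul]
      rw [e2, e3, hcomm, hB01, hB00] at this
      simpa [hB] using this
    have := congrFun hzero i0
    simp [he0] at this

end Cfsg.Agent.Helper29.QSim
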