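-- helper29 for helper46 (S2281, n ≥ 3), piece (KACT): the action of `k_2`, `k_4`.
import Mathlib
import Cfsg.Agent.Helper46.RSp.Defs

set_option autoImplicit false
set_option linter.unusedSectionVars false
set_option linter.unusedVariables false

namespace Cfsg.Agent.Helper29.RSp

open Matrix Cfsg.Agent.Helper13 Cfsg.Agent.Helper46.RSp

variable {K : Type*} [Field K] {j : ℕ}

local notation "Vec" => (Fin (j + 3) ⊕ Fin (j + 3) → K)
local notation "Mat" => Matrix (Fin (j + 3) ⊕ Fin (j + 3)) (Fin (j + 3) ⊕ Fin (j + 3)) K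
local notation "B" => Cfsg.sympForm (j + 3) K

theorem i1_ne_i2 : (i1 : Fin (j + 3)) ≠ i2 := by
  intro h
  have := congrArg Fin.val h
  simp [i1, i2] at this

theorem i1_ne_i3 : (i1 : Fin (j + 3)) ≠ i3 := by
  intro h
  have := congrArg Fin.val h
  simp [i1, i3] at this

theorem i2_ne_i3 : (i2 : Fin (j + 3)) ≠ i3 := by
  intro h
  have := congrArg Fin.val h
  simp [i2, i3] at this

theorem i1_ne_iN : (i1 : Fin (j + 3)) ≠ iN := by
  intro h
  have := congrArg Fin.val h
  simp [i1, iN] at this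

theorem i2_ne_iN : (i2 : Fin (j + 3)) ≠ iN := by
  intro h
  have := congrArg Fin.val h
  simp [i2, iN] at this

/-- the coordinates of `w = e_1` or `f_1` at the indices `≠ 1` vanish -/
theorem w_apply_inl {w : Vec} (hw : w = bE i1 ∨ w = bF i1) {l : Fin (j + 3)} (hl : i1 ≠ l) :
    w (Sum.inl l) = 0 := by
  rcases hw with rfl | rfl
  · rw [bE_apply_inl, if_neg (fun h => hl h.symm)]
  · rw [bF_apply_inl]

theorem k2M_bE2 : (k2M : Mat) *ᵥ (bE i2 : Vec) = bE i2 + bF i3 := by
  unfold k2M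
  rw [eichS_mulVec, sympForm_neg_right, form_bF_right, form_bF_right, bE_apply_inl, if_pos rfl,
    bE_apply_inl, if_neg (fun h => i2_ne_i3 h.symm)]
  module

theorem k2M_fix {w : Vec} (hw : w = bE i1 ∨ w = bF i1) : (k2M : Mat) *ᵥ w = w := by
  unfold k2M
  rw [eichS_mulVec, sympForm_neg_right, form_bF_right, form_bF_right, w_apply_inl hw i1_ne_i2,
    w_apply_inl hw i1_ne_i3]
  module

theorem k4M_bEN (τ : K) : k4M τ *ᵥ (bE iN : Vec) = bE iN + τ • bF i2 := by
  unfold k4M
  rw [eichS_mulVec, sympForm_neg_right, sympForm_smul_right, form_bF_right, form_bF_right,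
    bE_apply_inl, if_neg i2_ne_iN, bE_apply_inl, if_pos rfl]
  module

theorem k4M_fix (τ : K) {w : Vec} (hw : w = bE i1 ∨ w = bF i1) : k4M τ *ᵥ w = w := by
  unfold k4M
  rw [eichS_mulVec, sympForm_neg_right, sympForm_smul_right, form_bF_right, form_bF_right,
    w_apply_inl hw i1_ne_i2, w_apply_inl hw i1_ne_iN]
  module

end Cfsg.Agent.Helper29.RSp
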