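-- helper29 for helper46 (S2281, n ≥ 3), piece (REG), core form: the facts of (UWA2)/(UWP) are explicit
-- hypotheses (structure `RegFacts`).
import Mathlib
import Cfsg.Agent.Helper46.RSp.Defs
import Cfsg.Agent.Helper29.RSpKACT

set_option autoImplicit false
set_option linter.unusedSectionVars false
set_option linter.unusedVariables false

namespace Cfsg.Agent.Helper29.RSp

open Matrix Cfsg.Agent.Helper13 Cfsg.Agent.Helper46.RSp

variable {K : Type*} [Field K] {j : ℕ}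

local notation "Vec" => (Fin (j + 3) ⊕ Fin (j + 3) → K)
local notation "Mat" => Matrix (Fin (j + 3) ⊕ Fin (j + 3)) (Fin (j + 3) ⊕ Fin (j + 3)) K
local notation "B" => Cfsg.sympForm (j + 3) K

/-- the action of `A_12` -/
theorem A12M_mulVec (x : Vec) :
    (A12M : Mat) *ᵥ x = x - x (Sum.inr i1) • (bF i2 : Vec) + x (Sum.inl i2) • (bE i1 : Vec) := by
  unfold A12M
  rw [eichS_mulVec, form_bE_right, sympForm_neg_right, form_bF_right, neg_neg]
  module

theorem NU_add (c : K) (x y : Vec) : NU c (x + y) = NU c x + NU c y := by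
  unfold NU
  rw [Matrix.mulVec_add]
  abel

theorem NU_smul (c a : K) (x : Vec) : NU c (a • x) = a • NU c x := by
  unfold NU
  rw [Matrix.mulVec_smul, smul_sub]

/-- the action of `u - 1` -/
theorem uM_sub_one_mulVec (c : K) (hE1 : UWM c *ᵥ (bE i1 : Vec) = bE i1) (x : Vec) :
    ((uM c : Mat) - 1) *ᵥ x =
      NU c x - x (Sum.inr i1) • (UWM c *ᵥ (bF i2 : Vec)) + x (Sum.inl i2) • (bE i1 : Vec) := by
  unfold uM
  rw [Matrix.sub_mulVec, Matrix.one_mulVec, ← Matrix.mulVec_mulVec, A12M_mulVec, Matrix.mulVec_add,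
    Matrix.mulVec_sub, Matrix.mulVec_smul, Matrix.mulVec_smul, hE1]
  unfold NU
  abel

theorem uM_sub_one_bE1 (c : K) (hE1 : UWM c *ᵥ (bE i1 : Vec) = bE i1) :
    ((uM c : Mat) - 1) *ᵥ (bE i1 : Vec) = 0 := by
  rw [uM_sub_one_mulVec c hE1, bE_apply_inr, bE_apply_inl, if_neg (fun h => i1_ne_i2 h.symm),
    zero_smul, zero_smul]
  unfold NU
  rw [hE1, sub_self, sub_zero, add_zero]

theorem uM_sub_one_of_inV' (c : K) (hE1 : UWM c *ᵥ (bE i1 : Vec) = bE i1) {x : Vec} (hx : InV' x) :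
    ((uM c : Mat) - 1) *ᵥ x = NU c x + x (Sum.inl i2) • (bE i1 : Vec) := by
  rw [uM_sub_one_mulVec c hE1, hx.2, zero_smul, sub_zero]

theorem pow_succ_mulVec' (D : Mat) (n : ℕ) (x : Vec) : (D ^ (n + 1)) *ᵥ x = D *ᵥ ((D ^ n) *ᵥ x) := by
  rw [pow_succ', Matrix.mulVec_mulVec]

theorem pow_succ_mulVec (D : Mat) (n : ℕ) (x : Vec) : (D ^ (n + 1)) *ᵥ x = (D ^ n) *ᵥ (D *ᵥ x) := by
  rw [pow_succ, Matrix.mulVec_mulVec]

/-- the iterates of `u - 1` on `V'` -/
theorem uM_sub_one_pow_of_inV' (c : K) (hE1 : UWM c *ᵥ (bE i1 : Vec) = bE i1)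
    (hInV : ∀ x : Vec, InV' x → InV' (NU c x)) {x : Vec} (hx : InV' x) (k : ℕ) :
    (((uM c : Mat) - 1) ^ (k + 1)) *ᵥ x =
      (NU c)^[k + 1] x + ((NU c)^[k] x) (Sum.inl i2) • (bE i1 : Vec) := by
  have hV : ∀ k : ℕ, InV' ((NU c)^[k] x) := by
    intro k
    induction k with
    | zero => exact hx
    | succ k ih =>
      rw [Function.iterate_succ_apply']
      exact hInV _ ih
  induction k with
  | zero =>
    rw [zero_add, pow_one, Function.iterate_one, Function.iterate_zero, id_eq]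
    exact uM_sub_one_of_inV' c hE1 hx
  | succ k ih =>
    rw [pow_succ_mulVec', ih, Matrix.mulVec_add, Matrix.mulVec_smul, uM_sub_one_bE1 c hE1,
      smul_zero, add_zero, uM_sub_one_of_inV' c hE1 (hV (k + 1)),
      Function.iterate_succ_apply' (NU c) (k + 1)]

/-- the facts of (UWA2) and (UWP) used for (REG) -/
structure RegFacts (c : K) : Prop where
  hE1 : UWM c *ᵥ (bE i1 : Vec) = bE i1
  hF1 : UWM c *ᵥ (bF i1 : Vec) = bF i1
  hE2 : UWM c *ᵥ (bE i2 : Vec) = bE i2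
  hInV : ∀ x : Vec, InV' x → InV' (NU c x)
  hf2 : ∀ x : Vec, NU c x (Sum.inr i2) = 0
  hTop : ∀ x : Vec, InV' x →
    (NU c)^[2 * j + 3] x = ((-1 : K) ^ (j + 1) * c * x (Sum.inr i2)) • bE i2

section core

variable {c : K}

theorem NU_iter_zero (F : RegFacts (j := j) c) {x : Vec} (hx : InV' x) :
    (NU c)^[2 * j + 4] x = 0 := by
  rw [show 2 * j + 4 = (2 * j + 3) + 1 from rfl, Function.iterate_succ_apply', F.hTop x hx, NU_smul]
  unfold NU
  rw [F.hE2, sub_self, smul_zero]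

theorem uM_pow_a (F : RegFacts (j := j) c) {x : Vec} (hx : InV' x) :
    (((uM c : Mat) - 1) ^ (2 * j + 4)) *ᵥ x =
      ((-1 : K) ^ (j + 1) * c * x (Sum.inr i2)) • (bE i1 : Vec) := by
  have h := uM_sub_one_pow_of_inV' c F.hE1 F.hInV hx (2 * j + 3)
  rw [show 2 * j + 3 + 1 = 2 * j + 4 from rfl] at h
  rw [h, NU_iter_zero F hx, F.hTop x hx, zero_add, Pi.smul_apply, bE_apply_inl, if_pos rfl,
    smul_eq_mul, mul_one]

theorem uM_pow_b (F : RegFacts (j := j) c) {x : Vec} (hx : InV' x) :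
    (((uM c : Mat) - 1) ^ (2 * j + 5)) *ᵥ x = 0 := by
  rw [show 2 * j + 5 = (2 * j + 4) + 1 from rfl, pow_succ_mulVec', uM_pow_a F hx,
    Matrix.mulVec_smul, uM_sub_one_bE1 c F.hE1, smul_zero]

theorem uM_sub_one_bF1 (F : RegFacts (j := j) c) :
    ((uM c : Mat) - 1) *ᵥ (bF i1 : Vec) = -(UWM c *ᵥ (bF i2 : Vec)) := by
  rw [uM_sub_one_mulVec c F.hE1, bF_apply_inr, if_pos rfl, bF_apply_inl, zero_smul, one_smul,
    add_zero]
  unfold NU
  rw [F.hF1, sub_self, zero_sub]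

theorem inV'_bF2 : InV' (bF i2 : Vec) := by
  constructor
  · rw [bF_apply_inl]
  · rw [bF_apply_inr, if_neg i1_ne_i2]

theorem UWM_bF2_facts (F : RegFacts (j := j) c) :
    InV' (UWM c *ᵥ (bF i2 : Vec)) ∧ (UWM c *ᵥ (bF i2 : Vec)) (Sum.inr i2) = 1 := by
  have h : UWM c *ᵥ (bF i2 : Vec) = NU c (bF i2 : Vec) + bF i2 := by
    unfold NU
    rw [sub_add_cancel]
  have hN := F.hInV _ (inV'_bF2 (K := K) (j := j))
  have h2 := inV'_bF2 (K := K) (j := j)
  have h3 := F.hf2 (bF i2 : Vec)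
  rw [h]
  refine ⟨⟨?_, ?_⟩, ?_⟩
  · rw [Pi.add_apply, hN.1, h2.1, add_zero]
  · rw [Pi.add_apply, hN.2, h2.2, add_zero]
  · rw [Pi.add_apply, h3, zero_add, bF_apply_inr, if_pos rfl]

theorem uM_pow_bF1 (F : RegFacts (j := j) c) :
    (((uM c : Mat) - 1) ^ (2 * j + 5)) *ᵥ (bF i1 : Vec) = ((-1 : K) ^ j * c) • (bE i1 : Vec) := by
  obtain ⟨hV, h1⟩ := UWM_bF2_facts F
  rw [show 2 * j + 5 = (2 * j + 4) + 1 from rfl, pow_succ_mulVec, uM_sub_one_bF1 F,
    Matrix.mulVec_neg, uM_pow_a F hV, h1, mul_one, pow_succ, ← neg_smul]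
  congr 1
  ring

/-- (REG), first half, core form -/
theorem uM_sub_one_pow_ne_core (F : RegFacts (j := j) c) (hc : c ≠ 0) :
    ((uM c : Mat) - 1) ^ (2 * j + 5) ≠ 0 := by
  intro h
  have h1 := uM_pow_bF1 F
  rw [h, Matrix.zero_mulVec] at h1
  have h2 := congrFun h1 (Sum.inl i1)
  rw [Pi.zero_apply, Pi.smul_apply, bE_apply_inl, if_pos rfl, smul_eq_mul, mul_one] at h2
  exact mul_ne_zero (pow_ne_zero j (neg_ne_zero.mpr one_ne_zero)) hc h2.symm

/-- (REG), second half, core form -/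
theorem uM_sub_one_pow_eq_core (F : RegFacts (j := j) c) :
    ((uM c : Mat) - 1) ^ (2 * j + 6) = 0 := by
  apply mat_ext_mulVec
  intro x
  rw [Matrix.zero_mulVec]
  -- decompose `x = x(e_1) e_1 + x(f_1) f_1 + x'`, `x' ∈ V'`
  set x' : Vec := x - x (Sum.inl i1) • (bE i1 : Vec) - x (Sum.inr i1) • (bF i1 : Vec) with hx'
  have hV : InV' x' := by
    constructor
    · rw [hx', Pi.sub_apply, Pi.sub_apply, Pi.smul_apply, Pi.smul_apply, bE_apply_inl, if_pos rfl,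
        bF_apply_inl, smul_eq_mul, smul_eq_mul, mul_one, mul_zero, sub_self, sub_zero]
    · rw [hx', Pi.sub_apply, Pi.sub_apply, Pi.smul_apply, Pi.smul_apply, bE_apply_inr,
        bF_apply_inr, if_pos rfl, smul_eq_mul, smul_eq_mul, mul_one, mul_zero, sub_zero, sub_self]
  have hx : x = x' + x (Sum.inl i1) • (bE i1 : Vec) + x (Sum.inr i1) • (bF i1 : Vec) := by
    rw [hx']
    abel
  have hE : (((uM c : Mat) - 1) ^ (2 * j + 6)) *ᵥ (bE i1 : Vec) = 0 := by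
    rw [show 2 * j + 6 = (2 * j + 5) + 1 from rfl, pow_succ_mulVec, uM_sub_one_bE1 c F.hE1,
      Matrix.mulVec_zero]
  have hF : (((uM c : Mat) - 1) ^ (2 * j + 6)) *ᵥ (bF i1 : Vec) = 0 := by
    rw [show 2 * j + 6 = (2 * j + 5) + 1 from rfl, pow_succ_mulVec', uM_pow_bF1 F,
      Matrix.mulVec_smul, uM_sub_one_bE1 c F.hE1, smul_zero]
  have hX : (((uM c : Mat) - 1) ^ (2 * j + 6)) *ᵥ x' = 0 := by
    rw [show 2 * j + 6 = (2 * j + 5) + 1 from rfl, pow_succ_mulVec', uM_pow_b F hV,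
      Matrix.mulVec_zero]
  rw [hx, Matrix.mulVec_add, Matrix.mulVec_add, Matrix.mulVec_smul, Matrix.mulVec_smul, hE, hF, hX,
    smul_zero, smul_zero, add_zero, add_zero]

end core

end Cfsg.Agent.Helper29.RSp
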