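-- helper29 for helper46 (S2281, n ≥ 3), piece (REG): VERBATIM skeleton signatures.
import Mathlib
import Cfsg.Agent.Helper46.RSp.Defs
import Cfsg.Agent.Helper67.RSpUWA2
import Cfsg.Agent.Helper1.RSpUWP
import Cfsg.Agent.Helper29.RSpREGCore

set_option autoImplicit false
set_option linter.unusedSectionVars false
set_option linter.unusedVariables false

namespace Cfsg.Agent.Helper29.RSp

open Matrix Cfsg.Agent.Helper13 Cfsg.Agent.Helper46.RSp

variable {K : Type*} [Field K] {j : ℕ}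

local notation "Vec" => (Fin (j + 3) ⊕ Fin (j + 3) → K)
local notation "Mat" => Matrix (Fin (j + 3) ⊕ Fin (j + 3)) (Fin (j + 3) ⊕ Fin (j + 3)) K

theorem regFacts (c : K) : RegFacts (j := j) c where
  hE1 := Cfsg.Agent.Helper67.RSp.UWM_bE1 c
  hF1 := Cfsg.Agent.Helper67.RSp.UWM_bF1 c
  hE2 := by
    rw [Cfsg.Agent.Helper67.RSp.UWM_bE c i2 (by simp [i2]), Cfsg.Agent.Helper67.RSp.pE_i2]
  hInV := Cfsg.Agent.Helper1.RSp.NU_inV' c
  hf2 := Cfsg.Agent.Helper1.RSp.NU_apply_f2 c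
  hTop := Cfsg.Agent.Helper1.RSp.NU_iter_top c

/-! ### (REG) `u` is regular unipotent -/

theorem uM_sub_one_pow_ne (c : K) (hc : c ≠ 0) : ((uM c : Mat) - 1) ^ (2 * j + 5) ≠ 0 :=
  uM_sub_one_pow_ne_core (regFacts c) hc

theorem uM_sub_one_pow_eq (c : K) : ((uM c : Mat) - 1) ^ (2 * j + 6) = 0 :=
  uM_sub_one_pow_eq_core (regFacts c)

end Cfsg.Agent.Helper29.RSp
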