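-- helper29 for helper84 (S2282), piece (CHAIN), core form: the facts of (UWA)/(UWP) are explicit hypotheses.
import Mathlib
import Cfsg.Prelude.Def_Classical
import Cfsg.Agent.Helper84.RUn.Defs

set_option autoImplicit false
set_option linter.unusedSectionVars false

namespace Cfsg.Agent.Helper29.RUn

open Matrix Cfsg.Agent.Helper84.PSU Cfsg.Agent.Helper84.RUn

variable {K : Type*} [Field K] {j : ℕ}

local notation "Vec" => (I (j + 2) 1 → K)
local notation "Mat" => Matrix (I (j + 2) 1) (I (j + 2) 1) K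
local notation "Mk" => Matrix (Fin (j + 2)) (Fin (j + 2)) K

variable (bar : K →+* K) (hb : ∀ x, bar (bar x) = x)

set_option quotPrecheck false in
local notation "SUk" => ↥(SUm (j + 2) 1 bar)

/-- an isometry fixing `e_1` and `f_1` preserves `V'` -/
theorem inV'_of_isU {G : Mat} (hG : IsU bar G) (hE1 : G *ᵥ (vE i1 : Vec) = vE i1)
    (hF1 : G *ᵥ (vF i1 : Vec) = vF i1) {x : Vec} (hx : InV' x) : InV' (G *ᵥ x) := by
  constructor
  · have h := hG x (vF i1)
    rw [hF1] at h
    unfold vF at h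
    rw [hf_bv_right, hf_bv_right, op_fI] at h
    rw [h]
    exact hx.1
  · have h := hG x (vE i1)
    rw [hE1] at h
    unfold vE at h
    rw [hf_bv_right, hf_bv_right, op_eI] at h
    rw [h]
    exact hx.2

theorem inV'_vF2 : InV' (vF i2 : Vec) := by
  constructor
  · unfold vF
    rw [bv_apply, if_neg (by intro h; cases h)]
  · unfold vF
    rw [bv_apply, if_neg]
    intro h
    have h1 : (i1 : Fin (j + 2)) = i2 := Sum.inr_injective (Sum.inr_injective h)
    have h2 := congrArg Fin.val h1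
    simp [i1, i2] at h2

include hb in
/-- the commutator of an element of `H` fixing `f_1` with `E(f_1, y, z)` -/
theorem chain_step (H : Subgroup SUk) {U : Mat} (hU : HasM bar H U)
    (hF1 : U *ᵥ (vF i1 : Vec) = vF i1) {y : Vec} {z : K} (hy : y (eI i1) = 0)
    (hUy : (U *ᵥ y) (eI i1) = 0) (hE : HasM bar H (eichM bar (vF i1) y z)) :
    HasM bar H (eichM bar (vF i1) (U *ᵥ y - y) (hf bar y (U *ᵥ y - y))) := by
  obtain ⟨x, hx, hxm⟩ := hU
  have hIsU : IsU bar U := hxm ▸ isU_mt bar x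
  have hinv : U * mt bar x⁻¹ = 1 := by rw [← hxm]; exact mt_mul_inv bar x
  have hU' : HasM bar H (mt bar x⁻¹) := ⟨x⁻¹, inv_mem hx, rfl⟩
  have hff : hf bar (vF i1 : Vec) (vF i1) = 0 := hf_bv_ff bar i1 i1
  have hyf : hf bar y (vF i1) = 0 := by
    unfold vF; rw [hf_bv_right, op_fI]; exact hy
  have hUyf : hf bar (U *ᵥ y) (vF i1) = 0 := by
    unfold vF; rw [hf_bv_right, op_fI]; exact hUy
  have hnyf : hf bar (-y) (vF i1) = 0 := by rw [hf_neg_left, hyf, neg_zero]
  -- the conjugate
  have h1 : HasM bar H (eichM bar (vF i1) (U *ᵥ y) z) := by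
    have h := (HasM.mul bar (HasM.mul bar ⟨x, hx, hxm⟩ hE) hU')
    rw [conj_eichM bar hIsU hinv, hF1] at h
    exact h
  -- the inverse
  have h2 : HasM bar H (eichM bar (vF i1) (-y) (-z - hf bar y y)) := by
    apply HasM.inv bar hE
    rw [eichM_mul bar hb _ _ hff hyf hnyf, hf_neg_left, add_neg_cancel]
    have : z + (-z - hf bar y y) - -hf bar y y = 0 := by ring
    rw [this, eichM_zero_zero]
  have h3 := HasM.mul bar h1 h2
  rw [eichM_mul bar hb _ _ hff hUyf hnyf] at h3
  have e1 : U *ᵥ y + -y = U *ᵥ y - y := by rw [sub_eq_add_neg]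
  have e2 : z + (-z - hf bar y y) - hf bar (-y) (U *ᵥ y) = hf bar y (U *ᵥ y - y) := by
    rw [hf_neg_left, hf_sub_right]; ring
  rw [e1, e2] at h3
  exact h3

include hb in
/-- (CHAIN), core form -/
theorem hasM_A21_core {c : K} (H : Subgroup SUk) (hUW : HasM bar H (UWM bar c))
    (hC : HasM bar H (C12M bar 1))
    (hF1 : UWM bar c *ᵥ (vF i1 : Vec) = vF i1)
    (hInV : ∀ x : Vec, InV' x → InV' (NU bar c x))
    (hTop : ∀ x : Vec, InV' x →
      (NU bar c)^[2 * j + 2] x = ((-1 : K) ^ (j + 1) * x (fI i2)) • vE i2)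
    (hF2 : ∀ k : ℕ, 1 ≤ k → (NU bar c)^[k] (vF i2 : Vec) (fI i2) = 0) :
    HasM bar H (A21M bar (-1)) := by
  -- all iterates lie in `V'`
  have hV : ∀ k : ℕ, InV' ((NU bar c)^[k] (vF i2 : Vec)) := by
    intro k
    induction k with
    | zero => exact inV'_vF2
    | succ k ih =>
      rw [Function.iterate_succ_apply']
      exact hInV _ ih
  -- the chain
  have hchain : ∀ k : ℕ, ∃ z : K, HasM bar H (eichM bar (vF i1) ((NU bar c)^[k] (vF i2 : Vec)) z) := by
    intro k
    induction k with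
    | zero =>
      refine ⟨0, ?_⟩
      have h : C12M bar (1 : K) = eichM bar (vF i1) ((NU bar c)^[0] (vF i2 : Vec)) 0 := by
        unfold C12M
        rw [one_smul, Function.iterate_zero, id_eq]
      rw [← h]
      exact hC
    | succ k ih =>
      obtain ⟨z, hz⟩ := ih
      have hyk := hV k
      have hyk1 := hV (k + 1)
      rw [Function.iterate_succ_apply'] at hyk1
      have h := chain_step bar hb H hUW hF1 hyk.1 (by
        have : UWM bar c *ᵥ (NU bar c)^[k] (vF i2 : Vec) =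
            NU bar c ((NU bar c)^[k] (vF i2 : Vec)) + (NU bar c)^[k] (vF i2 : Vec) := by
          unfold NU; rw [sub_add_cancel]
        rw [this, Pi.add_apply, hyk1.1, hyk.1, add_zero]) hz
      refine ⟨hf bar ((NU bar c)^[k] (vF i2 : Vec))
        (UWM bar c *ᵥ (NU bar c)^[k] (vF i2 : Vec) - (NU bar c)^[k] (vF i2 : Vec)), ?_⟩
      rw [Function.iterate_succ_apply']
      exact h
  obtain ⟨z, hz⟩ := hchain (2 * j + 1)
  have hyk := hV (2 * j + 1)
  have hyk1 : InV' (NU bar c ((NU bar c)^[2 * j + 1] (vF i2 : Vec))) := by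
    have h := hV ((2 * j + 1) + 1)
    rw [Function.iterate_succ_apply' (NU bar c) (2 * j + 1)] at h
    exact h
  have hlast := chain_step bar hb H hUW hF1 hyk.1 (by
    have : UWM bar c *ᵥ (NU bar c)^[2 * j + 1] (vF i2 : Vec) =
        NU bar c ((NU bar c)^[2 * j + 1] (vF i2 : Vec)) + (NU bar c)^[2 * j + 1] (vF i2 : Vec) := by
      unfold NU; rw [sub_add_cancel]
    rw [this, Pi.add_apply, hyk1.1, hyk.1, add_zero]) hz
  have hN : UWM bar c *ᵥ (NU bar c)^[2 * j + 1] (vF i2 : Vec) - (NU bar c)^[2 * j + 1] (vF i2 : Vec) =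
      ((-1 : K) ^ (j + 1)) • (vE i2 : Vec) := by
    have h1 : UWM bar c *ᵥ (NU bar c)^[2 * j + 1] (vF i2 : Vec) - (NU bar c)^[2 * j + 1] (vF i2 : Vec) =
        (NU bar c)^[2 * j + 2] (vF i2 : Vec) := by
      have h2 : (NU bar c)^[2 * j + 2] (vF i2 : Vec) = (NU bar c)^[(2 * j + 1) + 1] (vF i2 : Vec) := rfl
      rw [h2, Function.iterate_succ_apply' (NU bar c) (2 * j + 1)]
      rfl
    rw [h1, hTop _ inV'_vF2]
    unfold vF
    rw [bv_apply, if_pos rfl, mul_one]
  rw [hN] at hlast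
  have hz0 : hf bar ((NU bar c)^[2 * j + 1] (vF i2 : Vec)) (((-1 : K) ^ (j + 1)) • (vE i2 : Vec)) = 0 := by
    rw [hf_smul_right]
    unfold vE
    rw [hf_bv_right, op_eI, hF2 (2 * j + 1) (by omega), mul_zero]
  rw [hz0] at hlast
  -- the sign
  rcases Nat.even_or_odd (j + 1) with hev | hodd
  · rw [hev.neg_one_pow] at hlast
    have h1 : HasM bar H (A21M bar (1 : K)) := hlast
    apply HasM.inv bar h1
    unfold A21M
    have hff : hf bar (vF i1 : Vec) (vF i1) = 0 := hf_bv_ff bar i1 i1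
    have h2 : hf bar ((1 : K) • (vE i2 : Vec)) (vF i1) = 0 := by
      rw [hf_smul_left]
      unfold vE vF
      rw [hf_bv_ef, if_neg, mul_zero]
      intro h
      have := congrArg Fin.val h
      simp [i1, i2] at this
    have h3 : hf bar ((-1 : K) • (vE i2 : Vec)) (vF i1) = 0 := by
      rw [hf_smul_left]
      unfold vE vF
      rw [hf_bv_ef, if_neg, mul_zero]
      intro h
      have := congrArg Fin.val h
      simp [i1, i2] at this
    rw [eichM_mul bar hb _ _ hff h2 h3]
    have h4 : (1 : K) • (vE i2 : Vec) + (-1 : K) • (vE i2 : Vec) = 0 := by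
      rw [← add_smul, add_neg_cancel, zero_smul]
    have h5 : (0 : K) + 0 - hf bar ((-1 : K) • (vE i2 : Vec)) ((1 : K) • (vE i2 : Vec)) = 0 := by
      rw [hf_smul_left, hf_smul_right]
      unfold vE
      rw [hf_bv_ee, mul_zero, mul_zero, add_zero, sub_zero]
    rw [h4, h5, eichM_zero_zero]
  · rw [hodd.neg_one_pow] at hlast
    exact hlast

end Cfsg.Agent.Helper29.RUn
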