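-- helper29 for helper84 (S2282), piece (CHAIN): VERBATIM skeleton signature.
import Mathlib
import Cfsg.Prelude.Def_Classical
import Cfsg.Agent.Helper84.RUn.Defs
import Cfsg.Agent.Helper33.RUnUWA2
import Cfsg.Agent.Helper81.RUnUWP
import Cfsg.Agent.Helper29.RUnCHAINCore

set_option autoImplicit false
set_option linter.unusedSectionVars false

namespace Cfsg.Agent.Helper29.RUn

open Matrix Cfsg.Agent.Helper84.PSU Cfsg.Agent.Helper84.RUn

variable {K : Type*} [Field K] {j : ℕ}

local notation "Vec" => (I (j + 2) 1 → K)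
local notation "Mat" => Matrix (I (j + 2) 1) (I (j + 2) 1) K
local notation "Mk" => Matrix (Fin (j + 2)) (Fin (j + 2)) K

variable (bar : K →+* K) (hb : ∀ x, bar (bar x) = x)

set_option quotPrecheck false in
local notation "SUk" => ↥(SUm (j + 2) 1 bar)

/-! ### (CHAIN) the iterated commutators of `C_12(1)` with `UW'` -/

include hb in
theorem hasM_A21 {c : K} (hc : c + bar c + 1 = 0) (H : Subgroup SUk) (hUW : HasM bar H (UWM bar c))
    (hC : HasM bar H (C12M bar 1)) : HasM bar H (A21M bar (-1)) :=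
  hasM_A21_core bar hb H hUW hC (Cfsg.Agent.Helper33.RUn.UWM_vF1 bar c)
    (Cfsg.Agent.Helper81.RUn.NU_inV' bar c) (Cfsg.Agent.Helper81.RUn.NU_iter_top bar c)
    (Cfsg.Agent.Helper81.RUn.NU_iter_vF2_apply bar c)

end Cfsg.Agent.Helper29.RUn
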