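-- helper29 for helper84 (S2282), piece (LAM), core form: the facts of (UWA)/(NH)/(ALG) are explicit hypotheses.
import Mathlib
import Cfsg.Prelude.Def_Classical
import Cfsg.Agent.Helper84.RUn.Defs
import Cfsg.Agent.Helper29.RUnCHAINCore

set_option autoImplicit false
set_option linter.unusedSectionVars false

namespace Cfsg.Agent.Helper29.RUn

open Matrix Cfsg.Agent.Helper84.PSU Cfsg.Agent.Helper84.RUn

variable {K : Type*} [Field K] {j : ℕ}

local notation "Vec" => (I (j + 2) 1 → K)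
local notation "Mat" => Matrix (I (j + 2) 1) (I (j + 2) 1) K
local notation "Mk" => Matrix (Fin (j + 2)) (Fin (j + 2)) K

variable (bar : K →+* K) (hb : ∀ x, bar (bar x) = x)

set_option quotPrecheck false in
local notation "SUk" => ↥(SUm (j + 2) 1 bar)

theorem hf_vE1_of_inV' {x : Vec} (hx : InV' x) : hf bar x (vE i1 : Vec) = 0 := by
  unfold vE
  rw [hf_bv_right, op_eI]
  exact hx.2

theorem hf_vE1_vE1 : hf bar (vE i1 : Vec) (vE i1) = 0 := hf_bv_ee bar i1 i1

/-- the module `Λ_e` -/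
def Lam (H : Subgroup SUk) : AddSubgroup Vec where
  carrier := {x | InV' x ∧ ∃ z : K, z + bar z + hf bar x x = 0 ∧ HasM bar H (eichM bar (vE i1) x z)}
  zero_mem' := by
    refine ⟨⟨rfl, rfl⟩, 0, ?_, ?_⟩
    · rw [map_zero, hf_zero_left, add_zero, add_zero]
    · rw [eichM_zero_zero]
      exact HasM.one bar H
  add_mem' := by
    rintro x x' ⟨hx, z, hz, hzH⟩ ⟨hx', z', hz', hzH'⟩
    refine ⟨⟨?_, ?_⟩, z + z' - hf bar x' x, ?_, ?_⟩
    · rw [Pi.add_apply, hx.1, hx'.1, add_zero]
    · rw [Pi.add_apply, hx.2, hx'.2, add_zero]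
    · rw [hf_add_left, hf_add_right, hf_add_right, map_sub, map_add, hf_conj bar hb x' x]
      linear_combination hz + hz'
    · have h := HasM.mul bar hzH hzH'
      rw [eichM_mul bar hb _ _ (hf_vE1_vE1 bar) (hf_vE1_of_inV' bar hx)
        (hf_vE1_of_inV' bar hx')] at h
      exact h
  neg_mem' := by
    rintro x ⟨hx, z, hz, hzH⟩
    have hnx : InV' (-x) := ⟨by rw [Pi.neg_apply, hx.1, neg_zero], by rw [Pi.neg_apply, hx.2, neg_zero]⟩
    refine ⟨hnx, bar z, ?_, ?_⟩
    · rw [hb, hf_neg_left, hf_neg_right, neg_neg]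
      linear_combination hz
    · apply HasM.inv bar hzH
      rw [eichM_mul bar hb _ _ (hf_vE1_vE1 bar) (hf_vE1_of_inV' bar hx)
        (hf_vE1_of_inV' bar hnx), add_neg_cancel, hf_neg_left]
      have : z + bar z - -hf bar x x = 0 := by linear_combination hz
      rw [this, eichM_zero_zero]

theorem mem_Lam {H : Subgroup SUk} {x : Vec} : x ∈ Lam bar hb H ↔
    InV' x ∧ ∃ z : K, z + bar z + hf bar x x = 0 ∧ HasM bar H (eichM bar (vE i1) x z) := Iff.rfl

/-- `Λ_e` is stable under the elements of `H` fixing `e_1` and `f_1` -/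
theorem lam_stable (H : Subgroup SUk) {G : Mat} (hG : HasM bar H G)
    (hE1 : G *ᵥ (vE i1 : Vec) = vE i1) (hF1 : G *ᵥ (vF i1 : Vec) = vF i1) {x : Vec}
    (hx : x ∈ Lam bar hb H) : G *ᵥ x ∈ Lam bar hb H := by
  obtain ⟨hxV, z, hz, hzH⟩ := hx
  obtain ⟨g, hg, hgm⟩ := hG
  have hIsU : IsU bar G := hgm ▸ isU_mt bar g
  have hinv : G * mt bar g⁻¹ = 1 := by rw [← hgm]; exact mt_mul_inv bar g
  have hG' : HasM bar H (mt bar g⁻¹) := ⟨g⁻¹, inv_mem hg, rfl⟩
  refine ⟨inV'_of_isU bar hIsU hE1 hF1 hxV, z, ?_, ?_⟩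
  · rw [hIsU x x]
    exact hz
  · have h := HasM.mul bar (HasM.mul bar ⟨g, hg, hgm⟩ hzH) hG'
    rw [conj_eichM bar hIsU hinv, hE1] at h
    exact h

/-- the facts of (UWA), (NH), (ALG) used for (LAM) -/
structure LamFacts (c : K) : Prop where
  hE1 : UWM bar c *ᵥ (vE i1 : Vec) = vE i1
  hF1 : UWM bar c *ᵥ (vF i1 : Vec) = vF i1
  hnM : ∀ x : Vec, (nM : Mat) *ᵥ x = fun y =>
    if y = eI i1 then x (fI i1) else if y = fI i1 then x (eI i1)
    else if y = eI i2 then x (fI i2) else if y = fI i2 then x (eI i2) else x y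
  hALG : ∀ L : AddSubgroup Vec, (∀ x ∈ L, UWM bar c *ᵥ x ∈ L) →
    (∀ x ∈ L, (nM : Mat) *ᵥ (UWM bar c *ᵥ ((nM : Mat) *ᵥ x)) ∈ L) → (vF i2 : Vec) ∈ L →
    ∀ x : Vec, InV' x → x ∈ L

theorem nM_vE1 (hnM : ∀ x : Vec, (nM : Mat) *ᵥ x = fun y =>
    if y = eI i1 then x (fI i1) else if y = fI i1 then x (eI i1)
    else if y = eI i2 then x (fI i2) else if y = fI i2 then x (eI i2) else x y) :
    (nM : Mat) *ᵥ (vE i1 : Vec) = vF i1 := by
  rw [hnM]
  funext y
  unfold vE vF
  simp only [bv_apply]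
  by_cases h1 : y = eI i1
  · subst h1; simp
  · by_cases h2 : y = fI i1
    · subst h2; simp
    · by_cases h3 : y = eI i2
      · subst h3; simp
      · by_cases h4 : y = fI i2
        · subst h4
          have : (i2 : Fin (j + 2)) ≠ i1 := fun h => by
            have := congrArg Fin.val h
            simp [i1, i2] at this
          simp [this]
        · simp [h1, h2, h3, h4]

theorem nM_vF1 (hnM : ∀ x : Vec, (nM : Mat) *ᵥ x = fun y =>
    if y = eI i1 then x (fI i1) else if y = fI i1 then x (eI i1)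
    else if y = eI i2 then x (fI i2) else if y = fI i2 then x (eI i2) else x y) :
    (nM : Mat) *ᵥ (vF i1 : Vec) = vE i1 := by
  rw [hnM]
  funext y
  unfold vE vF
  simp only [bv_apply]
  by_cases h1 : y = eI i1
  · subst h1; simp
  · by_cases h2 : y = fI i1
    · subst h2; simp
    · by_cases h3 : y = eI i2
      · subst h3
        have : (i2 : Fin (j + 2)) ≠ i1 := fun h => by
          have := congrArg Fin.val h
          simp [i1, i2] at this
        simp [this]
      · by_cases h4 : y = fI i2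
        · subst h4; simp
        · simp [h1, h2, h3, h4]

include hb in
/-- (LAM), core form -/
theorem exists_hasM_eich_core {c : K} (F : LamFacts (j := j) bar c)
    (H : Subgroup SUk) (hUW : HasM bar H (UWM bar c)) (hn : HasM bar H (nM : Mat))
    (hA : HasM bar H (A12M bar)) :
    ∀ x : Vec, InV' x → ∃ z : K, z + bar z + hf bar x x = 0 ∧ HasM bar H (eichM bar (vE i1) x z) := by
  intro x hx
  have hmem : x ∈ Lam bar hb H := by
    apply F.hALG (Lam bar hb H)
    · intro y hy
      exact lam_stable bar hb H hUW F.hE1 F.hF1 hy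
    · intro y hy
      have hM : HasM bar H ((nM : Mat) * UWM bar c * nM) := HasM.mul bar (HasM.mul bar hn hUW) hn
      have hME : ((nM : Mat) * UWM bar c * nM) *ᵥ (vE i1 : Vec) = vE i1 := by
        rw [← Matrix.mulVec_mulVec, ← Matrix.mulVec_mulVec, nM_vE1 F.hnM, F.hF1, nM_vF1 F.hnM]
      have hMF : ((nM : Mat) * UWM bar c * nM) *ᵥ (vF i1 : Vec) = vF i1 := by
        rw [← Matrix.mulVec_mulVec, ← Matrix.mulVec_mulVec, nM_vF1 F.hnM, F.hE1, nM_vE1 F.hnM]
      have h := lam_stable bar hb H hM hME hMF hy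
      rw [← Matrix.mulVec_mulVec, ← Matrix.mulVec_mulVec] at h
      exact h
    · -- `f_2 ∈ Λ`
      have h1 : -(vF i2 : Vec) ∈ Lam bar hb H := by
        have hV : InV' (-(vF i2 : Vec)) := by
          have := inV'_vF2 (K := K) (j := j)
          exact ⟨by rw [Pi.neg_apply, this.1, neg_zero], by rw [Pi.neg_apply, this.2, neg_zero]⟩
        refine ⟨hV, 0, ?_, hA⟩
        rw [map_zero, hf_neg_left, hf_neg_right, neg_neg]
        unfold vF
        rw [hf_bv_ff, add_zero, add_zero]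
      have h2 := (Lam bar hb H).neg_mem h1
      rwa [neg_neg] at h2
    · exact hx
  exact hmem.2

end Cfsg.Agent.Helper29.RUn
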