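-- helper29 for helper84 (S2282), piece (LAM): VERBATIM skeleton signature.
import Mathlib
import Cfsg.Prelude.Def_Classical
import Cfsg.Agent.Helper84.RUn.Defs
import Cfsg.Agent.Helper33.RUnUWA2
import Cfsg.Agent.Helper41.RUnNH
import Cfsg.Agent.Helper55.RUnALG
import Cfsg.Agent.Helper29.RUnLAMCore

set_option autoImplicit false
set_option linter.unusedSectionVars false
set_option linter.unusedVariables false

namespace Cfsg.Agent.Helper29.RUn

open Matrix Cfsg.Agent.Helper84.PSU Cfsg.Agent.Helper84.RUn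

variable {K : Type*} [Field K] {j : ℕ}

local notation "Vec" => (I (j + 2) 1 → K)
local notation "Mat" => Matrix (I (j + 2) 1) (I (j + 2) 1) K
local notation "Mk" => Matrix (Fin (j + 2)) (Fin (j + 2)) K

variable (bar : K →+* K) (hb : ∀ x, bar (bar x) = x)

set_option quotPrecheck false in
local notation "SUk" => ↥(SUm (j + 2) 1 bar)

theorem lamFacts {c : K}
    (hgen : ∀ A : AddSubgroup K, (∀ x ∈ A, c * x ∈ A) → (1 : K) ∈ A → A = ⊤) :
    LamFacts (j := j) bar c where
  hE1 := Cfsg.Agent.Helper33.RUn.UWM_vE1 bar c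
  hF1 := Cfsg.Agent.Helper33.RUn.UWM_vF1 bar c
  hnM := Cfsg.Agent.Helper41.RUn.nM_mulVec
  hALG := fun L h1 h2 hf2 => Cfsg.Agent.Helper55.RUn.alg_lemma bar hgen L h1 h2 hf2

/-! ### (LAM) the module `Λ_e` -/

include hb in
theorem exists_hasM_eich {c : K} (hc : c + bar c + 1 = 0)
    (hgen : ∀ A : AddSubgroup K, (∀ x ∈ A, c * x ∈ A) → (1 : K) ∈ A → A = ⊤)
    (H : Subgroup SUk) (hUW : HasM bar H (UWM bar c)) (hn : HasM bar H (nM : Mat))
    (hA : HasM bar H (A12M bar)) :
    ∀ x : Vec, InV' x → ∃ z : K, z + bar z + hf bar x x = 0 ∧ HasM bar H (eichM bar (vE i1) x z) :=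
  exists_hasM_eich_core bar hb (lamFacts bar hgen) H hUW hn hA

end Cfsg.Agent.Helper29.RUn
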