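-- helper29 for helper84 (S2282), piece (REG), core form: the facts of (UWA)/(UWP) are explicit hypotheses.
import Mathlib
import Cfsg.Prelude.Def_Classical
import Cfsg.Agent.Helper84.RUn.Defs
import Cfsg.Agent.Helper29.RUnCHAINCore

set_option autoImplicit false
set_option linter.unusedSectionVars false

namespace Cfsg.Agent.Helper29.RUn

open Matrix Cfsg.Agent.Helper84.PSU Cfsg.Agent.Helper84.RUn

variable {K : Type*} [Field K] {j : ℕ}

local notation "Vec" => (I (j + 2) 1 → K)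
local notation "Mat" => Matrix (I (j + 2) 1) (I (j + 2) 1) K
local notation "Mk" => Matrix (Fin (j + 2)) (Fin (j + 2)) K

variable (bar : K →+* K)

theorem i1_ne_i2 : (i1 : Fin (j + 2)) ≠ i2 := by
  intro h
  have := congrArg Fin.val h
  simp [i1, i2] at this

/-- the action of `u - 1` -/
theorem uM_sub_one_mulVec (c : K) (hE1 : UWM bar c *ᵥ (vE i1 : Vec) = vE i1) (x : Vec) :
    ((uM bar c : Mat) - 1) *ᵥ x =
      NU bar c x - x (fI i1) • (UWM bar c *ᵥ (vF i2 : Vec)) + x (eI i2) • (vE i1 : Vec) := by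
  have hA : A12M bar *ᵥ x = x - x (fI i1) • (vF i2 : Vec) + x (eI i2) • (vE i1 : Vec) := by
    unfold A12M
    rw [eichM_mulVec, hf_neg_right]
    have h1 : hf bar x (vE i1 : Vec) = x (fI i1) := by unfold vE; rw [hf_bv_right, op_eI]
    have h2 : hf bar x (vF i2 : Vec) = x (eI i2) := by unfold vF; rw [hf_bv_right, op_fI]
    rw [h1, h2]
    module
  unfold uM
  rw [Matrix.sub_mulVec, Matrix.one_mulVec, ← Matrix.mulVec_mulVec, hA, Matrix.mulVec_add,
    Matrix.mulVec_sub, Matrix.mulVec_smul, Matrix.mulVec_smul, hE1]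
  unfold NU
  abel

theorem uM_sub_one_vE1 (c : K) (hE1 : UWM bar c *ᵥ (vE i1 : Vec) = vE i1) :
    ((uM bar c : Mat) - 1) *ᵥ (vE i1 : Vec) = 0 := by
  rw [uM_sub_one_mulVec bar c hE1]
  have h1 : (vE i1 : Vec) (fI i1) = 0 := by
    unfold vE; rw [bv_apply, if_neg (by intro h; cases h)]
  have h2 : (vE i1 : Vec) (eI i2) = 0 := by
    unfold vE; rw [bv_apply, if_neg]
    intro h
    exact i1_ne_i2 (Sum.inl_injective h).symm
  rw [h1, h2, zero_smul, zero_smul]
  unfold NU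
  rw [hE1, sub_self, sub_zero, add_zero]

theorem uM_sub_one_of_inV' (c : K) (hE1 : UWM bar c *ᵥ (vE i1 : Vec) = vE i1) {x : Vec}
    (hx : InV' x) :
    ((uM bar c : Mat) - 1) *ᵥ x = NU bar c x + x (eI i2) • (vE i1 : Vec) := by
  rw [uM_sub_one_mulVec bar c hE1, hx.2, zero_smul, sub_zero]

theorem pow_succ_mulVec' (D : Mat) (n : ℕ) (x : Vec) : (D ^ (n + 1)) *ᵥ x = D *ᵥ ((D ^ n) *ᵥ x) := by
  rw [pow_succ', Matrix.mulVec_mulVec]

theorem pow_succ_mulVec (D : Mat) (n : ℕ) (x : Vec) : (D ^ (n + 1)) *ᵥ x = (D ^ n) *ᵥ (D *ᵥ x) := by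
  rw [pow_succ, Matrix.mulVec_mulVec]

/-- the iterates of `u - 1` on `V'` -/
theorem uM_sub_one_pow_of_inV' (c : K) (hE1 : UWM bar c *ᵥ (vE i1 : Vec) = vE i1)
    (hInV : ∀ x : Vec, InV' x → InV' (NU bar c x)) {x : Vec} (hx : InV' x) (k : ℕ) :
    (((uM bar c : Mat) - 1) ^ (k + 1)) *ᵥ x =
      (NU bar c)^[k + 1] x + ((NU bar c)^[k] x) (eI i2) • (vE i1 : Vec) := by
  have hV : ∀ k : ℕ, InV' ((NU bar c)^[k] x) := by
    intro k
    induction k with
    | zero => exact hx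
    | succ k ih =>
      rw [Function.iterate_succ_apply']
      exact hInV _ ih
  induction k with
  | zero =>
    rw [zero_add, pow_one, Function.iterate_one, Function.iterate_zero, id_eq]
    exact uM_sub_one_of_inV' bar c hE1 hx
  | succ k ih =>
    rw [pow_succ_mulVec', ih, Matrix.mulVec_add, Matrix.mulVec_smul, uM_sub_one_vE1 bar c hE1,
      smul_zero, add_zero, uM_sub_one_of_inV' bar c hE1 (hV (k + 1)),
      Function.iterate_succ_apply' (NU bar c) (k + 1)]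

/-- the facts of (UWA) and (UWP) used for (REG) -/
structure RegFacts (c : K) : Prop where
  hE1 : UWM bar c *ᵥ (vE i1 : Vec) = vE i1
  hF1 : UWM bar c *ᵥ (vF i1 : Vec) = vF i1
  hInV : ∀ x : Vec, InV' x → InV' (NU bar c x)
  hTop : ∀ x : Vec, InV' x →
    (NU bar c)^[2 * j + 2] x = ((-1 : K) ^ (j + 1) * x (fI i2)) • vE i2
  hZero : ∀ x : Vec, InV' x → (NU bar c)^[2 * j + 3] x = 0
  hF2 : ∀ k : ℕ, 1 ≤ k → (NU bar c)^[k] (vF i2 : Vec) (fI i2) = 0

section core

variable {bar}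
variable {c : K}

theorem uM_pow_a (F : RegFacts (j := j) bar c) {x : Vec} (hx : InV' x) :
    (((uM bar c : Mat) - 1) ^ (2 * j + 3)) *ᵥ x = ((-1 : K) ^ (j + 1) * x (fI i2)) • (vE i1 : Vec) := by
  have h := uM_sub_one_pow_of_inV' bar c F.hE1 F.hInV hx (2 * j + 2)
  rw [show 2 * j + 2 + 1 = 2 * j + 3 from rfl] at h
  rw [h, F.hZero x hx, F.hTop x hx, zero_add, Pi.smul_apply]
  unfold vE
  rw [bv_apply, if_pos rfl, smul_eq_mul, mul_one]

theorem uM_pow_b (F : RegFacts (j := j) bar c) {x : Vec} (hx : InV' x) :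
    (((uM bar c : Mat) - 1) ^ (2 * j + 4)) *ᵥ x = 0 := by
  rw [show 2 * j + 4 = (2 * j + 3) + 1 from rfl, pow_succ_mulVec', uM_pow_a F hx,
    Matrix.mulVec_smul, uM_sub_one_vE1 bar c F.hE1, smul_zero]

theorem uM_sub_one_vF1 (F : RegFacts (j := j) bar c) :
    ((uM bar c : Mat) - 1) *ᵥ (vF i1 : Vec) = -(UWM bar c *ᵥ (vF i2 : Vec)) := by
  rw [uM_sub_one_mulVec bar c F.hE1]
  have h1 : (vF i1 : Vec) (fI i1) = 1 := by
    unfold vF; rw [bv_apply, if_pos rfl]
  have h2 : (vF i1 : Vec) (eI i2) = 0 := by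
    unfold vF; rw [bv_apply, if_neg (by intro h; cases h)]
  rw [h1, h2, zero_smul, one_smul, add_zero]
  unfold NU
  rw [F.hF1, sub_self, zero_sub]

theorem UWM_vF2_facts (F : RegFacts (j := j) bar c) : InV' (UWM bar c *ᵥ (vF i2 : Vec)) ∧ (UWM bar c *ᵥ (vF i2 : Vec)) (fI i2) = 1 := by
  have h : UWM bar c *ᵥ (vF i2 : Vec) = NU bar c (vF i2 : Vec) + vF i2 := by
    unfold NU; rw [sub_add_cancel]
  have hN := F.hInV _ (inV'_vF2 (K := K) (j := j))
  have h2 := inV'_vF2 (K := K) (j := j)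
  have h3 := F.hF2 1 le_rfl
  rw [Function.iterate_one] at h3
  rw [h]
  refine ⟨⟨?_, ?_⟩, ?_⟩
  · rw [Pi.add_apply, hN.1, h2.1, add_zero]
  · rw [Pi.add_apply, hN.2, h2.2, add_zero]
  · rw [Pi.add_apply, h3, zero_add]
    unfold vF
    rw [bv_apply, if_pos rfl]

theorem uM_pow_vF1 (F : RegFacts (j := j) bar c) :
    (((uM bar c : Mat) - 1) ^ (2 * j + 4)) *ᵥ (vF i1 : Vec) = ((-1 : K) ^ j) • (vE i1 : Vec) := by
  obtain ⟨hV, h1⟩ := UWM_vF2_facts F
  rw [show 2 * j + 4 = (2 * j + 3) + 1 from rfl, pow_succ_mulVec, uM_sub_one_vF1 F,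
    Matrix.mulVec_neg, uM_pow_a F hV, h1, mul_one, pow_succ, ← neg_smul]
  congr 1
  ring

/-- (REG), first half, core form -/
theorem uM_sub_one_pow_ne_core (F : RegFacts (j := j) bar c) : ((uM bar c : Mat) - 1) ^ (2 * j + 4) ≠ 0 := by
  intro h
  have h1 := uM_pow_vF1 F
  rw [h, Matrix.zero_mulVec] at h1
  have h2 := congrFun h1 (eI i1)
  rw [Pi.zero_apply, Pi.smul_apply] at h2
  unfold vE at h2
  rw [bv_apply, if_pos rfl, smul_eq_mul, mul_one] at h2
  exact pow_ne_zero j (neg_ne_zero.mpr one_ne_zero) h2.symm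

/-- (REG), second half, core form -/
theorem uM_sub_one_pow_eq_core (F : RegFacts (j := j) bar c) : ((uM bar c : Mat) - 1) ^ (2 * j + 5) = 0 := by
  apply mat_ext_bv
  intro y
  rw [Matrix.zero_mulVec]
  by_cases hy1 : y = eI i1
  · subst hy1
    rw [show 2 * j + 5 = (2 * j + 4) + 1 from rfl, pow_succ_mulVec]
    have := uM_sub_one_vE1 bar c F.hE1
    unfold vE at this
    rw [this, Matrix.mulVec_zero]
  · by_cases hy2 : y = fI i1
    · subst hy2
      rw [show 2 * j + 5 = (2 * j + 4) + 1 from rfl, pow_succ_mulVec']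
      have := uM_pow_vF1 F
      unfold vF at this
      rw [this, Matrix.mulVec_smul, uM_sub_one_vE1 bar c F.hE1, smul_zero]
    · have hV : InV' (bv y : Vec) := by
        constructor
        · rw [bv_apply, if_neg (fun h => hy1 h.symm)]
        · rw [bv_apply, if_neg (fun h => hy2 h.symm)]
      rw [show 2 * j + 5 = (2 * j + 4) + 1 from rfl, pow_succ_mulVec',
        uM_pow_b F hV, Matrix.mulVec_zero]

end core

end Cfsg.Agent.Helper29.RUn
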