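-- helper29 for helper84 (S2282), piece (REG): VERBATIM skeleton signatures.
import Mathlib
import Cfsg.Prelude.Def_Classical
import Cfsg.Agent.Helper84.RUn.Defs
import Cfsg.Agent.Helper33.RUnUWA2
import Cfsg.Agent.Helper81.RUnUWP
import Cfsg.Agent.Helper29.RUnREGCore

set_option autoImplicit false
set_option linter.unusedSectionVars false

namespace Cfsg.Agent.Helper29.RUn

open Matrix Cfsg.Agent.Helper84.PSU Cfsg.Agent.Helper84.RUn

variable {K : Type*} [Field K] {j : ℕ}

local notation "Vec" => (I (j + 2) 1 → K)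
local notation "Mat" => Matrix (I (j + 2) 1) (I (j + 2) 1) K
local notation "Mk" => Matrix (Fin (j + 2)) (Fin (j + 2)) K

variable (bar : K →+* K) (hb : ∀ x, bar (bar x) = x)

theorem regFacts (c : K) : RegFacts (j := j) bar c where
  hE1 := Cfsg.Agent.Helper33.RUn.UWM_vE1 bar c
  hF1 := Cfsg.Agent.Helper33.RUn.UWM_vF1 bar c
  hInV := Cfsg.Agent.Helper81.RUn.NU_inV' bar c
  hTop := Cfsg.Agent.Helper81.RUn.NU_iter_top bar c
  hZero := Cfsg.Agent.Helper81.RUn.NU_iter_zero bar c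
  hF2 := Cfsg.Agent.Helper81.RUn.NU_iter_vF2_apply bar c

/-! ### (REG) `u` is regular unipotent -/

theorem uM_sub_one_pow_ne (c : K) : ((uM bar c : Mat) - 1) ^ (2 * j + 4) ≠ 0 :=
  uM_sub_one_pow_ne_core (regFacts bar c)

theorem uM_sub_one_pow_eq (c : K) : ((uM bar c : Mat) - 1) ^ (2 * j + 5) = 0 :=
  uM_sub_one_pow_eq_core (regFacts bar c)

end Cfsg.Agent.Helper29.RUn
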