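import Mathlib
import Cfsg.Agent.Helper42.SL2Cent

set_option autoImplicit false

/-!
# S3921 farm (helper54): leaf (RC) — semisimple non-central elements of `SL(2,q)` have cyclic centralizers
-/

namespace Cfsg.Agent.Helper29.SCG

open Matrix Cfsg.Agent.Helper42

/-- the product of two elements `x + y g`, `x' + y' g` (Cayley–Hamilton for `2 × 2` matrices) -/
theorem RC_lin_mul {F : Type*} [Field F] (g : Matrix (Fin 2) (Fin 2) F) (x y x' y' : F) :
    lin g x y * lin g x' y' =
      lin g (x * x' - y * y' * (g 0 0 * g 1 1 - g 0 1 * g 1 0))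
        (x * y' + x' * y + y * y' * (g 0 0 + g 1 1)) := by
  apply ext2
  · rw [mul00, lin00, lin00, lin01, lin10, lin00]; ring
  · rw [mul01, lin00, lin01, lin01, lin11, lin01]; ring
  · rw [mul10, lin10, lin00, lin11, lin10, lin10]; ring
  · rw [mul11, lin10, lin01, lin11, lin11, lin11]; ring

/-- (RC) semisimple non-central elements of SL2(q) have cyclic centralizers. -/
theorem RC_isCyclic_centralizer {F : Type*} [Field F] [Finite F]
    (g : Matrix.SpecialLinearGroup (Fin 2) F)
    (hd : (Matrix.trace (g : Matrix (Fin 2) (Fin 2) F)) ^ 2 ≠ 4) :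
    IsCyclic ↥(Subgroup.centralizer ({g} : Set (Matrix.SpecialLinearGroup (Fin 2) F))) := by
  classical
  set gm : Matrix (Fin 2) (Fin 2) F := (g : Matrix (Fin 2) (Fin 2) F) with hgm
  have hdet : gm 0 0 * gm 1 1 - gm 0 1 * gm 1 0 = 1 := by
    have := g.2
    rw [Matrix.det_fin_two] at this
    exact this
  have htr : gm.trace = gm 0 0 + gm 1 1 := Matrix.trace_fin_two gm
  -- `g` is not scalar
  have hns : IsNonScalarMat gm := by
    rintro ⟨h01, h10, h00⟩
    apply hd
    rw [htr, h00]
    rw [h01, h00] at hdet
    linear_combination 4 * hdet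
  -- the splitting field and a root of `X^2 - t X + 1`
  let K := AlgebraicClosure F
  let t : K := algebraMap F K gm.trace
  obtain ⟨lam, hlam⟩ : ∃ lam : K, lam ^ 2 - t * lam + 1 = 0 := by
    have hdeg : (Polynomial.X ^ 2 - Polynomial.C t * Polynomial.X + 1 : Polynomial K).degree ≠ 0 := by
      have : (Polynomial.X ^ 2 - Polynomial.C t * Polynomial.X + 1 : Polynomial K) =
          Polynomial.C 1 * Polynomial.X ^ 2 + Polynomial.C (-t) * Polynomial.X + Polynomial.C 1 := by
        simp only [map_neg, map_one]; ring
      rw [this, Polynomial.degree_quadratic one_ne_zero]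
      norm_num
    obtain ⟨z, hz⟩ := IsAlgClosed.exists_root _ hdeg
    refine ⟨z, ?_⟩
    simpa [Polynomial.IsRoot] using hz
  have hinj : Function.Injective (algebraMap F K) := (algebraMap F K).injective
  -- finiteness
  have : Finite (Matrix.SpecialLinearGroup (Fin 2) F) :=
    Finite.of_injective (fun a => (a : Matrix (Fin 2) (Fin 2) F)) Subtype.coe_injective
  -- coordinates of the elements of the centralizer
  have hex : ∀ h : ↥(Subgroup.centralizer ({g} : Set (Matrix.SpecialLinearGroup (Fin 2) F))),
      ∃ p : F × F, ((h : Matrix.SpecialLinearGroup (Fin 2) F) : Matrix (Fin 2) (Fin 2) F) =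
        lin gm p.1 p.2 := by
    rintro ⟨k, hk⟩
    rw [Subgroup.mem_centralizer_singleton_iff] at hk
    have hk' : (k : Matrix (Fin 2) (Fin 2) F) * gm = gm * (k : Matrix (Fin 2) (Fin 2) F) := by
      have := congrArg (fun A : Matrix.SpecialLinearGroup (Fin 2) F => (A : Matrix (Fin 2) (Fin 2) F)) hk
      simpa only [Matrix.SpecialLinearGroup.coe_mul] using this
    obtain ⟨x, y, hxy⟩ := exists_lin_of_comm gm _ hns hk'
    exact ⟨(x, y), hxy⟩
  choose xy hxy using hex
  have hone : xy 1 = (1, 0) := by
    have h1 : lin gm (xy 1).1 (xy 1).2 = lin gm 1 0 := by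
      rw [← hxy 1, lin_one]; rfl
    obtain ⟨h1a, h1b⟩ := lin_injective gm hns _ _ _ _ h1
    exact Prod.ext h1a h1b
  have hmul : ∀ a b, xy (a * b) = ((xy a).1 * (xy b).1 - (xy a).2 * (xy b).2,
      (xy a).1 * (xy b).2 + (xy b).1 * (xy a).2 + (xy a).2 * (xy b).2 * gm.trace) := by
    intro a b
    have h1 : lin gm (xy (a * b)).1 (xy (a * b)).2 =
        lin gm ((xy a).1 * (xy b).1 - (xy a).2 * (xy b).2)
          ((xy a).1 * (xy b).2 + (xy b).1 * (xy a).2 + (xy a).2 * (xy b).2 * gm.trace) := by
      rw [← hxy (a * b)]
      have : (((a * b : ↥(Subgroup.centralizer ({g} : Set (Matrix.SpecialLinearGroup (Fin 2) F)))) :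
          Matrix.SpecialLinearGroup (Fin 2) F) : Matrix (Fin 2) (Fin 2) F) =
          ((a : Matrix.SpecialLinearGroup (Fin 2) F) : Matrix (Fin 2) (Fin 2) F) *
          ((b : Matrix.SpecialLinearGroup (Fin 2) F) : Matrix (Fin 2) (Fin 2) F) := rfl
      rw [this, hxy a, hxy b, RC_lin_mul, hdet, htr, mul_one]
    obtain ⟨h1a, h1b⟩ := lin_injective gm hns _ _ _ _ h1
    exact Prod.ext h1a h1b
  -- the character
  let f : ↥(Subgroup.centralizer ({g} : Set (Matrix.SpecialLinearGroup (Fin 2) F))) →* K :=
    { toFun := fun h => algebraMap F K (xy h).1 + algebraMap F K (xy h).2 * lam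
      map_one' := by
        rw [hone]; simp
      map_mul' := by
        intro a b
        rw [hmul a b]
        simp only [map_sub, map_add, map_mul]
        have : algebraMap F K gm.trace = t := rfl
        rw [this]
        linear_combination
          (-(algebraMap F K (xy a).2 * algebraMap F K (xy b).2)) * hlam }
  have hf : Function.Injective f := by
    rw [injective_iff_map_eq_one]
    intro h hh
    have hh' : algebraMap F K (xy h).1 + algebraMap F K (xy h).2 * lam = 1 := hh
    -- determinant one
    have hdet1 : (xy h).1 ^ 2 + (xy h).1 * (xy h).2 * gm.trace + (xy h).2 ^ 2 = 1 := by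
      have := (h : Matrix.SpecialLinearGroup (Fin 2) F).2
      rw [hxy h, det_lin, hgm, g.2, mul_one] at this
      exact this
    have hdetK : algebraMap F K (xy h).1 ^ 2 + algebraMap F K (xy h).1 * algebraMap F K (xy h).2 * t +
        algebraMap F K (xy h).2 ^ 2 = 1 := by
      have := congrArg (algebraMap F K) hdet1
      simpa only [map_add, map_mul, map_pow, map_one] using this
    set X : K := algebraMap F K (xy h).1 with hX
    set Y : K := algebraMap F K (xy h).2 with hY
    -- the conjugate value is `1` as well
    have hconj : X + Y * (t - lam) = 1 := by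
      have hprod : (X + Y * lam) * (X + Y * (t - lam)) = 1 := by
        linear_combination hdetK - Y ^ 2 * hlam
      rw [hh', one_mul] at hprod
      exact hprod
    have hdisc : (2 * lam - t) ^ 2 ≠ 0 := by
      have h1 : (2 * lam - t) ^ 2 = t ^ 2 - 4 := by linear_combination 4 * hlam
      rw [h1]
      intro h0
      apply hd
      apply hinj
      have : algebraMap F K (gm.trace ^ 2) = t ^ 2 := by rw [map_pow]
      rw [this]
      have h4 : algebraMap F K 4 = 4 := map_ofNat (algebraMap F K) 4
      rw [h4]
      linear_combination h0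
    have hY0 : Y = 0 := by
      have : Y * (2 * lam - t) = 0 := by linear_combination hh' - hconj
      rcases mul_eq_zero.mp this with h0 | h0
      · exact h0
      · exfalso; apply hdisc; rw [h0]; ring
    have hX1 : X = 1 := by
      rw [hY0, zero_mul, add_zero] at hh'
      exact hh'
    have hy : (xy h).2 = 0 := by
      apply hinj; rw [map_zero]; exact hY0
    have hx : (xy h).1 = 1 := by
      apply hinj; rw [map_one]; exact hX1
    apply Subtype.ext
    apply Matrix.SpecialLinearGroup.ext
    intro i j
    have := hxy h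
    rw [hx, hy, lin_one] at this
    rw [this]; rfl
  exact isCyclic_of_injective_ringHom f hf

end Cfsg.Agent.Helper29.SCG
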