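import Mathlib
import Cfsg.Agent.Helper38.SU2G.Defs

/-!
# S2412 piece (E2) for helper38: the whole root group `{E(e_0, t f_1, 0)}`.
-/

set_option autoImplicit false
set_option linter.unusedSectionVars false

namespace Cfsg.Agent.Helper29.SU2G

open Matrix Cfsg.Agent.Helper84.PSU Cfsg.Agent.Helper38.SU2G

variable {K : Type*} [Field K] {m r : ℕ}

local notation "Vec" => (I (m + 2) r → K)
local notation "Mat" => Matrix (I (m + 2) r) (I (m + 2) r) K

variable (bar : K →+* K) (hb : ∀ x, bar (bar x) = x)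

set_option quotPrecheck false in
local notation "SUk" => ↥(SUm (m + 2) r bar)

include hb in
/-- (E2) the whole root group. -/
theorem e2_piece {h : SUk} {κ : K} (hh : IsTor bar h κ) (hκ0 : κ ≠ 0)
    (hgen : ∀ A : AddSubgroup K, (∀ x ∈ A, bar κ * bar κ * x ∈ A) → (∃ c ∈ A, c ≠ 0) → A = ⊤)
    (L : Subgroup SUk) (hhL : h ∈ L) {c₂ : K} (hc₂ : c₂ ≠ 0)
    (h1 : HasM bar L (eichM bar (vE i0) (c₂ • vF i1) 0)) : RGz bar L (vE i0) (vF i1) := by
  have h10 : (i1 : Fin (m + 2)) ≠ i0 := by
    intro h
    have := congrArg Fin.val h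
    simp [i0, i1] at this
  have huu : hf bar (vE i0 : Vec) (vE i0) = 0 := hf_bv_ee bar i0 i0
  have hfu : ∀ t : K, hf bar (t • (vF i1 : Vec)) (vE i0) = 0 := by
    intro t
    rw [hf_smul_left]
    unfold vF vE
    rw [hf_bv_fe, if_neg h10, mul_zero]
  have hff : ∀ s t : K, hf bar (t • (vF i1 : Vec)) (s • vF i1) = 0 := by
    intro s t
    rw [hf_smul_left, hf_smul_right]
    unfold vF
    rw [hf_bv_ff, mul_zero, mul_zero]
  let A : AddSubgroup K :=
    { carrier := {t | HasM bar L (eichM bar (vE i0) (t • vF i1) 0)}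
      zero_mem' := by
        show HasM bar L (eichM bar (vE i0) ((0 : K) • vF i1) 0)
        rw [zero_smul, eichM_zero_zero]
        exact HasM.one bar L
      add_mem' := by
        intro s t hs ht
        show HasM bar L (eichM bar (vE i0) ((s + t) • vF i1) 0)
        have h2 := HasM.eich_mul bar hb huu (hfu s) (hfu t) hs ht
        rw [hff s t, sub_zero, add_zero, ← add_smul] at h2
        exact h2
      neg_mem' := by
        intro t ht
        show HasM bar L (eichM bar (vE i0) ((-t) • vF i1) 0)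
        have hc : (0 : K) + bar 0 + hf bar (t • (vF i1 : Vec)) (t • vF i1) = 0 := by
          rw [hff t t, map_zero, add_zero, add_zero]
        have h2 := HasM.eich_inv bar hb huu (hfu t) hc ht
        rw [map_zero, ← neg_smul] at h2
        exact h2 }
  have hstab : ∀ x ∈ A, bar κ * bar κ * x ∈ A := by
    intro t ht
    show HasM bar L (eichM bar (vE i0) ((bar κ * bar κ * t) • vF i1) 0)
    have h2 := hasM_conj_eichM bar L (hasM_mt bar hhL) (ht : HasM bar L (eichM bar (vE i0) (t • vF i1) 0))
    have e0 : mt bar h *ᵥ (vE i0 : Vec) = κ • vE i0 := hh.e0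
    have e1 : mt bar h *ᵥ (t • (vF i1 : Vec)) = t • (bar κ • vF i1) := by
      rw [Matrix.mulVec_smul]
      congr 1
      exact hh.f1
    rw [e0, e1, eichM_smul_left bar hb, mul_zero, smul_smul, smul_smul] at h2
    have e2 : bar κ * t * bar κ = bar κ * bar κ * t := by ring
    rw [e2] at h2
    exact h2
  have hA := hgen A hstab ⟨c₂, h1, hc₂⟩
  intro t
  have : t ∈ A := by rw [hA]; exact AddSubgroup.mem_top t
  exact this

end Cfsg.Agent.Helper29.SU2G
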