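import Mathlib
import Cfsg.Agent.Helper38.SU2G.Defs

/-!
# S2412 piece (GENK) for helper38: an additive subgroup of the field with `q^2` elements stable under `g^2`
(`g` a generator of the multiplicative group) and containing a nonzero element is everything.
-/

set_option autoImplicit false
set_option linter.unusedSectionVars false

namespace Cfsg.Agent.Helper29.SU2G

open Matrix Cfsg.Agent.Helper84.PSU Cfsg.Agent.Helper38.SU2G

variable {K : Type*} [Field K] {m r : ℕ}

/-- the multipliers of an additive subgroup -/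
def mulStab (A : AddSubgroup K) : AddSubgroup K where
  carrier := {x | ∀ a ∈ A, x * a ∈ A}
  add_mem' := fun {x y} hx hy a ha => by
    rw [add_mul]; exact A.add_mem (hx a ha) (hy a ha)
  zero_mem' := fun a _ => by
    rw [zero_mul]; exact A.zero_mem
  neg_mem' := fun {x} hx a ha => by
    rw [neg_mul]; exact A.neg_mem (hx a ha)

theorem mem_mulStab {A : AddSubgroup K} {x : K} : x ∈ mulStab A ↔ ∀ a ∈ A, x * a ∈ A := Iff.rfl

theorem genk_piece [Fintype K] {q : ℕ} (hq2 : 2 ≤ q) (hK : Fintype.card K = q ^ 2) (g : K)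
    (hg : ∀ x : K, x ≠ 0 → ∃ j : ℕ, x = g ^ j) (A : AddSubgroup K) (hA : ∀ x ∈ A, g * g * x ∈ A)
    (hc : ∃ c ∈ A, c ≠ 0) : A = ⊤ := by
  classical
  set R : AddSubgroup K := mulStab A with hR
  -- powers of g * g
  have hpow : ∀ j : ℕ, (g * g) ^ j ∈ R := by
    intro j
    induction j with
    | zero =>
      intro a ha
      rw [pow_zero, one_mul]; exact ha
    | succ j ih =>
      intro a ha
      rw [pow_succ, mul_assoc]
      exact ih _ (hA a ha)
  -- squares
  have hsq : ∀ x : K, x ^ 2 ∈ R := by
    intro x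
    by_cases hx : x = 0
    · rw [hx]; simp only [ne_eq, OfNat.ofNat_ne_zero, not_false_eq_true, zero_pow]; exact R.zero_mem
    · obtain ⟨j, rfl⟩ := hg x hx
      have : (g ^ j) ^ 2 = (g * g) ^ j := by rw [← pow_mul, mul_comm, pow_mul, pow_two]
      rw [this]; exact hpow j
  -- counting
  set s : Finset K := Finset.univ.erase 0 with hs
  have hscard : s.card = q ^ 2 - 1 := by
    rw [hs, Finset.card_erase_of_mem (Finset.mem_univ _), Finset.card_univ, hK]
  have hfib : ∀ a ∈ s.image (fun x : K => x ^ 2), (s.filter fun x => x ^ 2 = a).card ≤ 2 := by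
    intro a ha
    obtain ⟨y, _, rfl⟩ := Finset.mem_image.mp ha
    have hsub : (s.filter fun x => x ^ 2 = y ^ 2) ⊆ {y, -y} := by
      intro x hx
      have h2 := (Finset.mem_filter.mp hx).2
      rcases sq_eq_sq_iff_eq_or_eq_neg.mp h2 with h | h
      · rw [h]; simp
      · rw [h]; simp
    exact (Finset.card_le_card hsub).trans Finset.card_le_two
  have hle := Finset.card_le_mul_card_image (f := fun x : K => x ^ 2) s 2 hfib
  set T : Finset K := insert 0 (s.image fun x : K => x ^ 2) with hT
  have h0T : (0 : K) ∉ s.image fun x : K => x ^ 2 := by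
    intro h0
    obtain ⟨y, hy, hy0⟩ := Finset.mem_image.mp h0
    have : y = 0 := by
      have := pow_eq_zero_iff (n := 2) (by norm_num) |>.mp hy0
      exact this
    rw [hs] at hy
    exact (Finset.mem_erase.mp hy).1 this
  have hTcard : T.card = (s.image fun x : K => x ^ 2).card + 1 := by
    rw [hT, Finset.card_insert_of_notMem h0T]
  have hTR : T ⊆ Finset.univ.filter (fun x => x ∈ R) := by
    intro x hx
    rw [Finset.mem_filter]
    refine ⟨Finset.mem_univ _, ?_⟩
    rcases Finset.mem_insert.mp hx with h | h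
    · rw [h]; exact R.zero_mem
    · obtain ⟨y, _, rfl⟩ := Finset.mem_image.mp h
      exact hsq y
  have hRcard : Nat.card ↥R = (Finset.univ.filter (fun x => x ∈ R)).card := by
    rw [Nat.card_eq_fintype_card, Fintype.card_subtype]
  have hTle : T.card ≤ Nat.card ↥R := by
    rw [hRcard]; exact Finset.card_le_card hTR
  have hdvd : Nat.card ↥R ∣ q ^ 2 := by
    have := AddSubgroup.card_addSubgroup_dvd_card R
    rwa [Nat.card_eq_fintype_card (α := K), hK] at this
  have hq0 : 0 < q ^ 2 := by positivity
  have hRtop : Nat.card ↥R = q ^ 2 := by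
    obtain ⟨k, hk⟩ := hdvd
    have hk0 : k ≠ 0 := by
      rintro rfl
      omega
    by_cases hk1 : k = 1
    · rw [hk, hk1, mul_one]
    · exfalso
      have hk2 : 2 ≤ k := by omega
      have h1 : Nat.card ↥R * 2 ≤ Nat.card ↥R * k := Nat.mul_le_mul_left _ hk2
      omega
  have hRtop' : R = ⊤ := by
    apply AddSubgroup.eq_top_of_card_eq
    rw [hRtop, Nat.card_eq_fintype_card, hK]
  obtain ⟨c, hcA, hc0⟩ := hc
  rw [eq_top_iff]
  intro y _
  have hy : y * c⁻¹ ∈ R := by rw [hRtop']; exact AddSubgroup.mem_top _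
  have := hy c hcA
  rwa [mul_assoc, inv_mul_cancel₀ hc0, mul_one] at this

end Cfsg.Agent.Helper29.SU2G
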