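import Cfsg.Agent.Helper19.SpBN.Defs

/-!
# `MonoData` for `Sp_2(K)` (piece (P0) of helper19's S2545)
-/

set_option autoImplicit false

namespace Cfsg.Agent.Helper29.SpBNP0

open Matrix Cfsg.Agent.Helper96.StN Cfsg.Agent.Helper96.StC Cfsg.Agent.Helper29.StCM
open Cfsg.Agent.Helper19.SpBN

universe u

variable {K : Type u} [Field K] {m : ℕ}

/-- the matrix of `w_{p, -p}(t)` -/
theorem W_long_coe (p : Fin m ⊕ Fin m) {t : K} (ht : t ≠ 0) :
    (W (XS K m) p (bar p) t).1 =
      1 - E p p - E (bar p) (bar p) + t • (E p (bar p) : Matrix _ _ K) - t⁻¹ • E (bar p) p := by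
  have hts : t * t⁻¹ = 1 := mul_inv_cancel₀ ht
  unfold W
  generalize t⁻¹ = s at *
  rw [Submonoid.coe_mul, Submonoid.coe_mul, XS_coe (bar_ne p).symm, XS_coe (bar_ne p), spM_long,
    spM_long' (bar_bar p).symm]
  simp only [mul_add, add_mul, mul_one, one_mul, smul_mul_assoc, mul_smul_comm, E_mul_E,
    bar_ne p, if_true, if_false, smul_zero, add_zero]
  linear_combination (norm := module)
    (-hts) • ((E p p : Matrix _ _ K) + E (bar p) (bar p) + t • E p (bar p))

theorem long_conj_aux (p : Fin m ⊕ Fin m) {t : K} (ht : t ≠ 0) (u : K) :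
    W (XS K m) p (bar p) t * XS K m p (bar p) u * (W (XS K m) p (bar p) t)⁻¹ =
      XS K m (bar p) p (-(t⁻¹ ^ 2 * u)) := by
  rw [mul_inv_eq_iff_eq_mul]
  apply Subtype.ext
  rw [Submonoid.coe_mul, Submonoid.coe_mul, W_long_coe p ht, XS_coe (bar_ne p).symm,
    XS_coe (bar_ne p), spM_long, spM_long' (bar_bar p).symm]
  have hts : t * t⁻¹ = 1 := mul_inv_cancel₀ ht
  generalize t⁻¹ = s at *
  simp only [mul_add, add_mul, mul_sub, sub_mul, mul_one, one_mul, smul_mul_assoc, mul_smul_comm,
    E_mul_E, bar_ne p, (bar_ne p).symm, if_true, if_false, smul_zero, add_zero, sub_zero]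
  linear_combination (norm := module) (s * u * hts) • (E (bar p) (bar p) : Matrix _ _ K)

theorem long_conj_aux' (p : Fin m ⊕ Fin m) {t : K} (ht : t ≠ 0) (u : K) :
    W (XS K m) p (bar p) t * XS K m (bar p) p u * (W (XS K m) p (bar p) t)⁻¹ =
      XS K m p (bar p) (-(t ^ 2 * u)) := by
  rw [mul_inv_eq_iff_eq_mul]
  apply Subtype.ext
  rw [Submonoid.coe_mul, Submonoid.coe_mul, W_long_coe p ht, XS_coe (bar_ne p).symm,
    XS_coe (bar_ne p), spM_long, spM_long' (bar_bar p).symm]
  have hts : t * t⁻¹ = 1 := mul_inv_cancel₀ ht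
  generalize t⁻¹ = s at *
  simp only [mul_add, add_mul, mul_sub, sub_mul, mul_one, one_mul, smul_mul_assoc, mul_smul_comm,
    E_mul_E, bar_ne p, (bar_ne p).symm, if_true, if_false, smul_zero, add_zero, sub_zero]
  linear_combination (norm := module) (-(u * t) * hts) • (E p p : Matrix _ _ K)

/-- conjugation of a long root element by its own `w` -/
theorem long_conj {p q : Fin m ⊕ Fin m} (hq : q = bar p) {t : K} (ht : t ≠ 0) (u : K) :
    W (XS K m) p q t * XS K m p q u * (W (XS K m) p q t)⁻¹ = XS K m q p (-(t⁻¹ ^ 2 * u)) := by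
  subst hq
  exact long_conj_aux p ht u

/-- conjugation of the opposite long root element -/
theorem long_conj' {p q : Fin m ⊕ Fin m} (hq : q = bar p) {t : K} (ht : t ≠ 0) (u : K) :
    W (XS K m) p q t * XS K m q p u * (W (XS K m) p q t)⁻¹ = XS K m p q (-(t ^ 2 * u)) := by
  subst hq
  exact long_conj_aux' p ht u

theorem eq_bar_of_ne {i j : Fin 1 ⊕ Fin 1} (h : i ≠ j) : j = bar i := by
  rcases i with i | i <;> rcases j with j | j
  · exact absurd (congrArg Sum.inl (Subsingleton.elim i j)) h
  · rw [bar_inl, Subsingleton.elim i j]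
  · rw [bar_inr, Subsingleton.elim i j]
  · exact absurd (congrArg Sum.inr (Subsingleton.elim i j)) h

theorem eq_or_eq_bar (i k : Fin 1 ⊕ Fin 1) : k = i ∨ k = bar i := by
  by_cases h : i = k
  · exact Or.inl h.symm
  · exact Or.inr (eq_bar_of_ne h)

/-- (P0) the rank one case: the relations and monomiality in `Sp_2(K)` by direct computation -/
theorem monoData_one {K : Type*} [Field K] : MonoData (XS K 1) reflPerm cw where
  rel i j hij := by
    have hj : j = bar i := eq_bar_of_ne hij
    have hi : i = bar j := by rw [hj, bar_bar]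
    refine ⟨?_, ?_⟩
    · rintro (_ | _) t u
      · exact XS_spRel.add j i hij.symm t u
      · exact XS_spRel.add i j hij t u
    · rintro (_ | _) t u ht
      · exact long_conj hi ht u
      · exact long_conj hj ht u
  mono i j hij t ht := by
    have hj : j = bar i := eq_bar_of_ne hij
    subst hj
    have hc : ∀ k, cw i (bar i) t k = if k = i then -t⁻¹ else if k = bar i then t else 1 := by
      intro k
      unfold cw
      rw [if_pos rfl]
    have hr : reflPerm i (bar i) = Equiv.swap i (bar i) := by
      unfold reflPerm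
      rw [if_pos rfl]
    refine ⟨?_, ?_⟩
    · intro k
      rw [hc]
      split_ifs
      · exact neg_ne_zero.mpr (inv_ne_zero ht)
      · exact ht
      · exact one_ne_zero
    · intro k l hkl u
      rw [hr, hc, hc]
      rcases eq_or_eq_bar i k with rfl | rfl
      · obtain rfl : l = bar k := eq_bar_of_ne hkl
        rw [Equiv.swap_apply_left, Equiv.swap_apply_right, if_pos rfl, if_neg (bar_ne k),
          if_pos rfl, long_conj rfl ht u]
        congr 1
        ring
      · obtain rfl : l = i := by
          have := eq_bar_of_ne hkl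
          rw [this, bar_bar]
        rw [Equiv.swap_apply_left, Equiv.swap_apply_right, if_pos rfl, if_neg (bar_ne l),
          if_pos rfl, long_conj' rfl ht u]
        congr 1
        field_simp

end Cfsg.Agent.Helper29.SpBNP0
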