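-- helper29 for helper80 (S2333), piece (AB1): Fourier decomposition of a character on an abelian
-- subgroup, with natural number multiplicities.
import Cfsg.Agent.Helper80.SpE.Defs
import Cfsg.Agent.Helper80.CharLevel
import Cfsg.Agent.Helper89.LS_A1

set_option autoImplicit false
set_option linter.unusedSectionVars false
set_option linter.unusedVariables false

namespace Cfsg.Agent.Helper29.SpE

open Matrix Cfsg
open scoped ComplexConjugate

section abs

variable {G : Type*} [Group G] [Fintype G] {V : Type*} [AddCommGroup V] [Fintype V]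

/-- the linear character of `Multiplicative V` attached to an additive character -/
noncomputable def lamOf (ψ : AddChar V ℂ) : Multiplicative V →* ℂˣ :=
  ψ.toMonoidHom.toHomUnits

theorem lamOf_apply (ψ : AddChar V ℂ) (h : Multiplicative V) :
    ((lamOf ψ h : ℂˣ) : ℂ) = ψ (Multiplicative.toAdd h) := rfl

/-- Fourier inversion on a finite abelian group -/
theorem fourier_inversion (f : V → ℂ) (c : AddChar V ℂ → ℂ)
    (hc : ∀ ψ : AddChar V ℂ, c ψ * (Fintype.card V : ℂ) = ∑ v : V, f v * ψ (-v)) (v : V) :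
    f v = ∑ ψ : AddChar V ℂ, c ψ * ψ v := by
  classical
  have hV : (Fintype.card V : ℂ) ≠ 0 := Nat.cast_ne_zero.mpr Fintype.card_ne_zero
  apply mul_right_cancel₀ hV
  rw [Finset.sum_mul]
  calc f v * (Fintype.card V : ℂ)
      = ∑ w : V, f w * (if v - w = 0 then (Fintype.card V : ℂ) else 0) := by
        rw [Finset.sum_eq_single v]
        · rw [sub_self, if_pos rfl]
        · intro w _ hw
          rw [if_neg (fun h => hw (sub_eq_zero.mp h).symm), mul_zero]
        · intro h
          exact absurd (Finset.mem_univ v) h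
    _ = ∑ w : V, f w * ∑ ψ : AddChar V ℂ, ψ (v - w) := by
        refine Finset.sum_congr rfl (fun w _ => ?_)
        rw [AddChar.sum_apply_eq_ite]
    _ = ∑ ψ : AddChar V ℂ, ∑ w : V, f w * ψ (-w) * ψ v := by
        rw [Finset.sum_comm]
        refine Finset.sum_congr rfl (fun w _ => ?_)
        rw [Finset.mul_sum]
        refine Finset.sum_congr rfl (fun ψ _ => ?_)
        rw [sub_eq_add_neg, AddChar.map_add_eq_mul]
        ring
    _ = ∑ ψ : AddChar V ℂ, c ψ * ψ v * (Fintype.card V : ℂ) := by
        refine Finset.sum_congr rfl (fun ψ _ => ?_)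
        rw [← Finset.sum_mul, ← hc ψ]
        ring

/-- (AB1) Fourier decomposition of the restriction of a character to an abelian subgroup, with
natural number multiplicities. -/
theorem exists_mult (u : Multiplicative V →* G) {χ : G → ℂ} (hχ : Cfsg.IsCharacter G χ) :
    ∃ m : AddChar V ℂ → ℕ,
      (∀ v : V, χ (u (Multiplicative.ofAdd v)) = ∑ ψ : AddChar V ℂ, (m ψ : ℂ) * ψ v) ∧
      (∀ ψ : AddChar V ℂ, (m ψ : ℂ) * (Fintype.card V : ℂ) =
        ∑ v : V, χ (u (Multiplicative.ofAdd v)) * ψ (-v)) := by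
  classical
  obtain ⟨n, ρ, rfl⟩ := hχ
  let σ : Representation ℂ (Multiplicative V) (Fin n → ℂ) := ρ.comp u
  let m : AddChar V ℂ → ℕ := fun ψ =>
    Module.finrank ℂ (Cfsg.Agent.Helper81.twistRep (lamOf ψ)⁻¹ σ).invariants
  have hV : (Fintype.card V : ℂ) ≠ 0 := Nat.cast_ne_zero.mpr Fintype.card_ne_zero
  have hm2 : ∀ ψ : AddChar V ℂ, (m ψ : ℂ) * (Fintype.card V : ℂ) =
      ∑ v : V, ρ.character (u (Multiplicative.ofAdd v)) * ψ (-v) := by
    intro ψ
    have h1 := Cfsg.Agent.Helper89.LS.classInner_lin_eq_finrank σ (lamOf ψ)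
    have h2 : (m ψ : ℂ) = classInner σ.character (fun x => ((lamOf ψ x : ℂˣ) : ℂ)) := h1.symm
    rw [h2]
    unfold classInner
    rw [Nat.card_eq_fintype_card, Fintype.card_multiplicative, mul_comm, ← mul_assoc,
      mul_inv_cancel₀ hV, one_mul]
    refine Fintype.sum_equiv Multiplicative.toAdd _ _ (fun g => ?_)
    rw [AddChar.map_neg_eq_conj]
    rfl
  refine ⟨m, ?_, hm2⟩
  intro v
  exact fourier_inversion (fun v => ρ.character (u (Multiplicative.ofAdd v))) (fun ψ => (m ψ : ℂ))
    hm2 v

end abs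

end Cfsg.Agent.Helper29.SpE
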