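import Mathlib
import Cfsg.Agent.Helper86.Spec4.DefsU

set_option autoImplicit false

/-!
# S2511 piece (G1) for helper86: an involutive ring endomorphism of a finite extension `E` of `F`
(`|F| = q^2`) inducing the `q`-power map on `F` is the `q^d`-power map, `d = [E : F]` odd.
-/

namespace Cfsg.Agent.Helper29.Spec4U

open Matrix Polynomial Cfsg.Agent.Helper86.Spec4

section frob

variable (p : ℕ) [Fact p.Prime]

/-- a bijective ring endomorphism of a finite field of characteristic `p` is a power of the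
Frobenius. -/
theorem ringHom_eq_frob_pow (E : Type*) [Field E] [Finite E] [Algebra (ZMod p) E] (τ : E →+* E)
    (hτ : Function.Bijective τ) :
    ∃ j < Module.finrank (ZMod p) E, ∀ y, τ y = y ^ (p ^ j) := by
  classical
  let e : E ≃+* E := RingEquiv.ofBijective τ hτ
  have hcomm : ∀ r : ZMod p, e (algebraMap (ZMod p) E r) = algebraMap (ZMod p) E r := by
    intro r
    have h : (e : E →+* E).comp (algebraMap (ZMod p) E) = algebraMap (ZMod p) E :=
      Subsingleton.elim _ _
    exact RingHom.congr_fun h r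
  let e' : E ≃ₐ[ZMod p] E := AlgEquiv.ofRingEquiv (f := e) hcomm
  obtain ⟨⟨j, hj⟩, hje⟩ := (FiniteField.bijective_frobeniusAlgEquivOfAlgebraic_pow (ZMod p) E).2 e'
  refine ⟨j, hj, fun y => ?_⟩
  have h := AlgEquiv.congr_fun hje y
  simp only [AlgEquiv.coe_pow, FiniteField.coe_frobeniusAlgEquivOfAlgebraic_iterate, ZMod.card] at h
  rw [h]
  rfl

/-- two powers of the Frobenius agreeing on a finite field have exponents congruent modulo the
degree. -/
theorem frob_pow_modEq (K : Type*) [Field K] [Finite K] [Algebra (ZMod p) K] (i j : ℕ)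
    (h : ∀ y : K, y ^ (p ^ i) = y ^ (p ^ j)) : i ≡ j [MOD Module.finrank (ZMod p) K] := by
  classical
  have h1 : FiniteField.frobeniusAlgEquivOfAlgebraic (ZMod p) K ^ i =
      FiniteField.frobeniusAlgEquivOfAlgebraic (ZMod p) K ^ j := by
    ext y
    simp only [AlgEquiv.coe_pow, FiniteField.coe_frobeniusAlgEquivOfAlgebraic_iterate, ZMod.card]
    exact h y
  have h2 := pow_eq_pow_iff_modEq.mp h1
  rwa [FiniteField.orderOf_frobeniusAlgEquivOfAlgebraic] at h2

end frob

theorem arith_G1 {a d j : ℕ} (ha : 0 < a) (_hd : 0 < d) (hj : j < 2 * a * d)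
    (h1 : 2 * j ≡ 0 [MOD 2 * a * d]) (h2 : j ≡ a [MOD 2 * a]) : Odd d ∧ j = a * d := by
  have hja : j % (2 * a) = a := by
    have := h2
    unfold Nat.ModEq at this
    rw [this]
    exact Nat.mod_eq_of_lt (by omega)
  set s := j / (2 * a) with hs
  have hjs : j = a * (2 * s + 1) := by
    have := Nat.div_add_mod j (2 * a)
    rw [hja, ← hs] at this
    rw [← this]; ring
  have hdvd : 2 * a * d ∣ 2 * j := (Nat.modEq_zero_iff_dvd).mp h1
  have hdvd' : d ∣ 2 * s + 1 := by
    have h : 2 * a * d ∣ 2 * a * (2 * s + 1) := by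
      have : 2 * j = 2 * a * (2 * s + 1) := by rw [hjs]; ring
      rw [← this]; exact hdvd
    exact Nat.dvd_of_mul_dvd_mul_left (by omega) h
  obtain ⟨u, hu⟩ := hdvd'
  have hlt : d * u < d * 2 := by
    have h : a * (2 * s + 1) < a * (2 * d) := by
      calc a * (2 * s + 1) = j := hjs.symm
        _ < 2 * a * d := hj
        _ = a * (2 * d) := by ring
    have := Nat.lt_of_mul_lt_mul_left h
    omega
  have hu2 : u < 2 := Nat.lt_of_mul_lt_mul_left hlt
  have hu0 : u ≠ 0 := by
    rintro rfl
    omega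
  have hu1 : u = 1 := by omega
  subst hu1
  rw [mul_one] at hu
  refine ⟨⟨s, hu.symm⟩, ?_⟩
  rw [hjs, hu]

variable {F : Type*} [Field F] [Fintype F] {q n : ℕ}

/-- (G1) an involutive ring endomorphism of a finite extension `E` of `F` (`|F| = q^2`) inducing the
`q`-power map on `F` is the `q^d`-power map, and `d = [E : F]` is odd. -/
theorem tau_eq_pow (hF : Fintype.card F = q ^ 2) {E : Type*} [Field E] [Finite E] [Algebra F E]
    (τ : E →+* E) (hτ2 : ∀ y, τ (τ y) = y) (hτF : ∀ c : F, τ (algebraMap F E c) = algebraMap F E (c ^ q)) :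
    Odd (Module.finrank F E) ∧ ∀ y, τ y = y ^ (q ^ Module.finrank F E) := by
  classical
  obtain ⟨p, hpc⟩ := CharP.exists F
  have hp : p.Prime := CharP.char_is_prime F p
  haveI : Fact p.Prime := ⟨hp⟩
  haveI : CharP E p := charP_of_injective_algebraMap (algebraMap F E).injective p
  letI algF : Algebra (ZMod p) F := ZMod.algebra F p
  letI algE : Algebra (ZMod p) E := ZMod.algebra E p
  haveI := Fintype.ofFinite E
  have hcF : Fintype.card F = p ^ Module.finrank (ZMod p) F := by
    rw [Module.card_eq_pow_finrank (K := ZMod p) (V := F), ZMod.card]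
  have hcE1 : Fintype.card E = p ^ Module.finrank (ZMod p) E := by
    rw [Module.card_eq_pow_finrank (K := ZMod p) (V := E), ZMod.card]
  have hcE2 : Fintype.card E = (Fintype.card F) ^ Module.finrank F E :=
    Module.card_eq_pow_finrank
  obtain ⟨a, -, hqa⟩ := (Nat.dvd_prime_pow hp).mp
    (show q ∣ p ^ Module.finrank (ZMod p) F by
      rw [← hcF, hF]; exact dvd_pow_self q two_ne_zero)
  have hmF : Module.finrank (ZMod p) F = 2 * a := by
    have h : p ^ Module.finrank (ZMod p) F = p ^ (2 * a) := by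
      rw [← hcF, hF, hqa, ← pow_mul, mul_comm]
    exact Nat.pow_right_injective hp.two_le h
  have hmE : Module.finrank (ZMod p) E = 2 * a * Module.finrank F E := by
    have h : p ^ Module.finrank (ZMod p) E = p ^ (2 * a * Module.finrank F E) := by
      rw [← hcE1, hcE2, hcF, hmF, ← pow_mul]
    exact Nat.pow_right_injective hp.two_le h
  have hd : 0 < Module.finrank F E := Module.finrank_pos
  have ha : 0 < a := by
    have h : 0 < Module.finrank (ZMod p) F := Module.finrank_pos
    omega
  have hbij : Function.Bijective τ :=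
    ⟨fun x y hxy => by rw [← hτ2 x, ← hτ2 y, hxy], fun y => ⟨τ y, hτ2 y⟩⟩
  obtain ⟨j, hj, hτj⟩ := ringHom_eq_frob_pow p E τ hbij
  have h1 : 2 * j ≡ 0 [MOD Module.finrank (ZMod p) E] := by
    apply frob_pow_modEq p E
    intro y
    have h := hτ2 y
    rw [hτj, hτj, ← pow_mul, ← pow_add] at h
    rw [pow_zero, pow_one, two_mul]
    exact h
  have h2 : j ≡ a [MOD Module.finrank (ZMod p) F] := by
    apply frob_pow_modEq p F
    intro c
    apply (algebraMap F E).injective
    rw [map_pow, ← hτj, hτF, hqa]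
  rw [hmE] at h1 hj
  rw [hmF] at h2
  obtain ⟨hodd, hjad⟩ := arith_G1 ha hd hj h1 h2
  refine ⟨hodd, fun y => ?_⟩
  rw [hτj, hqa, ← pow_mul, hjad]

end Cfsg.Agent.Helper29.Spec4U
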