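import Mathlib
import Cfsg.Agent.Helper86.Spec4.DefsU

set_option autoImplicit false

/-!
# S2511 piece (R4) for helper86: `cU (p^a) n` is prime to `p`.
-/

namespace Cfsg.Agent.Helper29.Spec4U

open Matrix Polynomial Cfsg.Agent.Helper86.Spec4

theorem NU_cast_int (q n : ℕ) (hq : 1 ≤ q) : ((NU q n : ℕ) : ℤ) = (q : ℤ) ^ n - (-1) ^ n := by
  unfold NU
  split_ifs with h
  · rw [h.neg_one_pow]
    have h1 : 1 ≤ q ^ n := Nat.one_le_pow _ _ hq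
    push_cast [Nat.cast_sub h1]
    ring
  · rw [(Nat.not_even_iff_odd.mp h).neg_one_pow]
    push_cast
    ring

theorem gcd_dvd_altsum (q n : ℕ) :
    ((Nat.gcd n (q + 1) : ℕ) : ℤ) ∣ ∑ i ∈ Finset.range n, (q : ℤ) ^ i * (-1) ^ (n - 1 - i) := by
  set g : ℕ := Nat.gcd n (q + 1) with hg
  have hq : (q : ℤ) ≡ -1 [ZMOD (g : ℤ)] := by
    have h1 : (g : ℤ) ∣ ((q + 1 : ℕ) : ℤ) := Int.natCast_dvd_natCast.mpr (Nat.gcd_dvd_right _ _)
    have h2 : (g : ℤ) ∣ (q : ℤ) - (-1) := by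
      have : (q : ℤ) - (-1) = ((q + 1 : ℕ) : ℤ) := by push_cast; ring
      rw [this]; exact h1
    exact (Int.modEq_iff_dvd.mpr h2).symm
  have hsum : (∑ i ∈ Finset.range n, (q : ℤ) ^ i * (-1) ^ (n - 1 - i)) ≡
      ∑ i ∈ Finset.range n, (-1 : ℤ) ^ i * (-1) ^ (n - 1 - i) [ZMOD (g : ℤ)] := by
    apply Int.ModEq.sum
    intro i _
    exact (hq.pow i).mul_right _
  have hconst : ∑ i ∈ Finset.range n, (-1 : ℤ) ^ i * (-1) ^ (n - 1 - i) = (n : ℤ) * (-1) ^ (n - 1) := by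
    rw [Finset.sum_congr rfl (g := fun _ => (-1 : ℤ) ^ (n - 1))]
    · simp
    · intro i hi
      rw [← pow_add]
      congr 1
      have := Finset.mem_range.mp hi
      omega
  rw [hconst] at hsum
  have hn : (g : ℤ) ∣ (n : ℤ) * (-1) ^ (n - 1) :=
    Dvd.dvd.mul_right (Int.natCast_dvd_natCast.mpr (Nat.gcd_dvd_left _ _)) _
  exact (Int.ModEq.dvd_iff hsum).mpr hn |> fun h => h

theorem mul_gcd_dvd_NU (q n : ℕ) (hq : 1 ≤ q) : (q + 1) * Nat.gcd n (q + 1) ∣ NU q n := by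
  have h : (((q + 1) * Nat.gcd n (q + 1) : ℕ) : ℤ) ∣ ((NU q n : ℕ) : ℤ) := by
    rw [NU_cast_int q n hq, ← geom_sum₂_mul (q : ℤ) (-1) n, mul_comm]
    push_cast
    apply mul_dvd_mul
    · exact gcd_dvd_altsum q n
    · have : (q : ℤ) - (-1) = (q : ℤ) + 1 := by ring
      rw [this]
  exact Int.natCast_dvd_natCast.mp h

theorem not_dvd_NU {p q n : ℕ} (hp : p.Prime) (hq0 : 0 < q) (hpq : p ∣ q) (hn : 1 ≤ n) :
    ¬ p ∣ NU q n := by
  have hqn : p ∣ q ^ n := dvd_pow hpq (by omega)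
  unfold NU
  split_ifs with h
  · intro hd
    have h1 : 1 ≤ q ^ n := Nat.one_le_pow _ _ hq0
    have h2 : p ∣ q ^ n - (q ^ n - 1) := Nat.dvd_sub hqn hd
    have h3 : q ^ n - (q ^ n - 1) = 1 := by omega
    rw [h3] at h2
    exact hp.one_lt.ne' (Nat.dvd_one.mp h2)
  · intro hd
    have h2 : p ∣ 1 := (Nat.dvd_add_right hqn).mp hd
    exact hp.one_lt.ne' (Nat.dvd_one.mp h2)

/-- (R4) `cU` is prime to `p`. -/
theorem coprime_cU {p a n : ℕ} (hp : p.Prime) (ha : 1 ≤ a) (hn : 1 ≤ n) :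
    Nat.Coprime p (cU (p ^ a) n) := by
  have hq : 1 ≤ p ^ a := Nat.one_le_pow _ _ hp.pos
  have hdvd : cU (p ^ a) n ∣ NU (p ^ a) n := by
    unfold cU
    exact Nat.div_dvd_of_dvd (mul_gcd_dvd_NU (p ^ a) n hq)
  have hnd : ¬ p ∣ NU (p ^ a) n := not_dvd_NU hp hq (dvd_pow_self p (by omega)) hn
  exact Nat.Coprime.coprime_dvd_right hdvd ((Nat.Prime.coprime_iff_not_dvd hp).mpr hnd)

end Cfsg.Agent.Helper29.Spec4U
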