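import Mathlib
import Cfsg.Prelude.Def_Classical
import Cfsg.Prelude.Def_LieClassical
import Cfsg.Agent.Helper86.Spec4.DefsU
import Cfsg.Agent.Helper39.NilCount
import Cfsg.Agent.S2588

set_option autoImplicit false

/-!
# S2511 piece (V7a) for helper86: a regular unipotent element of `SU_m(q)`.
-/

namespace Cfsg.Agent.Helper29.Spec4U

open Matrix Polynomial Cfsg.Agent.Helper86.Spec4

section shift

variable {F : Type*} [Field F] (m : ℕ)

/-- the sub-diagonal shift matrix -/
def shiftL : Matrix (Fin m) (Fin m) F := Matrix.of fun i j => if (j : ℕ) + 1 = (i : ℕ) then 1 else 0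

theorem shiftL_apply (i j : Fin m) :
    (shiftL m : Matrix (Fin m) (Fin m) F) i j = if (j : ℕ) + 1 = (i : ℕ) then 1 else 0 := rfl

theorem shiftL_pow_apply (k : ℕ) (i j : Fin m) :
    ((shiftL m : Matrix (Fin m) (Fin m) F) ^ k) i j = if (j : ℕ) + k = (i : ℕ) then 1 else 0 := by
  induction k generalizing i j with
  | zero =>
    rw [pow_zero, Matrix.one_apply, add_zero]
    by_cases h : i = j
    · subst h; simp
    · rw [if_neg h, if_neg]
      intro h'
      exact h (Fin.ext h'.symm)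
  | succ k ih =>
    rw [pow_succ', Matrix.mul_apply]
    simp only [ih, shiftL_apply]
    by_cases h : (j : ℕ) + (k + 1) = (i : ℕ)
    · rw [if_pos h]
      have hl : (j : ℕ) + k < m := by have := i.2; omega
      rw [Finset.sum_eq_single ⟨(j : ℕ) + k, hl⟩]
      · rw [if_pos (by simp; omega), if_pos (by simp)]
        simp
      · intro b _ hb
        have : ¬ ((j : ℕ) + k = (b : ℕ)) := fun h' => hb (Fin.ext h'.symm)
        rw [if_neg this, mul_zero]
      · intro h'
        exact absurd (Finset.mem_univ _) h'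
    · rw [if_neg h]
      apply Finset.sum_eq_zero
      intro l _
      by_cases h1 : (j : ℕ) + k = (l : ℕ)
      · have : ¬ ((l : ℕ) + 1 = (i : ℕ)) := by omega
        rw [if_neg this, zero_mul]
      · rw [if_neg h1, mul_zero]

theorem shiftL_pow_self : (shiftL m : Matrix (Fin m) (Fin m) F) ^ m = 0 := by
  ext i j
  rw [shiftL_pow_apply, Matrix.zero_apply, if_neg]
  have := i.2
  omega

theorem shiftL_pow_pred_ne (hm : 1 ≤ m) : (shiftL m : Matrix (Fin m) (Fin m) F) ^ (m - 1) ≠ 0 := by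
  intro h
  have h1 := congrFun (congrFun h ⟨m - 1, by omega⟩) ⟨0, by omega⟩
  rw [shiftL_pow_apply, Matrix.zero_apply, if_pos (by simp)] at h1
  exact one_ne_zero h1

/-- the regular unipotent matrix `1 + shiftL` -/
def regU : Matrix (Fin m) (Fin m) F := 1 + shiftL m

theorem regU_map {q : ℕ} (hq : q ≠ 0) :
    (regU m : Matrix (Fin m) (Fin m) F).map (fun x : F => x ^ q) = regU m := by
  ext i j
  rw [Matrix.map_apply]
  unfold regU
  rw [Matrix.add_apply, Matrix.one_apply, shiftL_apply]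
  by_cases h1 : i = j
  · subst h1
    rw [if_pos rfl, if_neg (by omega), add_zero, one_pow]
  · rw [if_neg h1, zero_add]
    by_cases h2 : (j : ℕ) + 1 = (i : ℕ)
    · rw [if_pos h2, one_pow]
    · rw [if_neg h2, zero_pow hq]

theorem regU_det : (regU m : Matrix (Fin m) (Fin m) F).det = 1 := by
  rw [Matrix.det_of_isLowerTriangular]
  · apply Finset.prod_eq_one
    intro i _
    unfold regU
    rw [Matrix.add_apply, Matrix.one_apply, shiftL_apply, if_pos rfl, if_neg (by omega), add_zero]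
  · intro i j hij
    have hlt : i < j := hij
    have hlt' : (i : ℕ) < (j : ℕ) := hlt
    unfold regU
    rw [Matrix.add_apply, Matrix.one_apply, shiftL_apply, if_neg (ne_of_lt hlt), if_neg (by omega),
      add_zero]

end shift

section conj

variable {F : Type*} [Field F] {m : ℕ}

theorem toLin'_pow_apply (B : Matrix (Fin m) (Fin m) F) (k : ℕ) (v : Fin m → F) :
    ((Matrix.toLin' B) ^ k) v = (B ^ k) *ᵥ v := by
  induction k generalizing v with
  | zero => simp
  | succ k ih =>
    rw [pow_succ, Module.End.mul_apply, ih, Matrix.toLin'_apply, Matrix.mulVec_mulVec, ← pow_succ]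

/-- every regular unipotent matrix is conjugate to `regU`. -/
theorem exists_conj_regU (M : Matrix (Fin m) (Fin m) F) (h0 : (M - 1) ^ m = 0)
    (h1 : (M - 1) ^ (m - 1) ≠ 0) :
    ∃ C : Matrix (Fin m) (Fin m) F, IsUnit C ∧ C * regU m = M * C := by
  classical
  -- a cyclic vector
  have hv : ∃ v : Fin m → F, ((M - 1) ^ (m - 1)) *ᵥ v ≠ 0 := by
    by_contra hcon
    push_neg at hcon
    apply h1
    apply Matrix.toLin'.injective
    apply LinearMap.ext
    intro v
    rw [Matrix.toLin'_apply, hcon v]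
    simp
  obtain ⟨v, hv⟩ := hv
  set N : Module.End F (Fin m → F) := Matrix.toLin' (M - 1) with hN
  have hNm : (N ^ m) v = 0 := by
    rw [hN, toLin'_pow_apply, h0, Matrix.zero_mulVec]
  have hNne : ∀ j < m, (N ^ j) v ≠ 0 := by
    intro j hj hz
    apply hv
    rw [← toLin'_pow_apply, ← hN]
    have e : m - 1 = (m - 1 - j) + j := by omega
    rw [e, pow_add, Module.End.mul_apply, hz, map_zero]
  have hli := Cfsg.Agent.Helper39.krylov_linearIndependent N v m hNm hNne
  let C : Matrix (Fin m) (Fin m) F := Matrix.of fun i j => (((M - 1) ^ (j : ℕ)) *ᵥ v) i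
  have hCcol : C.col = fun j : Fin m => (N ^ (j : ℕ)) v := by
    funext j
    rw [hN, toLin'_pow_apply]
    rfl
  have hCu : IsUnit C := by
    rw [← Matrix.linearIndependent_cols_iff_isUnit, hCcol]
    exact hli
  refine ⟨C, hCu, ?_⟩
  have hkey : C * shiftL m = (M - 1) * C := by
    ext i j
    rw [Matrix.mul_apply, Matrix.mul_apply]
    have hR : ∑ l, (M - 1) i l * C l j = (((M - 1) ^ ((j : ℕ) + 1)) *ᵥ v) i := by
      rw [pow_succ', ← Matrix.mulVec_mulVec]
      rfl
    rw [hR]
    by_cases hj : (j : ℕ) + 1 < m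
    · rw [Finset.sum_eq_single ⟨(j : ℕ) + 1, hj⟩]
      · rw [shiftL_apply, if_pos rfl, mul_one]
        rfl
      · intro b _ hb
        rw [shiftL_apply, if_neg, mul_zero]
        intro h'
        exact hb (Fin.ext h'.symm)
      · intro h'
        exact absurd (Finset.mem_univ _) h'
    · have hjm : (j : ℕ) + 1 = m := by have := j.2; omega
      rw [hjm, h0, Matrix.zero_mulVec, Pi.zero_apply]
      apply Finset.sum_eq_zero
      intro l _
      rw [shiftL_apply, if_neg, mul_zero]
      have := l.2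
      omega
  unfold regU
  rw [mul_add, mul_one, hkey, sub_mul, one_mul]
  abel

end conj

section invT

variable {F : Type*} [Field F] (m : ℕ)

theorem regU_transpose_inv_sub_one_pow (k : ℕ) :
    (((regU m : Matrix (Fin m) (Fin m) F)ᵀ)⁻¹ - 1) ^ k =
      (((regU m : Matrix (Fin m) (Fin m) F)ᵀ)⁻¹) ^ k * (-(shiftL m : Matrix (Fin m) (Fin m) F)ᵀ) ^ k := by
  set T : Matrix (Fin m) (Fin m) F := (regU m : Matrix (Fin m) (Fin m) F)ᵀ with hT
  set S : Matrix (Fin m) (Fin m) F := (shiftL m : Matrix (Fin m) (Fin m) F)ᵀ with hS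
  have hTS : T = 1 + S := by
    rw [hT, hS]
    unfold regU
    rw [Matrix.transpose_add, Matrix.transpose_one]
  have hdet : IsUnit T.det := by
    rw [hT, Matrix.det_transpose, regU_det]
    exact isUnit_one
  have hMT : T⁻¹ * T = 1 := Matrix.nonsing_inv_mul T hdet
  have hTM : T * T⁻¹ = 1 := Matrix.mul_nonsing_inv T hdet
  have hST : S * T = T * S := by
    rw [hTS, mul_add, add_mul, mul_one, one_mul]
  have hcomm : Commute T⁻¹ S := by
    show T⁻¹ * S = S * T⁻¹
    calc T⁻¹ * S = T⁻¹ * S * (T * T⁻¹) := by rw [hTM, mul_one]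
      _ = T⁻¹ * (S * T) * T⁻¹ := by simp only [mul_assoc]
      _ = T⁻¹ * (T * S) * T⁻¹ := by rw [hST]
      _ = (T⁻¹ * T) * S * T⁻¹ := by simp only [mul_assoc]
      _ = S * T⁻¹ := by rw [hMT, one_mul]
  have h1 : T⁻¹ - 1 = T⁻¹ * (-S) := by
    have : T⁻¹ - 1 = T⁻¹ - T⁻¹ * T := by rw [hMT]
    rw [this, hTS, mul_add, mul_one, mul_neg]
    abel
  rw [h1, (hcomm.neg_right).mul_pow]

theorem regU_transpose_inv_pow_self :
    (((regU m : Matrix (Fin m) (Fin m) F)ᵀ)⁻¹ - 1) ^ m = 0 := by
  rw [regU_transpose_inv_sub_one_pow, neg_pow, ← Matrix.transpose_pow, shiftL_pow_self,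
    Matrix.transpose_zero, mul_zero, mul_zero]

theorem regU_transpose_inv_pow_pred_ne (hm : 1 ≤ m) :
    (((regU m : Matrix (Fin m) (Fin m) F)ᵀ)⁻¹ - 1) ^ (m - 1) ≠ 0 := by
  intro h
  rw [regU_transpose_inv_sub_one_pow] at h
  set T : Matrix (Fin m) (Fin m) F := (regU m : Matrix (Fin m) (Fin m) F)ᵀ with hT
  have hdet : IsUnit T.det := by
    rw [hT, Matrix.det_transpose, regU_det]
    exact isUnit_one
  have hTM : T * T⁻¹ = 1 := Matrix.mul_nonsing_inv T hdet
  have hMT : T⁻¹ * T = 1 := Matrix.nonsing_inv_mul T hdet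
  have hc : Commute T T⁻¹ := by
    show T * T⁻¹ = T⁻¹ * T
    rw [hTM, hMT]
  have h2 : (-(shiftL m : Matrix (Fin m) (Fin m) F)ᵀ) ^ (m - 1) = 0 := by
    have h3 := congrArg (fun X => T ^ (m - 1) * X) h
    simp only [mul_zero] at h3
    rw [← mul_assoc, ← hc.mul_pow, hTM, one_pow, one_mul] at h3
    exact h3
  have h4 : ((shiftL m : Matrix (Fin m) (Fin m) F) ^ (m - 1))ᵀ = 0 := by
    rw [Matrix.transpose_pow]
    rcases Nat.even_or_odd (m - 1) with he | ho
    · rwa [he.neg_pow] at h2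
    · rw [ho.neg_pow] at h2
      exact neg_eq_zero.mp h2
  apply shiftL_pow_pred_ne (F := F) m hm
  rw [← Matrix.transpose_transpose ((shiftL m : Matrix (Fin m) (Fin m) F) ^ (m - 1)), h4,
    Matrix.transpose_zero]

end invT

section main

variable {F : Type*} [Field F] [Fintype F] {q n : ℕ}

/-- (V7a) a regular unipotent element of `SU_m(q)`. -/
theorem exists_regular_unipotent_SU (hF : Fintype.card F = q ^ 2) (m : ℕ) (hm : 1 ≤ m) :
    ∃ X : Cfsg.SU m F q, (X.1.1 - 1) ^ m = 0 ∧ (X.1.1 - 1) ^ (m - 1) ≠ 0 := by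
  classical
  have hq : q ≠ 0 := by
    rintro rfl
    rw [zero_pow two_ne_zero] at hF
    exact Fintype.card_ne_zero hF
  set A : Matrix (Fin m) (Fin m) F := regU m with hA
  have hdet : A.det = 1 := regU_det m
  have hconj : IsConj A ((A.map (fun x : F => x ^ q)).transpose)⁻¹ := by
    rw [hA, regU_map m hq]
    obtain ⟨C, hCu, hC⟩ := exists_conj_regU ((regU m : Matrix (Fin m) (Fin m) F)ᵀ)⁻¹
      (regU_transpose_inv_pow_self m) (regU_transpose_inv_pow_pred_ne m hm)
    exact ⟨hCu.unit, hC⟩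
  have hdet0 : A.det ≠ 0 := by rw [hdet]; exact one_ne_zero
  let A' : GL (Fin m) F := Matrix.GeneralLinearGroup.mkOfDetNeZero A hdet0
  have hA' : (A' : Matrix (Fin m) (Fin m) F) = A := rfl
  obtain ⟨B, hB⟩ := (Cfsg.Agent.S2588.result hF A').2 (by rw [hA']; exact hconj)
  obtain ⟨c, hc⟩ := isConj_iff.1 hB
  have hc' : (c : Matrix (Fin m) (Fin m) F) * A =
      ((B : GL (Fin m) F) : Matrix (Fin m) (Fin m) F) * c := by
    have h1 : c * A' = (B : GL (Fin m) F) * c := by rw [← hc]; group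
    have := congrArg (fun x : GL (Fin m) F => (x : Matrix (Fin m) (Fin m) F)) h1
    simp only [Units.val_mul] at this
    rw [hA'] at this
    exact this
  have hcd : ((c : Matrix (Fin m) (Fin m) F)).det ≠ 0 :=
    ((Matrix.isUnit_iff_isUnit_det _).1 c.isUnit).ne_zero
  have hdetB : (((B : GL (Fin m) F) : Matrix (Fin m) (Fin m) F)).det = 1 := by
    have h1 := congrArg Matrix.det hc'
    rw [det_mul, det_mul, hdet, mul_one] at h1
    have h2 : (((B : GL (Fin m) F) : Matrix (Fin m) (Fin m) F)).det *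
        (c : Matrix (Fin m) (Fin m) F).det = 1 * (c : Matrix (Fin m) (Fin m) F).det := by
      rw [one_mul, ← h1]
    exact mul_right_cancel₀ hcd h2
  let X : SpecialLinearGroup (Fin m) F :=
    ⟨((B : GL (Fin m) F) : Matrix (Fin m) (Fin m) F), hdetB⟩
  have hX : X ∈ Cfsg.SU m F q := fun u v => B.2 u v
  have hXm : (X.1 : Matrix (Fin m) (Fin m) F) = ((B : GL (Fin m) F) : Matrix (Fin m) (Fin m) F) := rfl
  have hpow : ∀ k : ℕ, (c : Matrix (Fin m) (Fin m) F) * (A - 1) ^ k =
      (((B : GL (Fin m) F) : Matrix (Fin m) (Fin m) F) - 1) ^ k * c := by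
    intro k
    induction k with
    | zero => simp
    | succ k ih =>
      rw [pow_succ, pow_succ, ← mul_assoc, ih, mul_assoc, mul_sub, mul_one, hc', mul_assoc, sub_mul,
        one_mul]
  have hcinv : (c : Matrix (Fin m) (Fin m) F) *
      ((c⁻¹ : GL (Fin m) F) : Matrix (Fin m) (Fin m) F) = 1 := by
    rw [← Units.val_mul, mul_inv_cancel]; rfl
  have hcinv' : ((c⁻¹ : GL (Fin m) F) : Matrix (Fin m) (Fin m) F) *
      (c : Matrix (Fin m) (Fin m) F) = 1 := by
    rw [← Units.val_mul, inv_mul_cancel]; rfl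
  refine ⟨⟨X, hX⟩, ?_, ?_⟩
  · show ((X.1 : Matrix (Fin m) (Fin m) F) - 1) ^ m = 0
    rw [hXm]
    have h := hpow m
    have hAm : (A - 1) ^ m = 0 := by
      rw [hA]
      unfold regU
      rw [add_sub_cancel_left, shiftL_pow_self]
    rw [hAm, mul_zero] at h
    calc (((B : GL (Fin m) F) : Matrix (Fin m) (Fin m) F) - 1) ^ m
        = (((B : GL (Fin m) F) : Matrix (Fin m) (Fin m) F) - 1) ^ m *
            ((c : Matrix (Fin m) (Fin m) F) *
              ((c⁻¹ : GL (Fin m) F) : Matrix (Fin m) (Fin m) F)) := by rw [hcinv, mul_one]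
      _ = 0 := by rw [← mul_assoc, ← h, zero_mul]
  · show ((X.1 : Matrix (Fin m) (Fin m) F) - 1) ^ (m - 1) ≠ 0
    rw [hXm]
    intro h0
    have h := hpow (m - 1)
    rw [h0, zero_mul] at h
    have hAm : (A - 1) ^ (m - 1) = 0 := by
      calc (A - 1) ^ (m - 1) = (((c⁻¹ : GL (Fin m) F) : Matrix (Fin m) (Fin m) F) *
            (c : Matrix (Fin m) (Fin m) F)) * (A - 1) ^ (m - 1) := by rw [hcinv', one_mul]
        _ = 0 := by rw [mul_assoc, h, mul_zero]
    apply shiftL_pow_pred_ne (F := F) m hm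
    rw [← hAm, hA]
    unfold regU
    rw [add_sub_cancel_left]

end main

end Cfsg.Agent.Helper29.Spec4U
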