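import Mathlib
import Cfsg.Agent.Helper13.SqOMDefs

/-!
# (FIN) for helper13's S4625 (OM) skeleton (helper29): an element of `Usub` all of whose rows `lo i` are
unit rows is `1`
-/

set_option autoImplicit false

namespace Cfsg.Agent.Helper29.SqOM

open Matrix Cfsg Cfsg.Agent.Helper5.OmBN Cfsg.Agent.Helper13.SqOM

variable {F : Type*} [Field F] {m : ℕ} {α β : F}

/-- (FIN) an element of `Usub` all of whose rows `lo i` are unit rows is `1` -/
theorem eq_one_of_rowId
    (hadj : ∀ (g' : OG m α β) (a : Fin (2 * m + 2)), a ≠ c1 → a ≠ c2 → RowId g' a →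
      ColId g' (Fin.rev a))
    (g : OG m α β) (hg : g ∈ Usub m α β) (h : ∀ i : Fin m, RowId g (lo i)) : g = 1 := by
  classical
  obtain ⟨hU1, hU2⟩ := (mem_Usub_iff g).1 hg
  have hcol : ∀ k : Fin m, ColId g (hi k) := by
    intro k
    have := hadj g (lo k) (lo_ne_c1 k) (lo_ne_c2 k) (h k)
    rwa [rev_lo] at this
  apply mat_injective
  ext r s
  rw [mat_one, Matrix.one_apply]
  -- columns `hi k`
  by_cases hs : ∃ k : Fin m, s = hi k
  · obtain ⟨k, rfl⟩ := hs
    exact hcol k r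
  -- rows `lo i`
  by_cases hr : ∃ i : Fin m, r = lo i
  · obtain ⟨i, rfl⟩ := hr
    rw [h i s]
    by_cases e : s = lo i
    · rw [if_pos e, if_pos e.symm]
    · rw [if_neg e, if_neg (fun h' => e h'.symm)]
  -- the other entries
  have hps : pos s ≤ m := by
    rcases pos_cases s with ⟨k, rfl⟩ | ⟨k, rfl⟩ | rfl | rfl
    · rw [pos_lo]; exact k.2.le
    · exact absurd ⟨k, rfl⟩ hs
    · rw [pos_c1]
    · rw [pos_c2]
  have hpr : m ≤ pos r := by
    rcases pos_cases r with ⟨i, rfl⟩ | ⟨i, rfl⟩ | rfl | rfl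
    · exact absurd ⟨i, rfl⟩ hr
    · rw [pos_hi]; have := i.2; omega
    · rw [pos_c1]
    · rw [pos_c2]
  rcases lt_or_eq_of_le (hps.trans hpr) with hlt | heq
  · rw [hU1 r s hlt, if_neg]
    intro e
    rw [e] at hlt
    exact lt_irrefl _ hlt
  · exact hU2 r s heq.symm

end Cfsg.Agent.Helper29.SqOM
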