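import Mathlib
import Cfsg.Agent.Helper40.StCLiftDefs

/-!
# S2092 part II (helper40 #7552), piece (CL3): the "far" case with a torus element
-/

set_option autoImplicit false

namespace Cfsg.Agent.Helper29.StCCL3

open scoped commutatorElement
open Cfsg.Agent.Helper96.StN Cfsg.Agent.Helper96.StC Cfsg.Agent.Helper96.StLift
  Cfsg.Agent.Helper40.StCLift

universe u v v' w

variable {K : Type u} [Field K] {D : Type v} [Group D] {E : Type v'} [Group E] {π : E →* D}
  {ι : Type w} [DecidableEq ι] {X : ι ⊕ ι → ι ⊕ ι → K → D}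

/-- the coefficients of the torus element `Hd X r r̄ a` -/
theorem torus_pp (r k : ι ⊕ ι) {a : K} (ha : a ≠ 0) :
    cw r (bar r) a ((reflPerm r (bar r))⁻¹ k) *
        (cw r (bar r) (1 : K) ((reflPerm r (bar r))⁻¹ k))⁻¹ =
      if k = r then a else if k = bar r then a⁻¹ else 1 := by
  have h1 : reflPerm r (bar r) = Equiv.swap r (bar r) := by
    unfold reflPerm; rw [if_pos rfl]
  rw [h1, Equiv.swap_inv]
  unfold cw
  simp only [if_true]
  by_cases hk : k = r
  · subst hk
    rw [Equiv.swap_apply_left, if_neg (bar_ne k), if_neg (bar_ne k), if_pos rfl, if_pos rfl,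
      if_pos rfl, inv_one, mul_one]
  · by_cases hk' : k = bar r
    · subst hk'
      rw [Equiv.swap_apply_right, if_pos rfl, if_pos rfl, if_neg (bar_ne r), if_pos rfl]
      field_simp
    · rw [Equiv.swap_apply_of_ne_of_ne hk hk', if_neg hk, if_neg hk', if_neg hk, if_neg hk',
        if_neg hk, if_neg hk', inv_one, mul_one]

/-- (CL3) the "far" case with a torus element -/
theorem cFar_of_torus (hπ : Function.Surjective π) (hc : π.ker ≤ Subgroup.center E)
    (hX : SpRel X) (hM : MonoData X (reflPerm (ι := ι)) (cw (K := K)))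
    (hK : ∃ a : K, a ≠ 0 ∧ a ≠ 1) : CFar hπ X := by
  obtain ⟨a, ha0, ha1⟩ := hK
  intro p r s hrp hsp hrs t u
  have ha1' : a - 1 ≠ 0 := sub_ne_zero.mpr ha1
  -- the torus element
  have hmono := hM.Hd_isMono (bar_ne r).symm ha0
  have hpr : p ≠ r := hrp.1.symm
  have hpr' : p ≠ bar r := hrp.symm.2
  have hbpr : bar p ≠ r := fun e => hrp.2 e.symm
  have hbpr' : bar p ≠ bar r := fun e => hpr (bar_injective e)
  have hsr : s ≠ r := hrs.1.symm
  have hsr' : s ≠ bar r := hrs.symm.2
  -- `h` commutes with `X p p̄ t`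
  have c1 : Commute (X p (bar p) t) (Hd X r (bar r) a) := by
    have h1 := hmono.2 p (bar p) (bar_ne p).symm t
    beta_reduce at h1
    rw [torus_pp r p ha0, torus_pp r (bar p) ha0, if_neg hpr, if_neg hpr', if_neg hbpr,
      if_neg hbpr', inv_one, mul_one, one_mul, Equiv.Perm.one_apply, Equiv.Perm.one_apply] at h1
    exact (mul_inv_eq_iff_eq_mul.mp h1).symm
  -- `X p p̄ t` commutes with `X r s u'`
  have c2 : ∀ u' : K, Commute (X p (bar p) t) (X r s u') := fun u' =>
    hX.comm p (bar p) r s (bar_ne p).symm hrs.1 hbpr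
      (fun e => hsp.1 (bar_injective e).symm) hpr' hsp.1.symm t u'
  -- the commutator `⁅h, X r s u'⁆ = X r s ((a - 1) u')`
  have h2 : ∀ u' : K, ⁅Hd X r (bar r) a, X r s u'⁆ = X r s ((a - 1) * u') := by
    intro u'
    have h1 := hmono.2 r s hrs.1 u'
    beta_reduce at h1
    rw [torus_pp r r ha0, torus_pp r s ha0, if_pos rfl, if_neg hsr, if_neg hsr', inv_one,
      mul_one, Equiv.Perm.one_apply, Equiv.Perm.one_apply] at h1
    rw [commutatorElement_def, h1, X_neg hX hrs.1, ← hX.add r s hrs.1]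
    congr 1
    ring
  have h3 := lc_spare hπ hc c1 (c2 (u / (a - 1)))
  rw [h2, mul_div_cancel₀ u ha1'] at h3
  exact h3

end Cfsg.Agent.Helper29.StCCL3
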