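import Mathlib
import Cfsg.Agent.Helper29.PGroup

set_option autoImplicit false

namespace Cfsg.Agent.Helper29

/-- Let `z` be an involution of the finite group `G` with centralizer `C`, and `R` a normal 2-subgroup of `C`
containing `z` whose centralizer in `C` is `{1, z}`. Then every Sylow 2-subgroup of `C` has odd index in `G`. -/
theorem sylow_of_centralizer_odd_index {G : Type*} [Group G] [Finite G] (z : G) (hz : orderOf z = 2)
    (R : Subgroup (Subgroup.centralizer ({z} : Set G))) [R.Normal] (hR2 : IsPGroup 2 R)
    (hzR : ∀ hz' : z ∈ Subgroup.centralizer ({z} : Set G),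
      (⟨z, hz'⟩ : Subgroup.centralizer ({z} : Set G)) ∈ R)
    (hcent : ∀ c : Subgroup.centralizer ({z} : Set G), (∀ r ∈ R, c * r = r * c) → c = 1 ∨ (c : G) = z)
    (T : Sylow 2 (Subgroup.centralizer ({z} : Set G))) :
    ¬ 2 ∣ ((T : Subgroup (Subgroup.centralizer ({z} : Set G))).map
      (Subgroup.subtype (Subgroup.centralizer ({z} : Set G)))).index := by
  classical
  have hRT : R ≤ T := hR2.le_sylow_of_normal T
  have hzC : z ∈ Subgroup.centralizer ({z} : Set G) := by
    rw [Subgroup.mem_centralizer_iff]
    intro h hh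
    rw [Set.mem_singleton_iff.mp hh]
  have hzT : (⟨z, hzC⟩ : Subgroup.centralizer ({z} : Set G)) ∈
      (T : Subgroup (Subgroup.centralizer ({z} : Set G))) := hRT (hzR hzC)
  have hT'p : IsPGroup 2 ((T : Subgroup (Subgroup.centralizer ({z} : Set G))).map
      (Subgroup.subtype (Subgroup.centralizer ({z} : Set G)))) := T.isPGroup'.map _
  obtain ⟨S, hS⟩ := hT'p.exists_le_sylow
  by_cases hTS : (T : Subgroup (Subgroup.centralizer ({z} : Set G))).map
      (Subgroup.subtype (Subgroup.centralizer ({z} : Set G))) = S
  · rw [hTS]; exact S.not_dvd_index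
  · exfalso
    have hlt := lt_of_le_of_ne hS hTS
    obtain ⟨x, hxS, hxN, hxT⟩ := exists_normalizing 2 (S : Subgroup G) _ S.isPGroup' hlt
    have hzT' : z ∈ (T : Subgroup (Subgroup.centralizer ({z} : Set G))).map
      (Subgroup.subtype (Subgroup.centralizer ({z} : Set G))) := ⟨⟨z, hzC⟩, hzT, rfl⟩
    have hw := (Subgroup.mem_normalizer_iff.mp hxN z).mp hzT'
    obtain ⟨wC, hwT, hwx⟩ := hw
    have hwx' : (wC : G) = x * z * x⁻¹ := hwx
    have hwcent : ∀ r ∈ R, wC * r = r * wC := by
      intro r hr
      apply Subtype.ext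
      have hrT' : (r : G) ∈ (T : Subgroup (Subgroup.centralizer ({z} : Set G))).map
        (Subgroup.subtype (Subgroup.centralizer ({z} : Set G))) := ⟨r, hRT hr, rfl⟩
      have h1 : x⁻¹ * r * x ∈ (T : Subgroup (Subgroup.centralizer ({z} : Set G))).map
          (Subgroup.subtype (Subgroup.centralizer ({z} : Set G))) := by
        have := (Subgroup.mem_normalizer_iff.mp (Subgroup.inv_mem _ hxN) r).mp hrT'
        simpa using this
      have h2 : x⁻¹ * r * x ∈ Subgroup.centralizer ({z} : Set G) := by
        obtain ⟨c, _, hc⟩ := h1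
        rw [← hc]; exact c.2
      rw [Subgroup.mem_centralizer_iff] at h2
      have h3 := h2 z (Set.mem_singleton z)
      show (wC : G) * r = r * wC
      rw [hwx']
      calc x * z * x⁻¹ * r = x * (z * (x⁻¹ * r * x)) * x⁻¹ := by group
        _ = x * ((x⁻¹ * r * x) * z) * x⁻¹ := by rw [h3]
        _ = r * (x * z * x⁻¹) := by group
    rcases hcent wC hwcent with h1 | h1
    · have h2 : x * z * x⁻¹ = 1 := by rw [← hwx', h1]; rfl
      have h3 : z = 1 := by simpa using h2
      rw [h3, orderOf_one] at hz
      omega
    · have hxz : x * z * x⁻¹ = z := by rw [← hwx']; exact h1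
      have hxC : x ∈ Subgroup.centralizer ({z} : Set G) := by
        rw [Subgroup.mem_centralizer_iff]
        intro h hh
        rw [Set.mem_singleton_iff] at hh
        subst hh
        calc h * x = (x * h * x⁻¹) * x := by rw [hxz]
          _ = x * h := by group
      have hSC : IsPGroup 2 ((S : Subgroup G).subgroupOf (Subgroup.centralizer ({z} : Set G))) :=
        S.isPGroup'.comap_subtype
      have hTle : (T : Subgroup (Subgroup.centralizer ({z} : Set G))) ≤
          (S : Subgroup G).subgroupOf (Subgroup.centralizer ({z} : Set G)) := by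
        intro t ht
        rw [Subgroup.mem_subgroupOf]
        exact hS ⟨t, ht, rfl⟩
      have heq := T.is_maximal' hSC hTle
      have hxT2 : (⟨x, hxC⟩ : Subgroup.centralizer ({z} : Set G)) ∈
          (T : Subgroup (Subgroup.centralizer ({z} : Set G))) := by
        have : (⟨x, hxC⟩ : Subgroup.centralizer ({z} : Set G)) ∈
            (S : Subgroup G).subgroupOf (Subgroup.centralizer ({z} : Set G)) := by
          rw [Subgroup.mem_subgroupOf]
          exact hxS
        rw [heq] at this
        exact this
      exact hxT ⟨⟨x, hxC⟩, hxT2, rfl⟩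

end Cfsg.Agent.Helper29
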