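import Mathlib
import Cfsg.Prelude.Def_Classical
import Cfsg.Agent.Helper27.GF4
import Cfsg.Agent.Helper98.PSU32
import Cfsg.Agent.Helper89.SU3Two
import Cfsg.Agent.S0282

/-!
# S5559 (helper89), piece (SU): the derived group of `SU₃(2)` over the concrete field `GF4`
has order 54 and is generated by `y, z, d` satisfying the relations of `B(2,3) : 2`.
-/

set_option autoImplicit false
set_option linter.style.haveILetI false

namespace Cfsg.Agent.Helper29.TT59

open Cfsg Cfsg.Agent.Helper27 Cfsg.Agent.Helper98.PSU32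
open scoped commutatorElement

/-- `d₀ = x₀²` -/
def d0 : Cfsg.SU 3 GF4 2 := x0 * x0

theorem su_hF : Fintype.card GF4 = 4 := by decide

theorem su_card : Nat.card ↥(Cfsg.SU 3 GF4 2) = 216 := by
  have h1 := (Cfsg.Agent.S0282.result su_hF).1
  have h2 : Nat.card (Subgroup.center ↥(Cfsg.SU 3 GF4 2)) = 3 := by
    have := Cfsg.Agent.S0279.result (F := GF4) (q := 2) (by rw [su_hF]; norm_num) 3 (le_refl 3)
    simpa using this
  rw [Subgroup.card_eq_card_quotient_mul_card_subgroup (Subgroup.center ↥(Cfsg.SU 3 GF4 2)), h2]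
  have h3 : Nat.card (↥(Cfsg.SU 3 GF4 2) ⧸ Subgroup.center ↥(Cfsg.SU 3 GF4 2)) = 72 := h1
  rw [h3]

/-! ### relations -/

theorem su_d0_mul_a0 : d0 * a0 = a0 * a0 * d0 := by
  apply Subtype.ext; apply Subtype.ext
  show x0m * x0m * a0m = a0m * a0m * (x0m * x0m)
  decide

theorem su_d0_mul_b0 : d0 * b0 = b0 * b0 * d0 := by
  apply Subtype.ext; apply Subtype.ext
  show x0m * x0m * b0m = b0m * b0m * (x0m * x0m)
  decide

theorem su_ab3 : (a0 * b0) * (a0 * b0) * (a0 * b0) = 1 := by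
  apply Subtype.ext; apply Subtype.ext
  show (a0m * b0m) * (a0m * b0m) * (a0m * b0m) = 1
  decide

theorem su_aab3 : (a0 * a0 * b0) * (a0 * a0 * b0) * (a0 * a0 * b0) = 1 := by
  apply Subtype.ext; apply Subtype.ext
  show (a0m * a0m * b0m) * (a0m * a0m * b0m) * (a0m * a0m * b0m) = 1
  decide

theorem su_d0_sq : d0 * d0 = 1 := by
  unfold d0
  rw [← mul_assoc]
  exact rel_x4

theorem su_a0_inv : a0⁻¹ = a0 * a0 := by
  apply inv_eq_of_mul_eq_one_right
  rw [← mul_assoc]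
  exact rel_a3

theorem su_b0_inv : b0⁻¹ = b0 * b0 := by
  apply inv_eq_of_mul_eq_one_right
  rw [← mul_assoc]
  exact rel_b3

theorem su_d0_inv : d0⁻¹ = d0 := inv_eq_of_mul_eq_one_right su_d0_sq

theorem su_d0_ne_one : d0 ≠ 1 := by
  intro h
  apply ne_x2
  show d0 * a0 = a0 * d0
  rw [h, one_mul, mul_one]

theorem su_d0_a0_d0 : d0 * a0 * d0 = a0⁻¹ := by
  rw [su_d0_mul_a0, mul_assoc, su_d0_sq, mul_one, su_a0_inv]

theorem su_d0_b0_d0 : d0 * b0 * d0 = b0⁻¹ := by
  rw [su_d0_mul_b0, mul_assoc, su_d0_sq, mul_one, su_b0_inv]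

/-! ### membership in the derived group -/

theorem su_a0_mem : a0 ∈ commutator ↥(Cfsg.SU 3 GF4 2) := by
  have h : a0 = ⁅d0, a0⁆ := by
    rw [commutatorElement_def, su_d0_inv, su_d0_a0_d0, su_a0_inv, ← mul_assoc, rel_a3, one_mul]
  rw [h, commutator_def]
  exact Subgroup.commutator_mem_commutator (Subgroup.mem_top _) (Subgroup.mem_top _)

theorem su_b0_mem : b0 ∈ commutator ↥(Cfsg.SU 3 GF4 2) := by
  have h : b0 = ⁅d0, b0⁆ := by
    rw [commutatorElement_def, su_d0_inv, su_d0_b0_d0, su_b0_inv, ← mul_assoc, rel_b3, one_mul]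
  rw [h, commutator_def]
  exact Subgroup.commutator_mem_commutator (Subgroup.mem_top _) (Subgroup.mem_top _)

theorem su_d0_mem : d0 ∈ commutator ↥(Cfsg.SU 3 GF4 2) := by
  have h : d0 = ⁅y0, x0⁆ := by
    rw [commutatorElement_def, rel_yx]
    unfold d0
    group
  rw [h, commutator_def]
  exact Subgroup.commutator_mem_commutator (Subgroup.mem_top _) (Subgroup.mem_top _)

/-! ### the quotient `Q₈` -/

theorem su_card_quaternion : Nat.card (QuaternionGroup 2) = 8 := by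
  rw [Nat.card_eq_fintype_card, QuaternionGroup.card]

/-- the homomorphism onto `Q₈` -/
theorem su_exists_hom :
    ∃ f : ↥(Cfsg.SU 3 GF4 2) →* QuaternionGroup 2, Function.Surjective f := by
  obtain ⟨N, hN, -, -, ⟨ψ⟩⟩ := Cfsg.Agent.S0827.result su_hF
  haveI := hN
  refine ⟨(ψ.toMonoidHom.comp (QuotientGroup.mk' N)).comp
    (QuotientGroup.mk' (Subgroup.center ↥(Cfsg.SU 3 GF4 2))), ?_⟩
  intro q
  obtain ⟨u, hu⟩ := ψ.surjective q
  obtain ⟨v, hv⟩ := QuotientGroup.mk'_surjective N u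
  obtain ⟨w, hw⟩ := QuotientGroup.mk'_surjective (Subgroup.center ↥(Cfsg.SU 3 GF4 2)) v
  refine ⟨w, ?_⟩
  rw [MonoidHom.comp_apply, MonoidHom.comp_apply, hw, hv]
  exact hu

theorem su_card_ker {f : ↥(Cfsg.SU 3 GF4 2) →* QuaternionGroup 2} (hf : Function.Surjective f) :
    Nat.card f.ker = 27 := by
  have h1 := Subgroup.card_eq_card_quotient_mul_card_subgroup f.ker
  rw [su_card, Nat.card_congr (QuotientGroup.quotientKerEquivOfSurjective f hf).toEquiv,
    su_card_quaternion] at h1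
  omega

theorem su_map_eq_one {f : ↥(Cfsg.SU 3 GF4 2) →* QuaternionGroup 2} {x : ↥(Cfsg.SU 3 GF4 2)}
    (hx : x * x * x = 1) : f x = 1 := by
  have hx3 : x ^ 3 = 1 := by rw [pow_succ, pow_two]; exact hx
  have h3 : (f x) ^ 3 = 1 := by rw [← map_pow, hx3, map_one]
  have hd3 : orderOf (f x) ∣ 3 := orderOf_dvd_of_pow_eq_one h3
  have hd8 : orderOf (f x) ∣ 8 := by
    rw [← su_card_quaternion]
    exact orderOf_dvd_natCard _
  have hd1 : orderOf (f x) ∣ Nat.gcd 3 8 := Nat.dvd_gcd hd3 hd8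
  have h1 : orderOf (f x) = 1 := Nat.dvd_one.mp (by simpa using hd1)
  exact orderOf_eq_one_iff.mp h1

theorem su_card_commutator_quaternion_le : Nat.card ↥(commutator (QuaternionGroup 2)) ≤ 2 := by
  have hle : commutator (QuaternionGroup 2) ≤ Subgroup.zpowers (QuaternionGroup.a 2) := by
    intro c hc
    rcases Cfsg.Agent.Helper89.SU3Two.quaternion_mem_commutator hc with h | h
    · rw [h]; exact Subgroup.one_mem _
    · rw [h]; exact Subgroup.mem_zpowers _
  have h2 : Nat.card ↥(Subgroup.zpowers (QuaternionGroup.a 2 : QuaternionGroup 2)) = 2 := by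
    rw [Nat.card_zpowers]
    haveI : Fact (Nat.Prime 2) := ⟨Nat.prime_two⟩
    apply orderOf_eq_prime
    · rw [pow_two]
      exact Cfsg.Agent.Helper89.SU3Two.quaternion_a2_mul_self
    · decide
  calc Nat.card ↥(commutator (QuaternionGroup 2))
      ≤ Nat.card ↥(Subgroup.zpowers (QuaternionGroup.a 2 : QuaternionGroup 2)) :=
        Subgroup.card_le_of_le hle
    _ = 2 := h2

theorem su_card_commutator_le : Nat.card ↥(commutator ↥(Cfsg.SU 3 GF4 2)) ≤ 54 := by
  obtain ⟨f, hf⟩ := su_exists_hom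
  have hC := su_card_commutator_quaternion_le
  have hidx : 4 ≤ (commutator (QuaternionGroup 2)).index := by
    have h := (commutator (QuaternionGroup 2)).index_mul_card
    rw [su_card_quaternion] at h
    by_contra hcon
    have h3 : (commutator (QuaternionGroup 2)).index ≤ 3 := by omega
    have : (commutator (QuaternionGroup 2)).index * Nat.card ↥(commutator (QuaternionGroup 2)) ≤
        3 * 2 := Nat.mul_le_mul h3 hC
    omega
  have hle : commutator ↥(Cfsg.SU 3 GF4 2) ≤ (commutator (QuaternionGroup 2)).comap f := by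
    rw [← Subgroup.map_le_iff_le_comap, commutator_def, commutator_def, Subgroup.map_commutator]
    exact Subgroup.commutator_mono le_top le_top
  have h2 := ((commutator (QuaternionGroup 2)).comap f).index_mul_card
  rw [Subgroup.index_comap_of_surjective _ hf, su_card] at h2
  have h3 := Subgroup.card_le_of_le hle
  have h4 : 4 * Nat.card ↥((commutator (QuaternionGroup 2)).comap f) ≤ 216 := by
    rw [← h2]
    exact Nat.mul_le_mul_right _ hidx
  omega

/-! ### the subgroup generated by `a₀, b₀` -/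

theorem su_card_closure_ab :
    Nat.card ↥(Subgroup.closure ({a0, b0} : Set ↥(Cfsg.SU 3 GF4 2))) = 27 := by
  obtain ⟨f, hf⟩ := su_exists_hom
  have hle : Subgroup.closure ({a0, b0} : Set ↥(Cfsg.SU 3 GF4 2)) ≤ f.ker := by
    rw [Subgroup.closure_le]
    rintro x (rfl | rfl)
    · exact MonoidHom.mem_ker.mpr (su_map_eq_one rel_a3)
    · exact MonoidHom.mem_ker.mpr (su_map_eq_one rel_b3)
  have hdvd := Subgroup.card_dvd_of_le hle
  rw [su_card_ker hf] at hdvd
  have h27 : (27 : ℕ) = 3 ^ 3 := by norm_num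
  rw [h27] at hdvd
  obtain ⟨k, hk, hcard⟩ := (Nat.dvd_prime_pow Nat.prime_three).mp hdvd
  have haR : a0 ∈ Subgroup.closure ({a0, b0} : Set ↥(Cfsg.SU 3 GF4 2)) :=
    Subgroup.subset_closure (Set.mem_insert _ _)
  have hbR : b0 ∈ Subgroup.closure ({a0, b0} : Set ↥(Cfsg.SU 3 GF4 2)) :=
    Subgroup.subset_closure (Set.mem_insert_of_mem _ rfl)
  have hnc : ¬ ∀ u v : ↥(Subgroup.closure ({a0, b0} : Set ↥(Cfsg.SU 3 GF4 2))), u * v = v * u := by
    intro h
    have := h ⟨a0, haR⟩ ⟨b0, hbR⟩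
    exact ne_ab (congrArg Subtype.val this)
  haveI : Fact (Nat.Prime 3) := ⟨Nat.prime_three⟩
  interval_cases k
  · exfalso
    apply hnc
    rw [pow_zero] at hcard
    haveI : Subsingleton ↥(Subgroup.closure ({a0, b0} : Set ↥(Cfsg.SU 3 GF4 2))) :=
      (Nat.card_eq_one_iff_unique.mp hcard).1
    intro u v
    exact Subsingleton.elim _ _
  · exfalso
    apply hnc
    rw [pow_one] at hcard
    haveI := isCyclic_of_prime_card hcard
    intro u v
    exact (IsCyclic.commGroup).mul_comm u v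
  · exfalso
    apply hnc
    exact (IsPGroup.isMulCommutative_of_card_eq_prime_sq hcard).is_comm.comm
  · rw [hcard]
    norm_num

theorem su_card_closure_abd :
    54 ≤ Nat.card ↥(Subgroup.closure ({a0, b0, d0} : Set ↥(Cfsg.SU 3 GF4 2))) := by
  have hle : Subgroup.closure ({a0, b0} : Set ↥(Cfsg.SU 3 GF4 2)) ≤
      Subgroup.closure ({a0, b0, d0} : Set ↥(Cfsg.SU 3 GF4 2)) := by
    apply Subgroup.closure_mono
    rintro x (rfl | rfl)
    · exact Set.mem_insert _ _
    · exact Set.mem_insert_of_mem _ (Set.mem_insert _ _)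
  have h27 := Subgroup.card_dvd_of_le hle
  rw [su_card_closure_ab] at h27
  have hd : d0 ∈ Subgroup.closure ({a0, b0, d0} : Set ↥(Cfsg.SU 3 GF4 2)) :=
    Subgroup.subset_closure (Set.mem_insert_of_mem _ (Set.mem_insert_of_mem _ rfl))
  have h2 : 2 ∣ Nat.card ↥(Subgroup.closure ({a0, b0, d0} : Set ↥(Cfsg.SU 3 GF4 2))) := by
    haveI : Fact (Nat.Prime 2) := ⟨Nat.prime_two⟩
    have ho : orderOf d0 = 2 := orderOf_eq_prime (by rw [pow_two]; exact su_d0_sq) su_d0_ne_one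
    have hdvd := Subgroup.orderOf_dvd_natCard _ hd
    rwa [ho] at hdvd
  have h54 : 27 * 2 ∣ Nat.card ↥(Subgroup.closure ({a0, b0, d0} : Set ↥(Cfsg.SU 3 GF4 2))) :=
    Nat.Coprime.mul_dvd_of_dvd_of_dvd (by norm_num) h27 h2
  exact Nat.le_of_dvd Nat.card_pos h54

/-- (SU) the derived group of `SU₃(2)` over the concrete field `GF4` -/
theorem su_three_two_derived :
    Nat.card ↥(commutator ↥(Cfsg.SU 3 Cfsg.Agent.Helper27.GF4 2)) = 54 ∧
    ∃ y z d : ↥(commutator ↥(Cfsg.SU 3 Cfsg.Agent.Helper27.GF4 2)),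
      y ^ 3 = 1 ∧ z ^ 3 = 1 ∧ (y * z) ^ 3 = 1 ∧ (y⁻¹ * z) ^ 3 = 1 ∧ d * d = 1 ∧ d * y * d = y⁻¹ ∧
      d * z * d = z⁻¹ ∧ Subgroup.closure ({y, z, d} : Set _) = ⊤ := by
  have himg : Subgroup.map (commutator ↥(Cfsg.SU 3 GF4 2)).subtype
      (Subgroup.closure ({⟨a0, su_a0_mem⟩, ⟨b0, su_b0_mem⟩, ⟨d0, su_d0_mem⟩} :
        Set ↥(commutator ↥(Cfsg.SU 3 GF4 2)))) =
      Subgroup.closure ({a0, b0, d0} : Set ↥(Cfsg.SU 3 GF4 2)) := by
    rw [MonoidHom.map_closure]
    congr 1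
    simp [Set.image_insert_eq]
  have hcT : Nat.card ↥(Subgroup.closure ({⟨a0, su_a0_mem⟩, ⟨b0, su_b0_mem⟩, ⟨d0, su_d0_mem⟩} :
        Set ↥(commutator ↥(Cfsg.SU 3 GF4 2)))) =
      Nat.card ↥(Subgroup.closure ({a0, b0, d0} : Set ↥(Cfsg.SU 3 GF4 2))) := by
    rw [← himg]
    exact Nat.card_congr (Subgroup.equivMapOfInjective _ _
      (Subgroup.subtype_injective _)).toEquiv
  have h1 := su_card_closure_abd
  have h2 := su_card_commutator_le
  have h3 : Nat.card ↥(Subgroup.closure ({⟨a0, su_a0_mem⟩, ⟨b0, su_b0_mem⟩, ⟨d0, su_d0_mem⟩} :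
        Set ↥(commutator ↥(Cfsg.SU 3 GF4 2)))) ≤ Nat.card ↥(commutator ↥(Cfsg.SU 3 GF4 2)) :=
    Subgroup.card_le_card_group _
  have hcard : Nat.card ↥(commutator ↥(Cfsg.SU 3 GF4 2)) = 54 := by omega
  refine ⟨hcard, ⟨a0, su_a0_mem⟩, ⟨b0, su_b0_mem⟩, ⟨d0, su_d0_mem⟩, ?_, ?_, ?_, ?_, ?_, ?_, ?_, ?_⟩
  · apply Subtype.ext
    show a0 ^ 3 = 1
    rw [pow_succ, pow_two]; exact rel_a3
  · apply Subtype.ext
    show b0 ^ 3 = 1
    rw [pow_succ, pow_two]; exact rel_b3
  · apply Subtype.ext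
    show (a0 * b0) ^ 3 = 1
    rw [pow_succ, pow_two]; exact su_ab3
  · apply Subtype.ext
    show (a0⁻¹ * b0) ^ 3 = 1
    rw [su_a0_inv, pow_succ, pow_two]; exact su_aab3
  · apply Subtype.ext
    exact su_d0_sq
  · apply Subtype.ext
    exact su_d0_a0_d0
  · apply Subtype.ext
    exact su_d0_b0_d0
  · apply Subgroup.eq_top_of_card_eq
    omega

end Cfsg.Agent.Helper29.TT59
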