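import Cfsg.Agent.Helper51.TorD.Defs
import Cfsg.Agent.Helper18.Ree.DiagChar

/-!
# (TCONJ) for helper51's (DF4)/(DE8) skeleton (helper29): the torus acts on the root groups through the
characters `chi`
-/

set_option autoImplicit false

namespace Cfsg.Agent.Helper29.TorD

open Cfsg Cfsg.Lie Cfsg.Agent.Helper18 Cfsg.Agent.Helper80.Tor Cfsg.Agent.Helper51.TorD

variable {K : Type*} [Field K] (D : ChevalleyDatum)

/-- (TCONJ) the torus acts on the root groups through the characters `chi` -/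
theorem torusHom_conj_xGL (hD : D ∈ [chevG2, chevB2, chevD4, chevF4, chevE6, chevE7, chevE8])
    (c : Fin D.rank → Kˣ) (s : ℕ) (hs : s < D.nroots) (t : K) :
    torusHom D K c * xGL D K s t * (torusHom D K c)⁻¹ = xGL D K s (((chi D s c : Kˣ) : K) * t) := by
  obtain ⟨χ, -, hd, hc, -⟩ := Cfsg.Agent.Helper18.Ree.diag_char_neg D hD _ (torusHom_mem D hD (F := K) c)
  have h1 := hc s hs t
  rw [mul_inv_eq_iff_eq_mul]
  have h2 : χ s = ((chi D s c : Kˣ) : K) := by
    have h3 := congrFun (congrFun hd (Sum.inr ⟨s, hs⟩)) (Sum.inr ⟨s, hs⟩)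
    rw [Matrix.diagonal_apply_eq] at h3
    simp only [Sum.elim_inr] at h3
    rw [← h3]
    rw [torusHom_val, Matrix.diagonal_apply_eq]
    simp only [torusChar, MonoidHom.coe_mk, OneHom.coe_mk, Sum.elim_inr]
    rfl
  rw [← h2]
  exact h1

end Cfsg.Agent.Helper29.TorD
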