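import Mathlib
import Cfsg.Agent.Helper45.VL.Defs

/-!
# (L1) for helper45's S3777 skeleton (helper29): lifts of a basis of `V = A₁/pA₁` generate `A₁`
-/

set_option autoImplicit false

universe u

namespace Cfsg.Agent.Helper29.VL

open Cfsg.Agent.Helper1.HKK Cfsg.Agent.Helper93.HKKLG Cfsg.Agent.Helper45.VL

variable {G : Type u} [Group G]

/-- (L1) lifts of a basis of `V = A₁/pA₁` generate `A₁`. -/
theorem lift_generates [Finite G] {p : ℕ} [Fact p.Prime] (F : FormData G p)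
    (hnak : ∀ B : AddSubgroup (A G 1),
      (∀ a : A G 1, ∃ b ∈ B, ∃ c : A G 1, a = b + p • c) → B = ⊤)
    {d : ℕ} (b : Module.Basis (Fin d) (ZMod p) F.V) (z : Fin d → G)
    (hz : ∀ i, F.π₁ (cls 1 (z i)) = b i) :
    AddSubgroup.closure (Set.range fun i => cls 1 (z i)) = ⊤ := by
  apply hnak
  intro a
  set b' : A G 1 := ∑ i, (b.repr (F.π₁ a) i).val • cls 1 (z i) with hb'
  have hb'mem : b' ∈ AddSubgroup.closure (Set.range fun i => cls 1 (z i)) := by
    rw [hb']
    refine AddSubgroup.sum_mem _ fun i _ => ?_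
    exact AddSubgroup.nsmul_mem _ (AddSubgroup.subset_closure (Set.mem_range_self i)) _
  have hπ : F.π₁ b' = F.π₁ a := by
    rw [hb', map_sum]
    conv_rhs => rw [← b.sum_repr (F.π₁ a)]
    refine Finset.sum_congr rfl fun i _ => ?_
    rw [map_nsmul, hz, ← Nat.cast_smul_eq_nsmul (ZMod p), ZMod.natCast_zmod_val]
  have hker : F.π₁ (a - b') = 0 := by rw [map_sub, hπ, sub_self]
  obtain ⟨c, hc⟩ := (F.ker₁ (a - b')).1 hker
  refine ⟨b', hb'mem, c, ?_⟩
  rw [← hc]
  abel

end Cfsg.Agent.Helper29.VL
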