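import Mathlib

/-!
# (LA1) for helper39's S3777 skeleton (helper29): the lower bound `la_lower`
-/

set_option autoImplicit false

namespace Cfsg.Agent.Helper29.VL

/-- a submodule `W` meets the kernel of a functional `g` in a submodule of index `1` or `p` -/
theorem LA1_card_inf_ker {p : ℕ} [Fact p.Prime] {V : Type*} [AddCommGroup V] [Module (ZMod p) V] [Finite V]
    (W : Submodule (ZMod p) V) (g : Module.Dual (ZMod p) V) (hWg : ¬ W ≤ LinearMap.ker g) :
    Nat.card ↥(W ⊓ LinearMap.ker g) * p = Nat.card W := by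
  obtain ⟨w, hwW, hw⟩ := SetLike.not_le_iff_exists.1 hWg
  have hgw : g w ≠ 0 := fun h => hw (LinearMap.mem_ker.2 h)
  set f : W →ₗ[ZMod p] ZMod p := g ∘ₗ W.subtype with hf
  have hsurj : Function.Surjective f := by
    intro c
    refine ⟨(c / g w) • ⟨w, hwW⟩, ?_⟩
    rw [map_smul, hf, LinearMap.comp_apply, Submodule.subtype_apply, smul_eq_mul, div_mul_cancel₀ _ hgw]
  have h1 := Submodule.card_eq_card_quotient_mul_card (LinearMap.ker f)
  have h2 : Nat.card (↥W ⧸ LinearMap.ker f) = p := by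
    rw [Nat.card_congr (f.quotKerEquivOfSurjective hsurj).toEquiv, Nat.card_zmod]
  have h3 : LinearMap.ker f = Submodule.comap W.subtype (W ⊓ LinearMap.ker g) := by
    rw [hf, LinearMap.ker_comp, Submodule.comap_inf, Submodule.comap_subtype_self, top_inf_eq]
  have h4 : Nat.card ↥(LinearMap.ker f) = Nat.card ↥(W ⊓ LinearMap.ker g) := by
    rw [h3]
    exact Nat.card_congr (Submodule.comapSubtypeEquivOfLe (inf_le_left : W ⊓ LinearMap.ker g ≤ W)).toEquiv
  rw [h1, h2, h4]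

theorem LA1_card_ker {p : ℕ} [Fact p.Prime] {V : Type*} [AddCommGroup V] [Module (ZMod p) V] [Finite V]
    (g : Module.Dual (ZMod p) V) (hg : g ≠ 0) :
    Nat.card ↥(LinearMap.ker g) * p = Nat.card V := by
  have h := LA1_card_inf_ker (⊤ : Submodule (ZMod p) V) g (by
    intro hle
    apply hg
    ext v
    exact LinearMap.mem_ker.1 (hle (Submodule.mem_top : v ∈ ⊤)))
  rw [top_inf_eq] at h
  rw [h]
  exact Nat.card_congr (Submodule.topEquiv (R := ZMod p) (M := V)).toEquiv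

/-- the arithmetic at the end of (LA1) -/
theorem LA1_arith' (q n a b s s₀ t u : ℕ) (hna : a * (q + 1) = n) (hab : b * (q + 1) = a)
    (hs : s ≤ s₀ * (q + 1)) (hsn : s * (q + 1) ^ 2 ≤ n) (htu : t + u = a) (hu : u + s₀ = b + s) :
    n * q ^ 2 ≤ (q + 1) ^ 3 * t := by
  have hsb : s ≤ b := by
    have h1 : s * (q + 1) ^ 2 ≤ b * (q + 1) ^ 2 := by
      calc s * (q + 1) ^ 2 ≤ n := hsn
        _ = b * (q + 1) ^ 2 := by rw [← hna, ← hab]; ring
    exact Nat.le_of_mul_le_mul_right h1 (by positivity)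
  have hqsb : q * s ≤ q * b := Nat.mul_le_mul_left q hsb
  zify at *
  have ht : (t : ℤ) = q * b - s + s₀ := by
    have : (t : ℤ) = a - u := by linarith
    rw [this, ← hab]
    linarith
  rw [ht, ← hna, ← hab]
  have key : (0 : ℤ) ≤ q * b - (q + 1) * s + (q + 1) * s₀ := by nlinarith
  have hq1 : (0 : ℤ) ≤ ((q : ℤ) + 1) ^ 2 := by positivity
  nlinarith [mul_nonneg hq1 key]

theorem LA1_arith (p n a b s s₀ t u : ℕ) (hp : 1 ≤ p) (hna : a * p = n) (hab : b * p = a)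
    (hs : s ≤ s₀ * p) (hsn : s * p ^ 2 ≤ n) (htu : t + u = a) (hu : u + s₀ = b + s) :
    n * (p - 1) ^ 2 ≤ p ^ 3 * t := by
  obtain ⟨q, rfl⟩ : ∃ q, p = q + 1 := ⟨p - 1, by omega⟩
  rw [Nat.add_sub_cancel]
  exact LA1_arith' q n a b s s₀ t u hna hab hs hsn htu hu

/-- (LA1) -/
theorem la_lower {p : ℕ} [Fact p.Prime] {V : Type*} [AddCommGroup V] [Module (ZMod p) V] [Finite V]
    (α α₀ : Module.Dual (ZMod p) V) (hα₀ : α₀ ≠ 0) (hα : ∀ c : ZMod p, α ≠ c • α₀)
    (S : Submodule (ZMod p) V) (hS1 : S ≤ LinearMap.ker α)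
    (hS2 : Nat.card S * p ^ 2 ≤ Nat.card V) :
    Nat.card V * (p - 1) ^ 2 ≤ p ^ 3 * Nat.card {v : V | α v = 0 ∧ v ∉ S ∧ α₀ v ≠ 0} := by
  have hp : 1 ≤ p := (Fact.out : p.Prime).one_lt.le
  have hα0 : α ≠ 0 := by
    have := hα 0
    rwa [zero_smul] at this
  set K := LinearMap.ker α with hK
  set K₀ := LinearMap.ker α₀ with hK₀
  -- `α₀` does not vanish on `ker α`
  have hKK₀ : ¬ K ≤ K₀ := by
    intro hle
    obtain ⟨v₀, hv₀⟩ : ∃ v₀, α v₀ ≠ 0 := by
      by_contra hcon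
      rw [not_exists] at hcon
      apply hα0
      ext v
      exact not_not.1 (hcon v)
    have hform : ∀ v, α₀ v = (α₀ v₀ / α v₀) * α v := by
      intro v
      have hmem : v - (α v / α v₀) • v₀ ∈ K := by
        rw [hK, LinearMap.mem_ker, map_sub, map_smul, smul_eq_mul, div_mul_cancel₀ _ hv₀, sub_self]
      have h0 := LinearMap.mem_ker.1 (hle hmem)
      rw [map_sub, map_smul, smul_eq_mul, sub_eq_zero] at h0
      rw [h0]
      field_simp
    have hc : α₀ v₀ / α v₀ ≠ 0 := by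
      intro h0
      apply hα₀
      ext v
      rw [hform v, h0, zero_mul, LinearMap.zero_apply]
    apply hα (α₀ v₀ / α v₀)⁻¹
    ext v
    rw [LinearMap.smul_apply, smul_eq_mul, hform v, ← mul_assoc, inv_mul_cancel₀ hc, one_mul]
  have hna := LA1_card_ker α hα0
  have hab := LA1_card_inf_ker K α₀ hKK₀
  have hs : Nat.card S ≤ Nat.card ↥(S ⊓ K₀) * p := by
    by_cases hSK : S ≤ K₀
    · rw [inf_eq_left.2 hSK]
      exact Nat.le_mul_of_pos_right _ hp
    · exact (LA1_card_inf_ker S α₀ hSK).ge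
  -- sets
  set A : Set V := (K : Set V) with hA
  set U : Set V := ((K ⊓ K₀ : Submodule (ZMod p) V) : Set V) ∪ (S : Set V) with hU
  have hUA : U ⊆ A := by
    rintro v (hv | hv)
    · exact hv.1
    · exact hS1 hv
  have hT : {v : V | α v = 0 ∧ v ∉ S ∧ α₀ v ≠ 0} = A \ U := by
    ext v
    constructor
    · rintro ⟨h1, h2, h3⟩
      refine ⟨LinearMap.mem_ker.2 h1, ?_⟩
      rintro (h | h)
      · exact h3 (LinearMap.mem_ker.1 h.2)
      · exact h2 h
    · rintro ⟨h1, h2⟩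
      exact ⟨LinearMap.mem_ker.1 h1, fun h => h2 (Or.inr h),
        fun h => h2 (Or.inl ⟨h1, LinearMap.mem_ker.2 h⟩)⟩
  have htu : (A \ U).ncard + U.ncard = A.ncard := Set.ncard_sdiff_add_ncard_of_subset hUA
  have hinter : ((K ⊓ K₀ : Submodule (ZMod p) V) : Set V) ∩ (S : Set V) =
      ((S ⊓ K₀ : Submodule (ZMod p) V) : Set V) := by
    ext v
    constructor
    · rintro ⟨⟨_, h2⟩, h3⟩
      exact ⟨h3, h2⟩
    · rintro ⟨h1, h2⟩
      exact ⟨⟨hS1 h1, h2⟩, h1⟩
  have hu := Set.ncard_union_add_ncard_inter ((K ⊓ K₀ : Submodule (ZMod p) V) : Set V) (S : Set V)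
  rw [hinter] at hu
  have e1 : ∀ W : Submodule (ZMod p) V, (W : Set V).ncard = Nat.card W := fun W =>
    (Nat.card_coe_set_eq (W : Set V)).symm
  rw [e1, e1, e1] at hu
  rw [hA, e1] at htu
  rw [hT, Nat.card_coe_set_eq]
  exact LA1_arith p (Nat.card V) (Nat.card K) (Nat.card ↥(K ⊓ K₀)) (Nat.card S) (Nat.card ↥(S ⊓ K₀))
    ((K : Set V) \ U).ncard U.ncard hp hna hab hs hS2 htu hu

end Cfsg.Agent.Helper29.VL
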