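import Mathlib
import Cfsg.Agent.Helper29.VL_LA1

/-!
# (LA3) for helper39's S3777 skeleton (helper29): `la_card_dual`, `la_card_off`
-/

set_option autoImplicit false

namespace Cfsg.Agent.Helper29.VL

/-- the dual of a finite `ZMod p`-space has the same cardinality -/
theorem LA3_card_dual_eq {p : ℕ} [Fact p.Prime] {V : Type*} [AddCommGroup V] [Module (ZMod p) V]
    [Finite V] : Nat.card (Module.Dual (ZMod p) V) = Nat.card V := by
  have : Module.Finite (ZMod p) V := Module.Finite.of_finite
  have : Finite (Module.Dual (ZMod p) V) := Module.finite_of_finite (ZMod p)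
  have h1 := Module.natCard_eq_pow_finrank (K := ZMod p) (V := V)
  have h2 := Module.natCard_eq_pow_finrank (K := ZMod p) (V := Module.Dual (ZMod p) V)
  rw [h1, h2, Subspace.dual_finrank_eq]

/-- (LA3a) -/
theorem la_card_dual {p : ℕ} [Fact p.Prime] {V : Type*} [AddCommGroup V] [Module (ZMod p) V]
    [Finite V] (α₀ : Module.Dual (ZMod p) V) (hα₀ : α₀ ≠ 0) :
    Nat.card {α : Module.Dual (ZMod p) V | ∀ c : ZMod p, α ≠ c • α₀} + p = Nat.card V := by
  have : Module.Finite (ZMod p) V := Module.Finite.of_finite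
  have : Finite (Module.Dual (ZMod p) V) := Module.finite_of_finite (ZMod p)
  set L : Set (Module.Dual (ZMod p) V) := Set.range fun c : ZMod p => c • α₀ with hL
  have hinj : Function.Injective fun c : ZMod p => c • α₀ := by
    intro c c' h
    have h' : c • α₀ = c' • α₀ := h
    obtain ⟨v, hv⟩ : ∃ v, α₀ v ≠ 0 := by
      by_contra hcon
      rw [not_exists] at hcon
      apply hα₀
      ext v
      exact not_not.1 (hcon v)
    have h1 := congrArg (fun f : Module.Dual (ZMod p) V => f v) h'
    simp only [LinearMap.smul_apply, smul_eq_mul] at h1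
    exact mul_right_cancel₀ hv h1
  have hLcard : L.ncard = p := by
    rw [hL, ← Set.image_univ, Set.ncard_image_of_injective _ hinj, Set.ncard_univ, Nat.card_zmod]
  have hset : {α : Module.Dual (ZMod p) V | ∀ c : ZMod p, α ≠ c • α₀} = Lᶜ := by
    ext α
    constructor
    · rintro h ⟨c, hc⟩
      exact h c hc.symm
    · intro h c hc
      exact h ⟨c, hc.symm⟩
  rw [hset, Nat.card_coe_set_eq]
  have h1 := Set.ncard_compl_add_ncard L
  rw [hLcard, LA3_card_dual_eq] at h1
  exact h1

/-- (LA3b) -/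
theorem la_card_off {p : ℕ} [Fact p.Prime] {V : Type*} [AddCommGroup V] [Module (ZMod p) V]
    [Finite V] (α₀ : Module.Dual (ZMod p) V) (hα₀ : α₀ ≠ 0) :
    p * Nat.card {v : V | α₀ v ≠ 0} = Nat.card V * (p - 1) := by
  have hp : 1 ≤ p := (Fact.out : p.Prime).one_lt.le
  have hk := LA1_card_ker α₀ hα₀
  have hset : {v : V | α₀ v ≠ 0} = ((LinearMap.ker α₀ : Submodule (ZMod p) V) : Set V)ᶜ := by
    ext v
    constructor
    · intro h hv
      exact h (LinearMap.mem_ker.1 hv)
    · intro h hv
      exact h (LinearMap.mem_ker.2 hv)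
  have hc := Set.ncard_add_ncard_compl ((LinearMap.ker α₀ : Submodule (ZMod p) V) : Set V)
  rw [hset, Nat.card_coe_set_eq]
  have e1 : ((LinearMap.ker α₀ : Submodule (ZMod p) V) : Set V).ncard = Nat.card ↥(LinearMap.ker α₀) :=
    (Nat.card_coe_set_eq _).symm
  rw [e1] at hc
  obtain ⟨q, rfl⟩ : ∃ q, p = q + 1 := ⟨p - 1, by omega⟩
  rw [Nat.add_sub_cancel]
  nlinarith

end Cfsg.Agent.Helper29.VL
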