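import Mathlib
import Cfsg.Agent.Helper45.VL.Defs

/-!
# (MEET) for helper45's S3777 skeleton (helper29)
-/

set_option autoImplicit false

universe u

namespace Cfsg.Agent.Helper29.VL

open Cfsg.Agent.Helper1.HKK Cfsg.Agent.Helper93.HKKLG Cfsg.Agent.Helper45.VL

variable {G : Type u} [Group G]

/-- the bracket in degree `1 + 1` is antisymmetric -/
theorem MEET_brk_antisymm (x y : G) :
    brkFun (cls 1 x) (cls 1 y) = - brkFun (cls 1 y) (cls 1 x) := by
  have hx : x ∈ Gam G 1 := Subgroup.mem_top x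
  have hy : y ∈ Gam G 1 := Subgroup.mem_top y
  rw [brkFun_cls hx hy, brkFun_cls hy hx, ← cls_inv (comm_mem_Gam hy hx), commutatorElement_inv]

/-- (MEET) in degree 2 the bracket of `z i` with the span of the earlier generators lies in
the sum of the earlier ranges. -/
theorem map_closure_le_meet {d : ℕ} (z : Fin d → G) (i : Fin d) :
    (AddSubgroup.closure {a : A G 1 | ∃ l : Fin d, l < i ∧ a = cls 1 (z l)}).map (adz (z i) 1) ≤
      (adz (z i) 1).range ⊓ ⨆ l : {l : Fin d // l < i}, (adz (z (l : Fin d)) 1).range := by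
  refine le_inf ?_ ?_
  · rintro _ ⟨a, _, rfl⟩
    exact ⟨a, rfl⟩
  · rw [AddSubgroup.map_le_iff_le_comap, AddSubgroup.closure_le]
    rintro a ⟨l, hl, rfl⟩
    show adz (z i) 1 (cls 1 (z l)) ∈ ⨆ l : {l : Fin d // l < i}, (adz (z (l : Fin d)) 1).range
    have hmem : adz (z i) 1 (cls 1 (z l)) ∈ (adz (z l) 1).range := by
      rw [adz_apply, MEET_brk_antisymm]
      exact AddSubgroup.neg_mem _ ⟨cls 1 (z i), rfl⟩
    exact (le_iSup (fun l : {l : Fin d // l < i} => (adz (z (l : Fin d)) 1).range) ⟨l, hl⟩) hmem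

end Cfsg.Agent.Helper29.VL
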