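import Cfsg.Agent.Helper39.X648.Defs

set_option autoImplicit false

/-!
# S3366 piece (A17c) for helper39: the relation `d j d⁻¹ = i j`.
-/

namespace Cfsg.Agent.Helper29.X648

open Cfsg.Agent.Helper39.X648

section A
variable {X : Type*} [Group X] [Finite X] {R Z : Subgroup X} {u : X}
variable {t : X}
variable {Q : Subgroup X}
variable {i r1 : X}
variable {j d : X}

/-- conjugation by an element of `Q` preserves `Inv R t` -/
theorem conj_mem_Inv (h : QSetup R Z u t Q) {q r : X} (hq : q ∈ Q) (hr : r ∈ Inv R t) :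
    q * r * q⁻¹ ∈ Inv R t := by
  have hnR := h.setup.base.normR
  refine ⟨hnR.conj_mem r hr.1 q, ?_⟩
  have hqt : q * t = t * q := h.isQ.comm q hq
  have hqt' : t * q = q * t := hqt.symm
  have h1 : t * (q * r * q⁻¹) * t⁻¹ = q * (t * r * t⁻¹) * q⁻¹ := by
    have e1 : t * (q * r * q⁻¹) * t⁻¹ = (t * q) * r * (t * q)⁻¹ := by group
    rw [e1, hqt']
    group
  rw [h1, hr.2]
  group

/-- (A17c) the relation `d j d⁻¹ = i j` -/
theorem QSetup.rel_d_j (h : QSetup R Z u t Q) (hg : Gens R Z t Q i r1) (hj : j ∈ Q)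
    (hj1 : j * r1 * j⁻¹ = r1 * (i * r1 * i⁻¹) * cm r1 (i * r1 * i⁻¹))
    (hdt : d * t = t * d) (hd1 : d * r1 = r1 * d)
    (hd2 : d * (i * r1 * i⁻¹) * d⁻¹ = r1 * (i * r1 * i⁻¹) * cm r1 (i * r1 * i⁻¹)) :
    d * j * d⁻¹ = i * j := by
  have hs := h.setup
  have hb := hs.base
  set r2 : X := i * r1 * i⁻¹ with hr2
  set c : X := cm r1 r2 with hc
  have hcZ : c ∈ Z := hg.c_mem
  have hcc : ∀ g : X, g * c = c * g := fun g => hs.Zcen c hcZ g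
  have hcc' : ∀ g : X, g * c⁻¹ = c⁻¹ * g := fun g => hs.Zcen c⁻¹ (Z.inv_mem hcZ) g
  have hr1R : r1 ∈ R := hg.r1_mem.1
  have hr13 : r1 ^ 3 = 1 := hb.exp3 r1 hr1R
  have hc3 : c ^ 3 = 1 := hb.exp3 c (hb.Z_le hcZ)
  have h11 : r1 * r1 = r1⁻¹ := by
    apply eq_inv_of_mul_eq_one_left
    rw [← hr13, pow_succ, pow_succ, pow_one]
  have hc2 : c * c = c⁻¹ := by
    apply eq_inv_of_mul_eq_one_left
    rw [← hc3, pow_succ, pow_succ, pow_one]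
  have hcinv2 : c⁻¹ * c⁻¹ = c := by
    rw [← mul_inv_rev, hc2, inv_inv]
  -- the two conjugates of r1
  have hdr1 : d * r1 * d⁻¹ = r1 := by rw [hd1]; group
  have hdr1' : d⁻¹ * r1 * d = r1 := by
    rw [mul_assoc, ← hd1]; group
  have hdc : d * c * d⁻¹ = c := by rw [hcc d]; group
  have hic : i * c * i⁻¹ = c := by rw [hcc i]; group
  have hL : (d * j * d⁻¹) * r1 * (d * j * d⁻¹)⁻¹ = r1 * (r1 * r2 * c) * c := by
    have e1 : (d * j * d⁻¹) * r1 * (d * j * d⁻¹)⁻¹ = d * (j * (d⁻¹ * r1 * d) * j⁻¹) * d⁻¹ := by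
      group
    rw [e1, hdr1', hj1]
    have e2 : d * (r1 * r2 * c) * d⁻¹ = (d * r1 * d⁻¹) * (d * r2 * d⁻¹) * (d * c * d⁻¹) := by group
    rw [e2, hdr1, hd2, hdc]
  have hRr : (i * j) * r1 * (i * j)⁻¹ = r2 * r1⁻¹ * c := by
    have e1 : (i * j) * r1 * (i * j)⁻¹ = i * (j * r1 * j⁻¹) * i⁻¹ := by group
    rw [e1, hj1]
    have e2 : i * (r1 * r2 * c) * i⁻¹ = (i * r1 * i⁻¹) * (i * r2 * i⁻¹) * (i * c * i⁻¹) := by group
    rw [e2, hg.i_r2, hic]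
  have key : r1⁻¹ * r2 = c⁻¹ * (r2 * r1⁻¹) := by
    have h1 : c * (r1⁻¹ * r2) = r2 * r1⁻¹ := by
      rw [← mul_assoc, ← hcc r1⁻¹, mul_assoc]
      show r1⁻¹ * (cm r1 r2 * r2) = r2 * r1⁻¹
      unfold cm
      group
    rw [← h1]; group
  have heq : r1 * (r1 * r2 * c) * c = r2 * r1⁻¹ * c := by
    calc r1 * (r1 * r2 * c) * c = (r1 * r1) * r2 * (c * c) := by simp only [mul_assoc]
      _ = r1⁻¹ * r2 * c⁻¹ := by rw [h11, hc2]
      _ = c⁻¹ * (r2 * r1⁻¹) * c⁻¹ := by rw [key]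
      _ = r2 * r1⁻¹ * (c⁻¹ * c⁻¹) := by rw [← hcc' (r2 * r1⁻¹)]; simp only [mul_assoc]
      _ = r2 * r1⁻¹ * c := by rw [hcinv2]
  -- uniqueness in `reg`
  have hijQ : i * j ∈ Q := Q.mul_mem hg.i_mem hj
  have hdjQ : d * j * d⁻¹ ∈ Q := h.isQ.norm d hdt j hj
  have hsInv : (i * j) * r1 * (i * j)⁻¹ ∈ Inv R t := conj_mem_Inv h hijQ hg.r1_mem
  have hsne : (i * j) * r1 * (i * j)⁻¹ ≠ 1 := by
    intro h1
    apply hg.r1_ne
    have : r1 = (i * j)⁻¹ * ((i * j) * r1 * (i * j)⁻¹) * (i * j) := by group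
    rw [this, h1]; group
  obtain ⟨q0, _, _, huniq⟩ := h.reg r1 hg.r1_mem hg.r1_ne _ hsInv hsne
  have h1 : d * j * d⁻¹ = q0 := huniq _ hdjQ (by rw [hL, heq, ← hRr])
  have h2 : i * j = q0 := huniq _ hijQ rfl
  rw [h1, h2]

end A

end Cfsg.Agent.Helper29.X648
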