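import Cfsg.Agent.Helper39.X648.Defs

set_option autoImplicit false

/-!
# S3366 piece (A18) for helper39: `r1, r2, i, j, d` generate `X`.
-/

namespace Cfsg.Agent.Helper29.X648

open Cfsg.Agent.Helper39.X648

section A
variable {X : Type*} [Group X] [Finite X] {R Z : Subgroup X} {u : X}
variable {t : X}
variable {Q : Subgroup X}
variable {i r1 : X}
variable {j d : X}

/-- (A18) generation -/
theorem QSetup.gen (h : QSetup R Z u t Q) (hg : Gens R Z t Q i r1)
    (hnf : ∀ r ∈ R, ∃ a b : ℕ, ∃ z ∈ Z, r = r1 ^ a * (i * r1 * i⁻¹) ^ b * z)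
    (hj : j ∈ Q) (hji : j * i * j⁻¹ = i⁻¹) (hdR : d ∉ R) (hd3 : d ^ 3 = 1) :
    Subgroup.closure {r1, i * r1 * i⁻¹, i, j, d} = ⊤ := by
  classical
  have hs := h.setup
  have hb := hs.base
  set r2 : X := i * r1 * i⁻¹ with hr2
  set c : X := cm r1 r2 with hc
  set G0 : Subgroup X := Subgroup.closure {r1, r2, i, j, d} with hG0
  have hr1G : r1 ∈ G0 := Subgroup.subset_closure (by simp)
  have hr2G : r2 ∈ G0 := Subgroup.subset_closure (by simp)
  have hiG : i ∈ G0 := Subgroup.subset_closure (by simp)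
  have hjG : j ∈ G0 := Subgroup.subset_closure (by simp)
  have hdG : d ∈ G0 := Subgroup.subset_closure (by simp)
  have hcG : c ∈ G0 := by
    rw [hc]
    unfold cm
    exact G0.mul_mem (G0.mul_mem (G0.mul_mem hr1G hr2G) (G0.inv_mem hr1G)) (G0.inv_mem hr2G)
  -- Z ≤ G0
  have hZG : Z ≤ G0 := by
    intro z hz
    haveI : Fact (Nat.Prime 3) := ⟨by norm_num⟩
    have hcard : Nat.card ↥Z = 3 := hb.cardZ
    have hcne : (⟨c, hg.c_mem⟩ : ↥Z) ≠ 1 := by
      intro h1
      apply hg.c_ne
      have := congrArg Subtype.val h1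
      exact this
    have hmem := mem_zpowers_of_prime_card (G := ↥Z) hcard hcne (g' := ⟨z, hz⟩)
    obtain ⟨k, hk⟩ := Subgroup.mem_zpowers_iff.mp hmem
    have hk' : c ^ k = z := by
      have := congrArg Subtype.val hk
      simpa using this
    rw [← hk']
    exact G0.zpow_mem hcG k
  -- R ≤ G0
  have hRG : R ≤ G0 := by
    intro r hr
    obtain ⟨a, b, z, hz, rfl⟩ := hnf r hr
    exact G0.mul_mem (G0.mul_mem (G0.pow_mem hr1G a) (G0.pow_mem hr2G b)) (hZG hz)
  -- the order of i
  have ht2 : t ^ 2 = 1 := by rw [← hs.t_ord]; exact pow_orderOf_eq_one t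
  have ht1 : t ≠ 1 := by
    intro h1
    have := hs.t_ord
    rw [h1, orderOf_one] at this
    omega
  have hi4 : orderOf i = 4 := by
    have h1 : ¬ i ^ 2 ^ 1 = 1 := by
      rw [pow_one, pow_two, hg.i_sq]; exact ht1
    have h2 : i ^ 2 ^ (1 + 1) = 1 := by
      have : i ^ 2 ^ (1 + 1) = (i * i) * (i * i) := by
        norm_num
        rw [show (4 : ℕ) = 2 + 2 by norm_num, pow_add, pow_two]
      rw [this, hg.i_sq, ← pow_two, ht2]
    have := orderOf_eq_prime_pow h1 h2
    simpa using this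
  -- Q ≤ G0
  have hQG : Q ≤ G0 := by
    set P : Subgroup X := G0 ⊓ Q with hP
    have hiP : i ∈ P := Subgroup.mem_inf.mpr ⟨hiG, hg.i_mem⟩
    have hjP : j ∈ P := Subgroup.mem_inf.mpr ⟨hjG, hj⟩
    have hPQ : P ≤ Q := inf_le_right
    have hd1 : Nat.card ↥P ∣ 8 := by
      rw [← h.isQ.card]; exact Subgroup.card_dvd_of_le hPQ
    have hzP : Subgroup.zpowers i ≤ P := by
      rw [Subgroup.zpowers_le]; exact hiP
    have hcz : Nat.card ↥(Subgroup.zpowers i) = 4 := by rw [Nat.card_zpowers, hi4]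
    have hd2 : 4 ∣ Nat.card ↥P := by
      rw [← hcz]; exact Subgroup.card_dvd_of_le hzP
    have hP48 : Nat.card ↥P = 4 ∨ Nat.card ↥P = 8 := by
      have hle : Nat.card ↥P ≤ 8 := Nat.le_of_dvd (by norm_num) hd1
      have hpos : 0 < Nat.card ↥P := Nat.card_pos
      obtain ⟨k, hk⟩ := hd2
      have : k = 1 ∨ k = 2 := by
        have hk8 : 4 * k ∣ 8 := hk ▸ hd1
        have hk2 : k ∣ 2 := by
          have : 4 * k ∣ 4 * 2 := by simpa using hk8
          exact Nat.dvd_of_mul_dvd_mul_left (by norm_num) this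
        have := Nat.le_of_dvd (by norm_num) hk2
        interval_cases k
        · omega
        · left; rfl
        · right; rfl
      rcases this with rfl | rfl
      · left; omega
      · right; omega
    rcases hP48 with h4 | h8
    · exfalso
      have heq : Subgroup.zpowers i = P :=
        Subgroup.eq_of_le_of_card_ge hzP (by rw [hcz, h4])
      have hjz : j ∈ Subgroup.zpowers i := by rw [heq]; exact hjP
      obtain ⟨k, hk⟩ := Subgroup.mem_zpowers_iff.mp hjz
      have hcomm : j * i = i * j := by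
        rw [← hk]
        exact ((Commute.refl i).zpow_left k).eq
      have hii : i = i⁻¹ := by
        rw [← hji, hcomm]; group
      have : i * i = 1 := by
        nth_rewrite 2 [hii]
        exact mul_inv_cancel i
      rw [hg.i_sq] at this
      exact ht1 this
    · have heq : P = Q := Subgroup.eq_of_le_of_card_ge hPQ (by rw [h8, h.isQ.card])
      rw [← heq]
      exact inf_le_left
  -- the order of G0
  have h27 : 27 ∣ Nat.card ↥G0 := by rw [← hb.cardR]; exact Subgroup.card_dvd_of_le hRG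
  have h8 : 8 ∣ Nat.card ↥G0 := by rw [← h.isQ.card]; exact Subgroup.card_dvd_of_le hQG
  have h216 : 216 ∣ Nat.card ↥G0 := by
    have : Nat.Coprime 27 8 := by norm_num
    have := this.mul_dvd_of_dvd_of_dvd h27 h8
    simpa using this
  have h648 : Nat.card ↥G0 ∣ 648 := by rw [← hb.cardX]; exact Subgroup.card_subgroup_dvd_card G0
  obtain ⟨k, hk⟩ := h216
  have hk3 : k ∣ 3 := by
    have : 216 * k ∣ 216 * 3 := by rw [← hk]; simpa using h648
    exact Nat.dvd_of_mul_dvd_mul_left (by norm_num) this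
  have hk13 : k = 1 ∨ k = 3 := (Nat.dvd_prime (by norm_num)).mp hk3
  rcases hk13 with rfl | rfl
  · -- |G0| = 216: then d ∈ R
    exfalso
    have hrel : Nat.card ↥R * R.relIndex G0 = Nat.card ↥G0 := by
      have := Subgroup.relIndex_mul_relIndex (⊥ : Subgroup X) R G0 bot_le hRG
      rwa [Subgroup.relIndex_bot_left, Subgroup.relIndex_bot_left] at this
    rw [hb.cardR, hk] at hrel
    have hri : R.relIndex G0 = 8 := by omega
    haveI := hb.normR
    have hd8 : d ^ 8 ∈ R := by
      have := Subgroup.pow_relIndex_mem R hdG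
      rwa [hri] at this
    have hd9 : d * d ^ 8 = 1 := by
      rw [← pow_succ', show 8 + 1 = 3 * 3 by norm_num, pow_mul, hd3, one_pow]
    have hdinv : d = (d ^ 8)⁻¹ := eq_inv_of_mul_eq_one_left hd9
    apply hdR
    rw [hdinv]
    exact R.inv_mem hd8
  · apply Subgroup.eq_top_of_card_eq
    rw [hk, hb.cardX]

end A

end Cfsg.Agent.Helper29.X648
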